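import Cfsg.Agent.Lib.Spor.JThree.Unique.DataG

/-!
The log of case G is correct.
-/

set_option autoImplicit false
set_option maxRecDepth 100000

namespace Cfsg.Agent.Spor.JThree.Unique

theorem okG : logG.okFrom 0 62 = true := by decide +kernel

theorem holdsG {α : Type*} (S : Act logG α) : ∀ k < 62, S.Holds k :=
  S.holds_step okG (fun _ h => absurd h (Nat.not_lt_zero _)) |> fun h k hk => h k (by omega)

end Cfsg.Agent.Spor.JThree.Unique
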