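import Cfsg.Agent.Lib.Spor.JThree.Checks
import Cfsg.Agent.Lib.Spor.JThree.Unique.GenData

/-!
# The centralizer is generated by three of the codes
-/

set_option autoImplicit false
set_option maxRecDepth 100000

namespace Cfsg.Agent.Spor.JThree.Unique

open Cfsg.Agent.Spor.JThree

/-- grow a set of codes, stored as bits -/
noncomputable def growOK (gs l : List ℕ) : ℕ → Bool :=
  List.rec (fun known => Nat.beq known (2 ^ 1920 - 1))
    (fun e _ ih known => Nat.beq ((known >>> (e / 4)) % 2) 1 && Nat.blt (e / 4) 1920 && Nat.blt (e % 4) gs.length &&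
      Nat.blt (mc (e / 4) (gs.getD (e % 4) 0)) 1920 &&
      ih (known ||| 1 <<< mc (e / 4) (gs.getD (e % 4) 0))) l

theorem grow1316_ok : growOK [96, 378, 1316] grow1316 1 = true := by decide +kernel

theorem grow1334_ok : growOK [96, 378, 1334] grow1334 1 = true := by decide +kernel

/-- `378` in terms of `96`, `55` and `1334` -/
theorem word378_ok : List.foldr mc 0 [96, 55, 1334, 96, iv 55, 1334, 96, 1334] = 378 := by decide +kernel

end Cfsg.Agent.Spor.JThree.Unique
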