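import Cfsg.Agent.Lib.Spor.JThree.Unique.DataA0
import Cfsg.Agent.Lib.Spor.JThree.Unique.DataA1
import Cfsg.Agent.Lib.Spor.JThree.Unique.DataA2
import Cfsg.Agent.Lib.Spor.JThree.Unique.DataA3
import Cfsg.Agent.Lib.Spor.JThree.Unique.DataA4
import Cfsg.Agent.Lib.Spor.JThree.Unique.DataA5
import Cfsg.Agent.Lib.Spor.JThree.Unique.DataA6
import Cfsg.Agent.Lib.Spor.JThree.Unique.DataA7
import Cfsg.Agent.Lib.Spor.JThree.Unique.DataA8
import Cfsg.Agent.Lib.Spor.JThree.Unique.DataA9
import Cfsg.Agent.Lib.Spor.JThree.Unique.DataA10
import Cfsg.Agent.Lib.Spor.JThree.Unique.DataA11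
import Cfsg.Agent.Lib.Spor.JThree.Unique.DataA12
import Cfsg.Agent.Lib.Spor.JThree.Unique.DataA13
import Cfsg.Agent.Lib.Spor.JThree.Unique.DataA14
import Cfsg.Agent.Lib.Spor.JThree.Unique.DataA15

/-!
Generated log of a coset enumeration (Y, I = 182, 1334).
-/

set_option autoImplicit false
set_option maxRecDepth 100000
set_option maxHeartbeats 0

namespace Cfsg.Agent.Spor.JThree.Unique

noncomputable def relsA : Arr (List ℕ) :=
  (.node (.node (.node (.node (.node (.node (.node (.node (.node (.node (.leaf [13, 7, 16, 6, 12, 11]) (.leaf [0, 8, 7, 2, 6, 8, 5])) (.node (.leaf [2, 7, 10, 10, 6, 3]) (.leaf [4, 2, 0, 2, 1, 2, 5, 1]))) (.node (.node (.leaf [13, 2, 2, 2, 12]) (.leaf [12, 2, 15, 2, 14, 2, 13])) (.leaf [12, 15, 12, 14, 13, 13]))) (.node (.node (.node (.leaf [15, 0, 0, 14]) (.leaf [2, 13, 2, 2, 2, 12, 3])) (.leaf [7, 2, 10, 10, 3, 6])) (.node (.node (.leaf [9, 6, 8, 2, 7, 9]) (.leaf [2, 0, 13, 4, 13, 5, 1, 3])) (.leaf [13, 2, 4, 4, 3, 12])))) (.node (.node (.node (.node (.leaf [2, 4, 4, 3]) (.leaf [2, 6, 2, 2, 2, 7, 3])) (.node (.leaf [4, 7, 10, 10,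 6, 5]) (.leaf [1, 0]))) (.node (.node (.leaf [6, 3, 4, 1, 6, 5]) (.leaf [0, 2, 14, 4, 15, 5, 3, 1])) (.leaf [2, 13, 15, 12, 14, 3]))) (.node (.node (.node (.leaf [4, 7, 4, 8, 7]) (.leaf [4, 3, 12, 4, 13, 2, 12])) (.leaf [0, 13, 4, 13, 5, 1])) (.node (.node (.leaf [0, 6, 10, 10, 7, 1]) (.leaf [3, 4, 0, 4, 3, 1, 3, 1])) (.leaf [0, 4, 7, 4, 8, 7, 1]))))) (.node (.node (.node (.node (.node (.leaf [0, 0, 5, 5]) (.leaf [2, 0, 7, 8, 6, 2, 1])) (.node (.leaf [3, 6, 9, 6, 5, 8]) (.leaf [4, 13, 2, 14, 13, 3, 13, 3]))) (.node (.node (.leaf [3, 8, 0, 9, 2, 1]) (.leaf [13, 2, 14, 14, 14, 3, 12])) (.leaf [0, 4, 13, 4, 13, 1]))) (.node (.node (.node (.leaf [0, 9, 6, 1, 6]) (.leaf [3, 12, 12, 12, 12, 12, 2])) (.leaf [9, 0, 4, 4, 1, 8])) (.node (.node (.leaf [0, 2, 9, 2, 9, 1]) (.leaf [2, 13, 2, 0, 3, 12, 1, 3])) (.leaf [0, 2, 10, 6, 1, 11, 8])))) (.node (.node (.node (.node (.leaf [10, 0, 0, 11]) (.leaf [0, 15, 0, 14, 14, 1, 15])) (.leaf [6, 3, 0, 0, 2, 7])) (.node (.node (.leaf [7, 9, 2, 9, 2, 6]) (.leaf [0, 12, 3, 12, 3, 12, 3, 1])) (.leaf [4, 12, 15, 4, 14, 12]))) (.node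 (.node (.node (.leaf [9, 3, 0, 3, 1]) (.leaf [4, 13, 3, 12, 12, 5, 2])) (.leaf [3, 14, 4, 15, 5, 2])) (.node (.node (.leaf [0, 10, 4, 6, 11, 3]) (.leaf [3, 13, 3, 14, 5, 3, 12, 3])) (.leaf [0, 6, 8, 6, 2, 1, 5])))))) (.node (.node (.node (.node (.node (.node (.leaf [13, 7, 0, 4, 0, 4, 6, 12, 9, 2]) (.leaf [0, 10, 7, 4, 11, 9, 3])) (.node (.leaf [3, 0, 10, 6, 1, 11]) (.leaf [4, 3, 14, 4, 15, 3, 5, 3]))) (.node (.node (.leaf [2, 10, 0, 7, 11, 1]) (.leaf [12, 12, 14, 12, 15, 12, 12])) (.leaf [0, 2, 0, 0, 3, 1]))) (.node (.node (.node (.leaf [0, 6, 0, 9, 6]) (.leaf [3, 4, 2, 4, 2, 5, 3])) (.leaf [8, 0, 10, 10, 1, 9])) (.node (.node (.leaf [10, 4, 6, 11, 3, 1]) (.leaf [2, 4, 14, 2, 15, 3, 5, 3])) (.leaf [13, 15, 0, 0, 14, 12])))) (.node (.node (.node (.node (.leaf [7, 0, 0, 6]) (.leaf [0, 3, 14, 14, 14, 2, 1])) (.node (.leaf [4, 9, 6, 0, 8, 7]) (.leaf [10, 11]))) (.node (.node (.leaf [6, 9, 2, 9, 2, 7]) (.leaf [0, 3, 15, 4, 14, 5, 2, 1])) (.leaf [3, 13, 14, 12, 15, 2]))) (.node (.node (.node (.leaf [6, 9, 6, 1, 5]) (.leaf [4, 12, 2, 14, 13, 5, 2])) (.leaf [2,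 13, 4, 13, 5, 3])) (.node (.node (.leaf [0, 8, 7, 4, 9, 6]) (.leaf [3, 12, 12, 2, 14, 12, 12, 3])) (.leaf [0, 6, 4, 2, 6, 1, 2]))))) (.node (.node (.node (.node (.node (.leaf [8, 10, 8, 10]) (.leaf [2, 4, 2, 2, 2, 5, 3])) (.node (.leaf [4, 2, 10, 10, 3, 5]) (.leaf [8, 9]))) (.node (.node (.leaf [4, 6, 8, 8, 6, 1]) (.leaf [13, 13, 2, 4, 13, 3, 5])) (.leaf [2, 0, 4, 4, 1, 3]))) (.node (.node (.node (.leaf [3, 8, 2, 2, 8]) (.leaf [4, 2, 13, 4, 14, 2, 13])) (.leaf [10, 2, 0, 0, 3, 11])) (.node (.node (.leaf [0, 3, 8, 8, 1, 9]) (.leaf [3, 0, 12, 4, 12, 5, 1, 2])) (.leaf [0, 3, 10, 8, 11, 1, 9])))) (.node (.node (.node (.node (.leaf [13, 4, 13, 5]) (.leaf [2, 4, 15, 2, 12, 3, 13])) (.leaf [6, 8, 10, 8, 11, 7])) (.node (.node (.leaf [8, 7, 2, 9, 5, 7]) (.leaf [0, 13, 13, 4, 13, 13, 5, 1])) (.leaf [12, 2, 0, 0, 3, 13]))) (.node (.node (.node (.leaf [2, 14, 2, 15, 2]) (.leaf [12, 2, 12, 12, 14, 2, 12])) (.leaf [4, 15, 12, 14, 13, 5])) (.node (.node (.leaf [2, 4, 0, 0, 5, 3]) (.leaf [4, 0, 12, 4, 12, 5, 1, 5])) (.leaf [0, 7, 2, 8, 7, 9, 5]))))))) (.node (.node (.node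 (.node (.node (.node (.node (.leaf [16, 14, 16, 14]) (.leaf [0, 9, 10, 8, 11, 9, 1])) (.node (.leaf [2, 8, 10, 10, 9, 3]) (.leaf [4, 2, 14, 12, 14, 3, 13, 2]))) (.node (.node (.leaf [2, 4, 6, 6, 2, 1]) (.leaf [12, 3, 14, 14, 14, 2, 13])) (.leaf [13, 14, 4, 15, 13, 5]))) (.node (.node (.node (.leaf [0, 3, 0, 9, 3]) (.leaf [2, 13, 14, 4, 2, 13, 5])) (.leaf [7, 8, 10, 8, 11, 6])) (.node (.node (.leaf [10, 0, 2, 11, 7, 5]) (.leaf [2, 0, 15, 2, 14, 3, 1, 3])) (.leaf [13, 13, 0, 0, 12, 12])))) (.node (.node (.node (.node (.leaf [3, 10, 10, 2]) (.leaf [2, 6, 4, 6, 9, 5, 3])) (.node (.leaf [4, 8, 10, 10, 9, 5]) (.leaf [5, 4]))) (.node (.node (.leaf [6, 8, 0, 7, 9, 5]) (.leaf [0, 3, 12, 4, 12, 5, 2, 1])) (.leaf [3, 4, 12, 4, 12, 2]))) (.node (.node (.node (.leaf [6, 4, 6, 9, 5]) (.leaf [4, 3, 14, 12, 2, 13, 3])) (.leaf [0, 15, 2, 14, 3, 1])) (.node (.node (.leaf [0, 7, 10, 10, 6, 1]) (.leaf [3, 4, 14, 2, 15, 3, 5, 2])) (.leaf [0, 6, 3, 4, 3, 6, 2]))))) (.node (.node (.node (.node (.node (.leaf [0, 7, 5, 6]) (.leaf [2, 0, 10, 4, 6, 11, 2])) (.node (.leaf [3, 8, 10,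 8, 11, 2]) (.leaf [4, 14, 0, 14, 1, 14, 1, 5]))) (.node (.node (.leaf [4, 2, 0, 7, 7, 1]) (.leaf [13, 3, 12, 12, 3, 5, 3])) (.leaf [0, 13, 15, 12, 14, 1]))) (.node (.node (.node (.leaf [2, 8, 0, 2, 1]) (.leaf [3, 13, 15, 2, 5, 2, 12])) (.leaf [9, 7, 10, 10, 6, 8])) (.node (.node (.leaf [0, 3, 4, 4, 2, 1]) (.leaf [2, 14, 0, 14, 1, 14, 1, 3])) (.leaf [0, 3, 7, 2, 1, 6, 5])))) (.node (.node (.node (.node (.leaf [4, 13, 4, 13]) (.leaf [2, 4, 12, 2, 14, 13, 5])) (.leaf [6, 4, 10, 10, 5, 7])) (.node (.node (.leaf [8, 2, 8, 3, 9, 3]) (.leaf [0, 12, 14, 12, 15, 13, 13, 1])) (.leaf [4, 13, 15, 12, 14, 5]))) (.node (.node (.node (.leaf [9, 6, 0, 6, 1]) (.leaf [12, 0, 14, 14, 14, 1, 13])) (.leaf [4, 2, 4, 2, 5, 2])) (.node (.node (.leaf [2, 0, 6, 0, 6, 8]) (.leaf [3, 13, 14, 4, 2, 13, 5, 3])) (.leaf [0, 6, 9, 4, 6, 5, 1])))))) (.node (.node (.node (.node (.node (.node (.leaf [2, 2, 2]) (.leaf [2, 0, 6, 4, 2, 6, 1])) (.node (.leaf [3, 4, 7, 2, 8, 7]) (.leaf [4, 12, 14, 12, 15, 13, 13, 5]))) (.node (.node (.leaf [3, 6, 0, 7, 5, 2]) (.leaf [13, 0, 14, 14, 14, 1, 12]))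 (.leaf [0, 3, 12, 0, 13, 2]))) (.node (.node (.node (.leaf [0, 8, 2, 1, 8]) (.leaf [3, 4, 15, 12, 3, 13, 5])) (.leaf [8, 4, 0, 4, 2, 8])) (.node (.node (.leaf [0, 2, 4, 4, 3, 1]) (.leaf [2, 12, 14, 4, 15, 12, 5, 3])) (.leaf [0, 2, 7, 4, 8, 6, 2])))) (.node (.node (.node (.node (.leaf [8, 10, 10, 9]) (.leaf [0, 12, 12, 12, 12, 12, 1])) (.leaf [4, 10, 4, 4, 11, 5])) (.node (.node (.leaf [7, 3, 0, 3, 7, 1]) (.leaf [0, 4, 14, 2, 15, 3, 5, 1])) (.leaf [4, 3, 14, 2, 15, 5]))) (.node (.node (.node (.leaf [7, 8, 8, 8, 6]) (.leaf [4, 12, 14, 14, 14, 13, 5])) (.leaf [2, 15, 12, 14, 13, 3])) (.node (.node (.leaf [0, 9, 10, 10, 8, 1]) (.leaf [3, 12, 15, 2, 14, 3, 13, 2])) (.leaf [0, 6, 6, 6, 8, 7, 2]))))) (.node (.node (.node (.node (.node (.leaf [10, 8, 11, 8]) (.leaf [2, 4, 7, 4, 8, 7, 3])) (.node (.leaf [4, 6, 3, 4, 1, 6]) (.leaf [14, 15]))) (.node (.node (.leaf [4, 9, 2, 9, 2, 5]) (.leaf [15, 0, 14, 0, 14, 1, 15])) (.leaf [2, 4, 15, 4, 14, 3]))) (.node (.node (.node (.leaf [4, 0, 4, 8, 3]) (.leaf [4, 2, 14, 14, 14, 3, 5])) (.leaf [10, 6, 4, 4, 7, 11])) (.node (.node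 (.leaf [0, 6, 4, 4, 7, 1]) (.leaf [3, 0, 14, 12, 15, 13, 1, 2])) (.leaf [0, 4, 0, 8, 3, 1, 5])))) (.node (.node (.node (.node (.leaf [15, 12, 14, 13]) (.leaf [2, 12, 12, 2, 14, 12, 12])) (.leaf [7, 2, 0, 0, 3, 6])) (.node (.node (.leaf [9, 3, 4, 1, 5, 9]) (.leaf [0, 13, 15, 4, 14, 13, 5, 1])) (.leaf [12, 3, 15, 2, 14, 13]))) (.node (.node (.node (.leaf [4, 14, 14, 14, 5]) (.leaf [12, 2, 14, 2, 15, 2, 13])) (.leaf [12, 14, 4, 15, 12, 5])) (.node (.node (.leaf [2, 4, 10, 10, 5, 3]) (.leaf [4, 0, 14, 12, 15, 13, 1, 5])) (.leaf [0, 7, 9, 2, 7, 8, 5])))))))) (.node (.node (.node (.node (.node (.node (.node (.node (.leaf [16, 4, 16, 5]) (.leaf [0, 9, 7, 0, 5, 2, 6])) (.node (.leaf [2, 8, 2, 8, 2, 8]) (.leaf [4, 2, 12, 12, 12, 2, 12, 2]))) (.node (.node (.leaf [0, 9, 2, 9, 2, 1]) (.leaf [12, 3, 13, 2, 15, 5, 2])) (.leaf [13, 13, 4, 13, 13, 5]))) (.node (.node (.node (.leaf [0, 2, 2, 2, 1]) (.leaf [2, 13, 3, 14, 5, 3, 12])) (.leaf [7, 3, 10, 10, 2, 6])) (.node (.node (.leaf [9, 7, 4, 8, 6, 1]) (.leaf [2, 0, 14, 4, 15, 5, 1, 3])) (.leaf [13, 3, 14, 2, 15, 12]))))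 (.node (.node (.node (.node (.leaf [3, 0, 0, 2]) (.leaf [2, 6, 3, 8, 2, 6, 5])) (.node (.leaf [4, 8, 4, 6, 9, 7]) (.leaf [4, 5]))) (.node (.node (.leaf [6, 6, 2, 1, 2, 5]) (.leaf [0, 2, 15, 4, 14, 5, 3, 1])) (.leaf [3, 0, 4, 4, 1, 2]))) (.node (.node (.node (.leaf [4, 8, 8, 8, 5]) (.leaf [4, 3, 12, 14, 2, 13, 3])) (.leaf [0, 14, 4, 15, 5, 1])) (.node (.node (.leaf [0, 7, 9, 6, 1, 8]) (.leaf [3, 4, 12, 2, 14, 13, 5, 3])) (.leaf [0, 4, 9, 6, 9, 2, 6]))))) (.node (.node (.node (.node (.node (.leaf [0, 0, 11, 11]) (.leaf [2, 0, 9, 4, 6, 6, 3])) (.node (.leaf [3, 7, 9, 6, 2, 8]) (.leaf [4, 13, 14, 2, 13, 3, 13, 3]))) (.node (.node (.leaf [3, 10, 8, 11, 8, 2]) (.leaf [13, 2, 15, 4, 2, 12, 3])) (.leaf [0, 13, 0, 0, 12, 1]))) (.node (.node (.node (.leaf [2, 0, 8, 1, 8]) (.leaf [3, 13, 3, 12, 12, 3, 5])) (.leaf [9, 4, 10, 10, 5, 8])) (.node (.node (.leaf [0, 2, 10, 10, 3, 1]) (.leaf [2, 13, 14, 2, 15, 3, 12, 3])) (.leaf [0, 3, 6, 0, 6, 9, 2])))) (.node (.node (.node (.node (.leaf [4, 12, 4, 12]) (.leaf [2, 0, 14, 14, 14, 1, 3])) (.leaf [6, 3, 10, 10, 2, 7])) (.node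 (.node (.leaf [7, 10, 0, 2, 11, 1]) (.leaf [0, 12, 14, 2, 15, 3, 13, 1])) (.leaf [4, 13, 14, 12, 15, 5]))) (.node (.node (.node (.leaf [9, 4, 0, 5, 2]) (.leaf [4, 13, 14, 14, 14, 12, 5])) (.leaf [3, 15, 4, 14, 5, 2])) (.node (.node (.leaf [2, 0, 4, 4, 1, 3]) (.leaf [3, 13, 13, 4, 13, 13, 5, 2])) (.leaf [0, 6, 9, 0, 9, 2, 6])))))) (.node (.node (.node (.node (.node (.node (.leaf [4, 4]) (.leaf [2, 0, 4, 2, 9, 5, 3])) (.node (.leaf [3, 4, 3, 4, 3, 5]) (.leaf [4, 12, 3, 12, 3, 12, 3, 5]))) (.node (.node (.leaf [3, 0, 2, 8, 1, 3]) (.leaf [12, 12, 15, 12, 14, 12, 12])) (.leaf [0, 3, 0, 0, 2, 1]))) (.node (.node (.node (.leaf [0, 7, 8, 7, 5]) (.leaf [3, 4, 3, 14, 12, 2, 13])) (.leaf [8, 2, 10, 10, 3, 9])) (.node (.node (.leaf [10, 6, 2, 11, 6, 2]) (.leaf [2, 12, 12, 4, 12, 12, 5, 3])) (.leaf [0, 2, 4, 0, 5, 1, 9])))) (.node (.node (.node (.node (.leaf [8, 0, 0, 9]) (.leaf [0, 4, 14, 14, 14, 5, 1])) (.leaf [4, 9, 10, 10, 8, 5])) (.node (.node (.leaf [7, 0, 4, 2, 7, 5]) (.leaf [0, 4, 2, 4, 2, 5, 2, 1])) (.leaf [4, 0, 4, 4, 1, 5]))) (.node (.node (.node (.leaf [7,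 7, 4, 8, 1]) (.leaf [4, 12, 12, 12, 12, 12, 5])) (.leaf [2, 14, 12, 15, 13, 3])) (.node (.node (.leaf [0, 8, 10, 10, 9, 1]) (.leaf [3, 12, 14, 4, 15, 12, 5, 2])) (.leaf [0, 6, 6, 2, 8, 1, 5]))))) (.node (.node (.node (.node (.node (.leaf [8, 11, 8, 11]) (.leaf [2, 4, 3, 4, 3, 5, 2])) (.node (.leaf [4, 3, 10, 4, 3, 11]) (.leaf [2, 3]))) (.node (.node (.leaf [4, 7, 8, 7, 8, 3]) (.leaf [14, 0, 15, 0, 15, 1, 14])) (.leaf [2, 4, 13, 4, 13, 3]))) (.node (.node (.node (.leaf [3, 9, 0, 9, 1]) (.leaf [4, 2, 14, 2, 15, 2, 5])) (.leaf [10, 3, 10, 10, 2, 11])) (.node (.node (.leaf [0, 4, 0, 0, 5, 1]) (.leaf [3, 0, 14, 2, 15, 3, 1, 2])) (.leaf [0, 4, 0, 4, 8, 3, 1])))) (.node (.node (.node (.node (.leaf [14, 4, 15, 5]) (.leaf [2, 12, 2, 4, 2, 13, 13])) (.leaf [6, 9, 10, 10, 8, 7])) (.node (.node (.leaf [9, 0, 2, 8, 3, 1]) (.leaf [0, 13, 14, 4, 15, 13, 5, 1])) (.leaf [12, 3, 4, 4, 2, 13]))) (.node (.node (.node (.leaf [2, 15, 2, 14, 2]) (.leaf [12, 2, 13, 4, 14, 2, 5])) (.leaf [12, 12, 4, 12, 12, 5])) (.node (.node (.leaf [2, 4, 2, 4, 2, 5]) (.leaf [4, 0, 14, 2, 15, 3,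 1, 5])) (.leaf [0, 7, 3, 6, 3, 5, 3]))))))) (.node (.node (.node (.node (.node (.node (.node (.leaf [13, 7, 13, 0, 12, 6, 12, 8, 3]) (.leaf [0, 10, 2, 2, 2, 11, 1])) (.node (.leaf [3, 0, 4, 4, 1, 2]) (.leaf [4, 3, 12, 0, 13, 2, 1, 5]))) (.node (.node (.leaf [2, 7, 4, 6, 1, 3]) (.leaf [12, 12, 2, 2, 2, 13, 13])) (.leaf [13, 15, 4, 14, 13, 5]))) (.node (.node (.node (.leaf [0, 4, 6, 9, 6]) (.leaf [3, 0, 2, 2, 2, 1, 2])) (.leaf [7, 9, 10, 10, 8, 6])) (.node (.node (.leaf [10, 3, 0, 11, 6, 1]) (.leaf [2, 0, 15, 12, 14, 13, 1, 3])) (.leaf [13, 13, 15, 12, 14, 12])))) (.node (.node (.node (.node (.leaf [6, 4, 4, 7]) (.leaf [0, 2, 14, 14, 14, 3, 1])) (.node (.leaf [4, 9, 4, 4, 8, 5]) (.leaf [13, 12]))) (.node (.node (.leaf [6, 8, 6, 1, 8, 5]) (.leaf [0, 3, 14, 4, 15, 5, 2, 1])) (.leaf [3, 4, 14, 4, 15, 2]))) (.node (.node (.node (.leaf [6, 8, 8, 8, 7]) (.leaf [4, 3, 15, 4, 12, 3, 13])) (.leaf [0, 15, 12, 14, 13, 1])) (.node (.node (.leaf [0, 8, 4, 6, 8, 6]) (.leaf [3, 4, 15, 2, 12, 3, 13, 3])) (.leaf [0, 6, 3, 8, 1, 3, 6]))))) (.node (.node (.node (.node (.node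 (.leaf [4, 4, 10, 10]) (.leaf [2, 4, 0, 6, 6, 1, 2])) (.node (.leaf [3, 9, 10, 10, 8, 2]) (.leaf [12, 0, 4, 12, 5, 2, 1, 3]))) (.node (.node (.leaf [4, 2, 8, 8, 5, 1]) (.leaf [13, 3, 14, 14, 14, 2, 12])) (.leaf [0, 14, 0, 14, 1, 14]))) (.node (.node (.node (.leaf [2, 9, 4, 1, 5]) (.leaf [4, 0, 14, 14, 14, 1, 5])) (.leaf [10, 0, 4, 4, 1, 11])) (.node (.node (.leaf [0, 3, 8, 0, 9, 2]) (.leaf [3, 0, 3, 4, 1, 5, 3, 1])) (.leaf [0, 3, 8, 4, 6, 6, 9])))) (.node (.node (.node (.node (.leaf [4, 14, 5, 15]) (.leaf [2, 4, 14, 12, 2, 13, 5])) (.leaf [6, 6, 6, 6, 6, 6])) (.node (.node (.leaf [8, 6, 0, 8, 6, 1]) (.leaf [0, 12, 15, 4, 14, 12, 5, 1])) (.leaf [4, 15, 0, 0, 14, 5]))) (.node (.node (.node (.leaf [0, 2, 2, 2, 1]) (.leaf [12, 2, 4, 12, 14, 2, 5])) (.leaf [4, 14, 12, 15, 13, 5])) (.node (.node (.leaf [2, 0, 9, 2, 1, 9]) (.leaf [4, 0, 4, 0, 5, 1, 5, 1])) (.leaf [0, 7, 2, 0, 9, 2, 7])))))) (.node (.node (.node (.node (.node (.node (.leaf [14, 14, 14]) (.leaf [2, 0, 6, 8, 7, 2, 5])) (.node (.leaf [3, 4, 10, 10, 5, 2]) (.leaf [4, 12, 15, 12, 14, 13, 13, 5]))) (.node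 (.node (.leaf [3, 7, 4, 6, 1, 2]) (.leaf [13, 2, 12, 4, 3, 12, 5])) (.leaf [0, 3, 15, 2, 14, 1]))) (.node (.node (.node (.leaf [0, 9, 0, 3, 9]) (.leaf [3, 12, 2, 14, 13, 3, 5])) (.leaf [8, 6, 10, 10, 7, 9])) (.node (.node (.leaf [0, 2, 6, 0, 6, 2]) (.leaf [2, 12, 15, 4, 14, 12, 5, 3])) (.leaf [0, 2, 9, 4, 1, 5, 1])))) (.node (.node (.node (.node (.leaf [9, 4, 4, 8]) (.leaf [0, 13, 2, 2, 2, 12, 1])) (.leaf [6, 2, 9, 2, 9, 7])) (.node (.node (.leaf [7, 8, 4, 6, 9, 1]) (.leaf [0, 4, 15, 2, 14, 3, 5, 1])) (.leaf [4, 12, 12, 4, 12, 12]))) (.node (.node (.node (.leaf [8, 0, 2, 1, 2]) (.leaf [4, 13, 2, 12, 5, 3, 12])) (.leaf [3, 12, 4, 12, 5, 2])) (.node (.node (.leaf [0, 10, 3, 0, 11, 6]) (.leaf [3, 13, 2, 0, 3, 12, 1, 2])) (.leaf [0, 6, 8, 0, 7, 3, 5]))))) (.node (.node (.node (.node (.node (.leaf [0, 10, 10, 1]) (.leaf [2, 4, 8, 0, 7, 7, 3])) (.node (.leaf [4, 7, 0, 0, 6, 5]) (.leaf [6, 7]))) (.node (.node (.leaf [4, 10, 8, 11, 8, 5]) (.leaf [0, 2, 12, 4, 12, 5, 3, 1])) (.leaf [2, 13, 0, 0, 12, 3]))) (.node (.node (.node (.leaf [4, 6, 4, 6, 9]) (.leaf [4, 2,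 15, 12, 3, 13, 2])) (.leaf [10, 7, 10, 10, 6, 11])) (.node (.node (.leaf [0, 6, 6, 0, 3, 5]) (.leaf [3, 0, 15, 4, 14, 5, 1, 2])) (.leaf [0, 4, 3, 4, 7, 2, 6])))) (.node (.node (.node (.node (.leaf [13, 0, 0, 12]) (.leaf [2, 12, 12, 14, 2, 12, 12])) (.leaf [7, 2, 9, 2, 9, 6])) (.node (.node (.leaf [9, 6, 2, 8, 3, 7]) (.leaf [2, 0, 3, 0, 2, 1, 3, 1])) (.leaf [12, 15, 0, 0, 14, 13]))) (.node (.node (.node (.leaf [12, 12, 12, 12, 12]) (.leaf [12, 2, 14, 12, 12, 2, 12])) (.leaf [12, 15, 2, 14, 3, 13])) (.node (.node (.leaf [2, 6, 10, 10, 7, 3]) (.leaf [4, 0, 15, 4, 14, 5, 1, 5])) (.leaf [0, 8, 6, 8, 2, 7, 1]))))))))) (.node (.node (.node (.node (.node (.node (.node (.node (.node (.leaf [16, 16]) (.leaf [0, 8, 7, 8, 6, 1, 2])) (.node (.leaf [2, 8, 2, 2, 8, 2]) (.leaf [4, 2, 12, 2, 15, 2, 13, 2]))) (.node (.node (.leaf [13, 14, 14, 14, 12]) (.leaf [12, 3, 4, 12, 15, 3, 5])) (.leaf [13, 2, 0, 3, 12, 1]))) (.node (.node (.node (.leaf [0, 2, 0, 2, 8]) (.leaf [2, 13, 3, 4, 14, 3, 12])) (.leaf [7, 3, 4, 4, 2, 6])) (.node (.node (.leaf [9, 7, 0, 7, 1, 3]) (.leaf [2,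 0, 14, 2, 15, 3, 1, 3])) (.leaf [13, 3, 0, 0, 2, 12])))) (.node (.node (.node (.node (.leaf [2, 10, 10, 3]) (.leaf [2, 6, 3, 6, 2, 6, 6])) (.node (.leaf [4, 8, 4, 4, 9, 5]) (.leaf [7, 6]))) (.node (.node (.leaf [6, 4, 2, 6, 9, 3]) (.leaf [0, 2, 14, 12, 15, 13, 3, 1])) (.leaf [2, 14, 0, 0, 15, 3]))) (.node (.node (.node (.leaf [4, 8, 0, 7, 7]) (.leaf [4, 3, 12, 12, 5, 2, 12])) (.leaf [0, 14, 2, 15, 3, 1])) (.node (.node (.leaf [0, 7, 9, 4, 6, 8]) (.leaf [3, 4, 2, 12, 15, 3, 13, 3])) (.leaf [0, 4, 9, 0, 2, 1, 5]))))) (.node (.node (.node (.node (.node (.leaf [0, 0, 10, 10]) (.leaf [2, 0, 9, 0, 3, 9, 3])) (.node (.leaf [3, 6, 10, 10, 7, 2]) (.leaf [4, 13, 13, 0, 12, 12, 5, 1]))) (.node (.node (.leaf [3, 9, 4, 1, 5, 3]) (.leaf [13, 2, 15, 2, 14, 2, 12])) (.leaf [0, 4, 14, 4, 15, 1]))) (.node (.node (.node (.leaf [2, 0, 2, 8, 1]) (.leaf [3, 13, 2, 2, 2, 12, 2])) (.leaf [9, 0, 10, 10, 1, 8])) (.node (.node (.leaf [0, 2, 10, 0, 7, 11]) (.leaf [2, 13, 13, 4, 13, 13, 5, 3])) (.leaf [0, 3, 4, 6, 6, 9, 2])))) (.node (.node (.node (.node (.leaf [2, 14, 3, 15]) (.leaf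 [2, 0, 2, 2, 2, 1, 3])) (.leaf [6, 3, 8, 8, 7, 9])) (.node (.node (.leaf [7, 9, 4, 6, 8, 1]) (.leaf [0, 12, 12, 4, 12, 12, 5, 1])) (.leaf [4, 13, 14, 4, 15, 13]))) (.node (.node (.node (.leaf [9, 3, 8, 3, 9]) (.leaf [4, 13, 13, 2, 12, 5, 3])) (.leaf [3, 14, 12, 15, 13, 2])) (.node (.node (.leaf [0, 10, 6, 0, 11, 3]) (.leaf [3, 13, 13, 2, 12, 2, 5, 3])) (.leaf [0, 6, 8, 8, 8, 7, 1])))))) (.node (.node (.node (.node (.node (.node (.leaf [0, 0]) (.leaf [2, 0, 4, 0, 5, 9, 1])) (.node (.leaf [3, 0, 10, 10, 1, 2]) (.leaf [4, 3, 15, 12, 15, 2, 13, 3]))) (.node (.node (.leaf [2, 10, 8, 11, 8, 3]) (.leaf [12, 12, 14, 14, 14, 13, 13])) (.leaf [0, 2, 4, 4, 3, 1]))) (.node (.node (.node (.leaf [0, 7, 0, 7, 8]) (.leaf [3, 4, 3, 12, 14, 2, 13])) (.leaf [8, 2, 4, 4, 3, 9])) (.node (.node (.leaf [10, 6, 0, 11, 3, 1]) (.leaf [2, 4, 15, 12, 14, 13, 5, 3])) (.leaf [14, 0, 4, 4, 1, 15])))) (.node (.node (.node (.node (.leaf [7, 10, 10, 6]) (.leaf [0, 4, 2, 2, 2, 5, 1])) (.node (.leaf [4, 9, 7, 4, 9, 7]) (.leaf [11, 10]))) (.node (.node (.leaf [6, 10, 8, 11, 8, 7]) (.leaf [0,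 3, 15, 12, 14, 13, 2, 1])) (.leaf [3, 13, 15, 12, 14, 2]))) (.node (.node (.node (.leaf [7, 2, 2, 2, 6]) (.leaf [4, 12, 3, 4, 15, 12, 3])) (.leaf [2, 14, 4, 15, 5, 3])) (.node (.node (.leaf [0, 8, 10, 8, 11, 1]) (.leaf [3, 12, 12, 14, 2, 12, 12, 3])) (.leaf [0, 6, 4, 8, 6, 8, 5]))))) (.node (.node (.node (.node (.node (.leaf [8, 10, 8, 11]) (.leaf [2, 4, 3, 0, 6, 3, 6])) (.node (.leaf [4, 3, 0, 0, 2, 5]) (.leaf [9, 8]))) (.node (.node (.leaf [4, 7, 2, 8, 7, 3]) (.leaf [13, 13, 14, 14, 14, 12, 12])) (.leaf [2, 4, 12, 4, 12, 3]))) (.node (.node (.node (.leaf [3, 8, 8, 8, 2]) (.leaf [4, 2, 13, 14, 5, 2, 13])) (.leaf [10, 2, 10, 10, 3, 11])) (.node (.node (.leaf [0, 3, 10, 10, 2, 1]) (.leaf [3, 0, 13, 4, 13, 5, 1, 2])) (.leaf [0, 4, 0, 2, 9, 1, 5])))) (.node (.node (.node (.node (.leaf [14, 2, 15, 3]) (.leaf [2, 12, 2, 2, 2, 13, 3])) (.leaf [6, 8, 10, 10, 9, 7])) (.node (.node (.leaf [8, 7, 8, 6, 9, 3]) (.leaf [0, 13, 14, 2, 15, 3, 12, 1])) (.leaf [12, 2, 4, 4, 3, 13]))) (.node (.node (.node (.leaf [2, 14, 14, 14, 3]) (.leaf [12, 2, 12, 14, 12, 2, 12])) (.leaf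 [12, 3, 12, 3, 12, 3])) (.node (.node (.leaf [2, 4, 0, 4, 8, 2]) (.leaf [4, 0, 13, 4, 13, 5, 1, 5])) (.leaf [0, 7, 3, 4, 7, 1, 3]))))))) (.node (.node (.node (.node (.node (.node (.node (.leaf [16, 12, 16, 13]) (.leaf [0, 10, 0, 2, 11, 9, 6])) (.node (.leaf [2, 9, 10, 10, 8, 3]) (.leaf [4, 2, 15, 4, 14, 2, 5, 2]))) (.node (.node (.leaf [2, 6, 0, 6, 2, 1]) (.leaf [12, 3, 15, 4, 12, 3, 5])) (.leaf [13, 15, 2, 14, 3, 12]))) (.node (.node (.node (.leaf [0, 4, 2, 9, 5]) (.leaf [2, 13, 14, 14, 14, 12, 3])) (.leaf [7, 8, 10, 10, 9, 6])) (.node (.node (.leaf [10, 2, 4, 11, 2, 5]) (.leaf [2, 0, 15, 4, 14, 5, 1, 3])) (.leaf [13, 13, 14, 12, 15, 12])))) (.node (.node (.node (.node (.leaf [4, 10, 10, 5]) (.leaf [0, 2, 14, 2, 15, 2, 1])) (.node (.leaf [4, 9, 0, 0, 8, 5]) (.leaf [17, 16]))) (.node (.node (.leaf [6, 8, 4, 6, 8, 5]) (.leaf [0, 3, 13, 4, 13, 5, 2, 1])) (.leaf [3, 4, 13, 4, 13, 2]))) (.node (.node (.node (.leaf [6, 6, 0, 9, 5]) (.leaf [4, 3, 14, 14, 14, 2, 5])) (.leaf [0, 15, 4, 14, 5, 1])) (.node (.node (.leaf [0, 8, 4, 4, 9, 1]) (.leaf [3, 4, 14, 12, 2,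 13, 5, 3])) (.leaf [0, 6, 3, 6, 2, 5, 3]))))) (.node (.node (.node (.node (.node (.leaf [2, 9, 2, 9]) (.leaf [2, 0, 10, 6, 1, 11, 2])) (.node (.leaf [3, 8, 10, 10, 9, 2]) (.leaf [12, 0, 3, 12, 3, 12, 1, 3]))) (.node (.node (.leaf [4, 2, 4, 2, 5, 2]) (.leaf [13, 3, 14, 4, 3, 12, 2])) (.leaf [0, 14, 0, 0, 15, 1]))) (.node (.node (.node (.leaf [2, 8, 8, 8, 3]) (.leaf [3, 13, 15, 4, 3, 13, 5])) (.leaf [9, 10, 3, 8, 3, 11])) (.node (.node (.leaf [0, 3, 7, 0, 7, 3]) (.leaf [3, 0, 2, 0, 3, 1, 2, 1])) (.leaf [0, 3, 7, 4, 6, 9, 3])))) (.node (.node (.node (.node (.leaf [4, 14, 4, 15]) (.leaf [2, 4, 12, 14, 2, 13, 5])) (.leaf [6, 6, 4, 4, 7, 7])) (.node (.node (.leaf [8, 4, 6, 8, 6, 1]) (.leaf [0, 12, 15, 2, 14, 3, 13, 1])) (.leaf [4, 14, 0, 0, 15, 5]))) (.node (.node (.node (.leaf [9, 10, 8, 11, 9]) (.leaf [12, 2, 4, 2, 13, 13, 2])) (.leaf [4, 14, 2, 15, 3, 5])) (.node (.node (.leaf [2, 0, 7, 4, 6, 3]) (.leaf [3, 14, 0, 14, 1, 14, 1, 2])) (.leaf [0, 6, 9, 6, 1, 5, 1])))))) (.node (.node (.node (.node (.node (.node (.leaf [8, 8, 8]) (.leaf [2, 0, 6, 6, 5, 8, 5]))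 (.node (.leaf [3, 4, 7, 8, 7, 8]) (.leaf [4, 12, 15, 2, 2, 13, 5, 3]))) (.node (.node (.leaf [3, 7, 0, 7, 3, 1]) (.leaf [13, 2, 4, 2, 15, 12, 3])) (.leaf [0, 3, 14, 2, 15, 1]))) (.node (.node (.node (.leaf [0, 8, 8, 8, 1]) (.leaf [3, 12, 2, 2, 2, 13, 2])) (.leaf [8, 4, 10, 10, 5, 9])) (.node (.node (.leaf [0, 2, 4, 6, 6, 2]) (.leaf [2, 12, 15, 2, 14, 3, 13, 3])) (.leaf [0, 2, 7, 8, 6, 8, 1])))) (.node (.node (.node (.node (.leaf [9, 0, 0, 8]) (.leaf [0, 12, 14, 14, 14, 13, 1])) (.leaf [6, 2, 4, 4, 3, 7])) (.node (.node (.leaf [7, 7, 0, 5, 2, 1]) (.leaf [0, 4, 14, 12, 15, 13, 5, 1])) (.leaf [4, 3, 15, 2, 14, 5]))) (.node (.node (.node (.leaf [7, 9, 6, 3, 9]) (.leaf [4, 13, 2, 4, 13, 3, 12])) (.leaf [3, 12, 0, 13, 2, 1])) (.node (.node (.leaf [0, 10, 0, 0, 11, 1]) (.leaf [3, 12, 15, 12, 14, 13, 13, 2])) (.leaf [0, 6, 6, 8, 1, 8, 5]))))) (.node (.node (.node (.node (.node (.leaf [0, 4, 4, 1]) (.leaf [2, 4, 7, 8, 7, 8, 2])) (.node (.leaf [4, 6, 10, 10, 7, 5]) (.leaf [15, 14]))) (.node (.node (.leaf [4, 10, 2, 5, 11, 2]) (.leaf [15, 0, 14, 14, 1, 15, 1])) (.leaf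 [2, 12, 0, 0, 13, 3]))) (.node (.node (.node (.leaf [4, 2, 2, 2, 5]) (.leaf [4, 2, 15, 2, 14, 2, 5])) (.leaf [10, 6, 10, 10, 7, 11])) (.node (.node (.leaf [0, 6, 4, 6, 3, 5]) (.leaf [3, 0, 15, 2, 14, 3, 1, 2])) (.leaf [0, 4, 3, 0, 8, 1, 5])))) (.node (.node (.node (.node (.leaf [12, 0, 0, 13]) (.leaf [2, 12, 12, 12, 12, 12, 3])) (.leaf [7, 2, 4, 4, 3, 6])) (.node (.node (.leaf [9, 3, 6, 5, 2, 6]) (.leaf [2, 0, 2, 4, 1, 5, 2, 1])) (.leaf [12, 12, 0, 0, 13, 13]))) (.node (.node (.node (.leaf [12, 2, 2, 2, 13]) (.leaf [12, 2, 14, 4, 12, 2, 5])) (.leaf [12, 14, 12, 15, 13, 13])) (.node (.node (.leaf [2, 6, 4, 4, 7, 3]) (.leaf [4, 0, 15, 2, 14, 3, 1, 5])) (.leaf [0, 8, 4, 0, 5, 1, 3])))))))) (.node (.node (.node (.node (.node (.node (.node (.node (.leaf [13, 7, 14, 6, 12, 9]) (.leaf [0, 9, 10, 0, 7, 11, 3])) (.node (.leaf [2, 8, 10, 8, 11, 3]) (.leaf [4, 2, 12, 14, 14, 3, 13, 2]))) (.node (.node (.leaf [0, 10, 8, 11, 8, 1]) (.leaf [12, 3, 13, 4, 15, 3, 5])) (.leaf [13, 14, 2, 15, 3, 12]))) (.node (.node (.node (.leaf [0, 2, 8, 1, 2]) (.leaf [2, 13, 13, 2, 12,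 2, 5])) (.leaf [7, 7, 10, 10, 6, 6])) (.node (.node (.leaf [9, 7, 8, 8, 6, 3]) (.leaf [2, 0, 14, 12, 15, 13, 1, 3])) (.leaf [13, 3, 15, 2, 14, 12])))) (.node (.node (.node (.node (.leaf [3, 4, 4, 2]) (.leaf [2, 6, 4, 2, 6, 9, 2])) (.node (.leaf [4, 8, 10, 8, 11, 5]) (.leaf [12, 13]))) (.node (.node (.leaf [6, 6, 8, 2, 1, 5]) (.leaf [0, 2, 15, 12, 14, 13, 3, 1])) (.leaf [3, 4, 0, 0, 5, 2]))) (.node (.node (.node (.leaf [6, 2, 2, 2, 7]) (.leaf [4, 3, 13, 4, 15, 3, 13])) (.leaf [0, 14, 12, 15, 13, 1])) (.node (.node (.leaf [0, 7, 10, 0, 2, 11]) (.leaf [3, 4, 12, 14, 2, 13, 5, 3])) (.leaf [0, 6, 2, 2, 2, 7, 1]))))) (.node (.node (.node (.node (.node (.leaf [0, 7, 4, 6]) (.leaf [2, 0, 9, 6, 1, 6, 3])) (.node (.leaf [3, 7, 10, 10, 6, 2]) (.leaf [4, 13, 15, 2, 12, 2, 12, 3]))) (.node (.node (.leaf [4, 0, 6, 6, 1, 3]) (.leaf [13, 3, 12, 4, 13, 2, 5])) (.leaf [0, 13, 14, 12, 15, 1]))) (.node (.node (.node (.leaf [2, 7, 8, 6, 8]) (.leaf [3, 13, 14, 14, 14, 12, 2])) (.leaf [9, 6, 10, 10, 7, 8])) (.node (.node (.leaf [0, 3, 4, 0, 6, 6]) (.leaf [2, 13, 15, 2, 14, 3,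 12, 3])) (.leaf [0, 3, 6, 2, 1, 5, 7])))) (.node (.node (.node (.node (.leaf [4, 12, 5, 12]) (.leaf [2, 4, 2, 12, 15, 3, 13])) (.leaf [6, 4, 0, 0, 5, 7])) (.node (.node (.leaf [7, 10, 8, 11, 8, 6]) (.leaf [0, 12, 14, 4, 15, 12, 5, 1])) (.leaf [4, 13, 15, 4, 14, 13]))) (.node (.node (.node (.leaf [9, 4, 6, 6, 1]) (.leaf [12, 0, 2, 2, 2, 1, 13])) (.leaf [3, 15, 12, 14, 13, 2])) (.node (.node (.leaf [2, 0, 4, 6, 6, 8]) (.leaf [3, 13, 14, 2, 15, 3, 12, 2])) (.leaf [0, 6, 9, 2, 1, 3, 6])))))) (.node (.node (.node (.node (.node (.node (.leaf [10, 10]) (.leaf [2, 0, 4, 8, 3, 5, 3])) (.node (.leaf [3, 4, 6, 0, 7, 2]) (.leaf [4, 12, 3, 14, 14, 13, 5, 3]))) (.node (.node (.leaf [3, 0, 8, 8, 3, 1]) (.leaf [13, 0, 2, 2, 2, 1, 12])) (.leaf [0, 3, 4, 4, 2, 1]))) (.node (.node (.node (.leaf [0, 8, 0, 8, 2]) (.leaf [3, 4, 14, 14, 14, 5, 2])) (.leaf [8, 4, 0, 0, 5, 9])) (.node (.node (.leaf [10, 7, 4, 11, 1, 2]) (.leaf [2, 12, 14, 2, 15, 3, 13, 3])) (.leaf [0, 2, 4, 2, 7, 2, 6])))) (.node (.node (.node (.node (.leaf [8, 4, 4, 9]) (.leaf [0, 12, 2, 2, 2, 13, 1])) (.leaf [4,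 10, 0, 2, 11, 7])) (.node (.node (.leaf [7, 2, 8, 7, 3, 5]) (.leaf [0, 4, 3, 4, 3, 5, 3, 1])) (.leaf [4, 2, 0, 0, 3, 5]))) (.node (.node (.node (.leaf [7, 8, 0, 7, 1]) (.leaf [4, 12, 14, 2, 13, 5, 2])) (.leaf [2, 15, 4, 14, 5, 3])) (.node (.node (.leaf [0, 9, 7, 4, 8, 6]) (.leaf [3, 12, 14, 12, 2, 12, 12, 3])) (.leaf [0, 6, 6, 4, 8, 5, 2]))))) (.node (.node (.node (.node (.node (.leaf [7, 4, 6, 1]) (.leaf [2, 4, 7, 2, 8, 7, 2])) (.node (.leaf [4, 3, 10, 10, 2, 5]) (.leaf [3, 2]))) (.node (.node (.leaf [4, 8, 2, 2, 5, 1]) (.leaf [15, 0, 2, 2, 2, 1, 14])) (.leaf [2, 4, 14, 4, 15, 3]))) (.node (.node (.node (.leaf [3, 9, 2, 9, 3]) (.leaf [4, 2, 14, 4, 12, 2, 13])) (.leaf [10, 4, 10, 10, 5, 11])) (.node (.node (.leaf [0, 4, 10, 10, 5, 1]) (.leaf [3, 0, 14, 4, 15, 5, 1, 2])) (.leaf [0, 4, 0, 6, 8, 6, 2])))) (.node (.node (.node (.node (.leaf [14, 12, 15, 13]) (.leaf [2, 12, 3, 12, 3, 12, 2])) (.leaf [7, 0, 10, 10, 1, 6])) (.node (.node (.leaf [9, 0, 8, 8, 1, 3]) (.leaf [0, 13, 15, 2, 14, 3, 12, 1])) (.leaf [12, 3, 14, 2, 15, 13]))) (.node (.node (.node (.leaf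 [3, 14, 14, 14, 2]) (.leaf [12, 2, 13, 14, 3, 5, 3])) (.leaf [12, 14, 2, 15, 3, 13])) (.node (.node (.leaf [2, 4, 10, 2, 5, 11]) (.leaf [4, 0, 14, 4, 15, 5, 1, 5])) (.leaf [0, 7, 3, 8, 7, 8, 5]))))))) (.node (.node (.node (.node (.node (.node (.node (.leaf [13, 7, 13, 14, 0, 12, 15, 6, 12, 3, 9, 3]) (.leaf [0, 10, 4, 10, 6, 3, 11])) (.node (.leaf [3, 0, 7, 4, 6, 2]) (.leaf [4, 3, 13, 2, 2, 12, 12, 3]))) (.node (.node (.leaf [2, 9, 0, 8, 3, 1]) (.leaf [12, 12, 3, 4, 3, 13, 3])) (.leaf [14, 0, 14, 1, 14, 1]))) (.node (.node (.node (.leaf [0, 4, 8, 3, 5]) (.leaf [3, 0, 3, 12, 1, 13, 3])) (.leaf [8, 0, 4, 4, 1, 9])) (.node (.node (.leaf [10, 3, 8, 3, 11, 9]) (.leaf [2, 4, 0, 4, 2, 1, 2, 1])) (.leaf [13, 14, 0, 0, 15, 12])))) (.node (.node (.node (.node (.leaf [6, 10, 10, 7]) (.leaf [0, 2, 15, 2, 14, 2, 1])) (.node (.leaf [4, 9, 4, 6, 8, 7]) (.leaf [16, 17]))) (.node (.node (.leaf [6, 9, 0, 7, 8, 5]) (.leaf [0, 3, 14, 12, 15, 13, 2, 1])) (.leaf [3, 4, 15, 4, 14, 2]))) (.node (.node (.node (.leaf [6, 9, 4, 6, 5]) (.leaf [4, 12, 2, 4, 14, 12, 2])) (.leaf [2, 12,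 4, 12, 5, 3])) (.node (.node (.leaf [0, 8, 6, 0, 8, 6]) (.leaf [3, 12, 2, 4, 2, 13, 13, 3])) (.leaf [0, 6, 4, 0, 3, 7, 2]))))) (.node (.node (.node (.node (.node (.leaf [4, 4, 11, 11]) (.leaf [2, 4, 2, 0, 5, 8, 5])) (.node (.leaf [4, 0, 10, 10, 1, 5]) (.leaf [12, 0, 12, 4, 12, 5, 1, 13]))) (.node (.node (.leaf [4, 3, 4, 3, 5, 3]) (.leaf [13, 13, 2, 2, 2, 12, 12])) (.leaf [2, 0, 3, 12, 1, 13]))) (.node (.node (.node (.leaf [3, 4, 0, 5, 8]) (.leaf [4, 2, 12, 4, 3, 12, 12])) (.leaf [10, 0, 10, 10, 1, 11])) (.node (.node (.leaf [0, 3, 8, 2, 1, 3]) (.leaf [3, 0, 12, 0, 13, 1, 2, 1])) (.leaf [0, 3, 8, 6, 1, 6, 9])))) (.node (.node (.node (.node (.leaf [12, 14, 13, 15]) (.leaf [2, 4, 14, 14, 14, 5, 3])) (.leaf [6, 6, 10, 10, 7, 7])) (.node (.node (.leaf [8, 6, 2, 9, 3, 7]) (.leaf [0, 12, 15, 12, 14, 13, 13, 1])) (.leaf [12, 0, 4, 4, 1, 13]))) (.node (.node (.node (.leaf [0, 14, 14, 14, 1]) (.leaf [12, 2, 4, 14, 12, 2, 5])) (.leaf [4, 15, 2, 14, 3, 5])) (.node (.node (.leaf [2, 0, 10, 10, 1, 3]) (.leaf [4, 0, 4, 2, 1, 2, 1, 2])) (.leaf [0, 7, 2, 2, 2, 6, 1]))))))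 (.node (.node (.node (.node (.node (.node (.leaf [0, 0, 4, 4]) (.leaf [2, 0, 7, 0, 7, 8, 3])) (.node (.leaf [3, 6, 4, 4, 7, 2]) (.leaf [4, 13, 2, 0, 3, 12, 1, 5]))) (.node (.node (.leaf [3, 7, 8, 6, 8, 3]) (.leaf [13, 2, 14, 2, 15, 2, 12])) (.leaf [0, 4, 12, 4, 12, 1]))) (.node (.node (.node (.leaf [0, 9, 4, 6, 6]) (.leaf [3, 12, 12, 4, 2, 12, 5])) (.leaf [8, 7, 10, 10, 6, 9])) (.node (.node (.leaf [0, 2, 9, 0, 8, 3]) (.leaf [2, 12, 15, 12, 14, 13, 13, 3])) (.leaf [0, 2, 10, 4, 6, 11, 8])))) (.node (.node (.node (.node (.leaf [9, 10, 10, 8]) (.leaf [0, 13, 14, 14, 14, 12, 1])) (.leaf [6, 2, 10, 10, 3, 7])) (.node (.node (.leaf [7, 9, 0, 7, 9, 1]) (.leaf [0, 4, 15, 12, 14, 13, 5, 1])) (.leaf [4, 12, 14, 4, 15, 12]))) (.node (.node (.node (.leaf [8, 7, 4, 7, 5]) (.leaf [4, 13, 3, 4, 13, 13, 2])) (.leaf [3, 13, 4, 13, 5, 2])) (.node (.node (.leaf [0, 10, 4, 4, 11, 1]) (.leaf [3, 13, 3, 4, 14, 3, 12, 3])) (.leaf [0, 6, 8, 4, 9, 5, 7]))))) (.node (.node (.node (.node (.node (.leaf [2, 0, 0, 3]) (.leaf [2, 4, 8, 8, 8, 5, 3])) (.node (.leaf [4, 7, 0, 4, 2, 7])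 (.leaf [0, 1]))) (.node (.node (.leaf [6, 2, 0, 2, 6, 1]) (.leaf [0, 2, 13, 4, 13, 5, 3, 1])) (.leaf [2, 13, 14, 12, 15, 3]))) (.node (.node (.node (.leaf [4, 6, 6, 1, 9]) (.leaf [4, 3, 12, 2, 14, 13, 3])) (.leaf [0, 12, 4, 12, 5, 1])) (.node (.node (.leaf [0, 6, 8, 2, 1, 6]) (.leaf [3, 0, 15, 12, 14, 13, 1, 2])) (.leaf [0, 4, 7, 0, 3, 6, 2])))) (.node (.node (.node (.node (.leaf [14, 0, 0, 15]) (.leaf [2, 12, 14, 12, 2, 12, 12])) (.leaf [7, 2, 9, 4, 7, 8])) (.node (.node (.leaf [9, 6, 4, 8, 3, 6]) (.leaf [2, 0, 12, 4, 12, 5, 1, 3])) (.leaf [13, 0, 4, 4, 1, 12]))) (.node (.node (.node (.leaf [12, 14, 14, 14, 13]) (.leaf [12, 2, 14, 14, 14, 3, 13])) (.leaf [12, 15, 4, 14, 12, 5])) (.node (.node (.leaf [2, 7, 0, 0, 6, 3]) (.leaf [4, 0, 15, 12, 14, 13, 1, 5])) (.leaf [0, 8, 7, 0, 7, 9, 2]))))))))))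

noncomputable def parA0 : Arr ℕ :=
  (.node (.node (.node (.node (.node (.node (.node (.node (.node (.node (.node (.leaf 0) (.leaf 43936)) (.leaf 20579)) (.node (.node (.leaf 10124) (.leaf 89737)) (.leaf 31527))) (.node (.node (.node (.leaf 4846) (.leaf 48356)) (.leaf 26182)) (.node (.leaf 14788) (.leaf 37986)))) (.node (.node (.node (.node (.leaf 2374) (.leaf 46032)) (.leaf 23056)) (.node (.leaf 12270) (.leaf 34535))) (.node (.node (.node (.leaf 7370) (.leaf 53712)) (.leaf 28559)) (.node (.leaf 17634) (.leaf 41126))))) (.node (.node (.node (.node (.node (.leaf 1288) (.leaf 45000)) (.leaf 21764)) (.node (.leaf 11176) (.leaf 32972))) (.node (.node (.node (.leaf 6218) (.leaf 50637)) (.leaf 27432)) (.node (.leaf 16390) (.leaf 39427)))) (.node (.node (.node (.node (.leaf 3558) (.leaf 47111)) (.leaf 24643)) (.node (.leaf 13506) (.leaf 36045))) (.node (.node (.node (.leaf 8650) (.leaf 64237)) (.leaf 30188)) (.node (.leaf 19242) (.leaf 42636)))))) (.node (.node (.node (.node (.node (.node (.leaf 739) (.leaf 44516)) (.leaf 21126)) (.node (.node (.leaf 10697) (.leaf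 107369)) (.leaf 32192))) (.node (.node (.node (.leaf 5674) (.leaf 49516)) (.leaf 26864)) (.node (.leaf 15630) (.leaf 38762)))) (.node (.node (.node (.node (.leaf 2855) (.leaf 46566)) (.leaf 23810)) (.node (.leaf 12942) (.leaf 35342))) (.node (.node (.node (.leaf 8012) (.leaf 59022)) (.leaf 29287)) (.node (.leaf 18372) (.leaf 41968))))) (.node (.node (.node (.node (.node (.leaf 1799) (.leaf 45480)) (.leaf 22409)) (.node (.leaf 11712) (.leaf 33504))) (.node (.node (.node (.leaf 6864) (.leaf 51744)) (.leaf 27938)) (.node (.leaf 16966) (.leaf 40106)))) (.node (.node (.node (.node (.leaf 4266) (.leaf 47757)) (.leaf 25162)) (.node (.leaf 14153) (.leaf 37028))) (.node (.node (.node (.leaf 9351) (.leaf 75306)) (.leaf 30826)) (.node (.leaf 19783) (.leaf 43246))))))) (.node (.node (.node (.node (.node (.node (.node (.leaf 394) (.leaf 44236)) (.leaf 20930)) (.node (.node (.leaf 10350) (.leaf 96909)) (.leaf 31970))) (.node (.node (.node (.leaf 5226) (.leaf 48878)) (.leaf 26602)) (.node (.leaf 15270) (.leaf 38343)))) (.node (.node (.node (.node (.leaf 2605) (.leaf 46316))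 (.leaf 23436)) (.node (.leaf 12589) (.leaf 34767))) (.node (.node (.node (.leaf 7600) (.leaf 56496)) (.leaf 28877)) (.node (.leaf 18016) (.leaf 41482))))) (.node (.node (.node (.node (.node (.leaf 1575) (.leaf 45255)) (.leaf 22083)) (.node (.leaf 11437) (.leaf 33288))) (.node (.node (.node (.leaf 6566) (.leaf 51279)) (.leaf 27683)) (.node (.leaf 16682) (.leaf 39728)))) (.node (.node (.node (.node (.leaf 3850) (.leaf 47344)) (.leaf 24911)) (.node (.leaf 13856) (.leaf 36514))) (.node (.node (.node (.leaf 9036) (.leaf 67720)) (.leaf 30566)) (.node (.leaf 19440) (.leaf 42989)))))) (.node (.node (.node (.node (.node (.node (.leaf 998) (.leaf 44751)) (.leaf 21550)) (.node (.leaf 10925) (.leaf 32490))) (.node (.node (.node (.leaf 5932) (.leaf 49936)) (.leaf 27076)) (.node (.leaf 16042) (.leaf 38983)))) (.node (.node (.node (.node (.leaf 3362) (.leaf 46860)) (.leaf 24240)) (.node (.leaf 13318) (.leaf 35782))) (.node (.node (.node (.leaf 8239) (.leaf 61990)) (.leaf 29664)) (.node (.leaf 18724) (.leaf 42282))))) (.node (.node (.node (.node (.node (.leaf 2062) (.leaf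 45766)) (.leaf 22730)) (.node (.leaf 12013) (.leaf 34030))) (.node (.node (.node (.leaf 7055) (.leaf 52231)) (.leaf 28294)) (.node (.leaf 17258) (.leaf 40647)))) (.node (.node (.node (.node (.leaf 4480) (.leaf 48110)) (.leaf 25583)) (.node (.leaf 14479) (.leaf 37504))) (.node (.node (.node (.leaf 9677) (.leaf 81961)) (.leaf 31043)) (.node (.leaf 20207) (.leaf 43439)))))))) (.node (.node (.node (.node (.node (.node (.node (.node (.leaf 174) (.leaf 44103)) (.leaf 20751)) (.node (.node (.leaf 10224) (.leaf 92486)) (.leaf 31748))) (.node (.node (.node (.leaf 5040) (.leaf 48559)) (.leaf 26378)) (.node (.leaf 15014) (.leaf 38122)))) (.node (.node (.node (.node (.leaf 2503) (.leaf 46178)) (.leaf 23200)) (.node (.leaf 12428) (.leaf 34662))) (.node (.node (.node (.leaf 7488) (.leaf 55234)) (.leaf 28656)) (.node (.leaf 17840) (.leaf 41229))))) (.node (.node (.node (.node (.node (.leaf 1452) (.leaf 45136)) (.leaf 21859)) (.node (.leaf 11310) (.leaf 33159))) (.node (.node (.node (.leaf 6342) (.leaf 50950)) (.leaf 27562)) (.node (.leaf 16483) (.leaf 39625)))) (.node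 (.node (.node (.node (.leaf 3724) (.leaf 47238)) (.leaf 24784)) (.node (.leaf 13642) (.leaf 36170))) (.node (.node (.node (.leaf 8842) (.leaf 65896)) (.leaf 30339)) (.node (.leaf 19362) (.leaf 42850)))))) (.node (.node (.node (.node (.node (.node (.leaf 877) (.leaf 44611)) (.leaf 21378)) (.node (.node (.leaf 10797) (.leaf 128172)) (.leaf 32290))) (.node (.node (.node (.leaf 5830) (.leaf 49737)) (.leaf 26976)) (.node (.leaf 15784) (.leaf 38863)))) (.node (.node (.node (.node (.leaf 3056) (.leaf 46701)) (.leaf 24012)) (.node (.leaf 13123) (.leaf 35654))) (.node (.node (.node (.leaf 8128) (.leaf 60457)) (.leaf 29514)) (.node (.leaf 18474) (.leaf 42182))))) (.node (.node (.node (.node (.node (.leaf 1890) (.leaf 45634)) (.leaf 22508)) (.node (.leaf 11882) (.leaf 33795))) (.node (.node (.node (.leaf 6976) (.leaf 51882)) (.leaf 28143)) (.node (.leaf 17133) (.leaf 40418)))) (.node (.node (.node (.node (.leaf 4384) (.leaf 48002)) (.leaf 25389)) (.node (.leaf 14279) (.leaf 37264))) (.node (.node (.node (.leaf 9506) (.leaf 78599)) (.leaf 30919)) (.node (.leaf 20016)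 (.leaf 43343))))))) (.node (.node (.node (.node (.node (.node (.node (.leaf 556) (.leaf 44418)) (.leaf 21030)) (.node (.node (.leaf 10573) (.leaf 100617)) (.leaf 32074))) (.node (.node (.node (.leaf 5450) (.leaf 49192)) (.leaf 26759)) (.node (.leaf 15440) (.leaf 38592)))) (.node (.node (.node (.node (.leaf 2700) (.leaf 46440)) (.leaf 23594)) (.node (.leaf 12771) (.leaf 35107))) (.node (.node (.node (.leaf 7810) (.leaf 57802)) (.leaf 29058)) (.node (.leaf 18151) (.leaf 41770))))) (.node (.node (.node (.node (.node (.leaf 1700) (.leaf 45354)) (.leaf 22281)) (.node (.leaf 11587) (.leaf 33391))) (.node (.node (.node (.leaf 6768) (.leaf 51565)) (.leaf 27779)) (.node (.leaf 16815) (.leaf 39843)))) (.node (.node (.node (.node (.leaf 4038) (.leaf 47488)) (.leaf 25008)) (.node (.leaf 14023) (.leaf 36749))) (.node (.node (.node (.leaf 9188) (.leaf 70288)) (.leaf 30726)) (.node (.leaf 19560) (.leaf 43117)))))) (.node (.node (.node (.node (.node (.node (.leaf 1132) (.leaf 44878)) (.leaf 21670)) (.node (.leaf 11047) (.leaf 32711))) (.node (.node (.node (.leaf 6086) (.leaf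 50285)) (.leaf 27216)) (.node (.leaf 16295) (.leaf 39244)))) (.node (.node (.node (.node (.leaf 3458) (.leaf 46979)) (.leaf 24367)) (.node (.leaf 13417) (.leaf 35920))) (.node (.node (.node (.leaf 8450) (.leaf 63270)) (.leaf 29930)) (.node (.leaf 18986) (.leaf 42382))))) (.node (.node (.node (.node (.node (.leaf 2249) (.leaf 45901)) (.leaf 22832)) (.node (.leaf 12138) (.leaf 34310))) (.node (.node (.node (.leaf 7266) (.leaf 52910)) (.leaf 28426)) (.node (.leaf 17447) (.leaf 40912)))) (.node (.node (.node (.node (.leaf 4618) (.leaf 48237)) (.leaf 25898)) (.node (.leaf 14634) (.leaf 37706))) (.node (.node (.node (.leaf 9962) (.leaf 86698)) (.leaf 31298)) (.node (.leaf 20362) (.leaf 43683))))))))) (.node (.node (.node (.node (.node (.node (.node (.node (.node (.leaf 106) (.leaf 44010)) (.leaf 20688)) (.node (.node (.leaf 10183) (.leaf 91056)) (.leaf 31658))) (.node (.node (.node (.leaf 4960) (.leaf 48462)) (.leaf 26281)) (.node (.leaf 14855) (.leaf 38029)))) (.node (.node (.node (.node (.leaf 2442) (.leaf 46124)) (.leaf 23138)) (.node (.leaf 12336) (.leaf 34601)))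 (.node (.node (.node (.leaf 7433) (.leaf 54182)) (.leaf 28614)) (.node (.leaf 17734) (.leaf 41190))))) (.node (.node (.node (.node (.node (.leaf 1389) (.leaf 45092)) (.leaf 21806)) (.node (.leaf 11245) (.leaf 33094))) (.node (.node (.node (.leaf 6275) (.leaf 50760)) (.leaf 27496)) (.node (.leaf 16429) (.leaf 39535)))) (.node (.node (.node (.node (.leaf 3598) (.leaf 47178)) (.leaf 24687)) (.node (.leaf 13568) (.leaf 36108))) (.node (.node (.node (.leaf 8720) (.leaf 64816)) (.leaf 30240)) (.node (.leaf 19306) (.leaf 42729)))))) (.node (.node (.node (.node (.node (.node (.leaf 813) (.leaf 44556)) (.leaf 21219)) (.node (.node (.leaf 10752) (.leaf 117034)) (.leaf 32236))) (.node (.node (.node (.leaf 5767) (.leaf 49645)) (.leaf 26925)) (.node (.leaf 15712) (.leaf 38818)))) (.node (.node (.node (.node (.leaf 2947) (.leaf 46636)) (.leaf 23907)) (.node (.leaf 13066) (.leaf 35472))) (.node (.node (.node (.leaf 8072) (.leaf 60008)) (.leaf 29347)) (.node (.leaf 18412) (.leaf 42122))))) (.node (.node (.node (.node (.node (.leaf 1837) (.leaf 45542)) (.leaf 22464)) (.node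 (.leaf 11783) (.leaf 33634))) (.node (.node (.node (.leaf 6921) (.leaf 51822)) (.leaf 28070)) (.node (.leaf 17040) (.leaf 40266)))) (.node (.node (.node (.node (.leaf 4327) (.leaf 47888)) (.leaf 25320)) (.node (.leaf 14215) (.leaf 37164))) (.node (.node (.node (.leaf 9418) (.leaf 77801)) (.leaf 30880)) (.node (.leaf 19907) (.leaf 43303))))))) (.node (.node (.node (.node (.node (.node (.node (.leaf 486) (.leaf 44302)) (.leaf 20972)) (.node (.node (.leaf 10474) (.leaf 98752)) (.leaf 32016))) (.node (.node (.node (.leaf 5354) (.leaf 49068)) (.leaf 26659)) (.node (.leaf 15341) (.leaf 38467)))) (.node (.node (.node (.node (.leaf 2659) (.leaf 46368)) (.leaf 23501)) (.node (.leaf 12656) (.leaf 34922))) (.node (.node (.node (.leaf 7714) (.leaf 57070)) (.leaf 28935)) (.node (.leaf 18061) (.leaf 41607))))) (.node (.node (.node (.node (.node (.leaf 1641) (.leaf 45312)) (.leaf 22211)) (.node (.leaf 11501) (.leaf 33344))) (.node (.node (.node (.leaf 6637) (.leaf 51434)) (.leaf 27725)) (.node (.leaf 16771) (.leaf 39785)))) (.node (.node (.node (.node (.leaf 3949) (.leaf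 47405)) (.leaf 24970)) (.node (.leaf 13936) (.leaf 36675))) (.node (.node (.node (.leaf 9128) (.leaf 69005)) (.leaf 30605)) (.node (.leaf 19497) (.leaf 43050)))))) (.node (.node (.node (.node (.node (.node (.leaf 1062) (.leaf 44813)) (.leaf 21608)) (.node (.leaf 10988) (.leaf 32624))) (.node (.node (.node (.leaf 6000) (.leaf 50144)) (.leaf 27152)) (.node (.leaf 16231) (.leaf 39114)))) (.node (.node (.node (.node (.leaf 3399) (.leaf 46922)) (.leaf 24328)) (.node (.leaf 13359) (.leaf 35875))) (.node (.node (.node (.leaf 8323) (.leaf 62626)) (.leaf 29801)) (.node (.leaf 18864) (.leaf 42336))))) (.node (.node (.node (.node (.node (.leaf 2154) (.leaf 45827)) (.leaf 22784)) (.node (.leaf 12067) (.leaf 34192))) (.node (.node (.node (.leaf 7148) (.leaf 52583)) (.leaf 28361)) (.node (.leaf 17382) (.leaf 40743)))) (.node (.node (.node (.node (.leaf 4557) (.leaf 48168)) (.leaf 25776)) (.node (.leaf 14573) (.leaf 37584))) (.node (.node (.node (.leaf 9838) (.leaf 83271)) (.leaf 31178)) (.node (.leaf 20266) (.leaf 43503)))))))) (.node (.node (.node (.node (.node (.node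 (.node (.node (.leaf 271) (.leaf 44169)) (.leaf 20868)) (.node (.node (.leaf 10310) (.leaf 94024)) (.leaf 31875))) (.node (.node (.node (.leaf 5130) (.leaf 48746)) (.leaf 26480)) (.node (.leaf 15170) (.leaf 38282)))) (.node (.node (.node (.node (.leaf 2566) (.leaf 46224)) (.leaf 23338)) (.node (.leaf 12490) (.leaf 34720))) (.node (.node (.node (.leaf 7527) (.leaf 55910)) (.leaf 28751)) (.node (.leaf 17904) (.leaf 41350))))) (.node (.node (.node (.node (.node (.leaf 1511) (.leaf 45193)) (.leaf 21962)) (.node (.leaf 11370) (.leaf 33228))) (.node (.node (.node (.leaf 6416) (.leaf 51087)) (.leaf 27625)) (.node (.leaf 16525) (.leaf 39684)))) (.node (.node (.node (.node (.leaf 3790) (.leaf 47278)) (.leaf 24848)) (.node (.leaf 13744) (.leaf 36390))) (.node (.node (.node (.leaf 8963) (.leaf 66952)) (.leaf 30444)) (.node (.leaf 19404) (.leaf 42920)))))) (.node (.node (.node (.node (.node (.node (.leaf 942) (.leaf 44687)) (.leaf 21455)) (.node (.node (.leaf 10862) (.leaf 151437)) (.leaf 32361))) (.node (.node (.node (.leaf 5870) (.leaf 49808)) (.leaf 27018)) (.node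 (.leaf 15984) (.leaf 38920)))) (.node (.node (.node (.node (.leaf 3216) (.leaf 46768)) (.leaf 24162)) (.node (.leaf 13255) (.leaf 35719))) (.node (.node (.node (.leaf 8176) (.leaf 60814)) (.leaf 29582)) (.node (.leaf 18598) (.leaf 42221))))) (.node (.node (.node (.node (.node (.leaf 1959) (.leaf 45696)) (.leaf 22637)) (.node (.leaf 11940) (.leaf 33936))) (.node (.node (.node (.leaf 7015) (.leaf 51938)) (.leaf 28237)) (.node (.leaf 17186) (.leaf 40582)))) (.node (.node (.node (.node (.leaf 4428) (.leaf 48067)) (.leaf 25514)) (.node (.leaf 14400) (.leaf 37386))) (.node (.node (.node (.leaf 9576) (.leaf 80422)) (.leaf 30960)) (.node (.leaf 20140) (.leaf 43396))))))) (.node (.node (.node (.node (.node (.node (.node (.leaf 618) (.leaf 44457)) (.leaf 21070)) (.node (.node (.leaf 10634) (.leaf 104810)) (.leaf 32135))) (.node (.node (.node (.leaf 5551) (.leaf 49360)) (.leaf 26825)) (.node (.leaf 15529) (.leaf 38695)))) (.node (.node (.node (.node (.leaf 2797) (.leaf 46511)) (.leaf 23693)) (.node (.leaf 12813) (.leaf 35234))) (.node (.node (.node (.leaf 7850) (.leaf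 58692)) (.leaf 29191)) (.node (.leaf 18244) (.leaf 41891))))) (.node (.node (.node (.node (.node (.leaf 1741) (.leaf 45422)) (.leaf 22345)) (.node (.leaf 11629) (.leaf 33450))) (.node (.node (.node (.leaf 6823) (.leaf 51686)) (.leaf 27849)) (.node (.leaf 16898) (.leaf 39978)))) (.node (.node (.node (.node (.leaf 4196) (.leaf 47593)) (.leaf 25066)) (.node (.leaf 14092) (.leaf 36845))) (.node (.node (.node (.leaf 9255) (.leaf 72521)) (.leaf 30767)) (.node (.leaf 19658) (.leaf 43200)))))) (.node (.node (.node (.node (.node (.node (.leaf 1199) (.leaf 44934)) (.leaf 21711)) (.node (.leaf 11088) (.leaf 32838))) (.node (.node (.node (.leaf 6147) (.leaf 50503)) (.leaf 27372)) (.node (.leaf 16332) (.leaf 39338)))) (.node (.node (.node (.node (.leaf 3501) (.leaf 47048)) (.leaf 24492)) (.node (.leaf 13454) (.leaf 35980))) (.node (.node (.node (.leaf 8528) (.leaf 63821)) (.leaf 30093)) (.node (.leaf 19084) (.leaf 42560))))) (.node (.node (.node (.node (.node (.leaf 2304) (.leaf 45965)) (.leaf 22956)) (.node (.leaf 12205) (.leaf 34470))) (.node (.node (.node (.leaf 7311)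 (.leaf 53379)) (.leaf 28512)) (.node (.leaf 17575) (.leaf 41034)))) (.node (.node (.node (.node (.leaf 4713) (.leaf 48292)) (.leaf 26031)) (.node (.leaf 14700) (.leaf 37894))) (.node (.node (.node (.leaf 10064) (.leaf 88206)) (.leaf 31437)) (.node (.leaf 20463) (.leaf 43776)))))))))) (.node (.node (.node (.node (.node (.node (.node (.node (.node (.node (.leaf 42) (.leaf 43972)) (.leaf 20647)) (.node (.node (.leaf 10153) (.leaf 90288)) (.leaf 31600))) (.node (.node (.node (.leaf 4873) (.leaf 48398)) (.leaf 26223)) (.node (.leaf 14828) (.leaf 38000)))) (.node (.node (.node (.node (.leaf 2416) (.leaf 46094)) (.leaf 23108)) (.node (.leaf 12301) (.leaf 34567))) (.node (.node (.node (.leaf 7406) (.leaf 53986)) (.leaf 28586)) (.node (.leaf 17674) (.leaf 41154))))) (.node (.node (.node (.node (.node (.leaf 1328) (.leaf 45034)) (.leaf 21792)) (.node (.leaf 11208) (.leaf 33060))) (.node (.node (.node (.leaf 6247) (.leaf 50729)) (.leaf 27462)) (.node (.leaf 16416) (.leaf 39472)))) (.node (.node (.node (.node (.leaf 3584) (.leaf 47142)) (.leaf 24675)) (.node (.leaf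 13520) (.leaf 36079))) (.node (.node (.node (.leaf 8688) (.leaf 64524)) (.leaf 30215)) (.node (.leaf 19277) (.leaf 42701)))))) (.node (.node (.node (.node (.node (.node (.leaf 771) (.leaf 44528)) (.leaf 21154)) (.node (.node (.leaf 10724) (.leaf 112039)) (.leaf 32206))) (.node (.node (.node (.leaf 5734) (.leaf 49581)) (.leaf 26893)) (.node (.leaf 15662) (.leaf 38793)))) (.node (.node (.node (.node (.leaf 2890) (.leaf 46606)) (.leaf 23850)) (.node (.leaf 13005) (.leaf 35426))) (.node (.node (.node (.leaf 8039) (.leaf 59586)) (.leaf 29319)) (.node (.leaf 18400) (.leaf 42087))))) (.node (.node (.node (.node (.node (.leaf 1808) (.leaf 45513)) (.leaf 22436)) (.node (.leaf 11727) (.leaf 33546))) (.node (.node (.node (.leaf 6892) (.leaf 51784)) (.leaf 28007)) (.node (.leaf 17006) (.leaf 40195)))) (.node (.node (.node (.node (.leaf 4300) (.leaf 47818)) (.leaf 25226)) (.node (.leaf 14186) (.leaf 37098))) (.node (.node (.node (.leaf 9386) (.leaf 75914)) (.leaf 30856)) (.node (.leaf 19822) (.leaf 43273))))))) (.node (.node (.node (.node (.node (.node (.node (.leaf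 430) (.leaf 44288)) (.leaf 20943)) (.node (.node (.leaf 10416) (.leaf 97862)) (.leaf 32003))) (.node (.node (.node (.leaf 5295) (.leaf 49008)) (.leaf 26631)) (.node (.leaf 15309) (.leaf 38375)))) (.node (.node (.node (.node (.leaf 2631) (.leaf 46343)) (.leaf 23466)) (.node (.leaf 12640) (.leaf 34797))) (.node (.node (.node (.leaf 7630) (.leaf 56684)) (.leaf 28908)) (.node (.leaf 18048) (.leaf 41549))))) (.node (.node (.node (.node (.node (.leaf 1615) (.leaf 45283)) (.leaf 22151)) (.node (.leaf 11465) (.leaf 33312))) (.node (.node (.node (.leaf 6594) (.leaf 51392)) (.leaf 27695)) (.node (.leaf 16714) (.leaf 39757)))) (.node (.node (.node (.node (.leaf 3907) (.leaf 47374)) (.leaf 24941)) (.node (.leaf 13890) (.leaf 36528))) (.node (.node (.node (.leaf 9098) (.leaf 68170)) (.leaf 30576)) (.node (.leaf 19466) (.leaf 43022)))))) (.node (.node (.node (.node (.node (.node (.leaf 1024) (.leaf 44781)) (.leaf 21576)) (.node (.leaf 10957) (.leaf 32551))) (.node (.node (.node (.leaf 5960) (.leaf 50032)) (.leaf 27110)) (.node (.leaf 16170) (.leaf 39014)))) (.node (.node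 (.node (.node (.leaf 3372) (.leaf 46889)) (.leaf 24294)) (.node (.leaf 13328) (.leaf 35846))) (.node (.node (.node (.leaf 8268) (.leaf 62282)) (.leaf 29706)) (.node (.leaf 18762) (.leaf 42308))))) (.node (.node (.node (.node (.node (.leaf 2128) (.leaf 45795)) (.leaf 22756)) (.node (.leaf 12039) (.leaf 34144))) (.node (.node (.node (.leaf 7084) (.leaf 52394)) (.leaf 28328)) (.node (.leaf 17348) (.leaf 40682)))) (.node (.node (.node (.node (.leaf 4494) (.leaf 48137)) (.leaf 25646)) (.node (.leaf 14506) (.leaf 37542))) (.node (.node (.node (.leaf 9824) (.leaf 82958)) (.leaf 31088)) (.node (.leaf 20238) (.leaf 43469)))))))) (.node (.node (.node (.node (.node (.node (.node (.node (.leaf 240) (.leaf 44134)) (.leaf 20778)) (.node (.node (.leaf 10284) (.leaf 93128)) (.leaf 31786))) (.node (.node (.node (.leaf 5100) (.leaf 48650)) (.leaf 26412)) (.node (.leaf 15056) (.leaf 38186)))) (.node (.node (.node (.node (.leaf 2536) (.leaf 46191)) (.leaf 23244)) (.node (.leaf 12455) (.leaf 34691))) (.node (.node (.node (.leaf 7502) (.leaf 55593)) (.leaf 28687)) (.node (.leaf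 17871) (.leaf 41296))))) (.node (.node (.node (.node (.node (.leaf 1481) (.leaf 45165)) (.leaf 21920)) (.node (.leaf 11340) (.leaf 33191))) (.node (.node (.node (.leaf 6374) (.leaf 51024)) (.leaf 27592)) (.node (.leaf 16495) (.leaf 39657)))) (.node (.node (.node (.node (.leaf 3759) (.leaf 47264)) (.leaf 24836)) (.node (.leaf 13674) (.leaf 36295))) (.node (.node (.node (.leaf 8878) (.leaf 66569)) (.leaf 30382)) (.node (.leaf 19375) (.leaf 42889)))))) (.node (.node (.node (.node (.node (.node (.leaf 909) (.leaf 44623)) (.leaf 21423)) (.node (.node (.leaf 10830) (.leaf 138440)) (.leaf 32330))) (.node (.node (.node (.leaf 5856) (.leaf 49766)) (.leaf 26990)) (.node (.leaf 15842) (.leaf 38890)))) (.node (.node (.node (.node (.leaf 3112) (.leaf 46730)) (.leaf 24106)) (.node (.leaf 13160) (.leaf 35687))) (.node (.node (.node (.leaf 8160) (.leaf 60584)) (.leaf 29552)) (.node (.leaf 18535) (.leaf 42208))))) (.node (.node (.node (.node (.node (.leaf 1903) (.leaf 45667)) (.leaf 22575)) (.node (.leaf 11912) (.leaf 33862))) (.node (.node (.node (.leaf 6989) (.leaf 51908))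 (.leaf 28202)) (.node (.leaf 17158) (.leaf 40522)))) (.node (.node (.node (.node (.leaf 4397) (.leaf 48039)) (.leaf 25448)) (.node (.leaf 14310) (.leaf 37320))) (.node (.node (.node (.leaf 9520) (.leaf 79875)) (.leaf 30946)) (.node (.leaf 20072) (.leaf 43370))))))) (.node (.node (.node (.node (.node (.node (.node (.leaf 592) (.leaf 44428)) (.leaf 21056)) (.node (.node (.leaf 10602) (.leaf 101794)) (.leaf 32103))) (.node (.node (.node (.leaf 5481) (.leaf 49324)) (.leaf 26793)) (.node (.leaf 15498) (.leaf 38630)))) (.node (.node (.node (.node (.leaf 2735) (.leaf 46479)) (.leaf 23658)) (.node (.leaf 12784) (.leaf 35178))) (.node (.node (.node (.leaf 7824) (.leaf 58031)) (.leaf 29100)) (.node (.leaf 18191) (.leaf 41830))))) (.node (.node (.node (.node (.node (.leaf 1728) (.leaf 45385)) (.leaf 22311)) (.node (.leaf 11598) (.leaf 33418))) (.node (.node (.node (.leaf 6797) (.leaf 51622)) (.leaf 27821)) (.node (.leaf 16867) (.leaf 39855)))) (.node (.node (.node (.node (.leaf 4112) (.leaf 47562)) (.leaf 25036)) (.node (.leaf 14058) (.leaf 36807))) (.node (.node (.node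 (.leaf 9219) (.leaf 71562)) (.leaf 30752)) (.node (.leaf 19591) (.leaf 43145)))))) (.node (.node (.node (.node (.node (.node (.leaf 1159) (.leaf 44903)) (.leaf 21699)) (.node (.leaf 11075) (.leaf 32774))) (.node (.node (.node (.leaf 6096) (.leaf 50349)) (.leaf 27310)) (.node (.leaf 16304) (.leaf 39298)))) (.node (.node (.node (.node (.leaf 3472) (.leaf 47020)) (.leaf 24451)) (.node (.leaf 13442) (.leaf 35949))) (.node (.node (.node (.leaf 8514) (.leaf 63622)) (.leaf 30026)) (.node (.leaf 19052) (.leaf 42415))))) (.node (.node (.node (.node (.node (.leaf 2278) (.leaf 45935)) (.leaf 22915)) (.node (.leaf 12169) (.leaf 34352))) (.node (.node (.node (.leaf 7299) (.leaf 53135)) (.leaf 28462)) (.node (.leaf 17510) (.leaf 40964)))) (.node (.node (.node (.node (.leaf 4682) (.leaf 48263)) (.leaf 25997)) (.node (.leaf 14666) (.leaf 37807))) (.node (.node (.node (.leaf 10051) (.leaf 87306)) (.leaf 31340)) (.node (.leaf 20430) (.leaf 43724))))))))) (.node (.node (.node (.node (.node (.node (.node (.node (.node (.leaf 144) (.leaf 44041)) (.leaf 20736)) (.node (.node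 (.leaf 10211) (.leaf 91854)) (.leaf 31696))) (.node (.node (.node (.leaf 5004) (.leaf 48518)) (.leaf 26313)) (.node (.leaf 14896) (.leaf 38096)))) (.node (.node (.node (.node (.leaf 2474) (.leaf 46152)) (.leaf 23171)) (.node (.leaf 12416) (.leaf 34628))) (.node (.node (.node (.leaf 7460) (.leaf 54851)) (.leaf 28644)) (.node (.leaf 17770) (.leaf 41200))))) (.node (.node (.node (.node (.node (.leaf 1424) (.leaf 45120)) (.leaf 21831)) (.node (.leaf 11298) (.leaf 33127))) (.node (.node (.node (.leaf 6304) (.leaf 50912)) (.leaf 27530)) (.node (.leaf 16455) (.leaf 39591)))) (.node (.node (.node (.node (.leaf 3664) (.leaf 47207)) (.leaf 24714)) (.node (.leaf 13602) (.leaf 36132))) (.node (.node (.node (.leaf 8806) (.leaf 65283)) (.leaf 30254)) (.node (.leaf 19337) (.leaf 42768)))))) (.node (.node (.node (.node (.node (.node (.leaf 845) (.leaf 44583)) (.leaf 21280)) (.node (.node (.leaf 10766) (.leaf 124646)) (.leaf 32262))) (.node (.node (.node (.leaf 5801) (.leaf 49711)) (.leaf 26952)) (.node (.leaf 15726) (.leaf 38851)))) (.node (.node (.node (.node (.leaf 3011)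 (.leaf 46663)) (.leaf 23946)) (.node (.leaf 13094) (.leaf 35562))) (.node (.node (.node (.leaf 8096) (.leaf 60238)) (.leaf 29392)) (.node (.leaf 18439) (.leaf 42154))))) (.node (.node (.node (.node (.node (.leaf 1863) (.leaf 45580)) (.leaf 22478)) (.node (.leaf 11852) (.leaf 33698))) (.node (.node (.node (.leaf 6950) (.leaf 51853)) (.leaf 28109)) (.node (.leaf 17094) (.leaf 40303)))) (.node (.node (.node (.node (.leaf 4358) (.leaf 47914)) (.leaf 25352)) (.node (.leaf 14243) (.leaf 37220))) (.node (.node (.node (.leaf 9453) (.leaf 78244)) (.leaf 30893)) (.node (.leaf 19952) (.leaf 43331))))))) (.node (.node (.node (.node (.node (.node (.node (.leaf 524) (.leaf 44361)) (.leaf 21001)) (.node (.node (.leaf 10538) (.leaf 99302)) (.leaf 32042))) (.node (.node (.node (.leaf 5384) (.leaf 49154)) (.leaf 26704)) (.node (.leaf 15396) (.leaf 38538)))) (.node (.node (.node (.node (.leaf 2671) (.leaf 46408)) (.leaf 23529)) (.node (.leaf 12740) (.leaf 35024))) (.node (.node (.node (.leaf 7756) (.leaf 57261)) (.leaf 28967)) (.node (.leaf 18090) (.leaf 41696))))) (.node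 (.node (.node (.node (.node (.leaf 1673) (.leaf 45324)) (.leaf 22246)) (.node (.leaf 11535) (.leaf 33357))) (.node (.node (.node (.leaf 6704) (.leaf 51522)) (.leaf 27751)) (.node (.leaf 16802) (.leaf 39815)))) (.node (.node (.node (.node (.leaf 4004) (.leaf 47433)) (.leaf 24995)) (.node (.leaf 13996) (.leaf 36717))) (.node (.node (.node (.leaf 9158) (.leaf 69424)) (.leaf 30688)) (.node (.leaf 19527) (.leaf 43088)))))) (.node (.node (.node (.node (.node (.node (.leaf 1091) (.leaf 44845)) (.leaf 21638)) (.node (.leaf 11022) (.leaf 32679))) (.node (.node (.node (.leaf 6050) (.leaf 50188)) (.leaf 27178)) (.node (.leaf 16263) (.leaf 39210)))) (.node (.node (.node (.node (.leaf 3430) (.leaf 46954)) (.leaf 24354)) (.node (.leaf 13389) (.leaf 35910))) (.node (.node (.node (.leaf 8355) (.leaf 63080)) (.leaf 29894)) (.node (.leaf 18890) (.leaf 42351))))) (.node (.node (.node (.node (.node (.leaf 2222) (.leaf 45839)) (.leaf 22796)) (.node (.leaf 12079) (.leaf 34252))) (.node (.node (.node (.leaf 7183) (.leaf 52742)) (.leaf 28394)) (.node (.leaf 17411) (.leaf 40810))))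 (.node (.node (.node (.node (.leaf 4586) (.leaf 48201)) (.leaf 25872)) (.node (.leaf 14599) (.leaf 37667))) (.node (.node (.node (.leaf 9865) (.leaf 84751)) (.leaf 31210)) (.node (.leaf 20330) (.leaf 43594)))))))) (.node (.node (.node (.node (.node (.node (.node (.node (.leaf 327) (.leaf 44201)) (.leaf 20896)) (.node (.node (.leaf 10336) (.leaf 95395)) (.leaf 31940))) (.node (.node (.node (.leaf 5200) (.leaf 48816)) (.leaf 26534)) (.node (.leaf 15206) (.leaf 38317)))) (.node (.node (.node (.node (.leaf 2592) (.leaf 46276)) (.leaf 23402)) (.node (.leaf 12547) (.leaf 34735))) (.node (.node (.node (.leaf 7586) (.leaf 56144)) (.leaf 28842)) (.node (.leaf 17967) (.leaf 41382))))) (.node (.node (.node (.node (.node (.leaf 1544) (.leaf 45220)) (.leaf 22019)) (.node (.leaf 11406) (.leaf 33254))) (.node (.node (.node (.leaf 6538) (.leaf 51174)) (.leaf 27657)) (.node (.leaf 16646) (.leaf 39716)))) (.node (.node (.node (.node (.leaf 3817) (.leaf 47328)) (.leaf 24879)) (.node (.leaf 13802) (.leaf 36460))) (.node (.node (.node (.leaf 8999) (.leaf 67552)) (.leaf 30532))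 (.node (.leaf 19431) (.leaf 42956)))))) (.node (.node (.node (.node (.node (.node (.leaf 969) (.leaf 44719)) (.leaf 21511)) (.node (.leaf 10895) (.leaf 32458))) (.node (.node (.node (.leaf 5902) (.leaf 49898)) (.leaf 27043)) (.node (.leaf 16015) (.leaf 38950)))) (.node (.node (.node (.node (.leaf 3328) (.leaf 46820)) (.leaf 24205)) (.node (.leaf 13289) (.leaf 35751))) (.node (.node (.node (.leaf 8224) (.leaf 61358)) (.leaf 29616)) (.node (.leaf 18695) (.leaf 42253))))) (.node (.node (.node (.node (.node (.leaf 2018) (.leaf 45736)) (.leaf 22692)) (.node (.leaf 11978) (.leaf 33996))) (.node (.node (.node (.leaf 7043) (.leaf 52009)) (.leaf 28264)) (.node (.leaf 17200) (.leaf 40620)))) (.node (.node (.node (.node (.leaf 4454) (.leaf 48100)) (.leaf 25570)) (.node (.leaf 14442) (.leaf 37422))) (.node (.node (.node (.leaf 9634) (.leaf 81197)) (.leaf 31014)) (.node (.leaf 20176) (.leaf 43427))))))) (.node (.node (.node (.node (.node (.node (.node (.leaf 686) (.leaf 44488)) (.leaf 21100)) (.node (.node (.leaf 10670) (.leaf 106370)) (.leaf 32163))) (.node (.node (.node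 (.leaf 5584) (.leaf 49389)) (.leaf 26852)) (.node (.leaf 15594) (.leaf 38730)))) (.node (.node (.node (.node (.leaf 2826) (.leaf 46538)) (.leaf 23752)) (.node (.leaf 12902) (.leaf 35312))) (.node (.node (.node (.leaf 7952) (.leaf 58786)) (.leaf 29250)) (.node (.leaf 18282) (.leaf 41923))))) (.node (.node (.node (.node (.node (.leaf 1770) (.leaf 45450)) (.leaf 22382)) (.node (.leaf 11662) (.leaf 33478))) (.node (.node (.node (.leaf 6855) (.leaf 51712)) (.leaf 27904)) (.node (.leaf 16912) (.leaf 40048)))) (.node (.node (.node (.node (.leaf 4240) (.leaf 47664)) (.leaf 25136)) (.node (.leaf 14124) (.leaf 36871))) (.node (.node (.node (.leaf 9314) (.leaf 73517)) (.leaf 30798)) (.node (.leaf 19746) (.leaf 43236)))))) (.node (.node (.node (.node (.node (.node (.leaf 1254) (.leaf 44967)) (.leaf 21738)) (.node (.leaf 11142) (.leaf 32906))) (.node (.node (.node (.leaf 6159) (.leaf 50570)) (.leaf 27406)) (.node (.leaf 16361) (.leaf 39395)))) (.node (.node (.node (.node (.leaf 3532) (.leaf 47078)) (.leaf 24557)) (.node (.leaf 13480) (.leaf 36015))) (.node (.node (.node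 (.leaf 8624) (.leaf 63904)) (.leaf 30150)) (.node (.leaf 19116) (.leaf 42576))))) (.node (.node (.node (.node (.node (.leaf 2343) (.leaf 45994)) (.leaf 22992)) (.node (.leaf 12236) (.leaf 34499))) (.node (.node (.node (.leaf 7340) (.leaf 53511)) (.leaf 28525)) (.node (.leaf 17608) (.leaf 41094)))) (.node (.node (.node (.node (.leaf 4813) (.leaf 48304)) (.leaf 26122)) (.node (.leaf 14736) (.leaf 37954))) (.node (.node (.node (.leaf 10090) (.leaf 89158)) (.leaf 31492)) (.node (.leaf 20518) (.leaf 43854)))))))))))

noncomputable def parA1 : Arr ℕ :=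
  (.node (.node (.node (.node (.node (.node (.node (.node (.node (.node (.node (.leaf 2) (.leaf 43938)) (.leaf 20583)) (.node (.node (.leaf 10125) (.leaf 89836)) (.leaf 31535))) (.node (.node (.node (.leaf 4847) (.leaf 48358)) (.leaf 26183)) (.node (.leaf 14794) (.leaf 37990)))) (.node (.node (.node (.node (.leaf 2375) (.leaf 46082)) (.leaf 23076)) (.node (.leaf 12272) (.leaf 34540))) (.node (.node (.node (.leaf 7372) (.leaf 53773)) (.leaf 28560)) (.node (.leaf 17635) (.leaf 41128))))) (.node (.node (.node (.node (.node (.leaf 1289) (.leaf 45001)) (.leaf 21766)) (.node (.leaf 11177) (.leaf 33002))) (.node (.node (.node (.leaf 6222) (.leaf 50640)) (.leaf 27433)) (.node (.leaf 16392) (.leaf 39430)))) (.node (.node (.node (.node (.leaf 3559) (.leaf 47112)) (.leaf 24644)) (.node (.leaf 13507) (.leaf 36066))) (.node (.node (.node (.leaf 8674) (.leaf 64240)) (.leaf 30189)) (.node (.leaf 19267) (.leaf 42637)))))) (.node (.node (.node (.node (.node (.node (.leaf 743) (.leaf 44518)) (.leaf 21127)) (.node (.node (.leaf 10698) (.leaf 107502)) (.leaf 32194))) (.node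 (.node (.node (.leaf 5696) (.leaf 49520)) (.leaf 26880)) (.node (.leaf 15631) (.leaf 38764)))) (.node (.node (.node (.node (.leaf 2856) (.leaf 46570)) (.leaf 23811)) (.node (.leaf 12944) (.leaf 35343))) (.node (.node (.node (.leaf 8013) (.leaf 59047)) (.leaf 29288)) (.node (.leaf 18374) (.leaf 42016))))) (.node (.node (.node (.node (.node (.leaf 1800) (.leaf 45481)) (.leaf 22410)) (.node (.leaf 11714) (.leaf 33506))) (.node (.node (.node (.leaf 6880) (.leaf 51748)) (.leaf 27948)) (.node (.leaf 16970) (.leaf 40112)))) (.node (.node (.node (.node (.leaf 4290) (.leaf 47758)) (.leaf 25190)) (.node (.leaf 14154) (.leaf 37030))) (.node (.node (.node (.leaf 9354) (.leaf 75752)) (.leaf 30828)) (.node (.leaf 19786) (.leaf 43247))))))) (.node (.node (.node (.node (.node (.node (.node (.leaf 396) (.leaf 44237)) (.leaf 20931)) (.node (.node (.leaf 10351) (.leaf 97101)) (.leaf 31971))) (.node (.node (.node (.leaf 5260) (.leaf 48879)) (.leaf 26605)) (.node (.leaf 15271) (.leaf 38344)))) (.node (.node (.node (.node (.leaf 2606) (.leaf 46318)) (.leaf 23437)) (.node (.leaf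 12590) (.leaf 34768))) (.node (.node (.node (.leaf 7619) (.leaf 56522)) (.leaf 28879)) (.node (.leaf 18018) (.leaf 41488))))) (.node (.node (.node (.node (.node (.leaf 1576) (.leaf 45258)) (.leaf 22090)) (.node (.leaf 11438) (.leaf 33289))) (.node (.node (.node (.leaf 6567) (.leaf 51280)) (.leaf 27687)) (.node (.leaf 16685) (.leaf 39746)))) (.node (.node (.node (.node (.leaf 3856) (.leaf 47360)) (.leaf 24928)) (.node (.leaf 13859) (.leaf 36515))) (.node (.node (.node (.leaf 9040) (.leaf 67757)) (.leaf 30567)) (.node (.leaf 19456) (.leaf 42990)))))) (.node (.node (.node (.node (.node (.node (.leaf 1000) (.leaf 44752)) (.leaf 21551)) (.node (.leaf 10926) (.leaf 32519))) (.node (.node (.node (.leaf 5934) (.leaf 49988)) (.leaf 27078)) (.node (.leaf 16074) (.leaf 38984)))) (.node (.node (.node (.node (.leaf 3363) (.leaf 46861)) (.leaf 24260)) (.node (.leaf 13319) (.leaf 35783))) (.node (.node (.node (.leaf 8240) (.leaf 61991)) (.leaf 29666)) (.node (.leaf 18726) (.leaf 42284))))) (.node (.node (.node (.node (.node (.leaf 2063) (.leaf 45767)) (.leaf 22732)) (.node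 (.leaf 12014) (.leaf 34054))) (.node (.node (.node (.leaf 7056) (.leaf 52232)) (.leaf 28296)) (.node (.leaf 17264) (.leaf 40648)))) (.node (.node (.node (.node (.leaf 4482) (.leaf 48111)) (.leaf 25606)) (.node (.leaf 14480) (.leaf 37506))) (.node (.node (.node (.leaf 9680) (.leaf 82320)) (.leaf 31046)) (.node (.leaf 20224) (.leaf 43440)))))))) (.node (.node (.node (.node (.node (.node (.node (.node (.leaf 175) (.leaf 44104)) (.leaf 20768)) (.node (.node (.leaf 10248) (.leaf 92551)) (.leaf 31750))) (.node (.node (.node (.leaf 5069) (.leaf 48590)) (.leaf 26383)) (.node (.leaf 15015) (.leaf 38150)))) (.node (.node (.node (.node (.leaf 2504) (.leaf 46179)) (.leaf 23202)) (.node (.leaf 12430) (.leaf 34663))) (.node (.node (.node (.leaf 7491) (.leaf 55239)) (.leaf 28672)) (.node (.leaf 17856) (.leaf 41230))))) (.node (.node (.node (.node (.node (.leaf 1454) (.leaf 45154)) (.leaf 21862)) (.node (.leaf 11311) (.leaf 33164))) (.node (.node (.node (.leaf 6343) (.leaf 50954)) (.leaf 27564)) (.node (.leaf 16484) (.leaf 39626)))) (.node (.node (.node (.node (.leaf 3725)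 (.leaf 47241)) (.leaf 24800)) (.node (.leaf 13644) (.leaf 36174))) (.node (.node (.node (.leaf 8844) (.leaf 65897)) (.leaf 30344)) (.node (.leaf 19367) (.leaf 42851)))))) (.node (.node (.node (.node (.node (.node (.leaf 878) (.leaf 44612)) (.leaf 21379)) (.node (.node (.leaf 10820) (.leaf 129711)) (.leaf 32291))) (.node (.node (.node (.leaf 5832) (.leaf 49738)) (.leaf 26978)) (.node (.leaf 15785) (.leaf 38864)))) (.node (.node (.node (.node (.leaf 3082) (.leaf 46702)) (.leaf 24013)) (.node (.leaf 13128) (.leaf 35655))) (.node (.node (.node (.leaf 8132) (.leaf 60512)) (.leaf 29517)) (.node (.leaf 18480) (.leaf 42183))))) (.node (.node (.node (.node (.node (.leaf 1891) (.leaf 45638)) (.leaf 22509)) (.node (.leaf 11884) (.leaf 33798))) (.node (.node (.node (.leaf 6978) (.leaf 51884)) (.leaf 28144)) (.node (.leaf 17134) (.leaf 40460)))) (.node (.node (.node (.node (.leaf 4386) (.leaf 48003)) (.leaf 25391)) (.node (.leaf 14282) (.leaf 37290))) (.node (.node (.node (.leaf 9508) (.leaf 78631)) (.leaf 30921)) (.node (.leaf 20042) (.leaf 43344))))))) (.node (.node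 (.node (.node (.node (.node (.node (.leaf 560) (.leaf 44419)) (.leaf 21032)) (.node (.node (.leaf 10574) (.leaf 100624)) (.leaf 32076))) (.node (.node (.node (.leaf 5456) (.leaf 49257)) (.leaf 26765)) (.node (.leaf 15462) (.leaf 38594)))) (.node (.node (.node (.node (.leaf 2701) (.leaf 46441)) (.leaf 23598)) (.node (.leaf 12774) (.leaf 35110))) (.node (.node (.node (.leaf 7811) (.leaf 57888)) (.leaf 29059)) (.node (.leaf 18154) (.leaf 41773))))) (.node (.node (.node (.node (.node (.leaf 1702) (.leaf 45357)) (.leaf 22282)) (.node (.leaf 11588) (.leaf 33392))) (.node (.node (.node (.leaf 6784) (.leaf 51566)) (.leaf 27780)) (.node (.leaf 16816) (.leaf 39844)))) (.node (.node (.node (.node (.leaf 4039) (.leaf 47490)) (.leaf 25024)) (.node (.leaf 14024) (.leaf 36750))) (.node (.node (.node (.leaf 9190) (.leaf 71024)) (.leaf 30728)) (.node (.leaf 19561) (.leaf 43118)))))) (.node (.node (.node (.node (.node (.node (.leaf 1134) (.leaf 44879)) (.leaf 21671)) (.node (.leaf 11052) (.leaf 32716))) (.node (.node (.node (.leaf 6087) (.leaf 50288)) (.leaf 27242)) (.node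 (.leaf 16296) (.leaf 39246)))) (.node (.node (.node (.node (.leaf 3459) (.leaf 47010)) (.leaf 24368)) (.node (.leaf 13418) (.leaf 35936))) (.node (.node (.node (.leaf 8451) (.leaf 63271)) (.leaf 29934)) (.node (.leaf 18992) (.leaf 42383))))) (.node (.node (.node (.node (.node (.leaf 2250) (.leaf 45920)) (.leaf 22886)) (.node (.leaf 12144) (.leaf 34311))) (.node (.node (.node (.leaf 7267) (.leaf 52912)) (.leaf 28450)) (.node (.leaf 17450) (.leaf 40928)))) (.node (.node (.node (.node (.leaf 4621) (.leaf 48238)) (.leaf 25927)) (.node (.leaf 14636) (.leaf 37712))) (.node (.node (.node (.leaf 9965) (.leaf 86701)) (.leaf 31299)) (.node (.leaf 20390) (.leaf 43686))))))))) (.node (.node (.node (.node (.node (.node (.node (.node (.node (.leaf 108) (.leaf 44016)) (.leaf 20704)) (.node (.node (.leaf 10184) (.leaf 91340)) (.leaf 31664))) (.node (.node (.node (.leaf 4962) (.leaf 48464)) (.leaf 26282)) (.node (.leaf 14860) (.leaf 38030)))) (.node (.node (.node (.node (.leaf 2466) (.leaf 46125)) (.leaf 23142)) (.node (.leaf 12386) (.leaf 34602))) (.node (.node (.node (.leaf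 7434) (.leaf 54349)) (.leaf 28618)) (.node (.leaf 17735) (.leaf 41192))))) (.node (.node (.node (.node (.node (.leaf 1390) (.leaf 45094)) (.leaf 21807)) (.node (.leaf 11246) (.leaf 33095))) (.node (.node (.node (.leaf 6278) (.leaf 50761)) (.leaf 27498)) (.node (.leaf 16430) (.leaf 39536)))) (.node (.node (.node (.node (.leaf 3599) (.leaf 47180)) (.leaf 24688)) (.node (.leaf 13574) (.leaf 36109))) (.node (.node (.node (.leaf 8746) (.leaf 64864)) (.leaf 30242)) (.node (.leaf 19308) (.leaf 42730)))))) (.node (.node (.node (.node (.node (.node (.leaf 814) (.leaf 44557)) (.leaf 21222)) (.node (.node (.leaf 10755) (.leaf 120556)) (.leaf 32237))) (.node (.node (.node (.leaf 5770) (.leaf 49648)) (.leaf 26926)) (.node (.leaf 15714) (.leaf 38823)))) (.node (.node (.node (.node (.leaf 2950) (.leaf 46637)) (.leaf 23913)) (.node (.leaf 13068) (.leaf 35494))) (.node (.node (.node (.leaf 8073) (.leaf 60016)) (.leaf 29350)) (.node (.leaf 18414) (.leaf 42146))))) (.node (.node (.node (.node (.node (.leaf 1838) (.leaf 45543)) (.leaf 22467)) (.node (.leaf 11784) (.leaf 33635)))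 (.node (.node (.node (.leaf 6922) (.leaf 51823)) (.leaf 28071)) (.node (.leaf 17058) (.leaf 40268)))) (.node (.node (.node (.node (.leaf 4328) (.leaf 47904)) (.leaf 25321)) (.node (.leaf 14218) (.leaf 37165))) (.node (.node (.node (.leaf 9420) (.leaf 77840)) (.leaf 30882)) (.node (.leaf 19910) (.leaf 43304))))))) (.node (.node (.node (.node (.node (.node (.node (.leaf 487) (.leaf 44303)) (.leaf 20973)) (.node (.node (.leaf 10506) (.leaf 98759)) (.leaf 32032))) (.node (.node (.node (.leaf 5356) (.leaf 49069)) (.leaf 26662)) (.node (.leaf 15344) (.leaf 38470)))) (.node (.node (.node (.node (.leaf 2660) (.leaf 46375)) (.leaf 23504)) (.node (.leaf 12704) (.leaf 34928))) (.node (.node (.node (.leaf 7715) (.leaf 57071)) (.leaf 28936)) (.node (.leaf 18062) (.leaf 41612))))) (.node (.node (.node (.node (.node (.leaf 1642) (.leaf 45314)) (.leaf 22215)) (.node (.leaf 11524) (.leaf 33348))) (.node (.node (.node (.leaf 6640) (.leaf 51440)) (.leaf 27726)) (.node (.leaf 16774) (.leaf 39788)))) (.node (.node (.node (.node (.leaf 3952) (.leaf 47406)) (.leaf 24972)) (.node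 (.leaf 13962) (.leaf 36680))) (.node (.node (.node (.leaf 9130) (.leaf 69094)) (.leaf 30606)) (.node (.leaf 19498) (.leaf 43052)))))) (.node (.node (.node (.node (.node (.node (.leaf 1063) (.leaf 44814)) (.leaf 21609)) (.node (.leaf 10989) (.leaf 32640))) (.node (.node (.node (.leaf 6016) (.leaf 50146)) (.leaf 27168)) (.node (.leaf 16236) (.leaf 39117)))) (.node (.node (.node (.node (.leaf 3400) (.leaf 46924)) (.leaf 24329)) (.node (.leaf 13376) (.leaf 35878))) (.node (.node (.node (.leaf 8327) (.leaf 62630)) (.leaf 29802)) (.node (.leaf 18880) (.leaf 42339))))) (.node (.node (.node (.node (.node (.leaf 2188) (.leaf 45828)) (.leaf 22786)) (.node (.leaf 12070) (.leaf 34211))) (.node (.node (.node (.leaf 7149) (.leaf 52585)) (.leaf 28362)) (.node (.leaf 17384) (.leaf 40746)))) (.node (.node (.node (.node (.leaf 4558) (.leaf 48169)) (.leaf 25799)) (.node (.leaf 14574) (.leaf 37610))) (.node (.node (.node (.leaf 9839) (.leaf 83398)) (.leaf 31184)) (.node (.leaf 20270) (.leaf 43504)))))))) (.node (.node (.node (.node (.node (.node (.node (.node (.leaf 272) (.leaf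 44172)) (.leaf 20870)) (.node (.node (.leaf 10311) (.leaf 94352)) (.leaf 31878))) (.node (.node (.node (.leaf 5133) (.leaf 48772)) (.leaf 26502)) (.node (.leaf 15171) (.leaf 38284)))) (.node (.node (.node (.node (.leaf 2568) (.leaf 46243)) (.leaf 23344)) (.node (.leaf 12496) (.leaf 34722))) (.node (.node (.node (.leaf 7532) (.leaf 56074)) (.leaf 28752)) (.node (.leaf 17923) (.leaf 41351))))) (.node (.node (.node (.node (.node (.leaf 1512) (.leaf 45194)) (.leaf 21964)) (.node (.leaf 11372) (.leaf 33229))) (.node (.node (.node (.leaf 6440) (.leaf 51088)) (.leaf 27626)) (.node (.leaf 16526) (.leaf 39686)))) (.node (.node (.node (.node (.leaf 3791) (.leaf 47279)) (.leaf 24864)) (.node (.leaf 13760) (.leaf 36391))) (.node (.node (.node (.leaf 8966) (.leaf 66954)) (.leaf 30445)) (.node (.leaf 19405) (.leaf 42924)))))) (.node (.node (.node (.node (.node (.node (.leaf 943) (.leaf 44708)) (.leaf 21456)) (.node (.node (.leaf 10863) (.leaf 152838)) (.leaf 32362))) (.node (.node (.node (.leaf 5871) (.leaf 49840)) (.leaf 27020)) (.node (.leaf 16000) (.leaf 38921))))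 (.node (.node (.node (.node (.leaf 3244) (.leaf 46784)) (.leaf 24163)) (.node (.leaf 13256) (.leaf 35720))) (.node (.node (.node (.leaf 8194) (.leaf 60816)) (.leaf 29583)) (.node (.leaf 18602) (.leaf 42242))))) (.node (.node (.node (.node (.node (.leaf 1962) (.leaf 45698)) (.leaf 22638)) (.node (.leaf 11942) (.leaf 33960))) (.node (.node (.node (.leaf 7018) (.leaf 51940)) (.leaf 28239)) (.node (.leaf 17187) (.leaf 40583)))) (.node (.node (.node (.node (.leaf 4429) (.leaf 48070)) (.leaf 25516)) (.node (.leaf 14402) (.leaf 37389))) (.node (.node (.node (.leaf 9577) (.leaf 80448)) (.leaf 30976)) (.node (.leaf 20144) (.leaf 43398))))))) (.node (.node (.node (.node (.node (.node (.node (.leaf 650) (.leaf 44460)) (.leaf 21071)) (.node (.node (.leaf 10636) (.leaf 105152)) (.leaf 32136))) (.node (.node (.node (.leaf 5552) (.leaf 49376)) (.leaf 26826)) (.node (.leaf 15530) (.leaf 38697)))) (.node (.node (.node (.node (.leaf 2798) (.leaf 46512)) (.leaf 23694)) (.node (.leaf 12815) (.leaf 35242))) (.node (.node (.node (.leaf 7882) (.leaf 58702)) (.leaf 29194)) (.node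 (.leaf 18246) (.leaf 41892))))) (.node (.node (.node (.node (.node (.leaf 1744) (.leaf 45423)) (.leaf 22348)) (.node (.leaf 11630) (.leaf 33452))) (.node (.node (.node (.leaf 6824) (.leaf 51687)) (.leaf 27850)) (.node (.leaf 16899) (.leaf 39980)))) (.node (.node (.node (.node (.leaf 4198) (.leaf 47594)) (.leaf 25069)) (.node (.leaf 14093) (.leaf 36846))) (.node (.node (.node (.leaf 9258) (.leaf 72684)) (.leaf 30768)) (.node (.leaf 19662) (.leaf 43202)))))) (.node (.node (.node (.node (.node (.node (.leaf 1200) (.leaf 44935)) (.leaf 21712)) (.node (.leaf 11110) (.leaf 32839))) (.node (.node (.node (.leaf 6148) (.leaf 50504)) (.leaf 27373)) (.node (.leaf 16333) (.leaf 39341)))) (.node (.node (.node (.node (.leaf 3502) (.leaf 47049)) (.leaf 24493)) (.node (.leaf 13455) (.leaf 35981))) (.node (.node (.node (.leaf 8550) (.leaf 63822)) (.leaf 30096)) (.node (.leaf 19085) (.leaf 42562))))) (.node (.node (.node (.node (.node (.leaf 2311) (.leaf 45966)) (.leaf 22957)) (.node (.leaf 12207) (.leaf 34476))) (.node (.node (.node (.leaf 7312) (.leaf 53389)) (.leaf 28516))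 (.node (.leaf 17578) (.leaf 41056)))) (.node (.node (.node (.node (.leaf 4714) (.leaf 48294)) (.leaf 26055)) (.node (.leaf 14701) (.leaf 37898))) (.node (.node (.node (.leaf 10080) (.leaf 88464)) (.leaf 31438)) (.node (.leaf 20482) (.leaf 43778)))))))))) (.node (.node (.node (.node (.node (.node (.node (.node (.node (.node (.leaf 45) (.leaf 43974)) (.leaf 20648)) (.node (.node (.leaf 10154) (.leaf 90598)) (.leaf 31616))) (.node (.node (.node (.leaf 4874) (.leaf 48419)) (.leaf 26224)) (.node (.leaf 14829) (.leaf 38018)))) (.node (.node (.node (.node (.leaf 2432) (.leaf 46095)) (.leaf 23110)) (.node (.leaf 12302) (.leaf 34568))) (.node (.node (.node (.leaf 7407) (.leaf 53987)) (.leaf 28588)) (.node (.leaf 17702) (.leaf 41159))))) (.node (.node (.node (.node (.node (.leaf 1353) (.leaf 45040)) (.leaf 21795)) (.node (.leaf 11209) (.leaf 33062))) (.node (.node (.node (.leaf 6252) (.leaf 50730)) (.leaf 27463)) (.node (.leaf 16418) (.leaf 39492)))) (.node (.node (.node (.node (.leaf 3586) (.leaf 47143)) (.leaf 24678)) (.node (.leaf 13536) (.leaf 36080))) (.node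 (.node (.node (.leaf 8706) (.leaf 64610)) (.leaf 30216)) (.node (.leaf 19278) (.leaf 42704)))))) (.node (.node (.node (.node (.node (.node (.leaf 775) (.leaf 44544)) (.leaf 21155)) (.node (.node (.leaf 10726) (.leaf 112042)) (.leaf 32207))) (.node (.node (.node (.leaf 5735) (.leaf 49582)) (.leaf 26914)) (.node (.leaf 15663) (.leaf 38794)))) (.node (.node (.node (.node (.leaf 2896) (.leaf 46607)) (.leaf 23853)) (.node (.leaf 13008) (.leaf 35427))) (.node (.node (.node (.leaf 8040) (.leaf 59590)) (.leaf 29320)) (.node (.leaf 18402) (.leaf 42112))))) (.node (.node (.node (.node (.node (.leaf 1824) (.leaf 45514)) (.leaf 22438)) (.node (.leaf 11728) (.leaf 33552))) (.node (.node (.node (.leaf 6893) (.leaf 51808)) (.leaf 28010)) (.node (.leaf 17027) (.leaf 40198)))) (.node (.node (.node (.node (.leaf 4301) (.leaf 47824)) (.leaf 25232)) (.node (.leaf 14188) (.leaf 37104))) (.node (.node (.node (.leaf 9389) (.leaf 76256)) (.leaf 30857)) (.node (.leaf 19824) (.leaf 43274))))))) (.node (.node (.node (.node (.node (.node (.node (.leaf 431) (.leaf 44290)) (.leaf 20944))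 (.node (.node (.leaf 10434) (.leaf 98317)) (.leaf 32004))) (.node (.node (.node (.leaf 5296) (.leaf 49030)) (.leaf 26636)) (.node (.leaf 15310) (.leaf 38376)))) (.node (.node (.node (.node (.leaf 2634) (.leaf 46344)) (.leaf 23472)) (.node (.leaf 12643) (.leaf 34800))) (.node (.node (.node (.leaf 7631) (.leaf 56710)) (.leaf 28909)) (.node (.leaf 18050) (.leaf 41578))))) (.node (.node (.node (.node (.node (.leaf 1616) (.leaf 45284)) (.leaf 22152)) (.node (.leaf 11466) (.leaf 33316))) (.node (.node (.node (.leaf 6595) (.leaf 51395)) (.leaf 27712)) (.node (.leaf 16736) (.leaf 39758)))) (.node (.node (.node (.node (.leaf 3910) (.leaf 47375)) (.leaf 24942)) (.node (.leaf 13891) (.leaf 36551))) (.node (.node (.node (.leaf 9100) (.leaf 68240)) (.leaf 30592)) (.node (.leaf 19468) (.leaf 43023)))))) (.node (.node (.node (.node (.node (.node (.leaf 1030) (.leaf 44782)) (.leaf 21577)) (.node (.leaf 10958) (.leaf 32553))) (.node (.node (.node (.leaf 5961) (.leaf 50050)) (.leaf 27111)) (.node (.leaf 16172) (.leaf 39015)))) (.node (.node (.node (.node (.leaf 3373) (.leaf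 46890)) (.leaf 24295)) (.node (.leaf 13348) (.leaf 35847))) (.node (.node (.node (.leaf 8269) (.leaf 62306)) (.leaf 29712)) (.node (.leaf 18768) (.leaf 42310))))) (.node (.node (.node (.node (.node (.leaf 2144) (.leaf 45799)) (.leaf 22758)) (.node (.leaf 12044) (.leaf 34146))) (.node (.node (.node (.leaf 7085) (.leaf 52422)) (.leaf 28329)) (.node (.leaf 17350) (.leaf 40688)))) (.node (.node (.node (.node (.leaf 4495) (.leaf 48138)) (.leaf 25674)) (.node (.leaf 14538) (.leaf 37546))) (.node (.node (.node (.leaf 9826) (.leaf 82982)) (.leaf 31110)) (.node (.leaf 20239) (.leaf 43470)))))))) (.node (.node (.node (.node (.node (.node (.node (.node (.leaf 258) (.leaf 44140)) (.leaf 20810)) (.node (.node (.leaf 10285) (.leaf 93186)) (.leaf 31792))) (.node (.node (.node (.leaf 5102) (.leaf 48674)) (.leaf 26413)) (.node (.leaf 15078) (.leaf 38188)))) (.node (.node (.node (.node (.leaf 2537) (.leaf 46192)) (.leaf 23245)) (.node (.leaf 12456) (.leaf 34696))) (.node (.node (.node (.leaf 7503) (.leaf 55594)) (.leaf 28688)) (.node (.leaf 17872) (.leaf 41312))))) (.node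 (.node (.node (.node (.node (.leaf 1482) (.leaf 45166)) (.leaf 21922)) (.node (.leaf 11341) (.leaf 33192))) (.node (.node (.node (.leaf 6375) (.leaf 51050)) (.leaf 27593)) (.node (.leaf 16512) (.leaf 39658)))) (.node (.node (.node (.node (.leaf 3760) (.leaf 47266)) (.leaf 24838)) (.node (.leaf 13677) (.leaf 36298))) (.node (.node (.node (.leaf 8880) (.leaf 66828)) (.leaf 30384)) (.node (.leaf 19376) (.leaf 42890)))))) (.node (.node (.node (.node (.node (.node (.leaf 910) (.leaf 44676)) (.leaf 21424)) (.node (.node (.leaf 10831) (.leaf 138564)) (.leaf 32336))) (.node (.node (.node (.leaf 5858) (.leaf 49767)) (.leaf 26991)) (.node (.leaf 15843) (.leaf 38892)))) (.node (.node (.node (.node (.leaf 3113) (.leaf 46736)) (.leaf 24112)) (.node (.leaf 13161) (.leaf 35689))) (.node (.node (.node (.leaf 8162) (.leaf 60586)) (.leaf 29568)) (.node (.leaf 18536) (.leaf 42212))))) (.node (.node (.node (.node (.node (.leaf 1904) (.leaf 45670)) (.leaf 22576)) (.node (.leaf 11913) (.leaf 33864))) (.node (.node (.node (.leaf 6990) (.leaf 51910)) (.leaf 28204)) (.node (.leaf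 17159) (.leaf 40528)))) (.node (.node (.node (.node (.leaf 4398) (.leaf 48044)) (.leaf 25450)) (.node (.leaf 14311) (.leaf 37321))) (.node (.node (.node (.leaf 9539) (.leaf 80167)) (.leaf 30947)) (.node (.leaf 20073) (.leaf 43372))))))) (.node (.node (.node (.node (.node (.node (.node (.leaf 608) (.leaf 44429)) (.leaf 21058)) (.node (.node (.leaf 10605) (.leaf 101868)) (.leaf 32104))) (.node (.node (.node (.leaf 5482) (.leaf 49325)) (.leaf 26794)) (.node (.leaf 15504) (.leaf 38634)))) (.node (.node (.node (.node (.leaf 2736) (.leaf 46480)) (.leaf 23660)) (.node (.leaf 12800) (.leaf 35184))) (.node (.node (.node (.leaf 7840) (.leaf 58212)) (.leaf 29101)) (.node (.leaf 18192) (.leaf 41831))))) (.node (.node (.node (.node (.node (.leaf 1732) (.leaf 45386)) (.leaf 22312)) (.node (.leaf 11599) (.leaf 33420))) (.node (.node (.node (.leaf 6798) (.leaf 51648)) (.leaf 27822)) (.node (.leaf 16868) (.leaf 39872)))) (.node (.node (.node (.node (.leaf 4138) (.leaf 47568)) (.leaf 25038)) (.node (.leaf 14060) (.leaf 36809))) (.node (.node (.node (.leaf 9222) (.leaf 71628))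 (.leaf 30758)) (.node (.leaf 19594) (.leaf 43146)))))) (.node (.node (.node (.node (.node (.node (.leaf 1160) (.leaf 44908)) (.leaf 21700)) (.node (.leaf 11078) (.leaf 32778))) (.node (.node (.node (.leaf 6118) (.leaf 50370)) (.leaf 27311)) (.node (.leaf 16320) (.leaf 39299)))) (.node (.node (.node (.node (.leaf 3490) (.leaf 47022)) (.leaf 24454)) (.node (.leaf 13443) (.leaf 35968))) (.node (.node (.node (.leaf 8515) (.leaf 63650)) (.leaf 30032)) (.node (.leaf 19053) (.leaf 42416))))) (.node (.node (.node (.node (.node (.leaf 2280) (.leaf 45952)) (.leaf 22918)) (.node (.leaf 12170) (.leaf 34378))) (.node (.node (.node (.leaf 7302) (.leaf 53136)) (.leaf 28463)) (.node (.leaf 17516) (.leaf 40966)))) (.node (.node (.node (.node (.leaf 4688) (.leaf 48266)) (.leaf 25998)) (.node (.leaf 14668) (.leaf 37808))) (.node (.node (.node (.leaf 10052) (.leaf 87466)) (.leaf 31366)) (.node (.leaf 20431) (.leaf 43725))))))))) (.node (.node (.node (.node (.node (.node (.node (.node (.node (.leaf 160) (.leaf 44042)) (.leaf 20738)) (.node (.node (.leaf 10212) (.leaf 91855))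 (.leaf 31714))) (.node (.node (.node (.leaf 5005) (.leaf 48519)) (.leaf 26314)) (.node (.leaf 14915) (.leaf 38112)))) (.node (.node (.node (.node (.leaf 2476) (.leaf 46153)) (.leaf 23174)) (.node (.leaf 12418) (.leaf 34632))) (.node (.node (.node (.leaf 7462) (.leaf 54861)) (.leaf 28646)) (.node (.leaf 17831) (.leaf 41216))))) (.node (.node (.node (.node (.node (.leaf 1440) (.leaf 45123)) (.leaf 21836)) (.node (.leaf 11299) (.leaf 33128))) (.node (.node (.node (.leaf 6310) (.leaf 50914)) (.leaf 27554)) (.node (.leaf 16458) (.leaf 39596)))) (.node (.node (.node (.node (.leaf 3680) (.leaf 47208)) (.leaf 24717)) (.node (.leaf 13603) (.leaf 36134))) (.node (.node (.node (.leaf 8807) (.leaf 65292)) (.leaf 30255)) (.node (.leaf 19338) (.leaf 42790)))))) (.node (.node (.node (.node (.node (.node (.leaf 846) (.leaf 44586)) (.leaf 21290)) (.node (.node (.leaf 10767) (.leaf 124967)) (.leaf 32263))) (.node (.node (.node (.leaf 5802) (.leaf 49712)) (.leaf 26953)) (.node (.leaf 15727) (.leaf 38852)))) (.node (.node (.node (.node (.leaf 3020) (.leaf 46664)) (.leaf 23952))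 (.node (.leaf 13095) (.leaf 35564))) (.node (.node (.node (.leaf 8100) (.leaf 60239)) (.leaf 29418)) (.node (.leaf 18440) (.leaf 42156))))) (.node (.node (.node (.node (.node (.leaf 1866) (.leaf 45600)) (.leaf 22479)) (.node (.leaf 11853) (.leaf 33703))) (.node (.node (.node (.leaf 6952) (.leaf 51854)) (.leaf 28110)) (.node (.leaf 17095) (.leaf 40304)))) (.node (.node (.node (.node (.leaf 4359) (.leaf 47952)) (.leaf 25353)) (.node (.leaf 14244) (.leaf 37222))) (.node (.node (.node (.leaf 9454) (.leaf 78252)) (.leaf 30894)) (.node (.leaf 19974) (.leaf 43332))))))) (.node (.node (.node (.node (.node (.node (.node (.leaf 525) (.leaf 44362)) (.leaf 21002)) (.node (.node (.leaf 10562) (.leaf 99368)) (.leaf 32066))) (.node (.node (.node (.leaf 5385) (.leaf 49155)) (.leaf 26730)) (.node (.leaf 15426) (.leaf 38540)))) (.node (.node (.node (.node (.leaf 2672) (.leaf 46409)) (.leaf 23530)) (.node (.leaf 12742) (.leaf 35046))) (.node (.node (.node (.leaf 7757) (.leaf 57292)) (.leaf 28970)) (.node (.leaf 18096) (.leaf 41698))))) (.node (.node (.node (.node (.node (.leaf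 1674) (.leaf 45328)) (.leaf 22247)) (.node (.leaf 11536) (.leaf 33360))) (.node (.node (.node (.leaf 6727) (.leaf 51523)) (.leaf 27754)) (.node (.leaf 16807) (.leaf 39818)))) (.node (.node (.node (.node (.leaf 4012) (.leaf 47434)) (.leaf 24999)) (.node (.leaf 13997) (.leaf 36736))) (.node (.node (.node (.leaf 9159) (.leaf 69474)) (.leaf 30690)) (.node (.leaf 19528) (.leaf 43104)))))) (.node (.node (.node (.node (.node (.node (.leaf 1094) (.leaf 44846)) (.leaf 21639)) (.node (.leaf 11023) (.leaf 32682))) (.node (.node (.node (.leaf 6051) (.leaf 50192)) (.leaf 27202)) (.node (.leaf 16264) (.leaf 39216)))) (.node (.node (.node (.node (.leaf 3431) (.leaf 46956)) (.leaf 24355)) (.node (.leaf 13390) (.leaf 35912))) (.node (.node (.node (.leaf 8359) (.leaf 63081)) (.leaf 29895)) (.node (.leaf 18918) (.leaf 42368))))) (.node (.node (.node (.node (.node (.leaf 2223) (.leaf 45866)) (.leaf 22799)) (.node (.leaf 12080) (.leaf 34278))) (.node (.node (.node (.leaf 7184) (.leaf 52752)) (.leaf 28416)) (.node (.leaf 17418) (.leaf 40816)))) (.node (.node (.node (.node (.leaf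 4588) (.leaf 48224)) (.leaf 25888)) (.node (.leaf 14600) (.leaf 37670))) (.node (.node (.node (.leaf 9866) (.leaf 84774)) (.leaf 31239)) (.node (.leaf 20336) (.leaf 43600)))))))) (.node (.node (.node (.node (.node (.node (.node (.node (.leaf 328) (.leaf 44202)) (.leaf 20898)) (.node (.node (.leaf 10338) (.leaf 95567)) (.leaf 31942))) (.node (.node (.node (.leaf 5216) (.leaf 48842)) (.leaf 26535)) (.node (.leaf 15207) (.leaf 38318)))) (.node (.node (.node (.node (.leaf 2594) (.leaf 46278)) (.leaf 23404)) (.node (.leaf 12551) (.leaf 34736))) (.node (.node (.node (.leaf 7587) (.leaf 56170)) (.leaf 28844)) (.node (.leaf 17968) (.leaf 41385))))) (.node (.node (.node (.node (.node (.leaf 1545) (.leaf 45222)) (.leaf 22022)) (.node (.leaf 11407) (.leaf 33255))) (.node (.node (.node (.leaf 6540) (.leaf 51178)) (.leaf 27658)) (.node (.leaf 16674) (.leaf 39718)))) (.node (.node (.node (.node (.leaf 3818) (.leaf 47330)) (.leaf 24880)) (.node (.leaf 13804) (.leaf 36461))) (.node (.node (.node (.leaf 9002) (.leaf 67554)) (.leaf 30534)) (.node (.leaf 19432) (.leaf 42957))))))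 (.node (.node (.node (.node (.node (.node (.leaf 970) (.leaf 44720)) (.leaf 21512)) (.node (.leaf 10896) (.leaf 32464))) (.node (.node (.node (.leaf 5904) (.leaf 49904)) (.leaf 27046)) (.node (.leaf 16032) (.leaf 38951)))) (.node (.node (.node (.node (.leaf 3330) (.leaf 46822)) (.leaf 24208)) (.node (.leaf 13290) (.leaf 35756))) (.node (.node (.node (.leaf 8227) (.leaf 61360)) (.leaf 29632)) (.node (.leaf 18698) (.leaf 42254))))) (.node (.node (.node (.node (.node (.leaf 2019) (.leaf 45737)) (.leaf 22694)) (.node (.leaf 11980) (.leaf 33997))) (.node (.node (.node (.leaf 7044) (.leaf 52010)) (.leaf 28265)) (.node (.leaf 17223) (.leaf 40622)))) (.node (.node (.node (.node (.leaf 4455) (.leaf 48102)) (.leaf 25571)) (.node (.leaf 14444) (.leaf 37423))) (.node (.node (.node (.leaf 9635) (.leaf 81293)) (.leaf 31015)) (.node (.leaf 20192) (.leaf 43428))))))) (.node (.node (.node (.node (.node (.node (.node (.leaf 687) (.leaf 44489)) (.leaf 21101)) (.node (.node (.leaf 10671) (.leaf 106377)) (.leaf 32164))) (.node (.node (.node (.leaf 5602) (.leaf 49390)) (.leaf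 26854)) (.node (.leaf 15598) (.leaf 38732)))) (.node (.node (.node (.node (.leaf 2828) (.leaf 46540)) (.leaf 23753)) (.node (.leaf 12904) (.leaf 35328))) (.node (.node (.node (.leaf 7978) (.leaf 58791)) (.leaf 29251)) (.node (.leaf 18288) (.leaf 41926))))) (.node (.node (.node (.node (.node (.leaf 1773) (.leaf 45452)) (.leaf 22383)) (.node (.leaf 11664) (.leaf 33479))) (.node (.node (.node (.leaf 6856) (.leaf 51719)) (.leaf 27906)) (.node (.leaf 16932) (.leaf 40066)))) (.node (.node (.node (.node (.leaf 4256) (.leaf 47682)) (.leaf 25152)) (.node (.leaf 14125) (.leaf 36876))) (.node (.node (.node (.leaf 9315) (.leaf 73708)) (.leaf 30799)) (.node (.leaf 19747) (.leaf 43238)))))) (.node (.node (.node (.node (.node (.node (.leaf 1255) (.leaf 44970)) (.leaf 21740)) (.node (.leaf 11143) (.leaf 32909))) (.node (.node (.node (.leaf 6160) (.leaf 50573)) (.leaf 27407)) (.node (.leaf 16362) (.leaf 39399)))) (.node (.node (.node (.node (.leaf 3533) (.leaf 47079)) (.leaf 24559)) (.node (.leaf 13481) (.leaf 36016))) (.node (.node (.node (.leaf 8640) (.leaf 63913)) (.leaf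 30154)) (.node (.leaf 19120) (.leaf 42592))))) (.node (.node (.node (.node (.node (.leaf 2344) (.leaf 46000)) (.leaf 23014)) (.node (.leaf 12237) (.leaf 34502))) (.node (.node (.node (.leaf 7341) (.leaf 53519)) (.leaf 28528)) (.node (.leaf 17609) (.leaf 41097)))) (.node (.node (.node (.node (.leaf 4816) (.leaf 48320)) (.leaf 26128)) (.node (.leaf 14754) (.leaf 37956))) (.node (.node (.node (.leaf 10114) (.leaf 89160)) (.leaf 31494)) (.node (.leaf 20522) (.leaf 43855)))))))))))

noncomputable def parA2 : Arr ℕ :=
  (.node (.node (.node (.node (.node (.node (.node (.node (.node (.node (.node (.leaf 3) (.leaf 43939)) (.leaf 20588)) (.node (.node (.leaf 10128) (.leaf 89868)) (.leaf 31536))) (.node (.node (.node (.leaf 4848) (.leaf 48365)) (.leaf 26184)) (.node (.leaf 14796) (.leaf 37991)))) (.node (.node (.node (.node (.leaf 2376) (.leaf 46086)) (.leaf 23082)) (.node (.leaf 12290) (.leaf 34541))) (.node (.node (.node (.leaf 7376) (.leaf 53775)) (.leaf 28576)) (.node (.leaf 17642) (.leaf 41130))))) (.node (.node (.node (.node (.node (.leaf 1290) (.leaf 45002))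 (.leaf 21767)) (.node (.leaf 11178) (.leaf 33008))) (.node (.node (.node (.leaf 6223) (.leaf 50720)) (.leaf 27434)) (.node (.leaf 16393) (.leaf 39431)))) (.node (.node (.node (.node (.leaf 3562) (.leaf 47113)) (.leaf 24646)) (.node (.leaf 13512) (.leaf 36068))) (.node (.node (.node (.leaf 8675) (.leaf 64323)) (.leaf 30190)) (.node (.leaf 19268) (.leaf 42638)))))) (.node (.node (.node (.node (.node (.node (.leaf 745) (.leaf 44520)) (.leaf 21130)) (.node (.node (.leaf 10700) (.leaf 107504)) (.leaf 32195))) (.node (.node (.node (.leaf 5698) (.leaf 49543)) (.leaf 26884)) (.node (.leaf 15632) (.leaf 38765)))) (.node (.node (.node (.node (.leaf 2857) (.leaf 46572)) (.leaf 23814)) (.node (.leaf 12994) (.leaf 35344))) (.node (.node (.node (.leaf 8014) (.leaf 59120)) (.leaf 29289)) (.node (.leaf 18375) (.leaf 42026))))) (.node (.node (.node (.node (.node (.leaf 1801) (.leaf 45482)) (.leaf 22412)) (.node (.leaf 11715) (.leaf 33508))) (.node (.node (.node (.leaf 6884) (.leaf 51750)) (.leaf 27949)) (.node (.leaf 16974) (.leaf 40138)))) (.node (.node (.node (.node (.leaf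 4291) (.leaf 47760)) (.leaf 25194)) (.node (.leaf 14156) (.leaf 37031))) (.node (.node (.node (.leaf 9356) (.leaf 75753)) (.leaf 30829)) (.node (.leaf 19788) (.leaf 43248))))))) (.node (.node (.node (.node (.node (.node (.node (.leaf 397) (.leaf 44238)) (.leaf 20932)) (.node (.node (.leaf 10352) (.leaf 97162)) (.leaf 31974))) (.node (.node (.node (.leaf 5261) (.leaf 48880)) (.leaf 26608)) (.node (.leaf 15274) (.leaf 38345)))) (.node (.node (.node (.node (.leaf 2607) (.leaf 46319)) (.leaf 23438)) (.node (.leaf 12592) (.leaf 34784))) (.node (.node (.node (.leaf 7622) (.leaf 56546)) (.leaf 28896)) (.node (.leaf 18022) (.leaf 41514))))) (.node (.node (.node (.node (.node (.leaf 1577) (.leaf 45260)) (.leaf 22125)) (.node (.leaf 11439) (.leaf 33290))) (.node (.node (.node (.leaf 6572) (.leaf 51296)) (.leaf 27688)) (.node (.leaf 16686) (.leaf 39747)))) (.node (.node (.node (.node (.leaf 3878) (.leaf 47362)) (.leaf 24930)) (.node (.leaf 13860) (.leaf 36516))) (.node (.node (.node (.leaf 9060) (.leaf 67789)) (.leaf 30568)) (.node (.leaf 19458) (.leaf 42991))))))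 (.node (.node (.node (.node (.node (.node (.leaf 1001) (.leaf 44770)) (.leaf 21552)) (.node (.leaf 10927) (.leaf 32522))) (.node (.node (.node (.leaf 5935) (.leaf 49996)) (.leaf 27079)) (.node (.leaf 16077) (.leaf 38985)))) (.node (.node (.node (.node (.leaf 3364) (.leaf 46862)) (.leaf 24262)) (.node (.leaf 13320) (.leaf 35784))) (.node (.node (.node (.leaf 8256) (.leaf 61996)) (.leaf 29667)) (.node (.leaf 18727) (.leaf 42285))))) (.node (.node (.node (.node (.node (.leaf 2064) (.leaf 45768)) (.leaf 22733)) (.node (.leaf 12015) (.leaf 34058))) (.node (.node (.node (.leaf 7072) (.leaf 52260)) (.leaf 28297)) (.node (.leaf 17286) (.leaf 40649)))) (.node (.node (.node (.node (.leaf 4483) (.leaf 48112)) (.leaf 25607)) (.node (.leaf 14496) (.leaf 37507))) (.node (.node (.node (.leaf 9706) (.leaf 82378)) (.leaf 31047)) (.node (.leaf 20226) (.leaf 43456)))))))) (.node (.node (.node (.node (.node (.node (.node (.node (.leaf 176) (.leaf 44108)) (.leaf 20770)) (.node (.node (.leaf 10272) (.leaf 92718)) (.leaf 31751))) (.node (.node (.node (.leaf 5072) (.leaf 48591))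 (.leaf 26400)) (.node (.leaf 15016) (.leaf 38153)))) (.node (.node (.node (.node (.leaf 2505) (.leaf 46184)) (.leaf 23203)) (.node (.leaf 12431) (.leaf 34664))) (.node (.node (.node (.leaf 7492) (.leaf 55244)) (.leaf 28674)) (.node (.leaf 17862) (.leaf 41231))))) (.node (.node (.node (.node (.node (.leaf 1455) (.leaf 45155)) (.leaf 21863)) (.node (.leaf 11312) (.leaf 33166))) (.node (.node (.node (.leaf 6345) (.leaf 50960)) (.leaf 27566)) (.node (.leaf 16486) (.leaf 39650)))) (.node (.node (.node (.node (.leaf 3726) (.leaf 47242)) (.leaf 24802)) (.node (.leaf 13647) (.leaf 36202))) (.node (.node (.node (.leaf 8846) (.leaf 65901)) (.leaf 30345)) (.node (.leaf 19368) (.leaf 42854)))))) (.node (.node (.node (.node (.node (.node (.leaf 879) (.leaf 44614)) (.leaf 21383)) (.node (.node (.leaf 10822) (.leaf 133410)) (.leaf 32292))) (.node (.node (.node (.leaf 5834) (.leaf 49740)) (.leaf 26980)) (.node (.leaf 15786) (.leaf 38880)))) (.node (.node (.node (.node (.leaf 3088) (.leaf 46703)) (.leaf 24014)) (.node (.leaf 13129) (.leaf 35660))) (.node (.node (.node (.leaf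 8136) (.leaf 60524)) (.leaf 29519)) (.node (.leaf 18503) (.leaf 42184))))) (.node (.node (.node (.node (.node (.leaf 1892) (.leaf 45639)) (.leaf 22511)) (.node (.leaf 11885) (.leaf 33802))) (.node (.node (.node (.leaf 6979) (.leaf 51885)) (.leaf 28160)) (.node (.leaf 17135) (.leaf 40461)))) (.node (.node (.node (.node (.leaf 4387) (.leaf 48006)) (.leaf 25392)) (.node (.leaf 14284) (.leaf 37296))) (.node (.node (.node (.leaf 9510) (.leaf 79024)) (.leaf 30922)) (.node (.leaf 20048) (.leaf 43360))))))) (.node (.node (.node (.node (.node (.node (.node (.leaf 578) (.leaf 44420)) (.leaf 21033)) (.node (.node (.leaf 10575) (.leaf 100867)) (.leaf 32077))) (.node (.node (.node (.leaf 5472) (.leaf 49260)) (.leaf 26784)) (.node (.leaf 15463) (.leaf 38595)))) (.node (.node (.node (.node (.leaf 2702) (.leaf 46442)) (.leaf 23599)) (.node (.leaf 12775) (.leaf 35113))) (.node (.node (.node (.leaf 7812) (.leaf 57904)) (.leaf 29062)) (.node (.leaf 18178) (.leaf 41776))))) (.node (.node (.node (.node (.node (.leaf 1703) (.leaf 45360)) (.leaf 22285)) (.node (.leaf 11590) (.leaf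 33408))) (.node (.node (.node (.leaf 6786) (.leaf 51567)) (.leaf 27783)) (.node (.leaf 16834) (.leaf 39846)))) (.node (.node (.node (.node (.leaf 4040) (.leaf 47491)) (.leaf 25026)) (.node (.leaf 14025) (.leaf 36751))) (.node (.node (.node (.leaf 9191) (.leaf 71072)) (.leaf 30729)) (.node (.leaf 19562) (.leaf 43119)))))) (.node (.node (.node (.node (.node (.node (.leaf 1135) (.leaf 44880)) (.leaf 21672)) (.node (.leaf 11053) (.leaf 32718))) (.node (.node (.node (.leaf 6088) (.leaf 50314)) (.leaf 27244)) (.node (.leaf 16297) (.leaf 39247)))) (.node (.node (.node (.node (.leaf 3462) (.leaf 47011)) (.leaf 24394)) (.node (.leaf 13420) (.leaf 35940))) (.node (.node (.node (.leaf 8454) (.leaf 63305)) (.leaf 29936)) (.node (.leaf 19018) (.leaf 42400))))) (.node (.node (.node (.node (.node (.leaf 2252) (.leaf 45922)) (.leaf 22888)) (.node (.leaf 12160) (.leaf 34316))) (.node (.node (.node (.leaf 7270) (.leaf 52940)) (.leaf 28451)) (.node (.leaf 17453) (.leaf 40930)))) (.node (.node (.node (.node (.leaf 4622) (.leaf 48239)) (.leaf 25930)) (.node (.leaf 14637) (.leaf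 37738))) (.node (.node (.node (.leaf 9968) (.leaf 86797)) (.leaf 31302)) (.node (.leaf 20394) (.leaf 43687))))))))) (.node (.node (.node (.node (.node (.node (.node (.node (.node (.leaf 109) (.leaf 44032)) (.leaf 20706)) (.node (.node (.leaf 10185) (.leaf 91434)) (.leaf 31682))) (.node (.node (.node (.leaf 4963) (.leaf 48490)) (.leaf 26284)) (.node (.leaf 14861) (.leaf 38031)))) (.node (.node (.node (.node (.leaf 2467) (.leaf 46126)) (.leaf 23143)) (.node (.leaf 12388) (.leaf 34604))) (.node (.node (.node (.leaf 7436) (.leaf 54352)) (.leaf 28620)) (.node (.leaf 17741) (.leaf 41193))))) (.node (.node (.node (.node (.node (.leaf 1391) (.leaf 45097)) (.leaf 21808)) (.node (.leaf 11247) (.leaf 33098))) (.node (.node (.node (.leaf 6279) (.leaf 50762)) (.leaf 27504)) (.node (.leaf 16431) (.leaf 39562)))) (.node (.node (.node (.node (.leaf 3600) (.leaf 47181)) (.leaf 24704)) (.node (.leaf 13575) (.leaf 36110))) (.node (.node (.node (.leaf 8752) (.leaf 64879)) (.leaf 30243)) (.node (.leaf 19309) (.leaf 42754)))))) (.node (.node (.node (.node (.node (.node (.leaf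 815) (.leaf 44558)) (.leaf 21223)) (.node (.node (.leaf 10756) (.leaf 120898)) (.leaf 32238))) (.node (.node (.node (.leaf 5772) (.leaf 49700)) (.leaf 26927)) (.node (.leaf 15715) (.leaf 38824)))) (.node (.node (.node (.node (.leaf 2951) (.leaf 46638)) (.leaf 23914)) (.node (.leaf 13069) (.leaf 35495))) (.node (.node (.node (.leaf 8074) (.leaf 60098)) (.leaf 29352)) (.node (.leaf 18415) (.leaf 42147))))) (.node (.node (.node (.node (.node (.leaf 1839) (.leaf 45546)) (.leaf 22468)) (.node (.leaf 11785) (.leaf 33638))) (.node (.node (.node (.leaf 6924) (.leaf 51840)) (.leaf 28072)) (.node (.leaf 17059) (.leaf 40269)))) (.node (.node (.node (.node (.leaf 4330) (.leaf 47906)) (.leaf 25322)) (.node (.leaf 14220) (.leaf 37168))) (.node (.node (.node (.leaf 9421) (.leaf 77996)) (.leaf 30883)) (.node (.leaf 19911) (.leaf 43305))))))) (.node (.node (.node (.node (.node (.node (.node (.leaf 488) (.leaf 44304)) (.leaf 20976)) (.node (.node (.leaf 10528) (.leaf 98761)) (.leaf 32034))) (.node (.node (.node (.leaf 5358) (.leaf 49072)) (.leaf 26663)) (.node (.leaf 15366)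 (.leaf 38471)))) (.node (.node (.node (.node (.leaf 2662) (.leaf 46376)) (.leaf 23520)) (.node (.leaf 12714) (.leaf 34954))) (.node (.node (.node (.leaf 7718) (.leaf 57072)) (.leaf 28937)) (.node (.leaf 18063) (.leaf 41613))))) (.node (.node (.node (.node (.node (.leaf 1666) (.leaf 45315)) (.leaf 22221)) (.node (.leaf 11526) (.leaf 33350))) (.node (.node (.node (.leaf 6662) (.leaf 51463)) (.leaf 27727)) (.node (.leaf 16776) (.leaf 39790)))) (.node (.node (.node (.node (.leaf 3978) (.leaf 47407)) (.leaf 24973)) (.node (.leaf 13964) (.leaf 36682))) (.node (.node (.node (.leaf 9132) (.leaf 69162)) (.leaf 30607)) (.node (.leaf 19501) (.leaf 43053)))))) (.node (.node (.node (.node (.node (.node (.leaf 1064) (.leaf 44816)) (.leaf 21610)) (.node (.leaf 10990) (.leaf 32643))) (.node (.node (.node (.leaf 6022) (.leaf 50147)) (.leaf 27170)) (.node (.leaf 16237) (.leaf 39119)))) (.node (.node (.node (.node (.leaf 3402) (.leaf 46925)) (.leaf 24330)) (.node (.leaf 13378) (.leaf 35879))) (.node (.node (.node (.leaf 8329) (.leaf 62890)) (.leaf 29804)) (.node (.leaf 18882)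 (.leaf 42340))))) (.node (.node (.node (.node (.node (.leaf 2189) (.leaf 45830)) (.leaf 22787)) (.node (.leaf 12071) (.leaf 34218))) (.node (.node (.node (.leaf 7152) (.leaf 52592)) (.leaf 28368)) (.node (.leaf 17386) (.leaf 40772)))) (.node (.node (.node (.node (.leaf 4560) (.leaf 48170)) (.leaf 25800)) (.node (.leaf 14575) (.leaf 37612))) (.node (.node (.node (.leaf 9856) (.leaf 83431)) (.leaf 31200)) (.node (.leaf 20271) (.leaf 43552)))))))) (.node (.node (.node (.node (.node (.node (.node (.node (.leaf 298) (.leaf 44173)) (.leaf 20871)) (.node (.node (.leaf 10314) (.leaf 94445)) (.leaf 31879))) (.node (.node (.node (.leaf 5134) (.leaf 48780)) (.leaf 26504)) (.node (.leaf 15174) (.leaf 38288)))) (.node (.node (.node (.node (.leaf 2569) (.leaf 46250)) (.leaf 23366)) (.node (.leaf 12519) (.leaf 34723))) (.node (.node (.node (.leaf 7533) (.leaf 56080)) (.leaf 28778)) (.node (.leaf 17926) (.leaf 41352))))) (.node (.node (.node (.node (.node (.leaf 1513) (.leaf 45196)) (.leaf 21967)) (.node (.leaf 11373) (.leaf 33230))) (.node (.node (.node (.leaf 6442) (.leaf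 51106)) (.leaf 27628)) (.node (.leaf 16527) (.leaf 39687)))) (.node (.node (.node (.node (.leaf 3792) (.leaf 47280)) (.leaf 24870)) (.node (.leaf 13762) (.leaf 36392))) (.node (.node (.node (.leaf 8967) (.leaf 67053)) (.leaf 30448)) (.node (.leaf 19406) (.leaf 42925)))))) (.node (.node (.node (.node (.node (.node (.leaf 944) (.leaf 44710)) (.leaf 21482)) (.node (.node (.leaf 10864) (.leaf 163874)) (.leaf 32387))) (.node (.node (.node (.leaf 5872) (.leaf 49856)) (.leaf 27021)) (.node (.leaf 16003) (.leaf 38922)))) (.node (.node (.node (.node (.leaf 3245) (.leaf 46786)) (.leaf 24167)) (.node (.leaf 13257) (.leaf 35721))) (.node (.node (.node (.leaf 8196) (.leaf 60906)) (.leaf 29584)) (.node (.leaf 18626) (.leaf 42243))))) (.node (.node (.node (.node (.node (.leaf 1968) (.leaf 45699)) (.leaf 22639)) (.node (.leaf 11946) (.leaf 33962))) (.node (.node (.node (.leaf 7020) (.leaf 51943)) (.leaf 28240)) (.node (.leaf 17190) (.leaf 40610)))) (.node (.node (.node (.node (.leaf 4430) (.leaf 48071)) (.leaf 25517)) (.node (.leaf 14403) (.leaf 37392))) (.node (.node (.node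 (.leaf 9578) (.leaf 80451)) (.leaf 30982)) (.node (.leaf 20162) (.leaf 43399))))))) (.node (.node (.node (.node (.node (.node (.node (.leaf 653) (.leaf 44461)) (.leaf 21088)) (.node (.node (.leaf 10640) (.leaf 105160)) (.leaf 32137))) (.node (.node (.node (.leaf 5570) (.leaf 49378)) (.leaf 26828)) (.node (.leaf 15556) (.leaf 38698)))) (.node (.node (.node (.node (.leaf 2799) (.leaf 46528)) (.leaf 23696)) (.node (.leaf 12816) (.leaf 35248))) (.node (.node (.node (.leaf 7888) (.leaf 58704)) (.leaf 29218)) (.node (.leaf 18250) (.leaf 41895))))) (.node (.node (.node (.node (.node (.leaf 1762) (.leaf 45424)) (.leaf 22349)) (.node (.leaf 11632) (.leaf 33453))) (.node (.node (.node (.leaf 6825) (.leaf 51688)) (.leaf 27872)) (.node (.leaf 16900) (.leaf 39981)))) (.node (.node (.node (.node (.leaf 4199) (.leaf 47622)) (.leaf 25071)) (.node (.leaf 14096) (.leaf 36847))) (.node (.node (.node (.leaf 9264) (.leaf 72685)) (.leaf 30788)) (.node (.leaf 19664) (.leaf 43203)))))) (.node (.node (.node (.node (.node (.node (.leaf 1222) (.leaf 44938)) (.leaf 21728)) (.node (.leaf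 11111) (.leaf 32840))) (.node (.node (.node (.leaf 6150) (.leaf 50506)) (.leaf 27374)) (.node (.leaf 16336) (.leaf 39342)))) (.node (.node (.node (.node (.leaf 3503) (.leaf 47050)) (.leaf 24494)) (.node (.leaf 13456) (.leaf 36002))) (.node (.node (.node (.leaf 8551) (.leaf 63823)) (.leaf 30115)) (.node (.leaf 19086) (.leaf 42564))))) (.node (.node (.node (.node (.node (.leaf 2312) (.leaf 45967)) (.leaf 22959)) (.node (.leaf 12208) (.leaf 34477))) (.node (.node (.node (.leaf 7328) (.leaf 53390)) (.leaf 28518)) (.node (.leaf 17581) (.leaf 41058)))) (.node (.node (.node (.node (.leaf 4749) (.leaf 48295)) (.leaf 26086)) (.node (.leaf 14704) (.leaf 37904))) (.node (.node (.node (.leaf 10082) (.leaf 88682)) (.leaf 31462)) (.node (.leaf 20483) (.leaf 43779)))))))))) (.node (.node (.node (.node (.node (.node (.node (.node (.node (.node (.leaf 48) (.leaf 43975)) (.leaf 20650)) (.node (.node (.leaf 10156) (.leaf 90632)) (.leaf 31618))) (.node (.node (.node (.leaf 4879) (.leaf 48425)) (.leaf 26246)) (.node (.leaf 14832) (.leaf 38019)))) (.node (.node (.node (.node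 (.leaf 2434) (.leaf 46112)) (.leaf 23116)) (.node (.leaf 12303) (.leaf 34570))) (.node (.node (.node (.leaf 7408) (.leaf 53991)) (.leaf 28589)) (.node (.leaf 17706) (.leaf 41160))))) (.node (.node (.node (.node (.node (.leaf 1356) (.leaf 45056)) (.leaf 21796)) (.node (.leaf 11210) (.leaf 33063))) (.node (.node (.node (.leaf 6253) (.leaf 50732)) (.leaf 27465)) (.node (.leaf 16419) (.leaf 39498)))) (.node (.node (.node (.node (.leaf 3587) (.leaf 47144)) (.leaf 24679)) (.node (.leaf 13542) (.leaf 36096))) (.node (.node (.node (.leaf 8707) (.leaf 64680)) (.leaf 30217)) (.node (.leaf 19279) (.leaf 42720)))))) (.node (.node (.node (.node (.node (.node (.leaf 776) (.leaf 44546)) (.leaf 21159)) (.node (.node (.leaf 10730) (.leaf 113063)) (.leaf 32224))) (.node (.node (.node (.leaf 5737) (.leaf 49584)) (.leaf 26915)) (.node (.leaf 15687) (.leaf 38796)))) (.node (.node (.node (.node (.leaf 2918) (.leaf 46608)) (.leaf 23854)) (.node (.leaf 13030) (.leaf 35430))) (.node (.node (.node (.leaf 8041) (.leaf 59593)) (.leaf 29321)) (.node (.leaf 18403) (.leaf 42114))))) (.node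 (.node (.node (.node (.node (.leaf 1826) (.leaf 45516)) (.leaf 22442)) (.node (.leaf 11751) (.leaf 33575))) (.node (.node (.node (.leaf 6896) (.leaf 51810)) (.leaf 28046)) (.node (.leaf 17033) (.leaf 40200)))) (.node (.node (.node (.node (.leaf 4302) (.leaf 47842)) (.leaf 25258)) (.node (.leaf 14189) (.leaf 37122))) (.node (.node (.node (.leaf 9390) (.leaf 77129)) (.leaf 30858)) (.node (.leaf 19850) (.leaf 43276))))))) (.node (.node (.node (.node (.node (.node (.node (.leaf 432) (.leaf 44291)) (.leaf 20960)) (.node (.node (.leaf 10438) (.leaf 98351)) (.leaf 32006))) (.node (.node (.node (.leaf 5324) (.leaf 49032)) (.leaf 26637)) (.node (.leaf 15311) (.leaf 38377)))) (.node (.node (.node (.node (.leaf 2636) (.leaf 46345)) (.leaf 23488)) (.node (.leaf 12647) (.leaf 34858))) (.node (.node (.node (.leaf 7632) (.leaf 56736)) (.leaf 28910)) (.node (.leaf 18051) (.leaf 41584))))) (.node (.node (.node (.node (.node (.leaf 1632) (.leaf 45286)) (.leaf 22153)) (.node (.leaf 11472) (.leaf 33318))) (.node (.node (.node (.leaf 6598) (.leaf 51396)) (.leaf 27714)) (.node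 (.leaf 16743) (.leaf 39759)))) (.node (.node (.node (.node (.leaf 3911) (.leaf 47376)) (.leaf 24943)) (.node (.leaf 13894) (.leaf 36554))) (.node (.node (.node (.leaf 9101) (.leaf 68330)) (.leaf 30594)) (.node (.leaf 19470) (.leaf 43024)))))) (.node (.node (.node (.node (.node (.node (.leaf 1031) (.leaf 44783)) (.leaf 21578)) (.node (.leaf 10959) (.leaf 32554))) (.node (.node (.node (.leaf 5962) (.leaf 50054)) (.leaf 27114)) (.node (.leaf 16173) (.leaf 39017)))) (.node (.node (.node (.node (.leaf 3374) (.leaf 46892)) (.leaf 24300)) (.node (.leaf 13350) (.leaf 35852))) (.node (.node (.node (.leaf 8270) (.leaf 62477)) (.leaf 29738)) (.node (.leaf 18786) (.leaf 42311))))) (.node (.node (.node (.node (.node (.leaf 2146) (.leaf 45800)) (.leaf 22759)) (.node (.leaf 12045) (.leaf 34147))) (.node (.node (.node (.leaf 7086) (.leaf 52426)) (.leaf 28330)) (.node (.leaf 17353) (.leaf 40714)))) (.node (.node (.node (.node (.leaf 4496) (.leaf 48140)) (.leaf 25680)) (.node (.leaf 14540) (.leaf 37552))) (.node (.node (.node (.leaf 9827) (.leaf 83151)) (.leaf 31111)) (.node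 (.leaf 20240) (.leaf 43471)))))))) (.node (.node (.node (.node (.node (.node (.node (.node (.leaf 259) (.leaf 44141)) (.leaf 20842)) (.node (.node (.leaf 10286) (.leaf 93260)) (.leaf 31818))) (.node (.node (.node (.leaf 5103) (.leaf 48675)) (.leaf 26415)) (.node (.leaf 15079) (.leaf 38189)))) (.node (.node (.node (.node (.leaf 2538) (.leaf 46210)) (.leaf 23270)) (.node (.leaf 12457) (.leaf 34697))) (.node (.node (.node (.leaf 7504) (.leaf 55657)) (.leaf 28714)) (.node (.leaf 17891) (.leaf 41318))))) (.node (.node (.node (.node (.node (.leaf 1485) (.leaf 45167)) (.leaf 21923)) (.node (.leaf 11342) (.leaf 33193))) (.node (.node (.node (.leaf 6376) (.leaf 51056)) (.leaf 27594)) (.node (.leaf 16514) (.leaf 39660)))) (.node (.node (.node (.node (.leaf 3776) (.leaf 47271)) (.leaf 24840)) (.node (.leaf 13678) (.leaf 36304))) (.node (.node (.node (.leaf 8906) (.leaf 66848)) (.leaf 30410)) (.node (.leaf 19395) (.leaf 42892)))))) (.node (.node (.node (.node (.node (.node (.leaf 911) (.leaf 44678)) (.leaf 21442)) (.node (.node (.leaf 10852) (.leaf 140614)) (.leaf 32352)))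 (.node (.node (.node (.leaf 5859) (.leaf 49769)) (.leaf 26992)) (.node (.leaf 15846) (.leaf 38893)))) (.node (.node (.node (.node (.leaf 3114) (.leaf 46752)) (.leaf 24128)) (.node (.leaf 13162) (.leaf 35690))) (.node (.node (.node (.leaf 8163) (.leaf 60618)) (.leaf 29570)) (.node (.leaf 18537) (.leaf 42214))))) (.node (.node (.node (.node (.node (.leaf 1932) (.leaf 45671)) (.leaf 22602)) (.node (.leaf 11914) (.leaf 33865))) (.node (.node (.node (.leaf 6991) (.leaf 51911)) (.leaf 28206)) (.node (.leaf 17164) (.leaf 40554)))) (.node (.node (.node (.node (.leaf 4399) (.leaf 48045)) (.leaf 25452)) (.node (.leaf 14314) (.leaf 37322))) (.node (.node (.node (.leaf 9543) (.leaf 80176)) (.leaf 30952)) (.node (.leaf 20074) (.leaf 43373))))))) (.node (.node (.node (.node (.node (.node (.node (.leaf 610) (.leaf 44430)) (.leaf 21059)) (.node (.node (.leaf 10624) (.leaf 102375)) (.leaf 32105))) (.node (.node (.node (.leaf 5517) (.leaf 49328)) (.leaf 26818)) (.node (.leaf 15520) (.leaf 38640)))) (.node (.node (.node (.node (.leaf 2764) (.leaf 46500)) (.leaf 23664)) (.node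 (.leaf 12802) (.leaf 35200))) (.node (.node (.node (.leaf 7842) (.leaf 58224)) (.leaf 29120)) (.node (.leaf 18208) (.leaf 41834))))) (.node (.node (.node (.node (.node (.leaf 1734) (.leaf 45412)) (.leaf 22314)) (.node (.leaf 11600) (.leaf 33421))) (.node (.node (.node (.leaf 6799) (.leaf 51650)) (.leaf 27823)) (.node (.leaf 16870) (.leaf 39885)))) (.node (.node (.node (.node (.leaf 4140) (.leaf 47584)) (.leaf 25039)) (.node (.leaf 14061) (.leaf 36810))) (.node (.node (.node (.leaf 9224) (.leaf 71910)) (.leaf 30759)) (.node (.leaf 19622) (.leaf 43168)))))) (.node (.node (.node (.node (.node (.node (.leaf 1161) (.leaf 44909)) (.leaf 21702)) (.node (.leaf 11079) (.leaf 32784))) (.node (.node (.node (.leaf 6119) (.leaf 50378)) (.leaf 27335)) (.node (.leaf 16324) (.leaf 39302)))) (.node (.node (.node (.node (.leaf 3491) (.leaf 47023)) (.leaf 24455)) (.node (.leaf 13447) (.leaf 35972))) (.node (.node (.node (.leaf 8518) (.leaf 63651)) (.leaf 30048)) (.node (.leaf 19072) (.leaf 42442))))) (.node (.node (.node (.node (.node (.leaf 2281) (.leaf 45954)) (.leaf 22919))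 (.node (.leaf 12194) (.leaf 34384))) (.node (.node (.node (.leaf 7304) (.leaf 53156)) (.leaf 28480)) (.node (.leaf 17517) (.leaf 40972)))) (.node (.node (.node (.node (.leaf 4704) (.leaf 48268)) (.leaf 25999)) (.node (.leaf 14669) (.leaf 37859))) (.node (.node (.node (.leaf 10054) (.leaf 87555)) (.leaf 31370)) (.node (.leaf 20432) (.leaf 43726))))))))) (.node (.node (.node (.node (.node (.node (.node (.node (.node (.leaf 162) (.leaf 44067)) (.leaf 20740)) (.node (.node (.leaf 10214) (.leaf 91946)) (.leaf 31722))) (.node (.node (.node (.leaf 5007) (.leaf 48524)) (.leaf 26316)) (.node (.leaf 14919) (.leaf 38114)))) (.node (.node (.node (.node (.leaf 2477) (.leaf 46154)) (.leaf 23175)) (.node (.leaf 12419) (.leaf 34633))) (.node (.node (.node (.leaf 7466) (.leaf 54914)) (.leaf 28647)) (.node (.leaf 17832) (.leaf 41218))))) (.node (.node (.node (.node (.node (.leaf 1442) (.leaf 45127)) (.leaf 21837)) (.node (.leaf 11300) (.leaf 33129))) (.node (.node (.node (.leaf 6311) (.leaf 50915)) (.leaf 27555)) (.node (.leaf 16460) (.leaf 39597)))) (.node (.node (.node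 (.node (.leaf 3682) (.leaf 47210)) (.leaf 24718)) (.node (.leaf 13606) (.leaf 36140))) (.node (.node (.node (.leaf 8808) (.leaf 65296)) (.leaf 30256)) (.node (.leaf 19340) (.leaf 42791)))))) (.node (.node (.node (.node (.node (.node (.leaf 847) (.leaf 44588)) (.leaf 21294)) (.node (.node (.leaf 10768) (.leaf 125186)) (.leaf 32266))) (.node (.node (.node (.leaf 5806) (.leaf 49728)) (.leaf 26954)) (.node (.leaf 15728) (.leaf 38854)))) (.node (.node (.node (.node (.leaf 3021) (.leaf 46665)) (.leaf 23978)) (.node (.leaf 13100) (.leaf 35588))) (.node (.node (.node (.leaf 8102) (.leaf 60240)) (.leaf 29424)) (.node (.leaf 18441) (.leaf 42157))))) (.node (.node (.node (.node (.node (.leaf 1868) (.leaf 45602)) (.leaf 22480)) (.node (.leaf 11855) (.leaf 33706))) (.node (.node (.node (.leaf 6953) (.leaf 51856)) (.leaf 28111)) (.node (.leaf 17098) (.leaf 40330)))) (.node (.node (.node (.node (.leaf 4360) (.leaf 47980)) (.leaf 25354)) (.node (.leaf 14246) (.leaf 37223))) (.node (.node (.node (.leaf 9455) (.leaf 78316)) (.leaf 30895)) (.node (.leaf 19975) (.leaf 43334)))))))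 (.node (.node (.node (.node (.node (.node (.node (.leaf 526) (.leaf 44368)) (.leaf 21004)) (.node (.node (.leaf 10563) (.leaf 99534)) (.leaf 32067))) (.node (.node (.node (.leaf 5386) (.leaf 49159)) (.leaf 26736)) (.node (.leaf 15427) (.leaf 38541)))) (.node (.node (.node (.node (.leaf 2688) (.leaf 46410)) (.leaf 23558)) (.node (.leaf 12743) (.leaf 35047))) (.node (.node (.node (.leaf 7760) (.leaf 57319)) (.leaf 28973)) (.node (.leaf 18122) (.leaf 41699))))) (.node (.node (.node (.node (.node (.leaf 1676) (.leaf 45344)) (.leaf 22249)) (.node (.leaf 11558) (.leaf 33378))) (.node (.node (.node (.leaf 6730) (.leaf 51526)) (.leaf 27756)) (.node (.leaf 16808) (.leaf 39820)))) (.node (.node (.node (.node (.leaf 4014) (.leaf 47440)) (.leaf 25000)) (.node (.leaf 13998) (.leaf 36738))) (.node (.node (.node (.leaf 9162) (.leaf 69481)) (.leaf 30691)) (.node (.leaf 19529) (.leaf 43106)))))) (.node (.node (.node (.node (.node (.node (.leaf 1095) (.leaf 44847)) (.leaf 21640)) (.node (.leaf 11024) (.leaf 32688))) (.node (.node (.node (.leaf 6054) (.leaf 50248)) (.leaf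 27204)) (.node (.leaf 16265) (.leaf 39232)))) (.node (.node (.node (.node (.leaf 3432) (.leaf 46957)) (.leaf 24358)) (.node (.leaf 13391) (.leaf 35913))) (.node (.node (.node (.leaf 8362) (.leaf 63139)) (.leaf 29900)) (.node (.leaf 18922) (.leaf 42370))))) (.node (.node (.node (.node (.node (.leaf 2224) (.leaf 45868)) (.leaf 22800)) (.node (.leaf 12096) (.leaf 34282))) (.node (.node (.node (.leaf 7208) (.leaf 52803)) (.leaf 28418)) (.node (.leaf 17420) (.leaf 40839)))) (.node (.node (.node (.node (.leaf 4590) (.leaf 48226)) (.leaf 25890)) (.node (.leaf 14601) (.leaf 37671))) (.node (.node (.node (.leaf 9898) (.leaf 84935)) (.leaf 31242)) (.node (.leaf 20352) (.leaf 43618)))))))) (.node (.node (.node (.node (.node (.node (.node (.node (.leaf 329) (.leaf 44204)) (.leaf 20899)) (.node (.node (.leaf 10339) (.leaf 95628)) (.leaf 31948))) (.node (.node (.node (.leaf 5218) (.leaf 48848)) (.leaf 26536)) (.node (.leaf 15210) (.leaf 38319)))) (.node (.node (.node (.node (.leaf 2595) (.leaf 46279)) (.leaf 23405)) (.node (.leaf 12552) (.leaf 34752))) (.node (.node (.node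 (.leaf 7591) (.leaf 56256)) (.leaf 28845)) (.node (.leaf 17994) (.leaf 41386))))) (.node (.node (.node (.node (.node (.leaf 1546) (.leaf 45223)) (.leaf 22023)) (.node (.leaf 11408) (.leaf 33256))) (.node (.node (.node (.leaf 6541) (.leaf 51184)) (.leaf 27661)) (.node (.leaf 16675) (.leaf 39719)))) (.node (.node (.node (.node (.leaf 3821) (.leaf 47331)) (.leaf 24900)) (.node (.leaf 13805) (.leaf 36462))) (.node (.node (.node (.leaf 9004) (.leaf 67555)) (.leaf 30535)) (.node (.leaf 19433) (.leaf 42958)))))) (.node (.node (.node (.node (.node (.node (.leaf 972) (.leaf 44736)) (.leaf 21513)) (.node (.leaf 10914) (.leaf 32480))) (.node (.node (.node (.leaf 5920) (.leaf 49920)) (.leaf 27047)) (.node (.leaf 16034) (.leaf 38952)))) (.node (.node (.node (.node (.leaf 3331) (.leaf 46826)) (.leaf 24227)) (.node (.leaf 13292) (.leaf 35758))) (.node (.node (.node (.leaf 8228) (.leaf 61424)) (.leaf 29634)) (.node (.leaf 18700) (.leaf 42255))))) (.node (.node (.node (.node (.node (.leaf 2023) (.leaf 45738)) (.leaf 22698)) (.node (.leaf 11981) (.leaf 33999))) (.node (.node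 (.node (.leaf 7046) (.leaf 52102)) (.leaf 28266)) (.node (.leaf 17226) (.leaf 40623)))) (.node (.node (.node (.node (.leaf 4458) (.leaf 48103)) (.leaf 25572)) (.node (.leaf 14445) (.leaf 37446))) (.node (.node (.node (.leaf 9638) (.leaf 81325)) (.leaf 31016)) (.node (.leaf 20194) (.leaf 43430))))))) (.node (.node (.node (.node (.node (.node (.node (.leaf 688) (.leaf 44490)) (.leaf 21102)) (.node (.node (.leaf 10672) (.leaf 106704)) (.leaf 32166))) (.node (.node (.node (.leaf 5606) (.leaf 49416)) (.leaf 26855)) (.node (.leaf 15599) (.leaf 38733)))) (.node (.node (.node (.node (.leaf 2830) (.leaf 46541)) (.leaf 23754)) (.node (.leaf 12906) (.leaf 35330))) (.node (.node (.node (.leaf 7980) (.leaf 58830)) (.leaf 29252)) (.node (.leaf 18306) (.leaf 41927))))) (.node (.node (.node (.node (.node (.leaf 1774) (.leaf 45453)) (.leaf 22384)) (.node (.leaf 11686) (.leaf 33482))) (.node (.node (.node (.leaf 6857) (.leaf 51720)) (.leaf 27907)) (.node (.leaf 16934) (.leaf 40067)))) (.node (.node (.node (.node (.leaf 4258) (.leaf 47683)) (.leaf 25154)) (.node (.leaf 14128)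 (.leaf 36878))) (.node (.node (.node (.leaf 9318) (.leaf 74051)) (.leaf 30800)) (.node (.leaf 19750) (.leaf 43239)))))) (.node (.node (.node (.node (.node (.node (.leaf 1258) (.leaf 44973)) (.leaf 21741)) (.node (.leaf 11144) (.leaf 32912))) (.node (.node (.node (.leaf 6186) (.leaf 50576)) (.leaf 27408)) (.node (.leaf 16364) (.leaf 39404)))) (.node (.node (.node (.node (.leaf 3534) (.leaf 47080)) (.leaf 24560)) (.node (.leaf 13482) (.leaf 36032))) (.node (.node (.node (.leaf 8642) (.leaf 63919)) (.leaf 30160)) (.node (.leaf 19138) (.leaf 42594))))) (.node (.node (.node (.node (.node (.leaf 2345) (.leaf 46016)) (.leaf 23018)) (.node (.leaf 12240) (.leaf 34504))) (.node (.node (.node (.leaf 7344) (.leaf 53546)) (.leaf 28546)) (.node (.leaf 17610) (.leaf 41098)))) (.node (.node (.node (.node (.leaf 4834) (.leaf 48322)) (.leaf 26150)) (.node (.leaf 14755) (.leaf 37958))) (.node (.node (.node (.leaf 10115) (.leaf 89184)) (.leaf 31495)) (.node (.leaf 20554) (.leaf 43856)))))))))))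

noncomputable def parA3 : Arr ℕ :=
  (.node (.node (.node (.node (.node (.node (.node (.node (.node (.node (.node (.leaf 6) (.leaf 43942)) (.leaf 20589)) (.node (.node (.leaf 10144) (.leaf 90050)) (.leaf 31558))) (.node (.node (.node (.leaf 4866) (.leaf 48366)) (.leaf 26185)) (.node (.leaf 14797) (.leaf 37992)))) (.node (.node (.node (.node (.leaf 2377) (.leaf 46088)) (.leaf 23084)) (.node (.leaf 12291) (.leaf 34542))) (.node (.node (.node (.leaf 7394) (.leaf 53804)) (.leaf 28578)) (.node (.leaf 17644) (.leaf 41132))))) (.node (.node (.node (.node (.node (.leaf 1312) (.leaf 45008)) (.leaf 21770)) (.node (.leaf 11200) (.leaf 33034))) (.node (.node (.node (.leaf 6224) (.leaf 50722)) (.leaf 27436)) (.node (.leaf 16394) (.leaf 39432)))) (.node (.node (.node (.node (.leaf 3564) (.leaf 47114)) (.leaf 24647)) (.node (.leaf 13513) (.leaf 36070))) (.node (.node (.node (.leaf 8679) (.leaf 64391)) (.leaf 30191)) (.node (.leaf 19270) (.leaf 42639)))))) (.node (.node (.node (.node (.node (.node (.leaf 746) (.leaf 44521)) (.leaf 21132)) (.node (.node (.leaf 10701) (.leaf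 107560)) (.leaf 32199))) (.node (.node (.node (.leaf 5699) (.leaf 49546)) (.leaf 26886)) (.node (.leaf 15652) (.leaf 38766)))) (.node (.node (.node (.node (.leaf 2858) (.leaf 46573)) (.leaf 23815)) (.node (.leaf 12995) (.leaf 35370))) (.node (.node (.node (.leaf 8015) (.leaf 59152)) (.leaf 29290)) (.node (.leaf 18380) (.leaf 42029))))) (.node (.node (.node (.node (.node (.leaf 1802) (.leaf 45484)) (.leaf 22413)) (.node (.leaf 11718) (.leaf 33510))) (.node (.node (.node (.leaf 6886) (.leaf 51752)) (.leaf 27950)) (.node (.leaf 16975) (.leaf 40144)))) (.node (.node (.node (.node (.leaf 4292) (.leaf 47779)) (.leaf 25196)) (.node (.leaf 14158) (.leaf 37036))) (.node (.node (.node (.leaf 9358) (.leaf 75779)) (.leaf 30830)) (.node (.leaf 19790) (.leaf 43264))))))) (.node (.node (.node (.node (.node (.node (.node (.leaf 400) (.leaf 44239)) (.leaf 20935)) (.node (.node (.leaf 10381) (.leaf 97294)) (.leaf 31975))) (.node (.node (.node (.leaf 5262) (.leaf 48903)) (.leaf 26624)) (.node (.leaf 15280) (.leaf 38346)))) (.node (.node (.node (.node (.leaf 2608) (.leaf 46320))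 (.leaf 23440)) (.node (.leaf 12612) (.leaf 34787))) (.node (.node (.node (.leaf 7623) (.leaf 56550)) (.leaf 28898)) (.node (.leaf 18023) (.leaf 41516))))) (.node (.node (.node (.node (.node (.leaf 1578) (.leaf 45261)) (.leaf 22128)) (.node (.leaf 11440) (.leaf 33292))) (.node (.node (.node (.leaf 6573) (.leaf 51306)) (.leaf 27689)) (.node (.leaf 16687) (.leaf 39748)))) (.node (.node (.node (.node (.leaf 3879) (.leaf 47363)) (.leaf 24935)) (.node (.leaf 13868) (.leaf 36518))) (.node (.node (.node (.leaf 9062) (.leaf 67914)) (.leaf 30569)) (.node (.leaf 19459) (.leaf 42992)))))) (.node (.node (.node (.node (.node (.node (.leaf 1002) (.leaf 44771)) (.leaf 21568)) (.node (.leaf 10928) (.leaf 32528))) (.node (.node (.node (.leaf 5936) (.leaf 49997)) (.leaf 27084)) (.node (.leaf 16080) (.leaf 38986)))) (.node (.node (.node (.node (.leaf 3366) (.leaf 46863)) (.leaf 24266)) (.node (.leaf 13322) (.leaf 35785))) (.node (.node (.node (.leaf 8258) (.leaf 61998)) (.leaf 29670)) (.node (.leaf 18732) (.leaf 42286))))) (.node (.node (.node (.node (.node (.leaf 2086) (.leaf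 45770)) (.leaf 22734)) (.node (.leaf 12016) (.leaf 34064))) (.node (.node (.node (.leaf 7074) (.leaf 52268)) (.leaf 28298)) (.node (.leaf 17287) (.leaf 40650)))) (.node (.node (.node (.node (.leaf 4484) (.leaf 48128)) (.leaf 25610)) (.node (.leaf 14498) (.leaf 37510))) (.node (.node (.node (.leaf 9709) (.leaf 82727)) (.leaf 31048)) (.node (.leaf 20227) (.leaf 43458)))))))) (.node (.node (.node (.node (.node (.node (.node (.node (.leaf 202) (.leaf 44109)) (.leaf 20771)) (.node (.node (.leaf 10274) (.leaf 92836)) (.leaf 31756))) (.node (.node (.node (.leaf 5090) (.leaf 48592)) (.leaf 26402)) (.node (.leaf 15017) (.leaf 38154)))) (.node (.node (.node (.node (.leaf 2506) (.leaf 46185)) (.leaf 23206)) (.node (.leaf 12432) (.leaf 34665))) (.node (.node (.node (.leaf 7494) (.leaf 55264)) (.leaf 28675)) (.node (.leaf 17863) (.leaf 41262))))) (.node (.node (.node (.node (.node (.leaf 1456) (.leaf 45156)) (.leaf 21864)) (.node (.leaf 11328) (.leaf 33167))) (.node (.node (.node (.leaf 6346) (.leaf 50986)) (.leaf 27567)) (.node (.leaf 16487) (.leaf 39651)))) (.node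 (.node (.node (.node (.leaf 3728) (.leaf 47244)) (.leaf 24803)) (.node (.leaf 13648) (.leaf 36230))) (.node (.node (.node (.leaf 8847) (.leaf 65904)) (.leaf 30346)) (.node (.leaf 19369) (.leaf 42855)))))) (.node (.node (.node (.node (.node (.node (.leaf 880) (.leaf 44615)) (.leaf 21384)) (.node (.node (.leaf 10823) (.leaf 133667)) (.leaf 32295))) (.node (.node (.node (.leaf 5836) (.leaf 49742)) (.leaf 26982)) (.node (.leaf 15792) (.leaf 38882)))) (.node (.node (.node (.node (.leaf 3104) (.leaf 46704)) (.leaf 24015)) (.node (.leaf 13130) (.leaf 35661))) (.node (.node (.node (.leaf 8137) (.leaf 60526)) (.leaf 29520)) (.node (.leaf 18505) (.leaf 42185))))) (.node (.node (.node (.node (.node (.leaf 1894) (.leaf 45642)) (.leaf 22512)) (.node (.leaf 11887) (.leaf 33834))) (.node (.node (.node (.leaf 6983) (.leaf 51887)) (.leaf 28172)) (.node (.leaf 17136) (.leaf 40464)))) (.node (.node (.node (.node (.leaf 4391) (.leaf 48007)) (.leaf 25408)) (.node (.leaf 14286) (.leaf 37312))) (.node (.node (.node (.leaf 9511) (.leaf 79180)) (.leaf 30924)) (.node (.leaf 20064)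 (.leaf 43362))))))) (.node (.node (.node (.node (.node (.node (.node (.leaf 579) (.leaf 44422)) (.leaf 21034)) (.node (.node (.leaf 10576) (.leaf 100938)) (.leaf 32078))) (.node (.node (.node (.leaf 5474) (.leaf 49261)) (.leaf 26786)) (.node (.leaf 15466) (.leaf 38599)))) (.node (.node (.node (.node (.leaf 2703) (.leaf 46468)) (.leaf 23600)) (.node (.leaf 12776) (.leaf 35114))) (.node (.node (.node (.leaf 7814) (.leaf 57952)) (.leaf 29063)) (.node (.leaf 18182) (.leaf 41802))))) (.node (.node (.node (.node (.node (.leaf 1704) (.leaf 45376)) (.leaf 22286)) (.node (.leaf 11592) (.leaf 33410))) (.node (.node (.node (.leaf 6787) (.leaf 51568)) (.leaf 27788)) (.node (.leaf 16836) (.leaf 39847)))) (.node (.node (.node (.node (.leaf 4041) (.leaf 47494)) (.leaf 25027)) (.node (.leaf 14026) (.leaf 36752))) (.node (.node (.node (.leaf 9196) (.leaf 71143)) (.leaf 30730)) (.node (.leaf 19568) (.leaf 43120)))))) (.node (.node (.node (.node (.node (.node (.leaf 1136) (.leaf 44896)) (.leaf 21673)) (.node (.leaf 11054) (.leaf 32719))) (.node (.node (.node (.leaf 6089) (.leaf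 50316)) (.leaf 27274)) (.node (.leaf 16298) (.leaf 39248)))) (.node (.node (.node (.node (.leaf 3464) (.leaf 47014)) (.leaf 24400)) (.node (.leaf 13421) (.leaf 35942))) (.node (.node (.node (.leaf 8455) (.leaf 63310)) (.leaf 29959)) (.node (.leaf 19020) (.leaf 42402))))) (.node (.node (.node (.node (.node (.leaf 2254) (.leaf 45924)) (.leaf 22889)) (.node (.leaf 12162) (.leaf 34317))) (.node (.node (.node (.leaf 7271) (.leaf 52969)) (.leaf 28454)) (.node (.leaf 17479) (.leaf 40931)))) (.node (.node (.node (.node (.leaf 4623) (.leaf 48240)) (.leaf 25936)) (.node (.leaf 14640) (.leaf 37744))) (.node (.node (.node (.leaf 9994) (.leaf 86831)) (.leaf 31303)) (.node (.leaf 20398) (.leaf 43688))))))))) (.node (.node (.node (.node (.node (.node (.node (.node (.node (.leaf 112) (.leaf 44034)) (.leaf 20707)) (.node (.node (.leaf 10186) (.leaf 91616)) (.leaf 31683))) (.node (.node (.node (.leaf 4966) (.leaf 48493)) (.leaf 26285)) (.node (.leaf 14862) (.leaf 38032)))) (.node (.node (.node (.node (.leaf 2468) (.leaf 46127)) (.leaf 23144)) (.node (.leaf 12390) (.leaf 34605)))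 (.node (.node (.node (.leaf 7437) (.leaf 54413)) (.leaf 28621)) (.node (.leaf 17743) (.leaf 41194))))) (.node (.node (.node (.node (.node (.leaf 1392) (.leaf 45098)) (.leaf 21824)) (.node (.leaf 11264) (.leaf 33104))) (.node (.node (.node (.leaf 6281) (.leaf 50765)) (.leaf 27520)) (.node (.leaf 16432) (.leaf 39568)))) (.node (.node (.node (.node (.leaf 3628) (.leaf 47182)) (.leaf 24706)) (.node (.leaf 13576) (.leaf 36111))) (.node (.node (.node (.leaf 8778) (.leaf 64896)) (.leaf 30246)) (.node (.leaf 19310) (.leaf 42755)))))) (.node (.node (.node (.node (.node (.node (.leaf 816) (.leaf 44559)) (.leaf 21224)) (.node (.node (.leaf 10758) (.leaf 122308)) (.leaf 32239))) (.node (.node (.node (.leaf 5775) (.leaf 49702)) (.leaf 26928)) (.node (.leaf 15716) (.leaf 38825)))) (.node (.node (.node (.node (.leaf 2952) (.leaf 46639)) (.leaf 23916)) (.node (.leaf 13072) (.leaf 35498))) (.node (.node (.node (.leaf 8076) (.leaf 60099)) (.leaf 29353)) (.node (.leaf 18416) (.leaf 42148))))) (.node (.node (.node (.node (.node (.leaf 1840) (.leaf 45549)) (.leaf 22470)) (.node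 (.leaf 11786) (.leaf 33641))) (.node (.node (.node (.leaf 6925) (.leaf 51842)) (.leaf 28073)) (.node (.leaf 17066) (.leaf 40291)))) (.node (.node (.node (.node (.leaf 4332) (.leaf 47907)) (.leaf 25344)) (.node (.leaf 14221) (.leaf 37191))) (.node (.node (.node (.leaf 9422) (.leaf 78018)) (.leaf 30887)) (.node (.leaf 19912) (.leaf 43306))))))) (.node (.node (.node (.node (.node (.node (.node (.leaf 489) (.leaf 44336)) (.leaf 20992)) (.node (.node (.leaf 10530) (.leaf 98765)) (.leaf 32035))) (.node (.node (.node (.leaf 5360) (.leaf 49101)) (.leaf 26664)) (.node (.leaf 15367) (.leaf 38472)))) (.node (.node (.node (.node (.leaf 2663) (.leaf 46377)) (.leaf 23522)) (.node (.leaf 12716) (.leaf 34960))) (.node (.node (.node (.leaf 7719) (.leaf 57096)) (.leaf 28938)) (.node (.leaf 18064) (.leaf 41616))))) (.node (.node (.node (.node (.node (.leaf 1667) (.leaf 45318)) (.leaf 22222)) (.node (.leaf 11527) (.leaf 33351))) (.node (.node (.node (.leaf 6666) (.leaf 51466)) (.leaf 27728)) (.node (.leaf 16778) (.leaf 39791)))) (.node (.node (.node (.node (.leaf 3980) (.leaf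 47408)) (.leaf 24974)) (.node (.leaf 13965) (.leaf 36684))) (.node (.node (.node (.leaf 9133) (.leaf 69225)) (.leaf 30608)) (.node (.leaf 19502) (.leaf 43054)))))) (.node (.node (.node (.node (.node (.node (.leaf 1065) (.leaf 44836)) (.leaf 21612)) (.node (.leaf 10991) (.leaf 32650))) (.node (.node (.node (.leaf 6023) (.leaf 50151)) (.leaf 27171)) (.node (.leaf 16238) (.leaf 39146)))) (.node (.node (.node (.node (.leaf 3404) (.leaf 46926)) (.leaf 24332)) (.node (.leaf 13383) (.leaf 35880))) (.node (.node (.node (.leaf 8330) (.leaf 62896)) (.leaf 29805)) (.node (.leaf 18883) (.leaf 42342))))) (.node (.node (.node (.node (.node (.leaf 2190) (.leaf 45833)) (.leaf 22790)) (.node (.leaf 12072) (.leaf 34220))) (.node (.node (.node (.leaf 7171) (.leaf 52616)) (.leaf 28384)) (.node (.leaf 17388) (.leaf 40774)))) (.node (.node (.node (.node (.leaf 4578) (.leaf 48172)) (.leaf 25802)) (.node (.leaf 14576) (.leaf 37613))) (.node (.node (.node (.leaf 9858) (.leaf 83664)) (.leaf 31202)) (.node (.leaf 20272) (.leaf 43554)))))))) (.node (.node (.node (.node (.node (.node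 (.node (.node (.leaf 304) (.leaf 44174)) (.leaf 20876)) (.node (.node (.leaf 10316) (.leaf 94508)) (.leaf 31882))) (.node (.node (.node (.leaf 5135) (.leaf 48781)) (.leaf 26506)) (.node (.leaf 15175) (.leaf 38306)))) (.node (.node (.node (.node (.leaf 2570) (.leaf 46252)) (.leaf 23370)) (.node (.leaf 12521) (.leaf 34727))) (.node (.node (.node (.leaf 7534) (.leaf 56108)) (.leaf 28780)) (.node (.leaf 17930) (.leaf 41354))))) (.node (.node (.node (.node (.node (.leaf 1514) (.leaf 45197)) (.leaf 21968)) (.node (.leaf 11376) (.leaf 33231))) (.node (.node (.node (.leaf 6448) (.leaf 51112)) (.leaf 27650)) (.node (.leaf 16528) (.leaf 39688)))) (.node (.node (.node (.node (.leaf 3810) (.leaf 47299)) (.leaf 24871)) (.node (.leaf 13763) (.leaf 36394))) (.node (.node (.node (.leaf 8968) (.leaf 67107)) (.leaf 30506)) (.node (.leaf 19407) (.leaf 42926)))))) (.node (.node (.node (.node (.node (.node (.leaf 960) (.leaf 44711)) (.leaf 21488)) (.node (.node (.leaf 10880) (.leaf 174410)) (.leaf 32393))) (.node (.node (.node (.leaf 5892) (.leaf 49858)) (.leaf 27022)) (.node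 (.leaf 16004) (.leaf 38924)))) (.node (.node (.node (.node (.leaf 3270) (.leaf 46787)) (.leaf 24168)) (.node (.leaf 13258) (.leaf 35722))) (.node (.node (.node (.leaf 8202) (.leaf 60998)) (.leaf 29606)) (.node (.leaf 18631) (.leaf 42244))))) (.node (.node (.node (.node (.node (.leaf 1986) (.leaf 45702)) (.leaf 22640)) (.node (.leaf 11948) (.leaf 33964))) (.node (.node (.node (.leaf 7021) (.leaf 51948)) (.leaf 28256)) (.node (.leaf 17191) (.leaf 40611)))) (.node (.node (.node (.node (.leaf 4431) (.leaf 48072)) (.leaf 25520)) (.node (.leaf 14406) (.leaf 37410))) (.node (.node (.node (.leaf 9584) (.leaf 80515)) (.leaf 30983)) (.node (.leaf 20163) (.leaf 43402))))))) (.node (.node (.node (.node (.node (.node (.node (.leaf 656) (.leaf 44464)) (.leaf 21090)) (.node (.node (.leaf 10658) (.leaf 105248)) (.leaf 32138))) (.node (.node (.node (.leaf 5574) (.leaf 49379)) (.leaf 26829)) (.node (.leaf 15562) (.leaf 38723)))) (.node (.node (.node (.node (.leaf 2800) (.leaf 46530)) (.leaf 23719)) (.node (.leaf 12874) (.leaf 35274))) (.node (.node (.node (.leaf 7914) (.leaf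 58754)) (.leaf 29220)) (.node (.leaf 18252) (.leaf 41900))))) (.node (.node (.node (.node (.node (.leaf 1763) (.leaf 45442)) (.leaf 22370)) (.node (.leaf 11652) (.leaf 33454))) (.node (.node (.node (.leaf 6826) (.leaf 51689)) (.leaf 27879)) (.node (.leaf 16903) (.leaf 40006)))) (.node (.node (.node (.node (.leaf 4204) (.leaf 47623)) (.leaf 25072)) (.node (.leaf 14112) (.leaf 36848))) (.node (.node (.node (.leaf 9286) (.leaf 72944)) (.leaf 30790)) (.node (.leaf 19690) (.leaf 43206)))))) (.node (.node (.node (.node (.node (.node (.leaf 1223) (.leaf 44940)) (.leaf 21730)) (.node (.leaf 11114) (.leaf 32841))) (.node (.node (.node (.leaf 6153) (.leaf 50540)) (.leaf 27375)) (.node (.leaf 16352) (.leaf 39370)))) (.node (.node (.node (.node (.leaf 3504) (.leaf 47053)) (.leaf 24522)) (.node (.leaf 13472) (.leaf 36003))) (.node (.node (.node (.leaf 8554) (.leaf 63840)) (.leaf 30120)) (.node (.leaf 19087) (.leaf 42566))))) (.node (.node (.node (.node (.node (.leaf 2313) (.leaf 45984)) (.leaf 22960)) (.node (.leaf 12224) (.leaf 34478))) (.node (.node (.node (.leaf 7332)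 (.leaf 53414)) (.leaf 28519)) (.node (.leaf 17583) (.leaf 41059)))) (.node (.node (.node (.node (.leaf 4752) (.leaf 48298)) (.leaf 26087)) (.node (.leaf 14722) (.leaf 37930))) (.node (.node (.node (.leaf 10083) (.leaf 88750)) (.leaf 31463)) (.node (.leaf 20489) (.leaf 43785)))))))))) (.node (.node (.node (.node (.node (.node (.node (.node (.node (.node (.leaf 70) (.leaf 43980)) (.leaf 20656)) (.node (.node (.leaf 10157) (.leaf 90752)) (.leaf 31619))) (.node (.node (.node (.leaf 4880) (.leaf 48426)) (.leaf 26247)) (.node (.leaf 14848) (.leaf 38022)))) (.node (.node (.node (.node (.leaf 2435) (.leaf 46116)) (.leaf 23117)) (.node (.leaf 12304) (.leaf 34594))) (.node (.node (.node (.leaf 7424) (.leaf 53992)) (.leaf 28590)) (.node (.leaf 17709) (.leaf 41164))))) (.node (.node (.node (.node (.node (.leaf 1357) (.leaf 45058)) (.leaf 21798)) (.node (.leaf 11236) (.leaf 33068))) (.node (.node (.node (.leaf 6254) (.leaf 50736)) (.leaf 27466)) (.node (.leaf 16423) (.leaf 39501)))) (.node (.node (.node (.node (.leaf 3588) (.leaf 47146)) (.leaf 24680)) (.node (.leaf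 13543) (.leaf 36099))) (.node (.node (.node (.leaf 8711) (.leaf 64681)) (.leaf 30218)) (.node (.leaf 19280) (.leaf 42722)))))) (.node (.node (.node (.node (.node (.node (.leaf 777) (.leaf 44547)) (.leaf 21164)) (.node (.node (.leaf 10732) (.leaf 114128)) (.leaf 32226))) (.node (.node (.node (.leaf 5738) (.leaf 49610)) (.leaf 26916)) (.node (.leaf 15690) (.leaf 38797)))) (.node (.node (.node (.node (.leaf 2921) (.leaf 46624)) (.leaf 23855)) (.node (.leaf 13034) (.leaf 35431))) (.node (.node (.node (.leaf 8042) (.leaf 59688)) (.leaf 29322)) (.node (.leaf 18406) (.leaf 42115))))) (.node (.node (.node (.node (.node (.leaf 1828) (.leaf 45517)) (.leaf 22444)) (.node (.leaf 11752) (.leaf 33578))) (.node (.node (.node (.leaf 6912) (.leaf 51811)) (.leaf 28047)) (.node (.leaf 17034) (.leaf 40201)))) (.node (.node (.node (.node (.leaf 4303) (.leaf 47843)) (.leaf 25290)) (.node (.leaf 14192) (.leaf 37130))) (.node (.node (.node (.leaf 9391) (.leaf 77287)) (.leaf 30860)) (.node (.leaf 19856) (.leaf 43277))))))) (.node (.node (.node (.node (.node (.node (.node (.leaf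 458) (.leaf 44294)) (.leaf 20964)) (.node (.node (.leaf 10440) (.leaf 98374)) (.leaf 32007))) (.node (.node (.node (.leaf 5325) (.leaf 49034)) (.leaf 26638)) (.node (.leaf 15312) (.leaf 38378)))) (.node (.node (.node (.node (.leaf 2637) (.leaf 46346)) (.leaf 23490)) (.node (.leaf 12648) (.leaf 34864))) (.node (.node (.node (.leaf 7658) (.leaf 56739)) (.leaf 28911)) (.node (.leaf 18054) (.leaf 41600))))) (.node (.node (.node (.node (.node (.leaf 1634) (.leaf 45292)) (.leaf 22154)) (.node (.leaf 11494) (.leaf 33319))) (.node (.node (.node (.leaf 6599) (.leaf 51398)) (.leaf 27716)) (.node (.leaf 16744) (.leaf 39776)))) (.node (.node (.node (.node (.leaf 3912) (.leaf 47392)) (.leaf 24944)) (.node (.leaf 13895) (.leaf 36560))) (.node (.node (.node (.leaf 9103) (.leaf 68460)) (.leaf 30595)) (.node (.leaf 19471) (.leaf 43040)))))) (.node (.node (.node (.node (.node (.node (.leaf 1032) (.leaf 44784)) (.leaf 21602)) (.node (.leaf 10960) (.leaf 32586))) (.node (.node (.node (.leaf 5967) (.leaf 50061)) (.leaf 27120)) (.node (.leaf 16176) (.leaf 39018)))) (.node (.node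 (.node (.node (.leaf 3375) (.leaf 46893)) (.leaf 24301)) (.node (.leaf 13353) (.leaf 35853))) (.node (.node (.node (.leaf 8271) (.leaf 62560)) (.leaf 29766)) (.node (.leaf 18792) (.leaf 42314))))) (.node (.node (.node (.node (.node (.leaf 2147) (.leaf 45801)) (.leaf 22764)) (.node (.leaf 12046) (.leaf 34150))) (.node (.node (.node (.leaf 7087) (.leaf 52448)) (.leaf 28336)) (.node (.leaf 17354) (.leaf 40720)))) (.node (.node (.node (.node (.leaf 4524) (.leaf 48141)) (.leaf 25702)) (.node (.leaf 14541) (.leaf 37577))) (.node (.node (.node (.leaf 9828) (.leaf 83178)) (.leaf 31114)) (.node (.leaf 20258) (.leaf 43490)))))))) (.node (.node (.node (.node (.node (.node (.node (.node (.leaf 260) (.leaf 44142)) (.leaf 20845)) (.node (.node (.leaf 10287) (.leaf 93388)) (.leaf 31824))) (.node (.node (.node (.leaf 5104) (.leaf 48680)) (.leaf 26438)) (.node (.leaf 15082) (.leaf 38192)))) (.node (.node (.node (.node (.leaf 2540) (.leaf 46218)) (.leaf 23274)) (.node (.leaf 12458) (.leaf 34698))) (.node (.node (.node (.leaf 7520) (.leaf 55680)) (.leaf 28716)) (.node (.leaf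 17896) (.leaf 41320))))) (.node (.node (.node (.node (.node (.leaf 1486) (.leaf 45168)) (.leaf 21926)) (.node (.leaf 11343) (.leaf 33194))) (.node (.node (.node (.leaf 6377) (.leaf 51072)) (.leaf 27596)) (.node (.leaf 16515) (.leaf 39661)))) (.node (.node (.node (.node (.leaf 3778) (.leaf 47272)) (.leaf 24841)) (.node (.leaf 13679) (.leaf 36330))) (.node (.node (.node (.leaf 8912) (.leaf 66850)) (.leaf 30412)) (.node (.leaf 19396) (.leaf 42893)))))) (.node (.node (.node (.node (.node (.node (.leaf 912) (.leaf 44681)) (.leaf 21443)) (.node (.node (.leaf 10854) (.leaf 141024)) (.leaf 32354))) (.node (.node (.node (.leaf 5863) (.leaf 49770)) (.leaf 27008)) (.node (.leaf 15847) (.leaf 38912)))) (.node (.node (.node (.node (.leaf 3152) (.leaf 46758)) (.leaf 24136)) (.node (.leaf 13168) (.leaf 35696))) (.node (.node (.node (.leaf 8167) (.leaf 60650)) (.leaf 29571)) (.node (.leaf 18538) (.leaf 42215))))) (.node (.node (.node (.node (.node (.leaf 1933) (.leaf 45672)) (.leaf 22604)) (.node (.leaf 11916) (.leaf 33866))) (.node (.node (.node (.leaf 6992) (.leaf 51916))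 (.leaf 28207)) (.node (.leaf 17165) (.leaf 40557)))) (.node (.node (.node (.node (.leaf 4400) (.leaf 48046)) (.leaf 25453)) (.node (.leaf 14320) (.leaf 37354))) (.node (.node (.node (.leaf 9546) (.leaf 80240)) (.leaf 30953)) (.node (.leaf 20103) (.leaf 43374))))))) (.node (.node (.node (.node (.node (.node (.node (.leaf 611) (.leaf 44431)) (.leaf 21063)) (.node (.node (.leaf 10628) (.leaf 102541)) (.leaf 32106))) (.node (.node (.node (.leaf 5518) (.leaf 49348)) (.leaf 26819)) (.node (.leaf 15522) (.leaf 38666)))) (.node (.node (.node (.node (.leaf 2765) (.leaf 46502)) (.leaf 23680)) (.node (.leaf 12803) (.leaf 35202))) (.node (.node (.node (.leaf 7843) (.leaf 58416)) (.leaf 29128)) (.node (.leaf 18215) (.leaf 41840))))) (.node (.node (.node (.node (.node (.leaf 1735) (.leaf 45414)) (.leaf 22317)) (.node (.leaf 11618) (.leaf 33422))) (.node (.node (.node (.leaf 6800) (.leaf 51651)) (.leaf 27840)) (.node (.leaf 16871) (.leaf 39914)))) (.node (.node (.node (.node (.leaf 4141) (.leaf 47586)) (.leaf 25040)) (.node (.leaf 14064) (.leaf 36834))) (.node (.node (.node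 (.leaf 9225) (.leaf 71919)) (.leaf 30760)) (.node (.leaf 19623) (.leaf 43174)))))) (.node (.node (.node (.node (.node (.node (.leaf 1162) (.leaf 44910)) (.leaf 21704)) (.node (.leaf 11080) (.leaf 32810))) (.node (.node (.node (.leaf 6122) (.leaf 50384)) (.leaf 27336)) (.node (.leaf 16326) (.leaf 39303)))) (.node (.node (.node (.node (.leaf 3495) (.leaf 47024)) (.leaf 24456)) (.node (.leaf 13448) (.leaf 35974))) (.node (.node (.node (.leaf 8519) (.leaf 63753)) (.leaf 30050)) (.node (.leaf 19074) (.leaf 42448))))) (.node (.node (.node (.node (.node (.leaf 2282) (.leaf 45955)) (.leaf 22920)) (.node (.leaf 12198) (.leaf 34410))) (.node (.node (.node (.leaf 7305) (.leaf 53165)) (.leaf 28484)) (.node (.leaf 17518) (.leaf 40973)))) (.node (.node (.node (.node (.leaf 4706) (.leaf 48269)) (.leaf 26000)) (.node (.leaf 14672) (.leaf 37866))) (.node (.node (.node (.leaf 10055) (.leaf 87758)) (.leaf 31395)) (.node (.leaf 20452) (.leaf 43727))))))))) (.node (.node (.node (.node (.node (.node (.node (.node (.node (.leaf 163) (.leaf 44068)) (.leaf 20742)) (.node (.node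 (.leaf 10217) (.leaf 92174)) (.leaf 31724))) (.node (.node (.node (.leaf 5008) (.leaf 48525)) (.leaf 26342)) (.node (.leaf 14922) (.leaf 38115)))) (.node (.node (.node (.node (.leaf 2478) (.leaf 46156)) (.leaf 23176)) (.node (.leaf 12422) (.leaf 34634))) (.node (.node (.node (.leaf 7468) (.leaf 54922)) (.leaf 28650)) (.node (.leaf 17833) (.leaf 41223))))) (.node (.node (.node (.node (.node (.leaf 1443) (.leaf 45128)) (.leaf 21838)) (.node (.leaf 11302) (.leaf 33130))) (.node (.node (.node (.leaf 6312) (.leaf 50918)) (.leaf 27556)) (.node (.leaf 16461) (.leaf 39616)))) (.node (.node (.node (.node (.leaf 3683) (.leaf 47212)) (.leaf 24719)) (.node (.leaf 13607) (.leaf 36141))) (.node (.node (.node (.leaf 8809) (.leaf 65575)) (.leaf 30282)) (.node (.leaf 19341) (.leaf 42794)))))) (.node (.node (.node (.node (.node (.node (.leaf 848) (.leaf 44589)) (.leaf 21314)) (.node (.node (.leaf 10784) (.leaf 125187)) (.leaf 32268))) (.node (.node (.node (.leaf 5807) (.leaf 49730)) (.leaf 26956)) (.node (.leaf 15751) (.leaf 38857)))) (.node (.node (.node (.node (.leaf 3022)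 (.leaf 46666)) (.leaf 23981)) (.node (.leaf 13101) (.leaf 35594))) (.node (.node (.node (.leaf 8104) (.leaf 60367)) (.leaf 29446)) (.node (.leaf 18442) (.leaf 42158))))) (.node (.node (.node (.node (.node (.leaf 1869) (.leaf 45603)) (.leaf 22496)) (.node (.leaf 11856) (.leaf 33712))) (.node (.node (.node (.leaf 6954) (.leaf 51872)) (.leaf 28112)) (.node (.leaf 17102) (.leaf 40336)))) (.node (.node (.node (.node (.leaf 4361) (.leaf 47981)) (.leaf 25380)) (.node (.leaf 14247) (.leaf 37228))) (.node (.node (.node (.leaf 9482) (.leaf 78432)) (.leaf 30896)) (.node (.leaf 19976) (.leaf 43336))))))) (.node (.node (.node (.node (.node (.node (.node (.leaf 527) (.leaf 44384)) (.leaf 21005)) (.node (.node (.leaf 10566) (.leaf 99759)) (.leaf 32068))) (.node (.node (.node (.leaf 5391) (.leaf 49165)) (.leaf 26752)) (.node (.leaf 15430) (.leaf 38542)))) (.node (.node (.node (.node (.leaf 2690) (.leaf 46416)) (.leaf 23562)) (.node (.leaf 12748) (.leaf 35050))) (.node (.node (.node (.leaf 7786) (.leaf 57327)) (.leaf 28975)) (.node (.leaf 18128) (.leaf 41702))))) (.node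 (.node (.node (.node (.node (.leaf 1677) (.leaf 45347)) (.leaf 22250)) (.node (.leaf 11559) (.leaf 33379))) (.node (.node (.node (.leaf 6732) (.leaf 51528)) (.leaf 27757)) (.node (.leaf 16809) (.leaf 39821)))) (.node (.node (.node (.node (.leaf 4015) (.leaf 47456)) (.leaf 25001)) (.node (.leaf 13999) (.leaf 36739))) (.node (.node (.node (.leaf 9166) (.leaf 69482)) (.leaf 30695)) (.node (.leaf 19530) (.leaf 43107)))))) (.node (.node (.node (.node (.node (.node (.leaf 1096) (.leaf 44848)) (.leaf 21641)) (.node (.leaf 11040) (.leaf 32704))) (.node (.node (.node (.leaf 6055) (.leaf 50250)) (.leaf 27207)) (.node (.leaf 16266) (.leaf 39234)))) (.node (.node (.node (.node (.leaf 3433) (.leaf 46958)) (.leaf 24360)) (.node (.leaf 13392) (.leaf 35914))) (.node (.node (.node (.leaf 8365) (.leaf 63171)) (.leaf 29901)) (.node (.leaf 18924) (.leaf 42371))))) (.node (.node (.node (.node (.node (.leaf 2240) (.leaf 45869)) (.leaf 22822)) (.node (.leaf 12102) (.leaf 34286))) (.node (.node (.node (.leaf 7210) (.leaf 52806)) (.leaf 28419)) (.node (.leaf 17421) (.leaf 40842))))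 (.node (.node (.node (.node (.leaf 4591) (.leaf 48227)) (.leaf 25891)) (.node (.leaf 14602) (.leaf 37676))) (.node (.node (.node (.leaf 9901) (.leaf 85484)) (.leaf 31246)) (.node (.leaf 20354) (.leaf 43622)))))))) (.node (.node (.node (.node (.node (.node (.node (.node (.leaf 330) (.leaf 44205)) (.leaf 20902)) (.node (.node (.leaf 10340) (.leaf 95712)) (.leaf 31949))) (.node (.node (.node (.leaf 5219) (.leaf 48866)) (.leaf 26537)) (.node (.leaf 15212) (.leaf 38320)))) (.node (.node (.node (.node (.leaf 2599) (.leaf 46284)) (.leaf 23408)) (.node (.leaf 12553) (.leaf 34754))) (.node (.node (.node (.leaf 7593) (.leaf 56263)) (.leaf 28846)) (.node (.leaf 17996) (.leaf 41418))))) (.node (.node (.node (.node (.node (.leaf 1552) (.leaf 45226)) (.leaf 22024)) (.node (.leaf 11426) (.leaf 33257))) (.node (.node (.node (.leaf 6544) (.leaf 51242)) (.leaf 27662)) (.node (.leaf 16676) (.leaf 39720)))) (.node (.node (.node (.node (.leaf 3822) (.leaf 47336)) (.leaf 24902)) (.node (.leaf 13808) (.leaf 36490))) (.node (.node (.node (.leaf 9006) (.leaf 67560)) (.leaf 30540))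 (.node (.leaf 19434) (.leaf 42959)))))) (.node (.node (.node (.node (.node (.node (.leaf 974) (.leaf 44743)) (.leaf 21514)) (.node (.leaf 10915) (.leaf 32482))) (.node (.node (.node (.leaf 5922) (.leaf 49923)) (.leaf 27052)) (.node (.leaf 16035) (.leaf 38953)))) (.node (.node (.node (.node (.leaf 3334) (.leaf 46828)) (.leaf 24234)) (.node (.leaf 13293) (.leaf 35759))) (.node (.node (.node (.leaf 8230) (.leaf 61644)) (.leaf 29638)) (.node (.leaf 18703) (.leaf 42256))))) (.node (.node (.node (.node (.node (.leaf 2024) (.leaf 45740)) (.leaf 22700)) (.node (.leaf 11982) (.leaf 34016))) (.node (.node (.node (.leaf 7047) (.leaf 52136)) (.leaf 28270)) (.node (.leaf 17231) (.leaf 40624)))) (.node (.node (.node (.node (.leaf 4460) (.leaf 48104)) (.leaf 25574)) (.node (.leaf 14448) (.leaf 37447))) (.node (.node (.node (.leaf 9639) (.leaf 81414)) (.leaf 31017)) (.node (.leaf 20195) (.leaf 43431))))))) (.node (.node (.node (.node (.node (.node (.node (.leaf 710) (.leaf 44492)) (.leaf 21103)) (.node (.node (.leaf 10688) (.leaf 106784)) (.leaf 32168))) (.node (.node (.node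 (.leaf 5607) (.leaf 49417)) (.leaf 26856)) (.node (.leaf 15600) (.leaf 38734)))) (.node (.node (.node (.node (.leaf 2831) (.leaf 46542)) (.leaf 23760)) (.node (.leaf 12932) (.leaf 35331))) (.node (.node (.node (.leaf 7981) (.leaf 58858)) (.leaf 29254)) (.node (.leaf 18314) (.leaf 41928))))) (.node (.node (.node (.node (.node (.leaf 1775) (.leaf 45456)) (.leaf 22400)) (.node (.leaf 11690) (.leaf 33484))) (.node (.node (.node (.leaf 6858) (.leaf 51721)) (.leaf 27910)) (.node (.leaf 16937) (.leaf 40068)))) (.node (.node (.node (.node (.leaf 4259) (.leaf 47686)) (.leaf 25155)) (.node (.leaf 14144) (.leaf 36879))) (.node (.node (.node (.leaf 9319) (.leaf 74476)) (.leaf 30816)) (.node (.leaf 19751) (.leaf 43240)))))) (.node (.node (.node (.node (.node (.node (.leaf 1264) (.leaf 44974)) (.leaf 21742)) (.node (.leaf 11145) (.leaf 32938))) (.node (.node (.node (.leaf 6188) (.leaf 50602)) (.leaf 27424)) (.node (.leaf 16365) (.leaf 39406)))) (.node (.node (.node (.node (.leaf 3535) (.leaf 47081)) (.leaf 24610)) (.node (.leaf 13484) (.leaf 36034))) (.node (.node (.node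 (.leaf 8643) (.leaf 64000)) (.leaf 30176)) (.node (.leaf 19146) (.leaf 42595))))) (.node (.node (.node (.node (.node (.leaf 2346) (.leaf 46022)) (.leaf 23024)) (.node (.leaf 12260) (.leaf 34505))) (.node (.node (.node (.leaf 7360) (.leaf 53552)) (.leaf 28547)) (.node (.leaf 17612) (.leaf 41100)))) (.node (.node (.node (.node (.leaf 4835) (.leaf 48323)) (.leaf 26154)) (.node (.leaf 14759) (.leaf 37964))) (.node (.node (.node (.leaf 10116) (.leaf 89191)) (.leaf 31500)) (.node (.leaf 20557) (.leaf 43878)))))))))))

noncomputable def parA4 : Arr ℕ :=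
  (.node (.node (.node (.node (.node (.node (.node (.node (.node (.node (.node (.leaf 7) (.leaf 43943)) (.leaf 20591)) (.node (.node (.leaf 10148) (.leaf 90051)) (.leaf 31562))) (.node (.node (.node (.leaf 4867) (.leaf 48367)) (.leaf 26186)) (.node (.leaf 14816) (.leaf 37993)))) (.node (.node (.node (.node (.leaf 2378) (.leaf 46089)) (.leaf 23085)) (.node (.leaf 12296) (.leaf 34543))) (.node (.node (.node (.leaf 7395) (.leaf 53902)) (.leaf 28579)) (.node (.leaf 17645) (.leaf 41133))))) (.node (.node (.node (.node (.node (.leaf 1324) (.leaf 45030)) (.leaf 21772)) (.node (.leaf 11202) (.leaf 33040))) (.node (.node (.node (.leaf 6240) (.leaf 50723)) (.leaf 27438)) (.node (.leaf 16397) (.leaf 39433)))) (.node (.node (.node (.node (.leaf 3565) (.leaf 47120)) (.leaf 24652)) (.node (.leaf 13514) (.leaf 36074))) (.node (.node (.node (.leaf 8682) (.leaf 64416)) (.leaf 30192)) (.node (.leaf 19272) (.leaf 42640)))))) (.node (.node (.node (.node (.node (.node (.leaf 749) (.leaf 44522)) (.leaf 21133)) (.node (.node (.leaf 10702) (.leaf 107918)) (.leaf 32200))) (.node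 (.node (.node (.leaf 5702) (.leaf 49548)) (.leaf 26888)) (.node (.leaf 15654) (.leaf 38767)))) (.node (.node (.node (.node (.leaf 2861) (.leaf 46592)) (.leaf 23816)) (.node (.leaf 13000) (.leaf 35376))) (.node (.node (.node (.leaf 8032) (.leaf 59216)) (.leaf 29296)) (.node (.leaf 18381) (.leaf 42032))))) (.node (.node (.node (.node (.node (.leaf 1804) (.leaf 45485)) (.leaf 22414)) (.node (.leaf 11719) (.leaf 33516))) (.node (.node (.node (.leaf 6887) (.leaf 51754)) (.leaf 27951)) (.node (.leaf 16976) (.leaf 40170)))) (.node (.node (.node (.node (.leaf 4294) (.leaf 47786)) (.leaf 25200)) (.node (.leaf 14159) (.leaf 37037))) (.node (.node (.node (.leaf 9359) (.leaf 75785)) (.leaf 30831)) (.node (.leaf 19792) (.leaf 43268))))))) (.node (.node (.node (.node (.node (.node (.node (.leaf 418) (.leaf 44259)) (.leaf 20937)) (.node (.node (.leaf 10384) (.leaf 97357)) (.leaf 31977))) (.node (.node (.node (.leaf 5263) (.leaf 48904)) (.leaf 26626)) (.node (.leaf 15298) (.leaf 38348)))) (.node (.node (.node (.node (.leaf 2624) (.leaf 46336)) (.leaf 23462)) (.node (.leaf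 12614) (.leaf 34788))) (.node (.node (.node (.leaf 7624) (.leaf 56551)) (.leaf 28899)) (.node (.leaf 18028) (.leaf 41517))))) (.node (.node (.node (.node (.node (.leaf 1606) (.leaf 45262)) (.leaf 22144)) (.node (.leaf 11456) (.leaf 33293))) (.node (.node (.node (.leaf 6574) (.leaf 51338)) (.leaf 27690)) (.node (.leaf 16688) (.leaf 39750)))) (.node (.node (.node (.node (.leaf 3882) (.leaf 47366)) (.leaf 24936)) (.node (.leaf 13870) (.leaf 36519))) (.node (.node (.node (.leaf 9063) (.leaf 67916)) (.leaf 30570)) (.node (.leaf 19462) (.leaf 43012)))))) (.node (.node (.node (.node (.node (.node (.leaf 1005) (.leaf 44776)) (.leaf 21570)) (.node (.leaf 10946) (.leaf 32544))) (.node (.node (.node (.leaf 5954) (.leaf 50019)) (.leaf 27085)) (.node (.leaf 16106) (.leaf 38992)))) (.node (.node (.node (.node (.leaf 3367) (.leaf 46864)) (.leaf 24272)) (.node (.leaf 13324) (.leaf 35786))) (.node (.node (.node (.leaf 8259) (.leaf 62018)) (.leaf 29671)) (.node (.leaf 18733) (.leaf 42287))))) (.node (.node (.node (.node (.node (.leaf 2090) (.leaf 45773)) (.leaf 22736)) (.node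 (.leaf 12032) (.leaf 34090))) (.node (.node (.node (.leaf 7075) (.leaf 52270)) (.leaf 28302)) (.node (.leaf 17288) (.leaf 40653)))) (.node (.node (.node (.node (.leaf 4486) (.leaf 48132)) (.leaf 25616)) (.node (.leaf 14499) (.leaf 37511))) (.node (.node (.node (.leaf 9712) (.leaf 82736)) (.leaf 31049)) (.node (.leaf 20228) (.leaf 43459)))))))) (.node (.node (.node (.node (.node (.node (.node (.node (.leaf 208) (.leaf 44110)) (.leaf 20774)) (.node (.node (.leaf 10276) (.leaf 92910)) (.leaf 31757))) (.node (.node (.node (.leaf 5091) (.leaf 48616)) (.leaf 26403)) (.node (.leaf 15018) (.leaf 38156)))) (.node (.node (.node (.node (.leaf 2512) (.leaf 46186)) (.leaf 23207)) (.node (.leaf 12448) (.leaf 34666))) (.node (.node (.node (.leaf 7495) (.leaf 55277)) (.leaf 28676)) (.node (.leaf 17864) (.leaf 41263))))) (.node (.node (.node (.node (.node (.leaf 1474) (.leaf 45158)) (.leaf 21865)) (.node (.leaf 11330) (.leaf 33184))) (.node (.node (.node (.leaf 6352) (.leaf 50992)) (.leaf 27568)) (.node (.leaf 16490) (.leaf 39652)))) (.node (.node (.node (.node (.leaf 3752)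 (.leaf 47245)) (.leaf 24807)) (.node (.leaf 13667) (.leaf 36262))) (.node (.node (.node (.leaf 8848) (.leaf 66128)) (.leaf 30372)) (.node (.leaf 19370) (.leaf 42856)))))) (.node (.node (.node (.node (.node (.node (.leaf 896) (.leaf 44618)) (.leaf 21386)) (.node (.node (.leaf 10825) (.leaf 135783)) (.leaf 32300))) (.node (.node (.node (.leaf 5837) (.leaf 49743)) (.leaf 26983)) (.node (.leaf 15815) (.leaf 38883)))) (.node (.node (.node (.node (.leaf 3106) (.leaf 46720)) (.leaf 24038)) (.node (.leaf 13136) (.leaf 35662))) (.node (.node (.node (.leaf 8138) (.leaf 60527)) (.leaf 29542)) (.node (.leaf 18506) (.leaf 42186))))) (.node (.node (.node (.node (.node (.leaf 1895) (.leaf 45644)) (.leaf 22564)) (.node (.leaf 11888) (.leaf 33840))) (.node (.node (.node (.leaf 6984) (.leaf 51888)) (.leaf 28173)) (.node (.leaf 17152) (.leaf 40490)))) (.node (.node (.node (.node (.leaf 4392) (.leaf 48008)) (.leaf 25418)) (.node (.leaf 14287) (.leaf 37314))) (.node (.node (.node (.leaf 9516) (.leaf 79651)) (.leaf 30926)) (.node (.leaf 20066) (.leaf 43363))))))) (.node (.node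 (.node (.node (.node (.node (.node (.leaf 582) (.leaf 44423)) (.leaf 21037)) (.node (.node (.leaf 10592) (.leaf 100940)) (.leaf 32079))) (.node (.node (.node (.leaf 5475) (.leaf 49290)) (.leaf 26787)) (.node (.leaf 15472) (.leaf 38604)))) (.node (.node (.node (.node (.leaf 2704) (.leaf 46470)) (.leaf 23620)) (.node (.leaf 12777) (.leaf 35143))) (.node (.node (.node (.leaf 7815) (.leaf 57955)) (.leaf 29065)) (.node (.leaf 18184) (.leaf 41804))))) (.node (.node (.node (.node (.node (.leaf 1705) (.leaf 45378)) (.leaf 22287)) (.node (.leaf 11593) (.leaf 33411))) (.node (.node (.node (.leaf 6788) (.leaf 51590)) (.leaf 27789)) (.node (.leaf 16842) (.leaf 39850)))) (.node (.node (.node (.node (.leaf 4042) (.leaf 47497)) (.leaf 25031)) (.node (.leaf 14051) (.leaf 36778))) (.node (.node (.node (.leaf 9198) (.leaf 71152)) (.leaf 30732)) (.node (.leaf 19584) (.leaf 43136)))))) (.node (.node (.node (.node (.node (.node (.leaf 1152) (.leaf 44898)) (.leaf 21674)) (.node (.leaf 11055) (.leaf 32720))) (.node (.node (.node (.leaf 6090) (.leaf 50317)) (.leaf 27277)) (.node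 (.leaf 16300) (.leaf 39270)))) (.node (.node (.node (.node (.leaf 3466) (.leaf 47015)) (.leaf 24426)) (.node (.leaf 13422) (.leaf 35943))) (.node (.node (.node (.leaf 8456) (.leaf 63374)) (.leaf 29962)) (.node (.leaf 19021) (.leaf 42407))))) (.node (.node (.node (.node (.node (.leaf 2255) (.leaf 45926)) (.leaf 22890)) (.node (.leaf 12163) (.leaf 34318))) (.node (.node (.node (.leaf 7272) (.leaf 52973)) (.leaf 28456)) (.node (.leaf 17482) (.leaf 40934)))) (.node (.node (.node (.node (.leaf 4624) (.leaf 48256)) (.leaf 25962)) (.node (.leaf 14656) (.leaf 37796))) (.node (.node (.node (.leaf 9997) (.leaf 87138)) (.leaf 31304)) (.node (.leaf 20422) (.leaf 43689))))))))) (.node (.node (.node (.node (.node (.node (.node (.node (.node (.leaf 130) (.leaf 44035)) (.leaf 20710)) (.node (.node (.leaf 10188) (.leaf 91631)) (.leaf 31690))) (.node (.node (.node (.leaf 4967) (.leaf 48496)) (.leaf 26286)) (.node (.leaf 14863) (.leaf 38056)))) (.node (.node (.node (.node (.leaf 2470) (.leaf 46128)) (.leaf 23145)) (.node (.leaf 12391) (.leaf 34606))) (.node (.node (.node (.leaf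 7438) (.leaf 54471)) (.leaf 28622)) (.node (.leaf 17744) (.leaf 41196))))) (.node (.node (.node (.node (.node (.leaf 1420) (.leaf 45100)) (.leaf 21826)) (.node (.leaf 11271) (.leaf 33120))) (.node (.node (.node (.leaf 6282) (.leaf 50768)) (.leaf 27526)) (.node (.leaf 16448) (.leaf 39584)))) (.node (.node (.node (.node (.leaf 3629) (.leaf 47183)) (.leaf 24707)) (.node (.leaf 13577) (.leaf 36112))) (.node (.node (.node (.leaf 8784) (.leaf 64899)) (.leaf 30248)) (.node (.leaf 19311) (.leaf 42764)))))) (.node (.node (.node (.node (.node (.node (.leaf 832) (.leaf 44576)) (.leaf 21225)) (.node (.node (.leaf 10759) (.leaf 122382)) (.leaf 32240))) (.node (.node (.node (.leaf 5776) (.leaf 49703)) (.leaf 26944)) (.node (.leaf 15718) (.leaf 38829)))) (.node (.node (.node (.node (.leaf 2953) (.leaf 46640)) (.leaf 23917)) (.node (.leaf 13088) (.leaf 35530))) (.node (.node (.node (.leaf 8077) (.leaf 60102)) (.leaf 29354)) (.node (.leaf 18432) (.leaf 42150))))) (.node (.node (.node (.node (.node (.leaf 1856) (.leaf 45550)) (.leaf 22471)) (.node (.leaf 11847) (.leaf 33642)))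 (.node (.node (.node (.leaf 6928) (.leaf 51846)) (.leaf 28074)) (.node (.leaf 17068) (.leaf 40294)))) (.node (.node (.node (.node (.leaf 4333) (.leaf 47910)) (.leaf 25346)) (.node (.leaf 14223) (.leaf 37194))) (.node (.node (.node (.leaf 9423) (.leaf 78122)) (.leaf 30888)) (.node (.leaf 19914) (.leaf 43308))))))) (.node (.node (.node (.node (.node (.node (.node (.leaf 490) (.leaf 44352)) (.leaf 20996)) (.node (.node (.leaf 10531) (.leaf 98855)) (.leaf 32038))) (.node (.node (.node (.leaf 5378) (.leaf 49126)) (.leaf 26665)) (.node (.leaf 15370) (.leaf 38473)))) (.node (.node (.node (.node (.leaf 2666) (.leaf 46378)) (.leaf 23523)) (.node (.leaf 12719) (.leaf 34982))) (.node (.node (.node (.leaf 7720) (.leaf 57124)) (.leaf 28940)) (.node (.leaf 18086) (.leaf 41642))))) (.node (.node (.node (.node (.node (.leaf 1668) (.leaf 45319)) (.leaf 22223)) (.node (.leaf 11530) (.leaf 33352))) (.node (.node (.node (.leaf 6669) (.leaf 51472)) (.leaf 27744)) (.node (.leaf 16781) (.leaf 39808)))) (.node (.node (.node (.node (.leaf 3981) (.leaf 47424)) (.leaf 24975)) (.node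 (.leaf 13984) (.leaf 36685))) (.node (.node (.node (.leaf 9134) (.leaf 69264)) (.leaf 30634)) (.node (.leaf 19503) (.leaf 43055)))))) (.node (.node (.node (.node (.node (.node (.leaf 1066) (.leaf 44838)) (.leaf 21614)) (.node (.leaf 11015) (.leaf 32652))) (.node (.node (.node (.leaf 6024) (.leaf 50152)) (.leaf 27174)) (.node (.leaf 16256) (.leaf 39149)))) (.node (.node (.node (.node (.leaf 3405) (.leaf 46927)) (.leaf 24334)) (.node (.leaf 13384) (.leaf 35881))) (.node (.node (.node (.leaf 8332) (.leaf 62915)) (.leaf 29806)) (.node (.leaf 18886) (.leaf 42343))))) (.node (.node (.node (.node (.node (.leaf 2191) (.leaf 45834)) (.leaf 22791)) (.node (.leaf 12073) (.leaf 34221))) (.node (.node (.node (.leaf 7174) (.leaf 52622)) (.leaf 28386)) (.node (.leaf 17389) (.leaf 40775)))) (.node (.node (.node (.node (.leaf 4579) (.leaf 48173)) (.leaf 25808)) (.node (.leaf 14592) (.leaf 37642))) (.node (.node (.node (.leaf 9859) (.leaf 83789)) (.leaf 31203)) (.node (.leaf 20295) (.leaf 43555)))))))) (.node (.node (.node (.node (.node (.node (.node (.node (.leaf 320) (.leaf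 44175)) (.leaf 20877)) (.node (.node (.leaf 10317) (.leaf 94512)) (.leaf 31914))) (.node (.node (.node (.leaf 5136) (.leaf 48783)) (.leaf 26512)) (.node (.leaf 15176) (.leaf 38308)))) (.node (.node (.node (.node (.leaf 2573) (.leaf 46253)) (.leaf 23373)) (.node (.leaf 12522) (.leaf 34730))) (.node (.node (.node (.leaf 7535) (.leaf 56140)) (.leaf 28781)) (.node (.leaf 17934) (.leaf 41360))))) (.node (.node (.node (.node (.node (.leaf 1520) (.leaf 45198)) (.leaf 21994)) (.node (.leaf 11399) (.leaf 33232))) (.node (.node (.node (.leaf 6506) (.leaf 51114)) (.leaf 27651)) (.node (.leaf 16551) (.leaf 39689)))) (.node (.node (.node (.node (.leaf 3811) (.leaf 47300)) (.leaf 24872)) (.node (.leaf 13766) (.leaf 36426))) (.node (.node (.node (.leaf 8969) (.leaf 67117)) (.leaf 30512)) (.node (.leaf 19408) (.leaf 42927)))))) (.node (.node (.node (.node (.node (.node (.leaf 962) (.leaf 44714)) (.leaf 21504)) (.node (.node (.leaf 10887) (.leaf 237130)) (.leaf 32394))) (.node (.node (.node (.leaf 5894) (.leaf 49859)) (.leaf 27023)) (.node (.leaf 16007) (.leaf 38926))))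 (.node (.node (.node (.node (.leaf 3280) (.leaf 46790)) (.leaf 24169)) (.node (.leaf 13283) (.leaf 35744))) (.node (.node (.node (.leaf 8204) (.leaf 61034)) (.leaf 29607)) (.node (.leaf 18632) (.leaf 42246))))) (.node (.node (.node (.node (.node (.leaf 1991) (.leaf 45706)) (.leaf 22666)) (.node (.leaf 11949) (.leaf 33965))) (.node (.node (.node (.leaf 7022) (.leaf 51949)) (.leaf 28258)) (.node (.leaf 17192) (.leaf 40614)))) (.node (.node (.node (.node (.leaf 4432) (.leaf 48073)) (.leaf 25546)) (.node (.leaf 14407) (.leaf 37411))) (.node (.node (.node (.leaf 9607) (.leaf 80522)) (.leaf 30984)) (.node (.leaf 20170) (.leaf 43404))))))) (.node (.node (.node (.node (.node (.node (.node (.leaf 674) (.leaf 44480)) (.leaf 21092)) (.node (.node (.leaf 10659) (.leaf 105508)) (.leaf 32140))) (.node (.node (.node (.leaf 5575) (.leaf 49382)) (.leaf 26830)) (.node (.leaf 15564) (.leaf 38724)))) (.node (.node (.node (.node (.leaf 2816) (.leaf 46531)) (.leaf 23722)) (.node (.leaf 12880) (.leaf 35280))) (.node (.node (.node (.leaf 7920) (.leaf 58764)) (.leaf 29226)) (.node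 (.leaf 18253) (.leaf 41901))))) (.node (.node (.node (.node (.node (.leaf 1764) (.leaf 45446)) (.leaf 22371)) (.node (.leaf 11654) (.leaf 33455))) (.node (.node (.node (.leaf 6850) (.leaf 51690)) (.leaf 27885)) (.node (.leaf 16908) (.leaf 40010)))) (.node (.node (.node (.node (.leaf 4205) (.leaf 47626)) (.leaf 25104)) (.node (.leaf 14116) (.leaf 36864))) (.node (.node (.node (.leaf 9287) (.leaf 73036)) (.leaf 30793)) (.node (.leaf 19696) (.leaf 43207)))))) (.node (.node (.node (.node (.node (.node (.leaf 1226) (.leaf 44942)) (.leaf 21731)) (.node (.leaf 11117) (.leaf 32842))) (.node (.node (.node (.leaf 6154) (.leaf 50541)) (.leaf 27376)) (.node (.leaf 16356) (.leaf 39372)))) (.node (.node (.node (.node (.leaf 3522) (.leaf 47054)) (.leaf 24524)) (.node (.leaf 13474) (.leaf 36008))) (.node (.node (.node (.leaf 8557) (.leaf 63847)) (.leaf 30122)) (.node (.leaf 19088) (.leaf 42567))))) (.node (.node (.node (.node (.node (.leaf 2314) (.leaf 45990)) (.leaf 22976)) (.node (.leaf 12228) (.leaf 34479))) (.node (.node (.node (.leaf 7334) (.leaf 53440)) (.leaf 28520))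 (.node (.leaf 17584) (.leaf 41062)))) (.node (.node (.node (.node (.leaf 4780) (.leaf 48300)) (.leaf 26089)) (.node (.leaf 14726) (.leaf 37932))) (.node (.node (.node (.leaf 10086) (.leaf 88880)) (.leaf 31466)) (.node (.leaf 20490) (.leaf 43786)))))))))) (.node (.node (.node (.node (.node (.node (.node (.node (.node (.node (.leaf 71) (.leaf 43981)) (.leaf 20678)) (.node (.node (.leaf 10160) (.leaf 90918)) (.leaf 31623))) (.node (.node (.node (.leaf 4906) (.leaf 48430)) (.leaf 26250)) (.node (.leaf 14850) (.leaf 38023)))) (.node (.node (.node (.node (.leaf 2438) (.leaf 46118)) (.leaf 23118)) (.node (.leaf 12322) (.leaf 34595))) (.node (.node (.node (.leaf 7426) (.leaf 53993)) (.leaf 28591)) (.node (.leaf 17712) (.leaf 41165))))) (.node (.node (.node (.node (.node (.leaf 1358) (.leaf 45059)) (.leaf 21799)) (.node (.leaf 11238) (.leaf 33069))) (.node (.node (.node (.leaf 6255) (.leaf 50752)) (.leaf 27472)) (.node (.leaf 16424) (.leaf 39528)))) (.node (.node (.node (.node (.leaf 3590) (.leaf 47171)) (.leaf 24681)) (.node (.leaf 13544) (.leaf 36100))) (.node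 (.node (.node (.leaf 8714) (.leaf 64682)) (.leaf 30220)) (.node (.leaf 19296) (.leaf 42723)))))) (.node (.node (.node (.node (.node (.node (.leaf 778) (.leaf 44551)) (.leaf 21165)) (.node (.node (.leaf 10733) (.leaf 114503)) (.leaf 32228))) (.node (.node (.node (.leaf 5740) (.leaf 49616)) (.leaf 26918)) (.node (.leaf 15693) (.leaf 38798)))) (.node (.node (.node (.node (.leaf 2922) (.leaf 46626)) (.leaf 23879)) (.node (.leaf 13036) (.leaf 35432))) (.node (.node (.node (.leaf 8066) (.leaf 59696)) (.leaf 29325)) (.node (.leaf 18407) (.leaf 42118))))) (.node (.node (.node (.node (.node (.leaf 1830) (.leaf 45518)) (.leaf 22445)) (.node (.leaf 11753) (.leaf 33584))) (.node (.node (.node (.leaf 6916) (.leaf 51815)) (.leaf 28048)) (.node (.leaf 17036) (.leaf 40202)))) (.node (.node (.node (.node (.leaf 4304) (.leaf 47844)) (.leaf 25312)) (.node (.leaf 14208) (.leaf 37132))) (.node (.node (.node (.leaf 9392) (.leaf 77289)) (.leaf 30861)) (.node (.leaf 19882) (.leaf 43280))))))) (.node (.node (.node (.node (.node (.node (.node (.leaf 464) (.leaf 44296)) (.leaf 20966))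 (.node (.node (.leaf 10442) (.leaf 98531)) (.leaf 32012))) (.node (.node (.node (.leaf 5328) (.leaf 49036)) (.leaf 26639)) (.node (.leaf 15330) (.leaf 38381)))) (.node (.node (.node (.node (.leaf 2638) (.leaf 46349)) (.leaf 23495)) (.node (.leaf 12649) (.leaf 34886))) (.node (.node (.node (.leaf 7664) (.leaf 56740)) (.leaf 28928)) (.node (.leaf 18055) (.leaf 41602))))) (.node (.node (.node (.node (.node (.leaf 1635) (.leaf 45293)) (.leaf 22186)) (.node (.leaf 11495) (.leaf 33320))) (.node (.node (.node (.leaf 6600) (.leaf 51404)) (.leaf 27718)) (.node (.leaf 16745) (.leaf 39778)))) (.node (.node (.node (.node (.leaf 3913) (.leaf 47394)) (.leaf 24964)) (.node (.leaf 13896) (.leaf 36582))) (.node (.node (.node (.leaf 9104) (.leaf 68527)) (.leaf 30598)) (.node (.leaf 19472) (.leaf 43042)))))) (.node (.node (.node (.node (.node (.node (.leaf 1033) (.leaf 44802)) (.leaf 21603)) (.node (.leaf 10980) (.leaf 32592))) (.node (.node (.node (.leaf 5968) (.leaf 50063)) (.leaf 27142)) (.node (.leaf 16224) (.leaf 39050)))) (.node (.node (.node (.node (.leaf 3376) (.leaf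 46894)) (.leaf 24322)) (.node (.leaf 13354) (.leaf 35854))) (.node (.node (.node (.leaf 8272) (.leaf 62567)) (.leaf 29767)) (.node (.leaf 18794) (.leaf 42316))))) (.node (.node (.node (.node (.node (.leaf 2150) (.leaf 45802)) (.leaf 22765)) (.node (.leaf 12047) (.leaf 34151))) (.node (.node (.node (.leaf 7088) (.leaf 52464)) (.leaf 28352)) (.node (.leaf 17359) (.leaf 40736)))) (.node (.node (.node (.node (.leaf 4525) (.leaf 48160)) (.leaf 25744)) (.node (.leaf 14560) (.leaf 37578))) (.node (.node (.node (.leaf 9830) (.leaf 83182)) (.leaf 31119)) (.node (.leaf 20262) (.leaf 43491)))))))) (.node (.node (.node (.node (.node (.node (.node (.node (.leaf 262) (.leaf 44143)) (.leaf 20848)) (.node (.node (.leaf 10288) (.leaf 93514)) (.leaf 31850))) (.node (.node (.node (.leaf 5122) (.leaf 48681)) (.leaf 26442)) (.node (.leaf 15088) (.leaf 38218)))) (.node (.node (.node (.node (.leaf 2544) (.leaf 46220)) (.leaf 23280)) (.node (.leaf 12461) (.leaf 34701))) (.node (.node (.node (.leaf 7522) (.leaf 55689)) (.leaf 28717)) (.node (.leaf 17897) (.leaf 41321))))) (.node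 (.node (.node (.node (.node (.leaf 1487) (.leaf 45184)) (.leaf 21927)) (.node (.leaf 11362) (.leaf 33216))) (.node (.node (.node (.leaf 6378) (.leaf 51078)) (.leaf 27600)) (.node (.leaf 16516) (.leaf 39662)))) (.node (.node (.node (.node (.leaf 3782) (.leaf 47273)) (.leaf 24842)) (.node (.leaf 13680) (.leaf 36362))) (.node (.node (.node (.leaf 8938) (.leaf 66854)) (.leaf 30413)) (.node (.leaf 19398) (.leaf 42894)))))) (.node (.node (.node (.node (.node (.node (.leaf 932) (.leaf 44682)) (.leaf 21446)) (.node (.node (.leaf 10855) (.leaf 144073)) (.leaf 32355))) (.node (.node (.node (.leaf 5864) (.leaf 49773)) (.leaf 27011)) (.node (.leaf 15848) (.leaf 38914)))) (.node (.node (.node (.node (.leaf 3174) (.leaf 46759)) (.leaf 24137)) (.node (.leaf 13248) (.leaf 35712))) (.node (.node (.node (.leaf 8168) (.leaf 60682)) (.leaf 29574)) (.node (.leaf 18566) (.leaf 42216))))) (.node (.node (.node (.node (.node (.leaf 1934) (.leaf 45673)) (.leaf 22605)) (.node (.leaf 11918) (.leaf 33898))) (.node (.node (.node (.leaf 7008) (.leaf 51917)) (.leaf 28208)) (.node (.leaf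 17166) (.leaf 40559)))) (.node (.node (.node (.node (.leaf 4418) (.leaf 48047)) (.leaf 25456)) (.node (.leaf 14346) (.leaf 37357))) (.node (.node (.node (.leaf 9550) (.leaf 80326)) (.leaf 30954)) (.node (.leaf 20106) (.leaf 43375))))))) (.node (.node (.node (.node (.node (.node (.node (.leaf 614) (.leaf 44448)) (.leaf 21064)) (.node (.node (.leaf 10630) (.leaf 102890)) (.leaf 32108))) (.node (.node (.node (.leaf 5520) (.leaf 49356)) (.leaf 26820)) (.node (.leaf 15523) (.leaf 38688)))) (.node (.node (.node (.node (.leaf 2766) (.leaf 46506)) (.leaf 23682)) (.node (.leaf 12806) (.leaf 35203))) (.node (.node (.node (.leaf 7846) (.leaf 58570)) (.leaf 29130)) (.node (.leaf 18218) (.leaf 41866))))) (.node (.node (.node (.node (.node (.leaf 1736) (.leaf 45415)) (.leaf 22336)) (.node (.leaf 11619) (.leaf 33423))) (.node (.node (.node (.leaf 6816) (.leaf 51655)) (.leaf 27842)) (.node (.leaf 16874) (.leaf 39920)))) (.node (.node (.node (.node (.leaf 4170) (.leaf 47587)) (.leaf 25056)) (.node (.leaf 14080) (.leaf 36835))) (.node (.node (.node (.leaf 9226) (.leaf 71943))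 (.leaf 30762)) (.node (.leaf 19626) (.leaf 43175)))))) (.node (.node (.node (.node (.node (.node (.leaf 1184) (.leaf 44911)) (.leaf 21705)) (.node (.leaf 11081) (.leaf 32816))) (.node (.node (.node (.leaf 6125) (.leaf 50416)) (.leaf 27340)) (.node (.leaf 16327) (.leaf 39304)))) (.node (.node (.node (.node (.leaf 3496) (.leaf 47040)) (.leaf 24457)) (.node (.leaf 13449) (.leaf 35975))) (.node (.node (.node (.leaf 8521) (.leaf 63758)) (.leaf 30051)) (.node (.leaf 19075) (.leaf 42474))))) (.node (.node (.node (.node (.node (.leaf 2285) (.leaf 45958)) (.leaf 22921)) (.node (.leaf 12200) (.leaf 34416))) (.node (.node (.node (.leaf 7306) (.leaf 53184)) (.leaf 28486)) (.node (.leaf 17519) (.leaf 40974)))) (.node (.node (.node (.node (.leaf 4707) (.leaf 48270)) (.leaf 26016)) (.node (.leaf 14692) (.leaf 37868))) (.node (.node (.node (.leaf 10060) (.leaf 87782)) (.leaf 31402)) (.node (.leaf 20458) (.leaf 43728))))))))) (.node (.node (.node (.node (.node (.node (.node (.node (.node (.leaf 164) (.leaf 44076)) (.leaf 20743)) (.node (.node (.leaf 10218) (.leaf 92320))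 (.leaf 31725))) (.node (.node (.node (.leaf 5036) (.leaf 48526)) (.leaf 26343)) (.node (.leaf 14928) (.leaf 38118)))) (.node (.node (.node (.node (.leaf 2479) (.leaf 46157)) (.leaf 23177)) (.node (.leaf 12423) (.leaf 34636))) (.node (.node (.node (.leaf 7469) (.leaf 54924)) (.leaf 28652)) (.node (.leaf 17834) (.leaf 41224))))) (.node (.node (.node (.node (.node (.leaf 1446) (.leaf 45129)) (.leaf 21839)) (.node (.leaf 11304) (.leaf 33152))) (.node (.node (.node (.leaf 6313) (.leaf 50919)) (.leaf 27558)) (.node (.leaf 16462) (.leaf 39618)))) (.node (.node (.node (.node (.leaf 3687) (.leaf 47213)) (.leaf 24720)) (.node (.leaf 13608) (.leaf 36142))) (.node (.node (.node (.leaf 8810) (.leaf 65581)) (.leaf 30288)) (.node (.leaf 19342) (.leaf 42800)))))) (.node (.node (.node (.node (.node (.node (.leaf 868) (.leaf 44590)) (.leaf 21318)) (.node (.node (.leaf 10786) (.leaf 125216)) (.leaf 32269))) (.node (.node (.node (.leaf 5808) (.leaf 49731)) (.leaf 26957)) (.node (.leaf 15754) (.leaf 38858)))) (.node (.node (.node (.node (.leaf 3024) (.leaf 46668)) (.leaf 24002))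 (.node (.leaf 13102) (.leaf 35648))) (.node (.node (.node (.leaf 8106) (.leaf 60397)) (.leaf 29450)) (.node (.leaf 18445) (.leaf 42159))))) (.node (.node (.node (.node (.node (.leaf 1870) (.leaf 45606)) (.leaf 22498)) (.node (.leaf 11872) (.leaf 33738))) (.node (.node (.node (.leaf 6957) (.leaf 51875)) (.leaf 28132)) (.node (.leaf 17104) (.leaf 40362)))) (.node (.node (.node (.node (.leaf 4362) (.leaf 47982)) (.leaf 25382)) (.node (.leaf 14252) (.leaf 37229))) (.node (.node (.node (.leaf 9485) (.leaf 78512)) (.leaf 30912)) (.node (.leaf 19978) (.leaf 43337))))))) (.node (.node (.node (.node (.node (.node (.node (.leaf 528) (.leaf 44386)) (.leaf 21008)) (.node (.node (.leaf 10568) (.leaf 99760)) (.leaf 32070))) (.node (.node (.node (.leaf 5392) (.leaf 49166)) (.leaf 26754)) (.node (.leaf 15432) (.leaf 38570)))) (.node (.node (.node (.node (.leaf 2691) (.leaf 46432)) (.leaf 23564)) (.node (.leaf 12749) (.leaf 35082))) (.node (.node (.node (.leaf 7788) (.leaf 57520)) (.leaf 28976)) (.node (.leaf 18144) (.leaf 41705))))) (.node (.node (.node (.node (.node (.leaf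 1678) (.leaf 45350)) (.leaf 22274)) (.node (.leaf 11560) (.leaf 33384))) (.node (.node (.node (.leaf 6733) (.leaf 51529)) (.leaf 27758)) (.node (.leaf 16810) (.leaf 39822)))) (.node (.node (.node (.node (.leaf 4016) (.leaf 47462)) (.leaf 25002)) (.node (.leaf 14016) (.leaf 36740))) (.node (.node (.node (.leaf 9168) (.leaf 69584)) (.leaf 30696)) (.node (.leaf 19536) (.leaf 43110)))))) (.node (.node (.node (.node (.node (.node (.leaf 1097) (.leaf 44871)) (.leaf 21642)) (.node (.leaf 11042) (.leaf 32706))) (.node (.node (.node (.leaf 6056) (.leaf 50253)) (.leaf 27212)) (.node (.leaf 16290) (.leaf 39235)))) (.node (.node (.node (.node (.leaf 3434) (.leaf 46959)) (.leaf 24361)) (.node (.leaf 13411) (.leaf 35916))) (.node (.node (.node (.leaf 8367) (.leaf 63177)) (.leaf 29902)) (.node (.leaf 18928) (.leaf 42372))))) (.node (.node (.node (.node (.node (.leaf 2242) (.leaf 45870)) (.leaf 22823)) (.node (.leaf 12104) (.leaf 34304))) (.node (.node (.node (.leaf 7216) (.leaf 52807)) (.leaf 28422)) (.node (.leaf 17422) (.leaf 40848)))) (.node (.node (.node (.node (.leaf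 4592) (.leaf 48231)) (.leaf 25894)) (.node (.leaf 14628) (.leaf 37677))) (.node (.node (.node (.leaf 9904) (.leaf 85804)) (.leaf 31248)) (.node (.leaf 20355) (.leaf 43658)))))))) (.node (.node (.node (.node (.node (.node (.node (.node (.leaf 362) (.leaf 44206)) (.leaf 20903)) (.node (.node (.leaf 10342) (.leaf 95919)) (.leaf 31950))) (.node (.node (.node (.leaf 5222) (.leaf 48867)) (.leaf 26538)) (.node (.leaf 15216) (.leaf 38336)))) (.node (.node (.node (.node (.leaf 2600) (.leaf 46285)) (.leaf 23424)) (.node (.leaf 12554) (.leaf 34759))) (.node (.node (.node (.leaf 7594) (.leaf 56484)) (.leaf 28847)) (.node (.leaf 17997) (.leaf 41424))))) (.node (.node (.node (.node (.node (.leaf 1568) (.leaf 45228)) (.leaf 22025)) (.node (.leaf 11427) (.leaf 33258))) (.node (.node (.node (.leaf 6560) (.leaf 51247)) (.leaf 27663)) (.node (.leaf 16678) (.leaf 39721)))) (.node (.node (.node (.node (.leaf 3823) (.leaf 47340)) (.leaf 24905)) (.node (.leaf 13834) (.leaf 36493))) (.node (.node (.node (.leaf 9008) (.leaf 67594)) (.leaf 30541)) (.node (.leaf 19436) (.leaf 42960))))))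 (.node (.node (.node (.node (.node (.node (.leaf 975) (.leaf 44746)) (.leaf 21538)) (.node (.leaf 10920) (.leaf 32483))) (.node (.node (.node (.leaf 5923) (.leaf 49927)) (.leaf 27053)) (.node (.leaf 16038) (.leaf 38954)))) (.node (.node (.node (.node (.leaf 3335) (.leaf 46829)) (.leaf 24236)) (.node (.leaf 13294) (.leaf 35760))) (.node (.node (.node (.leaf 8231) (.leaf 61676)) (.leaf 29640)) (.node (.leaf 18704) (.leaf 42274))))) (.node (.node (.node (.node (.node (.leaf 2025) (.leaf 45741)) (.leaf 22701)) (.node (.leaf 11983) (.leaf 34018))) (.node (.node (.node (.leaf 7050) (.leaf 52195)) (.leaf 28271)) (.node (.leaf 17232) (.leaf 40640)))) (.node (.node (.node (.node (.leaf 4461) (.leaf 48105)) (.leaf 25575)) (.node (.leaf 14466) (.leaf 37448))) (.node (.node (.node (.leaf 9640) (.leaf 81423)) (.leaf 31018)) (.node (.leaf 20202) (.leaf 43434))))))) (.node (.node (.node (.node (.node (.node (.node (.leaf 711) (.leaf 44493)) (.leaf 21104)) (.node (.node (.leaf 10690) (.leaf 106823)) (.leaf 32169))) (.node (.node (.node (.leaf 5610) (.leaf 49418)) (.leaf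 26857)) (.node (.leaf 15620) (.leaf 38735)))) (.node (.node (.node (.node (.leaf 2832) (.leaf 46543)) (.leaf 23783)) (.node (.leaf 12934) (.leaf 35332))) (.node (.node (.node (.leaf 8000) (.leaf 58860)) (.leaf 29260)) (.node (.leaf 18316) (.leaf 41929))))) (.node (.node (.node (.node (.node (.leaf 1776) (.leaf 45474)) (.leaf 22402)) (.node (.leaf 11692) (.leaf 33485))) (.node (.node (.node (.leaf 6860) (.leaf 51722)) (.leaf 27911)) (.node (.leaf 16938) (.leaf 40076)))) (.node (.node (.node (.node (.leaf 4262) (.leaf 47722)) (.leaf 25158)) (.node (.leaf 14146) (.leaf 36880))) (.node (.node (.node (.leaf 9320) (.leaf 74608)) (.leaf 30818)) (.node (.leaf 19752) (.leaf 43241)))))) (.node (.node (.node (.node (.node (.node (.leaf 1280) (.leaf 44975)) (.leaf 21743)) (.node (.leaf 11146) (.leaf 32940))) (.node (.node (.node (.leaf 6189) (.leaf 50604)) (.leaf 27426)) (.node (.leaf 16368) (.leaf 39407)))) (.node (.node (.node (.node (.leaf 3536) (.leaf 47082)) (.leaf 24618)) (.node (.leaf 13486) (.leaf 36035))) (.node (.node (.node (.leaf 8646) (.leaf 64040)) (.leaf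 30178)) (.node (.leaf 19232) (.leaf 42602))))) (.node (.node (.node (.node (.node (.leaf 2352) (.leaf 46023)) (.leaf 23040)) (.node (.leaf 12262) (.leaf 34506))) (.node (.node (.node (.leaf 7366) (.leaf 53568)) (.leaf 28552)) (.node (.leaf 17613) (.leaf 41101)))) (.node (.node (.node (.node (.leaf 4839) (.leaf 48324)) (.leaf 26160)) (.node (.leaf 14760) (.leaf 37965))) (.node (.node (.node (.leaf 10119) (.leaf 89223)) (.leaf 31502)) (.node (.leaf 20558) (.leaf 43882)))))))))))

noncomputable def parA5 : Arr ℕ :=
  (.node (.node (.node (.node (.node (.node (.node (.node (.node (.node (.node (.leaf 10) (.leaf 43944)) (.leaf 20614)) (.node (.node (.leaf 10150) (.leaf 90057)) (.leaf 31568))) (.node (.node (.node (.leaf 4870) (.leaf 48368)) (.leaf 26214)) (.node (.leaf 14820) (.leaf 37994)))) (.node (.node (.node (.node (.leaf 2412) (.leaf 46090)) (.leaf 23088)) (.node (.leaf 12297) (.leaf 34560))) (.node (.node (.node (.leaf 7400) (.leaf 53903)) (.leaf 28583)) (.node (.leaf 17646) (.leaf 41134))))) (.node (.node (.node (.node (.node (.leaf 1325) (.leaf 45031))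 (.leaf 21773)) (.node (.leaf 11203) (.leaf 33056))) (.node (.node (.node (.leaf 6242) (.leaf 50726)) (.leaf 27439)) (.node (.leaf 16398) (.leaf 39434)))) (.node (.node (.node (.node (.leaf 3566) (.leaf 47136)) (.leaf 24653)) (.node (.leaf 13517) (.leaf 36076))) (.node (.node (.node (.leaf 8684) (.leaf 64422)) (.leaf 30210)) (.node (.leaf 19273) (.leaf 42666)))))) (.node (.node (.node (.node (.node (.node (.leaf 752) (.leaf 44525)) (.leaf 21134)) (.node (.node (.leaf 10703) (.leaf 107919)) (.leaf 32201))) (.node (.node (.node (.leaf 5706) (.leaf 49549)) (.leaf 26889)) (.node (.leaf 15655) (.leaf 38768)))) (.node (.node (.node (.node (.leaf 2862) (.leaf 46599)) (.leaf 23817)) (.node (.leaf 13001) (.leaf 35402))) (.node (.node (.node (.leaf 8034) (.leaf 59500)) (.leaf 29312)) (.node (.leaf 18382) (.leaf 42058))))) (.node (.node (.node (.node (.node (.leaf 1805) (.leaf 45487)) (.leaf 22415)) (.node (.leaf 11724) (.leaf 33517))) (.node (.node (.node (.leaf 6888) (.leaf 51756)) (.leaf 27978)) (.node (.leaf 16992) (.leaf 40176)))) (.node (.node (.node (.node (.leaf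 4296) (.leaf 47788)) (.leaf 25218)) (.node (.leaf 14160) (.leaf 37038))) (.node (.node (.node (.leaf 9360) (.leaf 75786)) (.leaf 30832)) (.node (.leaf 19814) (.leaf 43270))))))) (.node (.node (.node (.node (.node (.node (.node (.leaf 419) (.leaf 44268)) (.leaf 20938)) (.node (.node (.leaf 10406) (.leaf 97574)) (.leaf 31978))) (.node (.node (.node (.leaf 5264) (.leaf 48906)) (.leaf 26627)) (.node (.leaf 15304) (.leaf 38352)))) (.node (.node (.node (.node (.leaf 2626) (.leaf 46338)) (.leaf 23463)) (.node (.leaf 12618) (.leaf 34790))) (.node (.node (.node (.leaf 7625) (.leaf 56552)) (.leaf 28900)) (.node (.leaf 18029) (.leaf 41520))))) (.node (.node (.node (.node (.node (.leaf 1612) (.leaf 45263)) (.leaf 22146)) (.node (.leaf 11462) (.leaf 33294))) (.node (.node (.node (.leaf 6575) (.leaf 51344)) (.leaf 27692)) (.node (.leaf 16704) (.leaf 39752)))) (.node (.node (.node (.node (.leaf 3888) (.leaf 47367)) (.leaf 24937)) (.node (.leaf 13871) (.leaf 36524))) (.node (.node (.node (.leaf 9066) (.leaf 68110)) (.leaf 30572)) (.node (.leaf 19463) (.leaf 43014))))))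 (.node (.node (.node (.node (.node (.node (.leaf 1006) (.leaf 44777)) (.leaf 21571)) (.node (.leaf 10947) (.leaf 32546))) (.node (.node (.node (.leaf 5955) (.leaf 50022)) (.leaf 27086)) (.node (.leaf 16138) (.leaf 39008)))) (.node (.node (.node (.node (.leaf 3368) (.leaf 46882)) (.leaf 24288)) (.node (.leaf 13325) (.leaf 35818))) (.node (.node (.node (.leaf 8260) (.leaf 62019)) (.leaf 29672)) (.node (.leaf 18734) (.leaf 42288))))) (.node (.node (.node (.node (.node (.leaf 2096) (.leaf 45774)) (.leaf 22752)) (.node (.leaf 12034) (.leaf 34096))) (.node (.node (.node (.leaf 7076) (.leaf 52296)) (.leaf 28303)) (.node (.leaf 17289) (.leaf 40654)))) (.node (.node (.node (.node (.leaf 4487) (.leaf 48134)) (.leaf 25638)) (.node (.leaf 14503) (.leaf 37512))) (.node (.node (.node (.leaf 9802) (.leaf 82767)) (.leaf 31050)) (.node (.leaf 20230) (.leaf 43460)))))))) (.node (.node (.node (.node (.node (.node (.node (.node (.leaf 234) (.leaf 44111)) (.leaf 20775)) (.node (.node (.leaf 10278) (.leaf 93024)) (.leaf 31758))) (.node (.node (.node (.leaf 5094) (.leaf 48617))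 (.leaf 26404)) (.node (.leaf 15047) (.leaf 38157)))) (.node (.node (.node (.node (.leaf 2528) (.leaf 46188)) (.leaf 23209)) (.node (.leaf 12450) (.leaf 34668))) (.node (.node (.node (.leaf 7498) (.leaf 55280)) (.leaf 28684)) (.node (.leaf 17866) (.leaf 41264))))) (.node (.node (.node (.node (.node (.leaf 1475) (.leaf 45160)) (.leaf 21866)) (.node (.leaf 11331) (.leaf 33186))) (.node (.node (.node (.leaf 6368) (.leaf 51018)) (.leaf 27584)) (.node (.leaf 16492) (.leaf 39654)))) (.node (.node (.node (.node (.leaf 3756) (.leaf 47246)) (.leaf 24808)) (.node (.leaf 13670) (.leaf 36263))) (.node (.node (.node (.leaf 8866) (.leaf 66150)) (.leaf 30378)) (.node (.leaf 19372) (.leaf 42857)))))) (.node (.node (.node (.node (.node (.node (.leaf 898) (.leaf 44620)) (.leaf 21408)) (.node (.node (.leaf 10826) (.leaf 136074)) (.leaf 32301))) (.node (.node (.node (.leaf 5838) (.leaf 49744)) (.leaf 26986)) (.node (.leaf 15818) (.leaf 38887)))) (.node (.node (.node (.node (.leaf 3107) (.leaf 46726)) (.leaf 24039)) (.node (.leaf 13154) (.leaf 35663))) (.node (.node (.node (.leaf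 8140) (.leaf 60528)) (.leaf 29546)) (.node (.leaf 18528) (.leaf 42188))))) (.node (.node (.node (.node (.node (.leaf 1900) (.leaf 45648)) (.leaf 22570)) (.node (.leaf 11904) (.leaf 33856))) (.node (.node (.node (.leaf 6985) (.leaf 51904)) (.leaf 28174)) (.node (.leaf 17154) (.leaf 40492)))) (.node (.node (.node (.node (.leaf 4393) (.leaf 48009)) (.leaf 25420)) (.node (.leaf 14288) (.leaf 37315))) (.node (.node (.node (.leaf 9517) (.leaf 79655)) (.leaf 30927)) (.node (.leaf 20067) (.leaf 43367))))))) (.node (.node (.node (.node (.node (.node (.node (.leaf 583) (.leaf 44424)) (.leaf 21038)) (.node (.node (.leaf 10598) (.leaf 101513)) (.leaf 32096))) (.node (.node (.node (.leaf 5478) (.leaf 49292)) (.leaf 26790)) (.node (.leaf 15494) (.leaf 38606)))) (.node (.node (.node (.node (.leaf 2732) (.leaf 46474)) (.leaf 23626)) (.node (.leaf 12778) (.leaf 35146))) (.node (.node (.node (.leaf 7820) (.leaf 57968)) (.leaf 29066)) (.node (.leaf 18185) (.leaf 41805))))) (.node (.node (.node (.node (.node (.leaf 1706) (.leaf 45379)) (.leaf 22304)) (.node (.leaf 11594) (.leaf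 33415))) (.node (.node (.node (.leaf 6790) (.leaf 51616)) (.leaf 27810)) (.node (.leaf 16845) (.leaf 39852)))) (.node (.node (.node (.node (.leaf 4074) (.leaf 47498)) (.leaf 25032)) (.node (.leaf 14054) (.leaf 36800))) (.node (.node (.node (.leaf 9199) (.leaf 71332)) (.leaf 30733)) (.node (.leaf 19586) (.leaf 43142)))))) (.node (.node (.node (.node (.node (.node (.leaf 1154) (.leaf 44899)) (.leaf 21676)) (.node (.leaf 11056) (.leaf 32746))) (.node (.node (.node (.leaf 6092) (.leaf 50320)) (.leaf 27300)) (.node (.leaf 16301) (.leaf 39274)))) (.node (.node (.node (.node (.leaf 3469) (.leaf 47016)) (.leaf 24432)) (.node (.leaf 13423) (.leaf 35944))) (.node (.node (.node (.leaf 8458) (.leaf 63395)) (.leaf 29968)) (.node (.leaf 19024) (.leaf 42412))))) (.node (.node (.node (.node (.node (.leaf 2256) (.leaf 45927)) (.leaf 22896)) (.node (.leaf 12166) (.leaf 34319))) (.node (.node (.node (.leaf 7273) (.leaf 53036)) (.leaf 28457)) (.node (.leaf 17506) (.leaf 40937)))) (.node (.node (.node (.node (.leaf 4646) (.leaf 48258)) (.leaf 25968)) (.node (.leaf 14660) (.leaf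 37802))) (.node (.node (.node (.leaf 10000) (.leaf 87142)) (.leaf 31305)) (.node (.leaf 20423) (.leaf 43690))))))))) (.node (.node (.node (.node (.node (.node (.node (.node (.node (.leaf 138) (.leaf 44038)) (.leaf 20712)) (.node (.node (.leaf 10189) (.leaf 91651)) (.leaf 31692))) (.node (.node (.node (.leaf 4968) (.leaf 48512)) (.leaf 26287)) (.node (.leaf 14864) (.leaf 38058)))) (.node (.node (.node (.node (.leaf 2471) (.leaf 46148)) (.leaf 23146)) (.node (.leaf 12396) (.leaf 34607))) (.node (.node (.node (.leaf 7439) (.leaf 54576)) (.leaf 28623)) (.node (.leaf 17766) (.leaf 41197))))) (.node (.node (.node (.node (.node (.leaf 1421) (.leaf 45101)) (.leaf 21827)) (.node (.leaf 11272) (.leaf 33122))) (.node (.node (.node (.leaf 6286) (.leaf 50850)) (.leaf 27527)) (.node (.leaf 16450) (.leaf 39586)))) (.node (.node (.node (.node (.leaf 3630) (.leaf 47184)) (.leaf 24710)) (.node (.leaf 13578) (.leaf 36128))) (.node (.node (.node (.leaf 8800) (.leaf 64906)) (.leaf 30249)) (.node (.leaf 19312) (.leaf 42765)))))) (.node (.node (.node (.node (.node (.node (.leaf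 839) (.leaf 44578)) (.leaf 21226)) (.node (.node (.leaf 10762) (.leaf 123426)) (.leaf 32256))) (.node (.node (.node (.leaf 5796) (.leaf 49708)) (.leaf 26946)) (.node (.leaf 15719) (.leaf 38830)))) (.node (.node (.node (.node (.leaf 2954) (.leaf 46658)) (.leaf 23918)) (.node (.leaf 13090) (.leaf 35532))) (.node (.node (.node (.leaf 8078) (.leaf 60103)) (.leaf 29386)) (.node (.leaf 18434) (.leaf 42151))))) (.node (.node (.node (.node (.node (.leaf 1859) (.leaf 45551)) (.leaf 22474)) (.node (.leaf 11848) (.leaf 33671))) (.node (.node (.node (.leaf 6946) (.leaf 51847)) (.leaf 28100)) (.node (.leaf 17069) (.leaf 40300)))) (.node (.node (.node (.node (.leaf 4336) (.leaf 47911)) (.leaf 25347)) (.node (.leaf 14224) (.leaf 37216))) (.node (.node (.node (.leaf 9424) (.leaf 78154)) (.leaf 30889)) (.node (.leaf 19942) (.leaf 43309))))))) (.node (.node (.node (.node (.node (.node (.node (.leaf 514) (.leaf 44358)) (.leaf 20998)) (.node (.node (.leaf 10534) (.leaf 98863)) (.leaf 32039))) (.node (.node (.node (.leaf 5379) (.leaf 49130)) (.leaf 26666)) (.node (.leaf 15374)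 (.leaf 38474)))) (.node (.node (.node (.node (.leaf 2668) (.leaf 46384)) (.leaf 23526)) (.node (.leaf 12736) (.leaf 35014))) (.node (.node (.node (.leaf 7721) (.leaf 57126)) (.leaf 28943)) (.node (.leaf 18087) (.leaf 41648))))) (.node (.node (.node (.node (.node (.leaf 1670) (.leaf 45320)) (.leaf 22240)) (.node (.leaf 11532) (.leaf 33353))) (.node (.node (.node (.leaf 6672) (.leaf 51498)) (.leaf 27747)) (.node (.leaf 16783) (.leaf 39810)))) (.node (.node (.node (.node (.leaf 4000) (.leaf 47430)) (.leaf 24976)) (.node (.leaf 13987) (.leaf 36713))) (.node (.node (.node (.leaf 9135) (.leaf 69316)) (.leaf 30640)) (.node (.leaf 19504) (.leaf 43084)))))) (.node (.node (.node (.node (.node (.node (.leaf 1072) (.leaf 44839)) (.leaf 21615)) (.node (.leaf 11018) (.leaf 32653))) (.node (.node (.node (.leaf 6026) (.leaf 50153)) (.leaf 27175)) (.node (.leaf 16258) (.leaf 39152)))) (.node (.node (.node (.node (.leaf 3408) (.leaf 46928)) (.leaf 24335)) (.node (.leaf 13385) (.leaf 35882))) (.node (.node (.node (.leaf 8335) (.leaf 62982)) (.leaf 29834)) (.node (.leaf 18887)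 (.leaf 42346))))) (.node (.node (.node (.node (.node (.leaf 2192) (.leaf 45836)) (.leaf 22792)) (.node (.leaf 12074) (.leaf 34222))) (.node (.node (.node (.leaf 7175) (.leaf 52679)) (.leaf 28387)) (.node (.leaf 17391) (.leaf 40780)))) (.node (.node (.node (.node (.leaf 4582) (.leaf 48176)) (.leaf 25834)) (.node (.leaf 14594) (.leaf 37648))) (.node (.node (.node (.leaf 9862) (.leaf 83792)) (.leaf 31206)) (.node (.leaf 20298) (.leaf 43558)))))))) (.node (.node (.node (.node (.node (.node (.node (.node (.leaf 322) (.leaf 44176)) (.leaf 20878)) (.node (.node (.leaf 10318) (.leaf 94793)) (.leaf 31920))) (.node (.node (.node (.leaf 5162) (.leaf 48810)) (.leaf 26528)) (.node (.leaf 15177) (.leaf 38310)))) (.node (.node (.node (.node (.leaf 2574) (.leaf 46254)) (.leaf 23375)) (.node (.leaf 12528) (.leaf 34732))) (.node (.node (.node (.leaf 7536) (.leaf 56141)) (.leaf 28784)) (.node (.leaf 17962) (.leaf 41376))))) (.node (.node (.node (.node (.node (.leaf 1536) (.leaf 45199)) (.leaf 22000)) (.node (.leaf 11402) (.leaf 33248))) (.node (.node (.node (.leaf 6508) (.leaf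 51143)) (.leaf 27652)) (.node (.leaf 16554) (.leaf 39692)))) (.node (.node (.node (.node (.leaf 3814) (.leaf 47302)) (.leaf 24874)) (.node (.leaf 13768) (.leaf 36432))) (.node (.node (.node (.leaf 8970) (.leaf 67148)) (.leaf 30528)) (.node (.leaf 19424) (.leaf 42928)))))) (.node (.node (.node (.node (.node (.node (.leaf 963) (.leaf 44716)) (.leaf 21506)) (.node (.leaf 10890) (.leaf 32400))) (.node (.node (.node (.leaf 5895) (.leaf 49863)) (.leaf 27024)) (.node (.leaf 16012) (.leaf 38927)))) (.node (.node (.node (.node (.leaf 3302) (.leaf 46792)) (.leaf 24170)) (.node (.leaf 13284) (.leaf 35747))) (.node (.node (.node (.leaf 8205) (.leaf 61066)) (.leaf 29608)) (.node (.leaf 18634) (.leaf 42248))))) (.node (.node (.node (.node (.node (.leaf 1994) (.leaf 45732)) (.leaf 22670)) (.node (.leaf 11950) (.leaf 33966))) (.node (.node (.node (.leaf 7023) (.leaf 51950)) (.leaf 28259)) (.node (.leaf 17194) (.leaf 40615)))) (.node (.node (.node (.node (.leaf 4448) (.leaf 48074)) (.leaf 25548)) (.node (.leaf 14408) (.leaf 37412))) (.node (.node (.node (.leaf 9610) (.leaf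 80592)) (.leaf 30986)) (.node (.leaf 20172) (.leaf 43405))))))) (.node (.node (.node (.node (.node (.node (.node (.leaf 679) (.leaf 44484)) (.leaf 21094)) (.node (.node (.leaf 10664) (.leaf 105517)) (.leaf 32141))) (.node (.node (.node (.leaf 5578) (.leaf 49383)) (.leaf 26831)) (.node (.leaf 15567) (.leaf 38726)))) (.node (.node (.node (.node (.leaf 2818) (.leaf 46535)) (.leaf 23727)) (.node (.leaf 12896) (.leaf 35299))) (.node (.node (.node (.leaf 7946) (.leaf 58766)) (.leaf 29228)) (.node (.leaf 18254) (.leaf 41903))))) (.node (.node (.node (.node (.node (.leaf 1766) (.leaf 45447)) (.leaf 22376)) (.node (.leaf 11655) (.leaf 33472))) (.node (.node (.node (.leaf 6851) (.leaf 51692)) (.leaf 27886)) (.node (.leaf 16909) (.leaf 40016)))) (.node (.node (.node (.node (.leaf 4206) (.leaf 47632)) (.leaf 25120)) (.node (.leaf 14120) (.leaf 36866))) (.node (.node (.node (.leaf 9290) (.leaf 73132)) (.leaf 30794)) (.node (.leaf 19722) (.leaf 43210)))))) (.node (.node (.node (.node (.node (.node (.leaf 1232) (.leaf 44943)) (.leaf 21735)) (.node (.leaf 11118) (.leaf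 32874))) (.node (.node (.node (.leaf 6156) (.leaf 50542)) (.leaf 27399)) (.node (.leaf 16358) (.leaf 39373)))) (.node (.node (.node (.node (.leaf 3524) (.leaf 47055)) (.leaf 24525)) (.node (.leaf 13475) (.leaf 36010))) (.node (.node (.node (.leaf 8559) (.leaf 63850)) (.leaf 30124)) (.node (.leaf 19106) (.leaf 42572))))) (.node (.node (.node (.node (.node (.leaf 2320) (.leaf 45991)) (.leaf 22983)) (.node (.leaf 12230) (.leaf 34480))) (.node (.node (.node (.leaf 7335) (.leaf 53480)) (.leaf 28521)) (.node (.leaf 17602) (.leaf 41063)))) (.node (.node (.node (.node (.leaf 4781) (.leaf 48301)) (.leaf 26090)) (.node (.leaf 14728) (.leaf 37933))) (.node (.node (.node (.leaf 10087) (.leaf 88937)) (.leaf 31488)) (.node (.leaf 20492) (.leaf 43824)))))))))) (.node (.node (.node (.node (.node (.node (.node (.node (.node (.node (.leaf 74) (.leaf 43982)) (.leaf 20680)) (.node (.node (.leaf 10176) (.leaf 90928)) (.leaf 31624))) (.node (.node (.node (.leaf 4912) (.leaf 48452)) (.leaf 26275)) (.node (.leaf 14851) (.leaf 38024)))) (.node (.node (.node (.node (.leaf 2439) (.leaf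 46119)) (.leaf 23119)) (.node (.leaf 12330) (.leaf 34596))) (.node (.node (.node (.leaf 7427) (.leaf 54020)) (.leaf 28592)) (.node (.leaf 17728) (.leaf 41167))))) (.node (.node (.node (.node (.node (.leaf 1359) (.leaf 45063)) (.leaf 21802)) (.node (.leaf 11241) (.leaf 33070))) (.node (.node (.node (.leaf 6256) (.leaf 50754)) (.leaf 27488)) (.node (.leaf 16425) (.leaf 39530)))) (.node (.node (.node (.node (.leaf 3591) (.leaf 47172)) (.leaf 24682)) (.node (.leaf 13545) (.leaf 36102))) (.node (.node (.node (.leaf 8717) (.leaf 64743)) (.leaf 30222)) (.node (.leaf 19302) (.leaf 42726)))))) (.node (.node (.node (.node (.node (.node (.leaf 804) (.leaf 44552)) (.leaf 21196)) (.node (.node (.leaf 10734) (.leaf 114887)) (.leaf 32230))) (.node (.node (.node (.leaf 5743) (.leaf 49634)) (.leaf 26920)) (.node (.leaf 15694) (.leaf 38799)))) (.node (.node (.node (.node (.leaf 2928) (.leaf 46627)) (.leaf 23882)) (.node (.leaf 13037) (.leaf 35433))) (.node (.node (.node (.leaf 8067) (.leaf 59721)) (.leaf 29328)) (.node (.leaf 18408) (.leaf 42119))))) (.node (.node (.node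 (.node (.node (.leaf 1831) (.leaf 45519)) (.leaf 22446)) (.node (.leaf 11754) (.leaf 33610))) (.node (.node (.node (.leaf 6918) (.leaf 51818)) (.leaf 28064)) (.node (.leaf 17037) (.leaf 40234)))) (.node (.node (.node (.node (.leaf 4320) (.leaf 47847)) (.leaf 25314)) (.node (.leaf 14211) (.leaf 37133))) (.node (.node (.node (.leaf 9411) (.leaf 77318)) (.leaf 30862)) (.node (.leaf 19888) (.leaf 43296))))))) (.node (.node (.node (.node (.node (.node (.node (.leaf 480) (.leaf 44297)) (.leaf 20968)) (.node (.node (.leaf 10445) (.leaf 98665)) (.leaf 32013))) (.node (.node (.node (.leaf 5344) (.leaf 49037)) (.leaf 26640)) (.node (.leaf 15331) (.leaf 38384)))) (.node (.node (.node (.node (.leaf 2639) (.leaf 46350)) (.leaf 23496)) (.node (.leaf 12650) (.leaf 34890))) (.node (.node (.node (.leaf 7690) (.leaf 56748)) (.leaf 28930)) (.node (.leaf 18056) (.leaf 41603))))) (.node (.node (.node (.node (.node (.leaf 1638) (.leaf 45294)) (.leaf 22188)) (.node (.leaf 11496) (.leaf 33322))) (.node (.node (.node (.leaf 6601) (.leaf 51405)) (.leaf 27719)) (.node (.leaf 16746)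 (.leaf 39779)))) (.node (.node (.node (.node (.leaf 3914) (.leaf 47395)) (.leaf 24966)) (.node (.leaf 13897) (.leaf 36586))) (.node (.node (.node (.leaf 9120) (.leaf 68557)) (.leaf 30600)) (.node (.leaf 19488) (.leaf 43043)))))) (.node (.node (.node (.node (.node (.node (.leaf 1034) (.leaf 44803)) (.leaf 21604)) (.node (.leaf 10982) (.leaf 32614))) (.node (.node (.node (.leaf 5990) (.leaf 50064)) (.leaf 27145)) (.node (.leaf 16227) (.leaf 39056)))) (.node (.node (.node (.node (.leaf 3392) (.leaf 46895)) (.leaf 24323)) (.node (.leaf 13356) (.leaf 35855))) (.node (.node (.node (.leaf 8301) (.leaf 62572)) (.leaf 29770)) (.node (.leaf 18797) (.leaf 42317))))) (.node (.node (.node (.node (.node (.leaf 2151) (.leaf 45804)) (.leaf 22766)) (.node (.leaf 12048) (.leaf 34153))) (.node (.node (.node (.leaf 7116) (.leaf 52483)) (.leaf 28358)) (.node (.leaf 17360) (.leaf 40738)))) (.node (.node (.node (.node (.leaf 4526) (.leaf 48164)) (.leaf 25766)) (.node (.leaf 14563) (.leaf 37580))) (.node (.node (.node (.leaf 9831) (.leaf 83183)) (.leaf 31120)) (.node (.leaf 20263)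 (.leaf 43500)))))))) (.node (.node (.node (.node (.node (.node (.node (.node (.leaf 268) (.leaf 44160)) (.leaf 20864)) (.node (.node (.leaf 10304) (.leaf 93539)) (.leaf 31856))) (.node (.node (.node (.leaf 5126) (.leaf 48682)) (.leaf 26448)) (.node (.leaf 15146) (.leaf 38221)))) (.node (.node (.node (.node (.leaf 2562) (.leaf 46221)) (.leaf 23299)) (.node (.leaf 12462) (.leaf 34702))) (.node (.node (.node (.leaf 7523) (.leaf 55752)) (.leaf 28746)) (.node (.leaf 17898) (.leaf 41322))))) (.node (.node (.node (.node (.node (.leaf 1488) (.leaf 45186)) (.leaf 21928)) (.node (.leaf 11364) (.leaf 33218))) (.node (.node (.node (.leaf 6410) (.leaf 51079)) (.leaf 27622)) (.node (.leaf 16518) (.leaf 39663)))) (.node (.node (.node (.node (.leaf 3783) (.leaf 47274)) (.leaf 24844)) (.node (.leaf 13706) (.leaf 36384))) (.node (.node (.node (.leaf 8944) (.leaf 66856)) (.leaf 30416)) (.node (.leaf 19400) (.leaf 42895)))))) (.node (.node (.node (.node (.node (.node (.leaf 934) (.leaf 44684)) (.leaf 21448)) (.node (.node (.leaf 10858) (.leaf 144105)) (.leaf 32358))) (.node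 (.node (.node (.leaf 5866) (.leaf 49774)) (.leaf 27012)) (.node (.leaf 15850) (.leaf 38915)))) (.node (.node (.node (.node (.leaf 3184) (.leaf 46760)) (.leaf 24138)) (.node (.leaf 13250) (.leaf 35714))) (.node (.node (.node (.leaf 8170) (.leaf 60714)) (.leaf 29575)) (.node (.leaf 18570) (.leaf 42217))))) (.node (.node (.node (.node (.node (.leaf 1935) (.leaf 45674)) (.leaf 22608)) (.node (.leaf 11919) (.leaf 33904))) (.node (.node (.node (.leaf 7010) (.leaf 51918)) (.leaf 28224)) (.node (.leaf 17167) (.leaf 40560)))) (.node (.node (.node (.node (.leaf 4420) (.leaf 48048)) (.leaf 25474)) (.node (.leaf 14352) (.leaf 37358))) (.node (.node (.node (.leaf 9551) (.leaf 80327)) (.leaf 30957)) (.node (.leaf 20112) (.leaf 43376))))))) (.node (.node (.node (.node (.node (.node (.node (.leaf 615) (.leaf 44452)) (.leaf 21066)) (.node (.node (.leaf 10631) (.leaf 104304)) (.leaf 32109))) (.node (.node (.node (.leaf 5548) (.leaf 49357)) (.leaf 26822)) (.node (.leaf 15526) (.leaf 38690)))) (.node (.node (.node (.node (.leaf 2767) (.leaf 46508)) (.leaf 23684)) (.node (.leaf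 12808) (.leaf 35206))) (.node (.node (.node (.leaf 7847) (.leaf 58576)) (.leaf 29136)) (.node (.leaf 18220) (.leaf 41872))))) (.node (.node (.node (.node (.node (.leaf 1737) (.leaf 45418)) (.leaf 22340)) (.node (.leaf 11625) (.leaf 33442))) (.node (.node (.node (.leaf 6818) (.leaf 51658)) (.leaf 27846)) (.node (.leaf 16876) (.leaf 39946)))) (.node (.node (.node (.node (.leaf 4176) (.leaf 47590)) (.leaf 25058)) (.node (.leaf 14084) (.leaf 36836))) (.node (.node (.node (.leaf 9231) (.leaf 71951)) (.leaf 30764)) (.node (.leaf 19628) (.leaf 43176)))))) (.node (.node (.node (.node (.node (.node (.leaf 1196) (.leaf 44928)) (.leaf 21706)) (.node (.leaf 11082) (.leaf 32832))) (.node (.node (.node (.leaf 6126) (.leaf 50496)) (.leaf 27343)) (.node (.leaf 16328) (.leaf 39305)))) (.node (.node (.node (.node (.leaf 3497) (.leaf 47042)) (.leaf 24458)) (.node (.leaf 13450) (.leaf 35976))) (.node (.node (.node (.leaf 8522) (.leaf 63784)) (.leaf 30058)) (.node (.leaf 19076) (.leaf 42502))))) (.node (.node (.node (.node (.node (.leaf 2286) (.leaf 45960)) (.leaf 22922)) (.node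 (.leaf 12201) (.leaf 34466))) (.node (.node (.node (.leaf 7308) (.leaf 53289)) (.leaf 28487)) (.node (.leaf 17520) (.leaf 40975)))) (.node (.node (.node (.node (.leaf 4710) (.leaf 48271)) (.leaf 26028)) (.node (.leaf 14694) (.leaf 37869))) (.node (.node (.node (.leaf 10061) (.leaf 87882)) (.leaf 31404)) (.node (.leaf 20460) (.leaf 43752))))))))) (.node (.node (.node (.node (.node (.node (.node (.node (.node (.leaf 166) (.leaf 44077)) (.leaf 20748)) (.node (.node (.leaf 10221) (.leaf 92327)) (.leaf 31744))) (.node (.node (.node (.leaf 5037) (.leaf 48527)) (.leaf 26346)) (.node (.leaf 15008) (.leaf 38119)))) (.node (.node (.node (.node (.leaf 2480) (.leaf 46158)) (.leaf 23178)) (.node (.leaf 12424) (.leaf 34637))) (.node (.node (.node (.leaf 7470) (.leaf 55053)) (.leaf 28653)) (.node (.leaf 17836) (.leaf 41225))))) (.node (.node (.node (.node (.node (.leaf 1447) (.leaf 45130)) (.leaf 21840)) (.node (.leaf 11306) (.leaf 33154))) (.node (.node (.node (.leaf 6314) (.leaf 50920)) (.leaf 27559)) (.node (.leaf 16463) (.leaf 39619)))) (.node (.node (.node (.node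 (.leaf 3688) (.leaf 47214)) (.leaf 24746)) (.node (.leaf 13609) (.leaf 36143))) (.node (.node (.node (.leaf 8834) (.leaf 65603)) (.leaf 30314)) (.node (.leaf 19343) (.leaf 42826)))))) (.node (.node (.node (.node (.node (.node (.leaf 870) (.leaf 44591)) (.leaf 21322)) (.node (.node (.leaf 10788) (.leaf 125286)) (.leaf 32270))) (.node (.node (.node (.leaf 5826) (.leaf 49734)) (.leaf 26958)) (.node (.leaf 15758) (.leaf 38860)))) (.node (.node (.node (.node (.leaf 3052) (.leaf 46670)) (.leaf 24004)) (.node (.leaf 13103) (.leaf 35650))) (.node (.node (.node (.leaf 8108) (.leaf 60418)) (.leaf 29456)) (.node (.leaf 18446) (.leaf 42160))))) (.node (.node (.node (.node (.node (.leaf 1871) (.leaf 45607)) (.leaf 22499)) (.node (.leaf 11878) (.leaf 33770))) (.node (.node (.node (.leaf 6958) (.leaf 51876)) (.leaf 28140)) (.node (.leaf 17127) (.leaf 40391)))) (.node (.node (.node (.node (.leaf 4364) (.leaf 47983)) (.leaf 25384)) (.node (.leaf 14253) (.leaf 37230))) (.node (.node (.node (.leaf 9486) (.leaf 78540)) (.leaf 30914)) (.node (.leaf 19982) (.leaf 43338)))))))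 (.node (.node (.node (.node (.node (.node (.node (.leaf 544) (.leaf 44387)) (.leaf 21026)) (.node (.node (.leaf 10569) (.leaf 99984)) (.leaf 32071))) (.node (.node (.node (.leaf 5418) (.leaf 49167)) (.leaf 26755)) (.node (.leaf 15433) (.leaf 38572)))) (.node (.node (.node (.node (.leaf 2692) (.leaf 46434)) (.leaf 23568)) (.node (.leaf 12750) (.leaf 35088))) (.node (.node (.node (.leaf 7789) (.leaf 57609)) (.leaf 29034)) (.node (.leaf 18146) (.leaf 41706))))) (.node (.node (.node (.node (.node (.leaf 1679) (.leaf 45351)) (.leaf 22275)) (.node (.leaf 11561) (.leaf 33386))) (.node (.node (.node (.leaf 6736) (.leaf 51530)) (.leaf 27759)) (.node (.leaf 16812) (.leaf 39823)))) (.node (.node (.node (.node (.leaf 4032) (.leaf 47463)) (.leaf 25004)) (.node (.leaf 14018) (.leaf 36742))) (.node (.node (.node (.leaf 9184) (.leaf 69710)) (.leaf 30697)) (.node (.leaf 19552) (.leaf 43112)))))) (.node (.node (.node (.node (.node (.node (.leaf 1098) (.leaf 44874)) (.leaf 21644)) (.node (.leaf 11043) (.leaf 32707))) (.node (.node (.node (.leaf 6057) (.leaf 50256)) (.leaf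 27213)) (.node (.leaf 16291) (.leaf 39236)))) (.node (.node (.node (.node (.leaf 3436) (.leaf 46960)) (.leaf 24362)) (.node (.leaf 13412) (.leaf 35917))) (.node (.node (.node (.leaf 8368) (.leaf 63203)) (.leaf 29903)) (.node (.leaf 18978) (.leaf 42374))))) (.node (.node (.node (.node (.node (.leaf 2243) (.leaf 45871)) (.leaf 22826)) (.node (.leaf 12105) (.leaf 34306))) (.node (.node (.node (.leaf 7242) (.leaf 52808)) (.leaf 28423)) (.node (.leaf 17423) (.leaf 40874)))) (.node (.node (.node (.node (.leaf 4610) (.leaf 48232)) (.leaf 25895)) (.node (.leaf 14630) (.leaf 37678))) (.node (.node (.node (.leaf 9930) (.leaf 86434)) (.leaf 31274)) (.node (.leaf 20358) (.leaf 43664)))))))) (.node (.node (.node (.node (.node (.node (.node (.node (.leaf 364) (.leaf 44207)) (.leaf 20904)) (.node (.node (.leaf 10343) (.leaf 95950)) (.leaf 31951))) (.node (.node (.node (.leaf 5223) (.leaf 48868)) (.leaf 26570)) (.node (.leaf 15242) (.leaf 38338)))) (.node (.node (.node (.node (.leaf 2601) (.leaf 46286)) (.leaf 23426)) (.node (.leaf 12580) (.leaf 34762))) (.node (.node (.node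 (.leaf 7596) (.leaf 56492)) (.leaf 28848)) (.node (.leaf 17998) (.leaf 41447))))) (.node (.node (.node (.node (.node (.leaf 1570) (.leaf 45229)) (.leaf 22054)) (.node (.leaf 11428) (.leaf 33282))) (.node (.node (.node (.leaf 6562) (.leaf 51248)) (.leaf 27664)) (.node (.leaf 16679) (.leaf 39722)))) (.node (.node (.node (.node (.leaf 3824) (.leaf 47341)) (.leaf 24906)) (.node (.leaf 13836) (.leaf 36495))) (.node (.node (.node (.leaf 9024) (.leaf 67600)) (.leaf 30542)) (.node (.leaf 19437) (.leaf 42976)))))) (.node (.node (.node (.node (.node (.node (.leaf 976) (.leaf 44748)) (.leaf 21539)) (.node (.leaf 10921) (.leaf 32486))) (.node (.node (.node (.leaf 5924) (.leaf 49930)) (.leaf 27056)) (.node (.leaf 16039) (.leaf 38960)))) (.node (.node (.node (.node (.leaf 3336) (.leaf 46830)) (.leaf 24237)) (.node (.leaf 13295) (.leaf 35776))) (.node (.node (.node (.leaf 8234) (.leaf 61709)) (.leaf 29642)) (.node (.leaf 18720) (.leaf 42275))))) (.node (.node (.node (.node (.node (.leaf 2026) (.leaf 45742)) (.leaf 22702)) (.node (.leaf 11984) (.leaf 34019))) (.node (.node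 (.node (.leaf 7052) (.leaf 52198)) (.leaf 28272)) (.node (.leaf 17254) (.leaf 40642)))) (.node (.node (.node (.node (.leaf 4462) (.leaf 48106)) (.leaf 25580)) (.node (.leaf 14467) (.leaf 37450))) (.node (.node (.node (.leaf 9641) (.leaf 81666)) (.leaf 31024)) (.node (.leaf 20204) (.leaf 43436))))))) (.node (.node (.node (.node (.node (.node (.node (.leaf 714) (.leaf 44496)) (.leaf 21120)) (.node (.node (.leaf 10691) (.leaf 107264)) (.leaf 32170))) (.node (.node (.node (.leaf 5614) (.leaf 49506)) (.leaf 26858)) (.node (.leaf 15626) (.leaf 38752)))) (.node (.node (.node (.node (.leaf 2850) (.leaf 46544)) (.leaf 23786)) (.node (.leaf 12938) (.leaf 35334))) (.node (.node (.node (.leaf 8003) (.leaf 58982)) (.leaf 29261)) (.node (.leaf 18317) (.leaf 41930))))) (.node (.node (.node (.node (.node (.leaf 1792) (.leaf 45475)) (.leaf 22403)) (.node (.leaf 11693) (.leaf 33486))) (.node (.node (.node (.leaf 6861) (.leaf 51724)) (.leaf 27912)) (.node (.leaf 16941) (.leaf 40077)))) (.node (.node (.node (.node (.leaf 4263) (.leaf 47728)) (.leaf 25159)) (.node (.leaf 14147)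 (.leaf 37024))) (.node (.node (.node (.leaf 9321) (.leaf 74672)) (.leaf 30823)) (.node (.leaf 19754) (.leaf 43242)))))) (.node (.node (.node (.node (.node (.node (.leaf 1282) (.leaf 44976)) (.leaf 21744)) (.node (.leaf 11152) (.leaf 32941))) (.node (.node (.node (.leaf 6190) (.leaf 50605)) (.leaf 27427)) (.node (.leaf 16386) (.leaf 39408)))) (.node (.node (.node (.node (.leaf 3552) (.leaf 47088)) (.leaf 24624)) (.node (.leaf 13487) (.leaf 36039))) (.node (.node (.node (.leaf 8647) (.leaf 64041)) (.leaf 30180)) (.node (.leaf 19234) (.leaf 42627))))) (.node (.node (.node (.node (.node (.leaf 2368) (.leaf 46024)) (.leaf 23042)) (.node (.leaf 12266) (.leaf 34528))) (.node (.node (.node (.leaf 7367) (.leaf 53580)) (.leaf 28554)) (.node (.leaf 17614) (.leaf 41102)))) (.node (.node (.node (.node (.leaf 4841) (.leaf 48326)) (.leaf 26176)) (.node (.leaf 14762) (.leaf 37966))) (.node (.node (.node (.leaf 10120) (.leaf 89224)) (.leaf 31503)) (.node (.leaf 20559) (.leaf 43888)))))))))))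

noncomputable def parA6 : Arr ℕ :=
  (.node (.node (.node (.node (.node (.node (.node (.node (.node (.node (.node (.leaf 36) (.leaf 43945)) (.leaf 20618)) (.node (.node (.leaf 10151) (.leaf 90122)) (.leaf 31590))) (.node (.node (.node (.leaf 4871) (.leaf 48394)) (.leaf 26218)) (.node (.leaf 14823) (.leaf 37996)))) (.node (.node (.node (.node (.leaf 2414) (.leaf 46092)) (.leaf 23106)) (.node (.leaf 12298) (.leaf 34562))) (.node (.node (.node (.leaf 7402) (.leaf 53968)) (.leaf 28584)) (.node (.leaf 17648) (.leaf 41135))))) (.node (.node (.node (.node (.node (.leaf 1326) (.leaf 45032)) (.leaf 21774)) (.node (.leaf 11206) (.leaf 33058))) (.node (.node (.node (.leaf 6244) (.leaf 50727)) (.leaf 27440)) (.node (.leaf 16399) (.leaf 39462)))) (.node (.node (.node (.node (.leaf 3567) (.leaf 47138)) (.leaf 24656)) (.node (.leaf 13518) (.leaf 36077))) (.node (.node (.node (.leaf 8686) (.leaf 64428)) (.leaf 30211)) (.node (.leaf 19274) (.leaf 42672)))))) (.node (.node (.node (.node (.node (.node (.leaf 768) (.leaf 44526)) (.leaf 21135)) (.node (.node (.leaf 10704) (.leaf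 108038)) (.leaf 32202))) (.node (.node (.node (.leaf 5731) (.leaf 49572)) (.leaf 26890)) (.node (.leaf 15658) (.leaf 38788)))) (.node (.node (.node (.node (.leaf 2863) (.leaf 46602)) (.leaf 23818)) (.node (.leaf 13002) (.leaf 35408))) (.node (.node (.node (.leaf 8035) (.leaf 59501)) (.leaf 29315)) (.node (.leaf 18383) (.leaf 42064))))) (.node (.node (.node (.node (.node (.leaf 1806) (.leaf 45506)) (.leaf 22416)) (.node (.leaf 11725) (.leaf 33519))) (.node (.node (.node (.leaf 6889) (.leaf 51757)) (.leaf 27980)) (.node (.leaf 16999) (.leaf 40192)))) (.node (.node (.node (.node (.leaf 4297) (.leaf 47789)) (.leaf 25219)) (.node (.leaf 14178) (.leaf 37039))) (.node (.node (.node (.leaf 9382) (.leaf 75791)) (.leaf 30852)) (.node (.leaf 19815) (.leaf 43271))))))) (.node (.node (.node (.node (.node (.node (.node (.leaf 428) (.leaf 44271)) (.leaf 20940)) (.node (.node (.leaf 10407) (.leaf 97576)) (.leaf 32000))) (.node (.node (.node (.leaf 5292) (.leaf 48938)) (.leaf 26628)) (.node (.leaf 15306) (.leaf 38370)))) (.node (.node (.node (.node (.leaf 2628) (.leaf 46339))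 (.leaf 23464)) (.node (.leaf 12621) (.leaf 34794))) (.node (.node (.node (.leaf 7626) (.leaf 56553)) (.leaf 28902)) (.node (.leaf 18031) (.leaf 41546))))) (.node (.node (.node (.node (.node (.leaf 1613) (.leaf 45264)) (.leaf 22147)) (.node (.leaf 11463) (.leaf 33295))) (.node (.node (.node (.leaf 6576) (.leaf 51370)) (.leaf 27693)) (.node (.leaf 16711) (.leaf 39753)))) (.node (.node (.node (.node (.leaf 3904) (.leaf 47370)) (.leaf 24938)) (.node (.leaf 13872) (.leaf 36526))) (.node (.node (.node (.leaf 9072) (.leaf 68140)) (.leaf 30574)) (.node (.leaf 19464) (.leaf 43020)))))) (.node (.node (.node (.node (.node (.node (.leaf 1007) (.leaf 44778)) (.leaf 21574)) (.node (.leaf 10954) (.leaf 32547))) (.node (.node (.node (.leaf 5958) (.leaf 50026)) (.leaf 27087)) (.node (.leaf 16141) (.leaf 39010)))) (.node (.node (.node (.node (.leaf 3369) (.leaf 46883)) (.leaf 24290)) (.node (.leaf 13326) (.leaf 35840))) (.node (.node (.node (.leaf 8262) (.leaf 62157)) (.leaf 29673)) (.node (.leaf 18735) (.leaf 42304))))) (.node (.node (.node (.node (.node (.leaf 2119) (.leaf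 45775)) (.leaf 22754)) (.node (.leaf 12036) (.leaf 34122))) (.node (.node (.node (.leaf 7078) (.leaf 52329)) (.leaf 28304)) (.node (.leaf 17290) (.leaf 40655)))) (.node (.node (.node (.node (.leaf 4492) (.leaf 48135)) (.leaf 25639)) (.node (.leaf 14504) (.leaf 37513))) (.node (.node (.node (.leaf 9805) (.leaf 82831)) (.leaf 31079)) (.node (.leaf 20231) (.leaf 43463)))))))) (.node (.node (.node (.node (.node (.node (.node (.node (.leaf 236) (.leaf 44112)) (.leaf 20776)) (.node (.node (.leaf 10279) (.leaf 93069)) (.leaf 31759))) (.node (.node (.node (.leaf 5095) (.leaf 48618)) (.leaf 26406)) (.node (.leaf 15050) (.leaf 38160)))) (.node (.node (.node (.node (.leaf 2534) (.leaf 46189)) (.leaf 23210)) (.node (.leaf 12451) (.leaf 34669))) (.node (.node (.node (.leaf 7500) (.leaf 55468)) (.leaf 28685)) (.node (.leaf 17868) (.leaf 41294))))) (.node (.node (.node (.node (.node (.leaf 1478) (.leaf 45162)) (.leaf 21901)) (.node (.leaf 11335) (.leaf 33187))) (.node (.node (.node (.leaf 6370) (.leaf 51020)) (.leaf 27590)) (.node (.leaf 16493) (.leaf 39655)))) (.node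 (.node (.node (.node (.leaf 3757) (.leaf 47247)) (.leaf 24809)) (.node (.leaf 13671) (.leaf 36266))) (.node (.node (.node (.leaf 8870) (.leaf 66210)) (.leaf 30380)) (.node (.leaf 19373) (.leaf 42858)))))) (.node (.node (.node (.node (.node (.node (.leaf 904) (.leaf 44621)) (.leaf 21418)) (.node (.node (.leaf 10828) (.leaf 137314)) (.leaf 32302))) (.node (.node (.node (.leaf 5839) (.leaf 49760)) (.leaf 26988)) (.node (.leaf 15824) (.leaf 38888)))) (.node (.node (.node (.node (.leaf 3110) (.leaf 46727)) (.leaf 24042)) (.node (.leaf 13155) (.leaf 35664))) (.node (.node (.node (.leaf 8141) (.leaf 60560)) (.leaf 29548)) (.node (.leaf 18530) (.leaf 42189))))) (.node (.node (.node (.node (.node (.leaf 1901) (.leaf 45664)) (.leaf 22572)) (.node (.leaf 11907) (.leaf 33858))) (.node (.node (.node (.leaf 6986) (.leaf 51906)) (.leaf 28175)) (.node (.leaf 17155) (.leaf 40493)))) (.node (.node (.node (.node (.leaf 4394) (.leaf 48010)) (.leaf 25421)) (.node (.leaf 14306) (.leaf 37318))) (.node (.node (.node (.leaf 9518) (.leaf 79695)) (.leaf 30928)) (.node (.leaf 20070)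 (.leaf 43368))))))) (.node (.node (.node (.node (.node (.node (.node (.leaf 584) (.leaf 44425)) (.leaf 21039)) (.node (.node (.leaf 10599) (.leaf 101732)) (.leaf 32100))) (.node (.node (.node (.leaf 5479) (.leaf 49293)) (.leaf 26791)) (.node (.leaf 15495) (.leaf 38607)))) (.node (.node (.node (.node (.leaf 2733) (.leaf 46477)) (.leaf 23629)) (.node (.leaf 12780) (.leaf 35152))) (.node (.node (.node (.leaf 7822) (.leaf 58024)) (.leaf 29092)) (.node (.leaf 18186) (.leaf 41808))))) (.node (.node (.node (.node (.node (.leaf 1708) (.leaf 45382)) (.leaf 22308)) (.node (.leaf 11596) (.leaf 33416))) (.node (.node (.node (.leaf 6791) (.leaf 51619)) (.leaf 27814)) (.node (.leaf 16847) (.leaf 39853)))) (.node (.node (.node (.node (.leaf 4080) (.leaf 47530)) (.leaf 25033)) (.node (.leaf 14056) (.leaf 36802))) (.node (.node (.node (.leaf 9200) (.leaf 71376)) (.leaf 30734)) (.node (.leaf 19587) (.leaf 43143)))))) (.node (.node (.node (.node (.node (.node (.leaf 1155) (.leaf 44900)) (.leaf 21680)) (.node (.leaf 11072) (.leaf 32751))) (.node (.node (.node (.leaf 6094) (.leaf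 50339)) (.leaf 27305)) (.node (.leaf 16302) (.leaf 39280)))) (.node (.node (.node (.node (.leaf 3470) (.leaf 47017)) (.leaf 24448)) (.node (.leaf 13424) (.leaf 35946))) (.node (.node (.node (.leaf 8492) (.leaf 63406)) (.leaf 29994)) (.node (.leaf 19042) (.leaf 42413))))) (.node (.node (.node (.node (.node (.leaf 2274) (.leaf 45932)) (.leaf 22912)) (.node (.leaf 12167) (.leaf 34320))) (.node (.node (.node (.leaf 7274) (.leaf 53066)) (.leaf 28458)) (.node (.leaf 17507) (.leaf 40938)))) (.node (.node (.node (.node (.leaf 4650) (.leaf 48260)) (.leaf 25994)) (.node (.leaf 14662) (.leaf 37804))) (.node (.node (.node (.leaf 10048) (.leaf 87168)) (.leaf 31306)) (.node (.leaf 20426) (.leaf 43718))))))))) (.node (.node (.node (.node (.node (.node (.node (.node (.node (.leaf 140) (.leaf 44039)) (.leaf 20713)) (.node (.node (.leaf 10192) (.leaf 91654)) (.leaf 31693))) (.node (.node (.node (.leaf 4969) (.leaf 48515)) (.leaf 26288)) (.node (.leaf 14887) (.leaf 38064)))) (.node (.node (.node (.node (.leaf 2472) (.leaf 46150)) (.leaf 23152)) (.node (.leaf 12397) (.leaf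 34608))) (.node (.node (.node (.leaf 7440) (.leaf 54636)) (.leaf 28640)) (.node (.leaf 17768) (.leaf 41198))))) (.node (.node (.node (.node (.node (.leaf 1422) (.leaf 45102)) (.leaf 21828)) (.node (.leaf 11273) (.leaf 33123))) (.node (.node (.node (.leaf 6287) (.leaf 50851)) (.leaf 27528)) (.node (.leaf 16452) (.leaf 39587)))) (.node (.node (.node (.node (.leaf 3631) (.leaf 47200)) (.leaf 24712)) (.node (.leaf 13584) (.leaf 36130))) (.node (.node (.node (.leaf 8802) (.leaf 65063)) (.leaf 30250)) (.node (.leaf 19332) (.leaf 42766)))))) (.node (.node (.node (.node (.node (.node (.leaf 840) (.leaf 44580)) (.leaf 21261)) (.node (.node (.leaf 10764) (.leaf 123694)) (.leaf 32259))) (.node (.node (.node (.leaf 5798) (.leaf 49709)) (.leaf 26947)) (.node (.leaf 15724) (.leaf 38831)))) (.node (.node (.node (.node (.leaf 2982) (.leaf 46659)) (.leaf 23919)) (.node (.leaf 13091) (.leaf 35533))) (.node (.node (.node (.leaf 8079) (.leaf 60105)) (.leaf 29388)) (.node (.leaf 18435) (.leaf 42152))))) (.node (.node (.node (.node (.node (.leaf 1860) (.leaf 45574)) (.leaf 22476))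 (.node (.leaf 11849) (.leaf 33674))) (.node (.node (.node (.leaf 6947) (.leaf 51850)) (.leaf 28105)) (.node (.leaf 17070) (.leaf 40301)))) (.node (.node (.node (.node (.leaf 4352) (.leaf 47912)) (.leaf 25350)) (.node (.leaf 14240) (.leaf 37218))) (.node (.node (.node (.leaf 9450) (.leaf 78215)) (.leaf 30890)) (.node (.leaf 19943) (.leaf 43312))))))) (.node (.node (.node (.node (.node (.node (.node (.leaf 516) (.leaf 44359)) (.leaf 20999)) (.node (.node (.leaf 10535) (.leaf 99018)) (.leaf 32040))) (.node (.node (.node (.leaf 5382) (.leaf 49136)) (.leaf 26698)) (.node (.leaf 15392) (.leaf 38506)))) (.node (.node (.node (.node (.leaf 2669) (.leaf 46400)) (.leaf 23527)) (.node (.leaf 12738) (.leaf 35015))) (.node (.node (.node (.leaf 7722) (.leaf 57135)) (.leaf 28944)) (.node (.leaf 18088) (.leaf 41674))))) (.node (.node (.node (.node (.node (.leaf 1671) (.leaf 45321)) (.leaf 22242)) (.node (.leaf 11533) (.leaf 33354))) (.node (.node (.node (.leaf 6698) (.leaf 51504)) (.leaf 27748)) (.node (.leaf 16784) (.leaf 39812)))) (.node (.node (.node (.node (.leaf 4002)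 (.leaf 47431)) (.leaf 24992)) (.node (.leaf 13988) (.leaf 36714))) (.node (.node (.node (.leaf 9136) (.leaf 69318)) (.leaf 30666)) (.node (.leaf 19520) (.leaf 43086)))))) (.node (.node (.node (.node (.node (.node (.leaf 1088) (.leaf 44842)) (.leaf 21616)) (.node (.leaf 11020) (.leaf 32655))) (.node (.node (.node (.leaf 6032) (.leaf 50154)) (.leaf 27176)) (.node (.leaf 16259) (.leaf 39178)))) (.node (.node (.node (.node (.leaf 3424) (.leaf 46946)) (.leaf 24336)) (.node (.leaf 13386) (.leaf 35906))) (.node (.node (.node (.leaf 8336) (.leaf 63074)) (.leaf 29890)) (.node (.leaf 18888) (.leaf 42348))))) (.node (.node (.node (.node (.node (.leaf 2220) (.leaf 45837)) (.leaf 22793)) (.node (.leaf 12077) (.leaf 34224))) (.node (.node (.node (.leaf 7177) (.leaf 52736)) (.leaf 28391)) (.node (.leaf 17408) (.leaf 40781)))) (.node (.node (.node (.node (.leaf 4583) (.leaf 48196)) (.leaf 25840)) (.node (.leaf 14595) (.leaf 37664))) (.node (.node (.node (.leaf 9863) (.leaf 84074)) (.leaf 31207)) (.node (.leaf 20304) (.leaf 43559)))))))) (.node (.node (.node (.node (.node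 (.node (.node (.node (.leaf 323) (.leaf 44196)) (.leaf 20879)) (.node (.node (.leaf 10319) (.leaf 94886)) (.leaf 31938))) (.node (.node (.node (.leaf 5168) (.leaf 48812)) (.leaf 26530)) (.node (.leaf 15178) (.leaf 38311)))) (.node (.node (.node (.node (.leaf 2575) (.leaf 46256)) (.leaf 23376)) (.node (.leaf 12544) (.leaf 34733))) (.node (.node (.node (.leaf 7564) (.leaf 56142)) (.leaf 28810)) (.node (.leaf 17964) (.leaf 41378))))) (.node (.node (.node (.node (.node (.leaf 1542) (.leaf 45200)) (.leaf 22016)) (.node (.leaf 11404) (.leaf 33250))) (.node (.node (.node (.leaf 6509) (.leaf 51146)) (.leaf 27654)) (.node (.leaf 16586) (.leaf 39693)))) (.node (.node (.node (.node (.leaf 3815) (.leaf 47305)) (.leaf 24876)) (.node (.leaf 13769) (.leaf 36451))) (.node (.node (.node (.leaf 8994) (.leaf 67202)) (.leaf 30530)) (.node (.leaf 19426) (.leaf 42948)))))) (.node (.node (.node (.node (.node (.node (.leaf 966) (.leaf 44717)) (.leaf 21507)) (.node (.leaf 10892) (.leaf 32426))) (.node (.node (.node (.leaf 5898) (.leaf 49865)) (.leaf 27040)) (.node (.leaf 16013)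 (.leaf 38928)))) (.node (.node (.node (.node (.leaf 3306) (.leaf 46793)) (.leaf 24202)) (.node (.leaf 13286) (.leaf 35748))) (.node (.node (.node (.leaf 8206) (.leaf 61127)) (.leaf 29609)) (.node (.leaf 18640) (.leaf 42249))))) (.node (.node (.node (.node (.node (.leaf 2000) (.leaf 45734)) (.leaf 22671)) (.node (.leaf 11951) (.leaf 33968))) (.node (.node (.node (.leaf 7024) (.leaf 51952)) (.leaf 28262)) (.node (.leaf 17198) (.leaf 40616)))) (.node (.node (.node (.node (.leaf 4451) (.leaf 48098)) (.leaf 25549)) (.node (.leaf 14409) (.leaf 37414))) (.node (.node (.node (.leaf 9616) (.leaf 81004)) (.leaf 30992)) (.node (.leaf 20173) (.leaf 43407))))))) (.node (.node (.node (.node (.node (.node (.node (.leaf 684) (.leaf 44486)) (.leaf 21095)) (.node (.node (.leaf 10666) (.leaf 105827)) (.leaf 32144))) (.node (.node (.node (.leaf 5580) (.leaf 49384)) (.leaf 26832)) (.node (.leaf 15590) (.leaf 38728)))) (.node (.node (.node (.node (.leaf 2822) (.leaf 46536)) (.leaf 23728)) (.node (.leaf 12898) (.leaf 35306))) (.node (.node (.node (.leaf 7948) (.leaf 58767)) (.leaf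 29229)) (.node (.leaf 18256) (.leaf 41920))))) (.node (.node (.node (.node (.node (.leaf 1768) (.leaf 45448)) (.leaf 22378)) (.node (.leaf 11658) (.leaf 33475))) (.node (.node (.node (.leaf 6852) (.leaf 51693)) (.leaf 27887)) (.node (.leaf 16910) (.leaf 40039)))) (.node (.node (.node (.node (.leaf 4207) (.leaf 47655)) (.leaf 25126)) (.node (.leaf 14121) (.leaf 36868))) (.node (.node (.node (.leaf 9296) (.leaf 73292)) (.leaf 30796)) (.node (.leaf 19728) (.leaf 43234)))))) (.node (.node (.node (.node (.node (.node (.leaf 1250) (.leaf 44944)) (.leaf 21736)) (.node (.leaf 11119) (.leaf 32902))) (.node (.node (.node (.leaf 6157) (.leaf 50543)) (.leaf 27400)) (.node (.leaf 16359) (.leaf 39376)))) (.node (.node (.node (.node (.leaf 3526) (.leaf 47056)) (.leaf 24528)) (.node (.leaf 13478) (.leaf 36013))) (.node (.node (.node (.leaf 8560) (.leaf 63855)) (.leaf 30125)) (.node (.leaf 19107) (.leaf 42574))))) (.node (.node (.node (.node (.node (.leaf 2336) (.leaf 45992)) (.leaf 22984)) (.node (.leaf 12231) (.leaf 34496))) (.node (.node (.node (.leaf 7336) (.leaf 53488))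 (.leaf 28522)) (.node (.leaf 17604) (.leaf 41066)))) (.node (.node (.node (.node (.leaf 4783) (.leaf 48302)) (.leaf 26096)) (.node (.leaf 14730) (.leaf 37935))) (.node (.node (.node (.leaf 10088) (.leaf 88974)) (.leaf 31490)) (.node (.leaf 20493) (.leaf 43852)))))))))) (.node (.node (.node (.node (.node (.node (.node (.node (.node (.node (.leaf 76) (.leaf 43983)) (.leaf 20681)) (.node (.node (.leaf 10180) (.leaf 90990)) (.leaf 31625))) (.node (.node (.node (.leaf 4938) (.leaf 48454)) (.leaf 26276)) (.node (.leaf 14852) (.leaf 38025)))) (.node (.node (.node (.node (.leaf 2440) (.leaf 46121)) (.leaf 23120)) (.node (.leaf 12332) (.leaf 34599))) (.node (.node (.node (.leaf 7431) (.leaf 54028)) (.leaf 28610)) (.node (.leaf 17730) (.leaf 41187))))) (.node (.node (.node (.node (.node (.leaf 1360) (.leaf 45065)) (.leaf 21804)) (.node (.leaf 11242) (.leaf 33071))) (.node (.node (.node (.leaf 6272) (.leaf 50755)) (.leaf 27494)) (.node (.leaf 16426) (.leaf 39532)))) (.node (.node (.node (.node (.leaf 3596) (.leaf 47176)) (.leaf 24684)) (.node (.leaf 13546) (.leaf 36103)))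 (.node (.node (.node (.leaf 8718) (.leaf 64744)) (.leaf 30223)) (.node (.leaf 19303) (.leaf 42727)))))) (.node (.node (.node (.node (.node (.node (.leaf 809) (.leaf 44553)) (.leaf 21216)) (.node (.node (.leaf 10735) (.leaf 115565)) (.leaf 32231))) (.node (.node (.node (.leaf 5744) (.leaf 49642)) (.leaf 26921)) (.node (.leaf 15695) (.leaf 38800)))) (.node (.node (.node (.node (.leaf 2944) (.leaf 46628)) (.leaf 23885)) (.node (.leaf 13040) (.leaf 35434))) (.node (.node (.node (.leaf 8068) (.leaf 59881)) (.leaf 29344)) (.node (.leaf 18409) (.leaf 42120))))) (.node (.node (.node (.node (.node (.leaf 1834) (.leaf 45520)) (.leaf 22447)) (.node (.leaf 11776) (.leaf 33616))) (.node (.node (.node (.leaf 6919) (.leaf 51820)) (.leaf 28066)) (.node (.leaf 17038) (.leaf 40236)))) (.node (.node (.node (.node (.leaf 4324) (.leaf 47852)) (.leaf 25315)) (.node (.leaf 14212) (.leaf 37136))) (.node (.node (.node (.leaf 9412) (.leaf 77320)) (.leaf 30863)) (.node (.leaf 19904) (.leaf 43300))))))) (.node (.node (.node (.node (.node (.node (.node (.leaf 482) (.leaf 44298)) (.leaf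 20969)) (.node (.node (.leaf 10446) (.leaf 98688)) (.leaf 32014))) (.node (.node (.node (.leaf 5346) (.leaf 49039)) (.leaf 26656)) (.node (.leaf 15338) (.leaf 38464)))) (.node (.node (.node (.node (.leaf 2640) (.leaf 46351)) (.leaf 23497)) (.node (.leaf 12652) (.leaf 34895))) (.node (.node (.node (.leaf 7696) (.leaf 56970)) (.leaf 28931)) (.node (.leaf 18057) (.leaf 41604))))) (.node (.node (.node (.node (.node (.leaf 1639) (.leaf 45295)) (.leaf 22189)) (.node (.leaf 11497) (.leaf 33324))) (.node (.node (.node (.leaf 6602) (.leaf 51406)) (.leaf 27722)) (.node (.leaf 16752) (.leaf 39783)))) (.node (.node (.node (.node (.leaf 3946) (.leaf 47401)) (.leaf 24968)) (.node (.leaf 13898) (.leaf 36650))) (.node (.node (.node (.leaf 9122) (.leaf 68813)) (.leaf 30601)) (.node (.leaf 19490) (.leaf 43047)))))) (.node (.node (.node (.node (.node (.node (.leaf 1040) (.leaf 44810)) (.leaf 21606)) (.node (.leaf 10983) (.leaf 32615))) (.node (.node (.node (.leaf 5991) (.leaf 50122)) (.leaf 27146)) (.node (.leaf 16228) (.leaf 39082)))) (.node (.node (.node (.node (.leaf 3396)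 (.leaf 46896)) (.leaf 24326)) (.node (.leaf 13357) (.leaf 35872))) (.node (.node (.node (.leaf 8304) (.leaf 62604)) (.leaf 29776)) (.node (.leaf 18800) (.leaf 42318))))) (.node (.node (.node (.node (.node (.leaf 2152) (.leaf 45806)) (.leaf 22767)) (.node (.leaf 12064) (.leaf 34154))) (.node (.node (.node (.leaf 7117) (.leaf 52527)) (.leaf 28359)) (.node (.leaf 17378) (.leaf 40739)))) (.node (.node (.node (.node (.leaf 4527) (.leaf 48166)) (.leaf 25767)) (.node (.leaf 14564) (.leaf 37581))) (.node (.node (.node (.leaf 9836) (.leaf 83202)) (.leaf 31146)) (.node (.leaf 20264) (.leaf 43501)))))))) (.node (.node (.node (.node (.node (.node (.node (.node (.leaf 269) (.leaf 44167)) (.leaf 20866)) (.node (.node (.leaf 10307) (.leaf 93616)) (.leaf 31872))) (.node (.node (.node (.leaf 5127) (.leaf 48714)) (.leaf 26472)) (.node (.leaf 15152) (.leaf 38224)))) (.node (.node (.node (.node (.leaf 2563) (.leaf 46222)) (.leaf 23306)) (.node (.leaf 12463) (.leaf 34703))) (.node (.node (.node (.leaf 7524) (.leaf 55814)) (.leaf 28748)) (.node (.leaf 17900) (.leaf 41328)))))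 (.node (.node (.node (.node (.node (.leaf 1504) (.leaf 45187)) (.leaf 21929)) (.node (.leaf 11366) (.leaf 33219))) (.node (.node (.node (.leaf 6412) (.leaf 51084)) (.leaf 27623)) (.node (.leaf 16519) (.leaf 39664)))) (.node (.node (.node (.node (.leaf 3786) (.leaf 47276)) (.leaf 24845)) (.node (.leaf 13712) (.leaf 36386))) (.node (.node (.node (.leaf 8960) (.leaf 66857)) (.leaf 30434)) (.node (.leaf 19401) (.leaf 42912)))))) (.node (.node (.node (.node (.node (.node (.leaf 940) (.leaf 44685)) (.leaf 21450)) (.node (.node (.leaf 10860) (.leaf 144419)) (.leaf 32359))) (.node (.node (.node (.leaf 5868) (.leaf 49775)) (.leaf 27014)) (.node (.leaf 15978) (.leaf 38918)))) (.node (.node (.node (.node (.leaf 3212) (.leaf 46761)) (.leaf 24144)) (.node (.leaf 13251) (.leaf 35715))) (.node (.node (.node (.leaf 8172) (.leaf 60800)) (.leaf 29580)) (.node (.leaf 18574) (.leaf 42218))))) (.node (.node (.node (.node (.node (.leaf 1936) (.leaf 45677)) (.leaf 22626)) (.node (.leaf 11920) (.leaf 33924))) (.node (.node (.node (.leaf 7012) (.leaf 51919)) (.leaf 28232)) (.node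 (.leaf 17168) (.leaf 40576)))) (.node (.node (.node (.node (.leaf 4422) (.leaf 48064)) (.leaf 25482)) (.node (.leaf 14378) (.leaf 37360))) (.node (.node (.node (.leaf 9552) (.leaf 80367)) (.leaf 30958)) (.node (.leaf 20134) (.leaf 43392))))))) (.node (.node (.node (.node (.node (.node (.node (.leaf 616) (.leaf 44455)) (.leaf 21068)) (.node (.node (.leaf 10632) (.leaf 104384)) (.leaf 32128))) (.node (.node (.node (.leaf 5549) (.leaf 49358)) (.leaf 26823)) (.node (.leaf 15527) (.leaf 38691)))) (.node (.node (.node (.node (.leaf 2768) (.leaf 46509)) (.leaf 23687)) (.node (.leaf 12809) (.leaf 35207))) (.node (.node (.node (.leaf 7848) (.leaf 58604)) (.leaf 29158)) (.node (.leaf 18221) (.leaf 41888))))) (.node (.node (.node (.node (.node (.leaf 1738) (.leaf 45420)) (.leaf 22342)) (.node (.leaf 11626) (.leaf 33444))) (.node (.node (.node (.leaf 6819) (.leaf 51682)) (.leaf 27847)) (.node (.leaf 16880) (.leaf 39948)))) (.node (.node (.node (.node (.leaf 4192) (.leaf 47591)) (.leaf 25059)) (.node (.leaf 14087) (.leaf 36838))) (.node (.node (.node (.leaf 9232) (.leaf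 72490)) (.leaf 30765)) (.node (.leaf 19632) (.leaf 43177)))))) (.node (.node (.node (.node (.node (.node (.leaf 1197) (.leaf 44930)) (.leaf 21709)) (.node (.leaf 11086) (.leaf 32834))) (.node (.node (.node (.leaf 6127) (.leaf 50498)) (.leaf 27344)) (.node (.leaf 16329) (.leaf 39306)))) (.node (.node (.node (.node (.leaf 3498) (.leaf 47043)) (.leaf 24484)) (.node (.leaf 13452) (.leaf 35977))) (.node (.node (.node (.leaf 8524) (.leaf 63791)) (.leaf 30090)) (.node (.leaf 19078) (.leaf 42538))))) (.node (.node (.node (.node (.node (.leaf 2287) (.leaf 45961)) (.leaf 22948)) (.node (.leaf 12202) (.leaf 34467))) (.node (.node (.node (.leaf 7309) (.leaf 53290)) (.leaf 28488)) (.node (.leaf 17572) (.leaf 40976)))) (.node (.node (.node (.node (.leaf 4711) (.leaf 48288)) (.leaf 26029)) (.node (.leaf 14696) (.leaf 37870))) (.node (.node (.node (.leaf 10062) (.leaf 87974)) (.leaf 31405)) (.node (.leaf 20461) (.leaf 43754))))))))) (.node (.node (.node (.node (.node (.node (.node (.node (.node (.leaf 172) (.leaf 44079)) (.leaf 20749)) (.node (.node (.leaf 10222) (.leaf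 92396)) (.leaf 31746))) (.node (.node (.node (.leaf 5038) (.leaf 48544)) (.leaf 26350)) (.node (.leaf 15010) (.leaf 38120)))) (.node (.node (.node (.node (.leaf 2496) (.leaf 46159)) (.leaf 23181)) (.node (.leaf 12425) (.leaf 34656))) (.node (.node (.node (.leaf 7471) (.leaf 55054)) (.leaf 28654)) (.node (.leaf 17837) (.leaf 41226))))) (.node (.node (.node (.node (.node (.leaf 1449) (.leaf 45132)) (.leaf 21856)) (.node (.leaf 11308) (.leaf 33155))) (.node (.node (.node (.leaf 6320) (.leaf 50921)) (.leaf 27560)) (.node (.leaf 16464) (.leaf 39623)))) (.node (.node (.node (.node (.leaf 3689) (.leaf 47215)) (.leaf 24752)) (.node (.leaf 13610) (.leaf 36144))) (.node (.node (.node (.leaf 8838) (.leaf 65804)) (.leaf 30336)) (.node (.leaf 19344) (.leaf 42832)))))) (.node (.node (.node (.node (.node (.node (.leaf 873) (.leaf 44592)) (.leaf 21354)) (.node (.node (.leaf 10790) (.leaf 125510)) (.leaf 32271))) (.node (.node (.node (.leaf 5827) (.leaf 49735)) (.leaf 26959)) (.node (.leaf 15759) (.leaf 38861)))) (.node (.node (.node (.node (.leaf 3053) (.leaf 46671)) (.leaf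 24006)) (.node (.leaf 13104) (.leaf 35651))) (.node (.node (.node (.leaf 8109) (.leaf 60429)) (.leaf 29482)) (.node (.leaf 18447) (.leaf 42176))))) (.node (.node (.node (.node (.node (.leaf 1872) (.leaf 45612)) (.leaf 22502)) (.node (.leaf 11879) (.leaf 33792))) (.node (.node (.node (.leaf 6959) (.leaf 51878)) (.leaf 28141)) (.node (.leaf 17130) (.leaf 40394)))) (.node (.node (.node (.node (.leaf 4365) (.leaf 47984)) (.leaf 25386)) (.node (.leaf 14256) (.leaf 37231))) (.node (.node (.node (.leaf 9487) (.leaf 78595)) (.leaf 30915)) (.node (.leaf 19984) (.leaf 43341))))))) (.node (.node (.node (.node (.node (.node (.node (.leaf 550) (.leaf 44390)) (.leaf 21027)) (.node (.node (.leaf 10570) (.leaf 100015)) (.leaf 32072))) (.node (.node (.node (.leaf 5424) (.leaf 49168)) (.leaf 26756)) (.node (.leaf 15434) (.leaf 38573)))) (.node (.node (.node (.node (.leaf 2694) (.leaf 46435)) (.leaf 23590)) (.node (.leaf 12751) (.leaf 35104))) (.node (.node (.node (.leaf 7792) (.leaf 57638)) (.leaf 29040)) (.node (.leaf 18147) (.leaf 41738))))) (.node (.node (.node (.node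 (.node (.leaf 1680) (.leaf 45352)) (.leaf 22278)) (.node (.leaf 11562) (.leaf 33389))) (.node (.node (.node (.leaf 6762) (.leaf 51556)) (.leaf 27776)) (.node (.leaf 16813) (.leaf 39824)))) (.node (.node (.node (.node (.leaf 4034) (.leaf 47466)) (.leaf 25005)) (.node (.leaf 14019) (.leaf 36743))) (.node (.node (.node (.leaf 9186) (.leaf 70090)) (.leaf 30698)) (.node (.leaf 19558) (.leaf 43113)))))) (.node (.node (.node (.node (.node (.node (.leaf 1120) (.leaf 44876)) (.leaf 21648)) (.node (.leaf 11044) (.leaf 32708))) (.node (.node (.node (.leaf 6058) (.leaf 50282)) (.leaf 27214)) (.node (.leaf 16292) (.leaf 39238)))) (.node (.node (.node (.node (.leaf 3437) (.leaf 46976)) (.leaf 24365)) (.node (.leaf 13414) (.leaf 35918))) (.node (.node (.node (.leaf 8426) (.leaf 63213)) (.leaf 29904)) (.node (.leaf 18979) (.leaf 42380))))) (.node (.node (.node (.node (.node (.leaf 2246) (.leaf 45898)) (.leaf 22829)) (.node (.leaf 12106) (.leaf 34307))) (.node (.node (.node (.leaf 7248) (.leaf 52847)) (.leaf 28424)) (.node (.leaf 17424) (.leaf 40880)))) (.node (.node (.node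 (.node (.leaf 4614) (.leaf 48234)) (.leaf 25896)) (.node (.leaf 14631) (.leaf 37679))) (.node (.node (.node (.leaf 9933) (.leaf 86632)) (.leaf 31280)) (.node (.leaf 20359) (.leaf 43680)))))))) (.node (.node (.node (.node (.node (.node (.node (.node (.leaf 365) (.leaf 44224)) (.leaf 20905)) (.node (.node (.leaf 10348) (.leaf 96013)) (.leaf 31952))) (.node (.node (.node (.leaf 5224) (.leaf 48876)) (.leaf 26573)) (.node (.leaf 15244) (.leaf 38339)))) (.node (.node (.node (.node (.leaf 2602) (.leaf 46287)) (.leaf 23430)) (.node (.leaf 12582) (.leaf 34764))) (.node (.node (.node (.leaf 7598) (.leaf 56494)) (.leaf 28874)) (.node (.leaf 17999) (.leaf 41450))))) (.node (.node (.node (.node (.node (.leaf 1571) (.leaf 45230)) (.leaf 22058)) (.node (.leaf 11430) (.leaf 33283))) (.node (.node (.node (.leaf 6563) (.leaf 51274)) (.leaf 27680)) (.node (.leaf 16680) (.leaf 39724)))) (.node (.node (.node (.node (.leaf 3846) (.leaf 47342)) (.leaf 24908)) (.node (.leaf 13837) (.leaf 36496))) (.node (.node (.node (.leaf 9031) (.leaf 67616)) (.leaf 30562)) (.node (.leaf 19438)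 (.leaf 42984)))))) (.node (.node (.node (.node (.node (.node (.leaf 994) (.leaf 44749)) (.leaf 21542)) (.node (.leaf 10922) (.leaf 32487))) (.node (.node (.node (.leaf 5926) (.leaf 49932)) (.leaf 27072)) (.node (.leaf 16040) (.leaf 38976)))) (.node (.node (.node (.node (.leaf 3337) (.leaf 46831)) (.leaf 24238)) (.node (.leaf 13296) (.leaf 35778))) (.node (.node (.node (.leaf 8236) (.leaf 61770)) (.leaf 29645)) (.node (.leaf 18722) (.leaf 42280))))) (.node (.node (.node (.node (.node (.leaf 2060) (.leaf 45743)) (.leaf 22703)) (.node (.leaf 12010) (.leaf 34020))) (.node (.node (.node (.leaf 7053) (.leaf 52201)) (.leaf 28290)) (.node (.leaf 17255) (.leaf 40643)))) (.node (.node (.node (.node (.leaf 4463) (.leaf 48108)) (.leaf 25581)) (.node (.leaf 14476) (.leaf 37456))) (.node (.node (.node (.leaf 9642) (.leaf 81670)) (.leaf 31040)) (.node (.leaf 20205) (.leaf 43437))))))) (.node (.node (.node (.node (.node (.node (.node (.leaf 720) (.leaf 44514)) (.leaf 21123)) (.node (.node (.leaf 10695) (.leaf 107298)) (.leaf 32173))) (.node (.node (.node (.leaf 5616) (.leaf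 49512)) (.leaf 26860)) (.node (.leaf 15628) (.leaf 38759)))) (.node (.node (.node (.node (.leaf 2851) (.leaf 46563)) (.leaf 23792)) (.node (.leaf 12940) (.leaf 35335))) (.node (.node (.node (.leaf 8004) (.leaf 58983)) (.leaf 29264)) (.node (.leaf 18320) (.leaf 41958))))) (.node (.node (.node (.node (.node (.leaf 1794) (.leaf 45476)) (.leaf 22407)) (.node (.leaf 11695) (.leaf 33487))) (.node (.node (.node (.leaf 6862) (.leaf 51725)) (.leaf 27913)) (.node (.leaf 16942) (.leaf 40078)))) (.node (.node (.node (.node (.leaf 4264) (.leaf 47754)) (.leaf 25160)) (.node (.leaf 14151) (.leaf 37026))) (.node (.node (.node (.leaf 9322) (.leaf 74700)) (.leaf 30824)) (.node (.leaf 19778) (.leaf 43244)))))) (.node (.node (.node (.node (.node (.node (.leaf 1283) (.leaf 44998)) (.leaf 21760)) (.node (.leaf 11174) (.leaf 32944))) (.node (.node (.node (.leaf 6191) (.leaf 50608)) (.leaf 27430)) (.node (.leaf 16387) (.leaf 39424)))) (.node (.node (.node (.node (.leaf 3555) (.leaf 47104)) (.leaf 24640)) (.node (.leaf 13488) (.leaf 36040))) (.node (.node (.node (.leaf 8648) (.leaf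 64077)) (.leaf 30182)) (.node (.leaf 19235) (.leaf 42628))))) (.node (.node (.node (.node (.node (.leaf 2370) (.leaf 46025)) (.leaf 23047)) (.node (.leaf 12268) (.leaf 34530))) (.node (.node (.node (.leaf 7368) (.leaf 53612)) (.leaf 28557)) (.node (.leaf 17615) (.leaf 41103)))) (.node (.node (.node (.node (.leaf 4842) (.leaf 48332)) (.leaf 26178)) (.node (.leaf 14767) (.leaf 37967))) (.node (.node (.node (.leaf 10121) (.leaf 89326)) (.leaf 31504)) (.node (.leaf 20560) (.leaf 43914)))))))))))

noncomputable def parA7 : Arr ℕ :=
  (.node (.node (.node (.node (.node (.node (.node (.node (.node (.node (.node (.leaf 38) (.leaf 43946)) (.leaf 20624)) (.node (.node (.leaf 10152) (.leaf 90286)) (.leaf 31594))) (.node (.node (.node (.leaf 4872) (.leaf 48396)) (.leaf 26222)) (.node (.leaf 14826) (.leaf 37999)))) (.node (.node (.node (.node (.leaf 2415) (.leaf 46093)) (.leaf 23107)) (.node (.leaf 12300) (.leaf 34563))) (.node (.node (.node (.leaf 7405) (.leaf 53984)) (.leaf 28585)) (.node (.leaf 17671) (.leaf 41152))))) (.node (.node (.node (.node (.node (.leaf 1327)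 (.leaf 45033)) (.leaf 21775)) (.node (.leaf 11207) (.leaf 33059))) (.node (.node (.node (.leaf 6246) (.leaf 50728)) (.leaf 27456)) (.node (.leaf 16400) (.leaf 39466)))) (.node (.node (.node (.node (.leaf 3568) (.leaf 47139)) (.leaf 24674)) (.node (.leaf 13519) (.leaf 36078))) (.node (.node (.node (.leaf 8687) (.leaf 64430)) (.leaf 30214)) (.node (.leaf 19276) (.leaf 42698)))))) (.node (.node (.node (.node (.node (.node (.leaf 770) (.leaf 44527)) (.leaf 21152)) (.node (.node (.leaf 10722) (.leaf 110339)) (.leaf 32205))) (.node (.node (.node (.leaf 5732) (.leaf 49580)) (.leaf 26892)) (.node (.leaf 15660) (.leaf 38790)))) (.node (.node (.node (.node (.leaf 2864) (.leaf 46604)) (.leaf 23847)) (.node (.leaf 13004) (.leaf 35424))) (.node (.node (.node (.leaf 8038) (.leaf 59532)) (.leaf 29318)) (.node (.leaf 18384) (.leaf 42080))))) (.node (.node (.node (.node (.node (.leaf 1807) (.leaf 45507)) (.leaf 22434)) (.node (.leaf 11726) (.leaf 33520))) (.node (.node (.node (.leaf 6890) (.leaf 51779)) (.leaf 28003)) (.node (.leaf 17002) (.leaf 40194)))) (.node (.node (.node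 (.node (.leaf 4298) (.leaf 47792)) (.leaf 25222)) (.node (.leaf 14180) (.leaf 37066))) (.node (.node (.node (.leaf 9383) (.leaf 75818)) (.leaf 30854)) (.node (.leaf 19818) (.leaf 43272))))))) (.node (.node (.node (.node (.node (.node (.node (.leaf 429) (.leaf 44272)) (.leaf 20941)) (.node (.node (.leaf 10410) (.leaf 97613)) (.leaf 32002))) (.node (.node (.node (.leaf 5293) (.leaf 49007)) (.leaf 26630)) (.node (.leaf 15308) (.leaf 38371)))) (.node (.node (.node (.node (.leaf 2630) (.leaf 46342)) (.leaf 23465)) (.node (.leaf 12624) (.leaf 34796))) (.node (.node (.node (.leaf 7629) (.leaf 56654)) (.leaf 28903)) (.node (.leaf 18032) (.leaf 41548))))) (.node (.node (.node (.node (.node (.leaf 1614) (.leaf 45282)) (.leaf 22150)) (.node (.leaf 11464) (.leaf 33296))) (.node (.node (.node (.leaf 6592) (.leaf 51376)) (.leaf 27694)) (.node (.leaf 16712) (.leaf 39754)))) (.node (.node (.node (.node (.leaf 3906) (.leaf 47372)) (.leaf 24940)) (.node (.leaf 13888) (.leaf 36527))) (.node (.node (.node (.leaf 9094) (.leaf 68142)) (.leaf 30575)) (.node (.leaf 19465) (.leaf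 43021)))))) (.node (.node (.node (.node (.node (.node (.leaf 1008) (.leaf 44780)) (.leaf 21575)) (.node (.leaf 10956) (.leaf 32550))) (.node (.node (.node (.leaf 5959) (.leaf 50028)) (.leaf 27088)) (.node (.leaf 16144) (.leaf 39011)))) (.node (.node (.node (.node (.leaf 3370) (.leaf 46888)) (.leaf 24292)) (.node (.leaf 13327) (.leaf 35844))) (.node (.node (.node (.leaf 8263) (.leaf 62160)) (.leaf 29674)) (.node (.leaf 18761) (.leaf 42306))))) (.node (.node (.node (.node (.node (.leaf 2122) (.leaf 45792)) (.leaf 22755)) (.node (.leaf 12038) (.leaf 34128))) (.node (.node (.node (.leaf 7079) (.leaf 52330)) (.leaf 28320)) (.node (.leaf 17296) (.leaf 40656)))) (.node (.node (.node (.node (.leaf 4493) (.leaf 48136)) (.leaf 25642)) (.node (.leaf 14505) (.leaf 37514))) (.node (.node (.node (.leaf 9808) (.leaf 82953)) (.leaf 31082)) (.node (.leaf 20236) (.leaf 43468)))))))) (.node (.node (.node (.node (.node (.node (.node (.node (.leaf 237) (.leaf 44132)) (.leaf 20777)) (.node (.node (.leaf 10282) (.leaf 93088)) (.leaf 31760))) (.node (.node (.node (.leaf 5098) (.leaf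 48647)) (.leaf 26407)) (.node (.leaf 15055) (.leaf 38176)))) (.node (.node (.node (.node (.leaf 2535) (.leaf 46190)) (.leaf 23242)) (.node (.leaf 12454) (.leaf 34690))) (.node (.node (.node (.leaf 7501) (.leaf 55532)) (.leaf 28686)) (.node (.leaf 17869) (.leaf 41295))))) (.node (.node (.node (.node (.node (.leaf 1480) (.leaf 45164)) (.leaf 21904)) (.node (.leaf 11338) (.leaf 33190))) (.node (.node (.node (.leaf 6371) (.leaf 51021)) (.leaf 27591)) (.node (.leaf 16494) (.leaf 39656)))) (.node (.node (.node (.node (.leaf 3758) (.leaf 47248)) (.leaf 24810)) (.node (.leaf 13672) (.leaf 36272))) (.node (.node (.node (.leaf 8874) (.leaf 66380)) (.leaf 30381)) (.node (.leaf 19374) (.leaf 42884)))))) (.node (.node (.node (.node (.node (.node (.leaf 908) (.leaf 44622)) (.leaf 21420)) (.node (.node (.leaf 10829) (.leaf 137474)) (.leaf 32327))) (.node (.node (.node (.leaf 5840) (.leaf 49763)) (.leaf 26989)) (.node (.leaf 15840) (.leaf 38889)))) (.node (.node (.node (.node (.leaf 3111) (.leaf 46728)) (.leaf 24048)) (.node (.leaf 13158) (.leaf 35686))) (.node (.node (.node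 (.leaf 8144) (.leaf 60583)) (.leaf 29549)) (.node (.leaf 18531) (.leaf 42192))))) (.node (.node (.node (.node (.node (.leaf 1902) (.leaf 45666)) (.leaf 22573)) (.node (.leaf 11911) (.leaf 33859))) (.node (.node (.node (.leaf 6988) (.leaf 51907)) (.leaf 28196)) (.node (.leaf 17156) (.leaf 40496)))) (.node (.node (.node (.node (.leaf 4396) (.leaf 48038)) (.leaf 25424)) (.node (.leaf 14307) (.leaf 37319))) (.node (.node (.node (.leaf 9519) (.leaf 79847)) (.leaf 30944)) (.node (.leaf 20071) (.leaf 43369))))))) (.node (.node (.node (.node (.node (.node (.node (.leaf 589) (.leaf 44426)) (.leaf 21040)) (.node (.node (.leaf 10600) (.leaf 101740)) (.leaf 32102))) (.node (.node (.node (.leaf 5480) (.leaf 49322)) (.leaf 26792)) (.node (.leaf 15496) (.leaf 38608)))) (.node (.node (.node (.node (.leaf 2734) (.leaf 46478)) (.leaf 23632)) (.node (.leaf 12783) (.leaf 35175))) (.node (.node (.node (.leaf 7823) (.leaf 58029)) (.leaf 29098)) (.node (.leaf 18188) (.leaf 41824))))) (.node (.node (.node (.node (.node (.leaf 1709) (.leaf 45384)) (.leaf 22310)) (.node (.leaf 11597)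 (.leaf 33417))) (.node (.node (.node (.leaf 6796) (.leaf 51620)) (.leaf 27820)) (.node (.leaf 16864) (.leaf 39854)))) (.node (.node (.node (.node (.leaf 4106) (.leaf 47536)) (.leaf 25034)) (.node (.leaf 14057) (.leaf 36803))) (.node (.node (.node (.leaf 9218) (.leaf 71504)) (.leaf 30735)) (.node (.leaf 19590) (.leaf 43144)))))) (.node (.node (.node (.node (.node (.node (.leaf 1158) (.leaf 44902)) (.leaf 21698)) (.node (.leaf 11074) (.leaf 32752))) (.node (.node (.node (.leaf 6095) (.leaf 50348)) (.leaf 27308)) (.node (.leaf 16303) (.leaf 39296)))) (.node (.node (.node (.node (.leaf 3471) (.leaf 47018)) (.leaf 24450)) (.node (.leaf 13440) (.leaf 35948))) (.node (.node (.node (.leaf 8496) (.leaf 63527)) (.leaf 30000)) (.node (.leaf 19050) (.leaf 42414))))) (.node (.node (.node (.node (.node (.leaf 2275) (.leaf 45933)) (.leaf 22914)) (.node (.leaf 12168) (.leaf 34346))) (.node (.node (.node (.leaf 7298) (.leaf 53098)) (.leaf 28461)) (.node (.leaf 17508) (.leaf 40962)))) (.node (.node (.node (.node (.leaf 4656) (.leaf 48262)) (.leaf 25996)) (.node (.leaf 14663)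 (.leaf 37805))) (.node (.node (.node (.leaf 10050) (.leaf 87242)) (.leaf 31338)) (.node (.leaf 20429) (.leaf 43719))))))))) (.node (.node (.node (.node (.node (.node (.node (.node (.node (.leaf 141) (.leaf 44040)) (.leaf 20714)) (.node (.node (.leaf 10210) (.leaf 91656)) (.leaf 31695))) (.node (.node (.node (.leaf 4970) (.leaf 48516)) (.leaf 26304)) (.node (.leaf 14890) (.leaf 38090)))) (.node (.node (.node (.node (.leaf 2473) (.leaf 46151)) (.leaf 23168)) (.node (.leaf 12400) (.leaf 34624))) (.node (.node (.node (.leaf 7458) (.leaf 54672)) (.leaf 28643)) (.node (.leaf 17769) (.leaf 41199))))) (.node (.node (.node (.node (.node (.leaf 1423) (.leaf 45103)) (.leaf 21830)) (.node (.leaf 11274) (.leaf 33126))) (.node (.node (.node (.leaf 6288) (.leaf 50896)) (.leaf 27529)) (.node (.leaf 16454) (.leaf 39588)))) (.node (.node (.node (.node (.leaf 3632) (.leaf 47206)) (.leaf 24713)) (.node (.leaf 13600) (.leaf 36131))) (.node (.node (.node (.leaf 8803) (.leaf 65133)) (.leaf 30253)) (.node (.leaf 19334) (.leaf 42767)))))) (.node (.node (.node (.node (.node (.node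 (.leaf 844) (.leaf 44582)) (.leaf 21264)) (.node (.node (.leaf 10765) (.leaf 124168)) (.leaf 32260))) (.node (.node (.node (.leaf 5799) (.leaf 49710)) (.leaf 26951)) (.node (.leaf 15725) (.leaf 38832)))) (.node (.node (.node (.node (.leaf 2992) (.leaf 46662)) (.leaf 23920)) (.node (.leaf 13092) (.leaf 35536))) (.node (.node (.node (.leaf 8080) (.leaf 60205)) (.leaf 29389)) (.node (.leaf 18438) (.leaf 42153))))) (.node (.node (.node (.node (.node (.leaf 1862) (.leaf 45578)) (.leaf 22477)) (.node (.leaf 11850) (.leaf 33680))) (.node (.node (.node (.leaf 6948) (.leaf 51852)) (.leaf 28108)) (.node (.leaf 17072) (.leaf 40302)))) (.node (.node (.node (.node (.leaf 4356) (.leaf 47913)) (.leaf 25351)) (.node (.leaf 14242) (.leaf 37219))) (.node (.node (.node (.leaf 9452) (.leaf 78218)) (.leaf 30892)) (.node (.leaf 19946) (.leaf 43330))))))) (.node (.node (.node (.node (.node (.node (.node (.leaf 519) (.leaf 44360)) (.leaf 21000)) (.node (.node (.leaf 10536) (.leaf 99242)) (.leaf 32041))) (.node (.node (.node (.leaf 5383) (.leaf 49152)) (.leaf 26701)) (.node (.leaf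 15394) (.leaf 38534)))) (.node (.node (.node (.node (.leaf 2670) (.leaf 46407)) (.leaf 23528)) (.node (.leaf 12739) (.leaf 35018))) (.node (.node (.node (.leaf 7754) (.leaf 57164)) (.leaf 28966)) (.node (.leaf 18089) (.leaf 41680))))) (.node (.node (.node (.node (.node (.leaf 1672) (.leaf 45322)) (.leaf 22243)) (.node (.leaf 11534) (.leaf 33356))) (.node (.node (.node (.leaf 6701) (.leaf 51520)) (.leaf 27750)) (.node (.leaf 16800) (.leaf 39814)))) (.node (.node (.node (.node (.leaf 4003) (.leaf 47432)) (.leaf 24994)) (.node (.leaf 13990) (.leaf 36716))) (.node (.node (.node (.leaf 9156) (.leaf 69385)) (.leaf 30672)) (.node (.leaf 19526) (.leaf 43087)))))) (.node (.node (.node (.node (.node (.node (.leaf 1090) (.leaf 44844)) (.leaf 21632)) (.node (.leaf 11021) (.leaf 32656))) (.node (.node (.node (.leaf 6048) (.leaf 50182)) (.leaf 27177)) (.node (.leaf 16262) (.leaf 39184)))) (.node (.node (.node (.node (.leaf 3428) (.leaf 46947)) (.leaf 24352)) (.node (.leaf 13388) (.leaf 35907))) (.node (.node (.node (.leaf 8354) (.leaf 63079)) (.leaf 29892)) (.node (.leaf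 18889) (.leaf 42349))))) (.node (.node (.node (.node (.node (.leaf 2221) (.leaf 45838)) (.leaf 22794)) (.node (.leaf 12078) (.leaf 34250))) (.node (.node (.node (.leaf 7178) (.leaf 52740)) (.leaf 28393)) (.node (.leaf 17410) (.leaf 40784)))) (.node (.node (.node (.node (.leaf 4585) (.leaf 48198)) (.leaf 25866)) (.node (.leaf 14598) (.leaf 37666))) (.node (.node (.node (.leaf 9864) (.leaf 84560)) (.leaf 31208)) (.node (.leaf 20326) (.leaf 43562)))))))) (.node (.node (.node (.node (.node (.node (.node (.node (.leaf 326) (.leaf 44198)) (.leaf 20880)) (.node (.node (.leaf 10320) (.leaf 95213)) (.leaf 31939))) (.node (.node (.node (.leaf 5194) (.leaf 48813)) (.leaf 26531)) (.node (.leaf 15202) (.leaf 38316)))) (.node (.node (.node (.node (.leaf 2576) (.leaf 46274)) (.leaf 23398)) (.node (.leaf 12546) (.leaf 34734))) (.node (.node (.node (.leaf 7568) (.leaf 56143)) (.leaf 28813)) (.node (.leaf 17965) (.leaf 41379))))) (.node (.node (.node (.node (.node (.leaf 1543) (.leaf 45218)) (.leaf 22018)) (.node (.leaf 11405) (.leaf 33251))) (.node (.node (.node (.leaf 6512)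 (.leaf 51152)) (.leaf 27656)) (.node (.leaf 16618) (.leaf 39712)))) (.node (.node (.node (.node (.leaf 3816) (.leaf 47306)) (.leaf 24877)) (.node (.leaf 13770) (.leaf 36458))) (.node (.node (.node (.leaf 8998) (.leaf 67214)) (.leaf 30531)) (.node (.leaf 19427) (.leaf 42953)))))) (.node (.node (.node (.node (.node (.node (.leaf 967) (.leaf 44718)) (.leaf 21510)) (.node (.leaf 10894) (.leaf 32432))) (.node (.node (.node (.leaf 5900) (.leaf 49866)) (.leaf 27042)) (.node (.leaf 16014) (.leaf 38944)))) (.node (.node (.node (.node (.leaf 3312) (.leaf 46794)) (.leaf 24204)) (.node (.leaf 13288) (.leaf 35750))) (.node (.node (.node (.leaf 8208) (.leaf 61287)) (.leaf 29610)) (.node (.leaf 18688) (.leaf 42250))))) (.node (.node (.node (.node (.node (.leaf 2016) (.leaf 45735)) (.leaf 22672)) (.node (.leaf 11952) (.leaf 33994))) (.node (.node (.node (.leaf 7040) (.leaf 52003)) (.leaf 28263)) (.node (.leaf 17199) (.leaf 40618)))) (.node (.node (.node (.node (.leaf 4452) (.leaf 48099)) (.leaf 25552)) (.node (.leaf 14410) (.leaf 37420))) (.node (.node (.node (.leaf 9632)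 (.leaf 81100)) (.leaf 31008)) (.node (.leaf 20174) (.leaf 43424))))))) (.node (.node (.node (.node (.node (.node (.node (.leaf 685) (.leaf 44487)) (.leaf 21098)) (.node (.node (.leaf 10669) (.leaf 106214)) (.leaf 32162))) (.node (.node (.node (.leaf 5582) (.leaf 49385)) (.leaf 26848)) (.node (.leaf 15591) (.leaf 38729)))) (.node (.node (.node (.node (.leaf 2823) (.leaf 46537)) (.leaf 23750)) (.node (.leaf 12899) (.leaf 35308))) (.node (.node (.node (.leaf 7949) (.leaf 58768)) (.leaf 29232)) (.node (.leaf 18280) (.leaf 41922))))) (.node (.node (.node (.node (.node (.leaf 1769) (.leaf 45449)) (.leaf 22381)) (.node (.leaf 11661) (.leaf 33476))) (.node (.node (.node (.leaf 6854) (.leaf 51695)) (.leaf 27888)) (.node (.leaf 16911) (.leaf 40042)))) (.node (.node (.node (.node (.leaf 4208) (.leaf 47658)) (.leaf 25130)) (.node (.leaf 14122) (.leaf 36870))) (.node (.node (.node (.leaf 9312) (.leaf 73450)) (.leaf 30797)) (.node (.leaf 19744) (.leaf 43235)))))) (.node (.node (.node (.node (.node (.node (.leaf 1251) (.leaf 44966)) (.leaf 21737)) (.node (.leaf 11120)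 (.leaf 32903))) (.node (.node (.node (.leaf 6158) (.leaf 50544)) (.leaf 27405)) (.node (.leaf 16360) (.leaf 39394)))) (.node (.node (.node (.node (.leaf 3530) (.leaf 47072)) (.leaf 24556)) (.node (.leaf 13479) (.leaf 36014))) (.node (.node (.node (.leaf 8618) (.leaf 63876)) (.leaf 30126)) (.node (.leaf 19110) (.leaf 42575))))) (.node (.node (.node (.node (.node (.leaf 2342) (.leaf 45993)) (.leaf 22986)) (.node (.leaf 12234) (.leaf 34498))) (.node (.node (.node (.leaf 7338) (.leaf 53504)) (.leaf 28524)) (.node (.leaf 17606) (.leaf 41092)))) (.node (.node (.node (.node (.leaf 4784) (.leaf 48303)) (.leaf 26119)) (.node (.leaf 14734) (.leaf 37936))) (.node (.node (.node (.leaf 10089) (.leaf 89004)) (.leaf 31491)) (.node (.leaf 20516) (.leaf 43853)))))))))) (.node (.node (.node (.node (.node (.node (.node (.node (.node (.node (.leaf 80) (.leaf 44006)) (.leaf 20682)) (.node (.node (.leaf 10182) (.leaf 91040)) (.leaf 31626))) (.node (.node (.node (.leaf 4944) (.leaf 48458)) (.leaf 26280)) (.node (.leaf 14854) (.leaf 38026)))) (.node (.node (.node (.node (.leaf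 2441) (.leaf 46122)) (.leaf 23136)) (.node (.leaf 12333) (.leaf 34600))) (.node (.node (.node (.leaf 7432) (.leaf 54064)) (.leaf 28612)) (.node (.leaf 17731) (.leaf 41188))))) (.node (.node (.node (.node (.node (.leaf 1388) (.leaf 45066)) (.leaf 21805)) (.node (.leaf 11244) (.leaf 33072))) (.node (.node (.node (.leaf 6274) (.leaf 50758)) (.leaf 27495)) (.node (.leaf 16428) (.leaf 39533)))) (.node (.node (.node (.node (.leaf 3597) (.leaf 47177)) (.leaf 24686)) (.node (.leaf 13552) (.leaf 36106))) (.node (.node (.node (.leaf 8719) (.leaf 64778)) (.leaf 30224)) (.node (.leaf 19304) (.leaf 42728)))))) (.node (.node (.node (.node (.node (.node (.leaf 812) (.leaf 44554)) (.leaf 21218)) (.node (.node (.leaf 10736) (.leaf 115850)) (.leaf 32234))) (.node (.node (.node (.leaf 5766) (.leaf 49644)) (.leaf 26922)) (.node (.leaf 15696) (.leaf 38816)))) (.node (.node (.node (.node (.leaf 2946) (.leaf 46631)) (.leaf 23887)) (.node (.leaf 13058) (.leaf 35466))) (.node (.node (.node (.leaf 8070) (.leaf 59978)) (.leaf 29346)) (.node (.leaf 18410) (.leaf 42121))))) (.node (.node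 (.node (.node (.node (.leaf 1836) (.leaf 45540)) (.leaf 22448)) (.node (.leaf 11782) (.leaf 33632))) (.node (.node (.node (.leaf 6920) (.leaf 51821)) (.leaf 28067)) (.node (.leaf 17039) (.leaf 40237)))) (.node (.node (.node (.node (.leaf 4326) (.leaf 47882)) (.leaf 25318)) (.node (.leaf 14214) (.leaf 37162))) (.node (.node (.node (.leaf 9417) (.leaf 77606)) (.leaf 30864)) (.node (.leaf 19906) (.leaf 43302))))))) (.node (.node (.node (.node (.node (.node (.node (.leaf 483) (.leaf 44301)) (.leaf 20970)) (.node (.node (.leaf 10448) (.leaf 98730)) (.leaf 32015))) (.node (.node (.node (.leaf 5351) (.leaf 49040)) (.leaf 26658)) (.node (.leaf 15340) (.leaf 38466)))) (.node (.node (.node (.node (.leaf 2656) (.leaf 46352)) (.leaf 23498)) (.node (.leaf 12653) (.leaf 34896))) (.node (.node (.node (.leaf 7712) (.leaf 57068)) (.leaf 28934)) (.node (.leaf 18058) (.leaf 41606))))) (.node (.node (.node (.node (.node (.leaf 1640) (.leaf 45296)) (.leaf 22208)) (.node (.leaf 11498) (.leaf 33325))) (.node (.node (.node (.leaf 6634) (.leaf 51430)) (.leaf 27724)) (.node (.leaf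 16770) (.leaf 39784)))) (.node (.node (.node (.node (.leaf 3948) (.leaf 47402)) (.leaf 24969)) (.node (.leaf 13930) (.leaf 36656))) (.node (.node (.node (.leaf 9123) (.leaf 68943)) (.leaf 30602)) (.node (.leaf 19491) (.leaf 43048)))))) (.node (.node (.node (.node (.node (.node (.leaf 1056) (.leaf 44812)) (.leaf 21607)) (.node (.leaf 10986) (.leaf 32618))) (.node (.node (.node (.leaf 5994) (.leaf 50128)) (.leaf 27149)) (.node (.leaf 16230) (.leaf 39088)))) (.node (.node (.node (.node (.leaf 3398) (.leaf 46918)) (.leaf 24327)) (.node (.leaf 13358) (.leaf 35874))) (.node (.node (.node (.leaf 8322) (.leaf 62607)) (.leaf 29795)) (.node (.leaf 18858) (.leaf 42319))))) (.node (.node (.node (.node (.node (.leaf 2153) (.leaf 45807)) (.leaf 22768)) (.node (.leaf 12066) (.leaf 34186))) (.node (.node (.node (.leaf 7120) (.leaf 52576)) (.leaf 28360)) (.node (.leaf 17380) (.leaf 40742)))) (.node (.node (.node (.node (.leaf 4528) (.leaf 48167)) (.leaf 25770)) (.node (.leaf 14566) (.leaf 37582))) (.node (.node (.node (.leaf 9837) (.leaf 83244)) (.leaf 31152)) (.node (.leaf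 20265) (.leaf 43502)))))))) (.node (.node (.node (.node (.node (.node (.node (.node (.leaf 270) (.leaf 44168)) (.leaf 20867)) (.node (.node (.leaf 10308) (.leaf 93704)) (.leaf 31874))) (.node (.node (.node (.leaf 5128) (.leaf 48744)) (.leaf 26474)) (.node (.leaf 15168) (.leaf 38250)))) (.node (.node (.node (.node (.leaf 2564) (.leaf 46223)) (.leaf 23312)) (.node (.leaf 12464) (.leaf 34704))) (.node (.node (.node (.leaf 7526) (.leaf 55906)) (.leaf 28749)) (.node (.leaf 17902) (.leaf 41344))))) (.node (.node (.node (.node (.node (.leaf 1510) (.leaf 45191)) (.leaf 21930)) (.node (.leaf 11367) (.leaf 33223))) (.node (.node (.node (.leaf 6413) (.leaf 51086)) (.leaf 27624)) (.node (.leaf 16524) (.leaf 39680)))) (.node (.node (.node (.node (.leaf 3788) (.leaf 47277)) (.leaf 24846)) (.node (.leaf 13738) (.leaf 36387))) (.node (.node (.node (.leaf 8962) (.leaf 66951)) (.leaf 30442)) (.node (.leaf 19402) (.leaf 42918)))))) (.node (.node (.node (.node (.node (.node (.leaf 941) (.leaf 44686)) (.leaf 21453)) (.node (.node (.leaf 10861) (.leaf 150088)) (.leaf 32360)))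 (.node (.node (.node (.leaf 5869) (.leaf 49776)) (.leaf 27015)) (.node (.leaf 15981) (.leaf 38919)))) (.node (.node (.node (.node (.leaf 3215) (.leaf 46762)) (.leaf 24160)) (.node (.leaf 13254) (.leaf 35718))) (.node (.node (.node (.leaf 8175) (.leaf 60803)) (.leaf 29581)) (.node (.leaf 18576) (.leaf 42220))))) (.node (.node (.node (.node (.node (.leaf 1958) (.leaf 45680)) (.leaf 22634)) (.node (.leaf 11939) (.leaf 33930))) (.node (.node (.node (.leaf 7014) (.leaf 51920)) (.leaf 28236)) (.node (.leaf 17184) (.leaf 40580)))) (.node (.node (.node (.node (.leaf 4426) (.leaf 48066)) (.leaf 25488)) (.node (.leaf 14384) (.leaf 37378))) (.node (.node (.node (.leaf 9575) (.leaf 80399)) (.leaf 30959)) (.node (.leaf 20138) (.leaf 43394))))))) (.node (.node (.node (.node (.node (.node (.node (.leaf 617) (.leaf 44456)) (.leaf 21069)) (.node (.node (.leaf 10633) (.leaf 104716)) (.leaf 32132))) (.node (.node (.node (.leaf 5550) (.leaf 49359)) (.leaf 26824)) (.node (.leaf 15528) (.leaf 38694)))) (.node (.node (.node (.node (.leaf 2796) (.leaf 46510)) (.leaf 23692)) (.node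 (.leaf 12810) (.leaf 35210))) (.node (.node (.node (.leaf 7849) (.leaf 58634)) (.leaf 29162)) (.node (.leaf 18224) (.leaf 41890))))) (.node (.node (.node (.node (.node (.leaf 1740) (.leaf 45421)) (.leaf 22344)) (.node (.leaf 11628) (.leaf 33446))) (.node (.node (.node (.leaf 6822) (.leaf 51683)) (.leaf 27848)) (.node (.leaf 16896) (.leaf 39952)))) (.node (.node (.node (.node (.leaf 4195) (.leaf 47592)) (.leaf 25062)) (.node (.leaf 14090) (.leaf 36844))) (.node (.node (.node (.leaf 9254) (.leaf 72520)) (.leaf 30766)) (.node (.leaf 19655) (.leaf 43178)))))) (.node (.node (.node (.node (.node (.node (.leaf 1198) (.leaf 44931)) (.leaf 21710)) (.node (.leaf 11087) (.leaf 32835))) (.node (.node (.node (.leaf 6128) (.leaf 50499)) (.leaf 27364)) (.node (.leaf 16330) (.leaf 39334)))) (.node (.node (.node (.node (.leaf 3500) (.leaf 47046)) (.leaf 24490)) (.node (.leaf 13453) (.leaf 35978))) (.node (.node (.node (.leaf 8527) (.leaf 63818)) (.leaf 30092)) (.node (.leaf 19079) (.leaf 42544))))) (.node (.node (.node (.node (.node (.leaf 2288) (.leaf 45962)) (.leaf 22954))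 (.node (.leaf 12204) (.leaf 34468))) (.node (.node (.node (.leaf 7310) (.leaf 53321)) (.leaf 28490)) (.node (.leaf 17574) (.leaf 41002)))) (.node (.node (.node (.node (.leaf 4712) (.leaf 48291)) (.leaf 26030)) (.node (.leaf 14698) (.leaf 37872))) (.node (.node (.node (.leaf 10063) (.leaf 88080)) (.leaf 31434)) (.node (.leaf 20462) (.leaf 43760))))))))) (.node (.node (.node (.node (.node (.node (.node (.node (.node (.leaf 173) (.leaf 44080)) (.leaf 20750)) (.node (.node (.leaf 10223) (.leaf 92484)) (.leaf 31747))) (.node (.node (.node (.leaf 5039) (.leaf 48554)) (.leaf 26352)) (.node (.leaf 15011) (.leaf 38121)))) (.node (.node (.node (.node (.leaf 2502) (.leaf 46160)) (.leaf 23184)) (.node (.leaf 12426) (.leaf 34660))) (.node (.node (.node (.leaf 7472) (.leaf 55212)) (.leaf 28655)) (.node (.leaf 17839) (.leaf 41228))))) (.node (.node (.node (.node (.node (.leaf 1450) (.leaf 45133)) (.leaf 21858)) (.node (.leaf 11309) (.leaf 33156))) (.node (.node (.node (.leaf 6336) (.leaf 50922)) (.leaf 27561)) (.node (.leaf 16480) (.leaf 39624)))) (.node (.node (.node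 (.node (.leaf 3690) (.leaf 47236)) (.leaf 24778)) (.node (.leaf 13634) (.leaf 36167))) (.node (.node (.node (.leaf 8839) (.leaf 65839)) (.leaf 30338)) (.node (.leaf 19360) (.leaf 42848)))))) (.node (.node (.node (.node (.node (.node (.leaf 876) (.leaf 44608)) (.leaf 21376)) (.node (.node (.leaf 10791) (.leaf 126216)) (.leaf 32288))) (.node (.node (.node (.leaf 5828) (.leaf 49736)) (.leaf 26960)) (.node (.leaf 15760) (.leaf 38862)))) (.node (.node (.node (.node (.leaf 3055) (.leaf 46672)) (.leaf 24007)) (.node (.leaf 13122) (.leaf 35652))) (.node (.node (.node (.leaf 8112) (.leaf 60431)) (.leaf 29488)) (.node (.leaf 18448) (.leaf 42180))))) (.node (.node (.node (.node (.node (.leaf 1888) (.leaf 45613)) (.leaf 22503)) (.node (.leaf 11880) (.leaf 33794))) (.node (.node (.node (.leaf 6960) (.leaf 51879)) (.leaf 28142)) (.node (.leaf 17132) (.leaf 40400)))) (.node (.node (.node (.node (.leaf 4368) (.leaf 48000)) (.leaf 25388)) (.node (.leaf 14278) (.leaf 37258))) (.node (.node (.node (.leaf 9504) (.leaf 78598)) (.leaf 30918)) (.node (.leaf 20010) (.leaf 43342)))))))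 (.node (.node (.node (.node (.node (.node (.node (.leaf 551) (.leaf 44394)) (.leaf 21028)) (.node (.node (.leaf 10572) (.leaf 100614)) (.leaf 32073))) (.node (.node (.node (.leaf 5449) (.leaf 49191)) (.leaf 26758)) (.node (.leaf 15439) (.leaf 38576)))) (.node (.node (.node (.node (.leaf 2695) (.leaf 46439)) (.leaf 23591)) (.node (.leaf 12752) (.leaf 35106))) (.node (.node (.node (.leaf 7808) (.leaf 57744)) (.leaf 29056)) (.node (.leaf 18150) (.leaf 41744))))) (.node (.node (.node (.node (.node (.leaf 1696) (.leaf 45353)) (.leaf 22280)) (.node (.leaf 11586) (.leaf 33390))) (.node (.node (.node (.leaf 6765) (.leaf 51564)) (.leaf 27778)) (.node (.leaf 16814) (.leaf 39840)))) (.node (.node (.node (.node (.leaf 4035) (.leaf 47472)) (.leaf 25006)) (.node (.leaf 14022) (.leaf 36748))) (.node (.node (.node (.leaf 9187) (.leaf 70096)) (.leaf 30724)) (.node (.leaf 19559) (.leaf 43114)))))) (.node (.node (.node (.node (.node (.node (.leaf 1126) (.leaf 44877)) (.leaf 21664)) (.node (.leaf 11046) (.leaf 32710))) (.node (.node (.node (.leaf 6084) (.leaf 50284)) (.leaf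 27215)) (.node (.leaf 16294) (.leaf 39239)))) (.node (.node (.node (.node (.leaf 3440) (.leaf 46978)) (.leaf 24366)) (.node (.leaf 13416) (.leaf 35919))) (.node (.node (.node (.leaf 8448) (.leaf 63236)) (.leaf 29926)) (.node (.leaf 18984) (.leaf 42381))))) (.node (.node (.node (.node (.node (.leaf 2247) (.leaf 45900)) (.leaf 22831)) (.node (.leaf 12112) (.leaf 34308))) (.node (.node (.node (.leaf 7264) (.leaf 52908)) (.leaf 28425)) (.node (.leaf 17444) (.leaf 40906)))) (.node (.node (.node (.node (.leaf 4615) (.leaf 48236)) (.leaf 25897)) (.node (.leaf 14632) (.leaf 37680))) (.node (.node (.node (.leaf 9936) (.leaf 86672)) (.leaf 31296)) (.node (.leaf 20361) (.leaf 43682)))))))) (.node (.node (.node (.node (.node (.node (.node (.node (.leaf 368) (.leaf 44231)) (.leaf 20906)) (.node (.node (.leaf 10349) (.leaf 96326)) (.leaf 31968))) (.node (.node (.node (.leaf 5225) (.leaf 48877)) (.leaf 26576)) (.node (.leaf 15248) (.leaf 38342)))) (.node (.node (.node (.node (.leaf 2604) (.leaf 46304)) (.leaf 23431)) (.node (.leaf 12586) (.leaf 34765))) (.node (.node (.node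 (.leaf 7599) (.leaf 56495)) (.leaf 28876)) (.node (.leaf 18000) (.leaf 41478))))) (.node (.node (.node (.node (.node (.leaf 1574) (.leaf 45231)) (.leaf 22060)) (.node (.leaf 11436) (.leaf 33286))) (.node (.node (.node (.leaf 6564) (.leaf 51277)) (.leaf 27682)) (.node (.leaf 16681) (.leaf 39725)))) (.node (.node (.node (.node (.leaf 3849) (.leaf 47343)) (.leaf 24909)) (.node (.leaf 13840) (.leaf 36512))) (.node (.node (.node (.leaf 9034) (.leaf 67654)) (.leaf 30563)) (.node (.leaf 19439) (.leaf 42988)))))) (.node (.node (.node (.node (.node (.node (.leaf 995) (.leaf 44750)) (.leaf 21548)) (.node (.leaf 10924) (.leaf 32488))) (.node (.node (.node (.leaf 5927) (.leaf 49933)) (.leaf 27074)) (.node (.leaf 16041) (.leaf 38982)))) (.node (.node (.node (.node (.leaf 3338) (.leaf 46858)) (.leaf 24239)) (.node (.leaf 13312) (.leaf 35779))) (.node (.node (.node (.leaf 8237) (.leaf 61987)) (.leaf 29648)) (.node (.leaf 18723) (.leaf 42281))))) (.node (.node (.node (.node (.node (.leaf 2061) (.leaf 45760)) (.leaf 22704)) (.node (.leaf 12012) (.leaf 34028))) (.node (.node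 (.node (.leaf 7054) (.leaf 52208)) (.leaf 28291)) (.node (.leaf 17257) (.leaf 40646)))) (.node (.node (.node (.node (.leaf 4464) (.leaf 48109)) (.leaf 25582)) (.node (.leaf 14478) (.leaf 37488))) (.node (.node (.node (.leaf 9674) (.leaf 81955)) (.leaf 31042)) (.node (.leaf 20206) (.leaf 43438))))))) (.node (.node (.node (.node (.node (.node (.node (.leaf 738) (.leaf 44515)) (.leaf 21124)) (.node (.node (.leaf 10696) (.leaf 107299)) (.leaf 32176))) (.node (.node (.node (.leaf 5642) (.leaf 49514)) (.leaf 26861)) (.node (.leaf 15629) (.leaf 38760)))) (.node (.node (.node (.node (.leaf 2854) (.leaf 46564)) (.leaf 23808)) (.node (.leaf 12941) (.leaf 35340))) (.node (.node (.node (.leaf 8006) (.leaf 58988)) (.leaf 29286)) (.node (.leaf 18370) (.leaf 41962))))) (.node (.node (.node (.node (.node (.leaf 1795) (.leaf 45478)) (.leaf 22408)) (.node (.leaf 11696) (.leaf 33488))) (.node (.node (.node (.leaf 6863) (.leaf 51728)) (.leaf 27914)) (.node (.leaf 16943) (.leaf 40079)))) (.node (.node (.node (.node (.leaf 4265) (.leaf 47756)) (.leaf 25161)) (.node (.leaf 14152)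 (.leaf 37027))) (.node (.node (.node (.leaf 9348) (.leaf 74822)) (.leaf 30825)) (.node (.leaf 19782) (.leaf 43245)))))) (.node (.node (.node (.node (.node (.node (.leaf 1287) (.leaf 44999)) (.leaf 21762)) (.node (.leaf 11175) (.leaf 32970))) (.node (.node (.node (.leaf 6192) (.leaf 50636)) (.leaf 27431)) (.node (.leaf 16388) (.leaf 39426)))) (.node (.node (.node (.node (.leaf 3556) (.leaf 47110)) (.leaf 24642)) (.node (.leaf 13504) (.leaf 36041))) (.node (.node (.node (.leaf 8649) (.leaf 64234)) (.leaf 30183)) (.node (.leaf 19239) (.leaf 42630))))) (.node (.node (.node (.node (.node (.leaf 2371) (.leaf 46026)) (.leaf 23050)) (.node (.leaf 12269) (.leaf 34531))) (.node (.node (.node (.leaf 7369) (.leaf 53613)) (.leaf 28558)) (.node (.leaf 17616) (.leaf 41104)))) (.node (.node (.node (.node (.leaf 4844) (.leaf 48333)) (.leaf 26179)) (.node (.leaf 14768) (.leaf 37968))) (.node (.node (.node (.leaf 10122) (.leaf 89578)) (.leaf 31526)) (.node (.leaf 20578) (.leaf 43920)))))))))))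

noncomputable def parA : Arr ℕ :=
  (.node (.node (.node parA0 parA4) (.node parA2 parA6)) (.node (.node parA1 parA5) (.node parA3 parA7)))

noncomputable def liveA0 : Arr ℕ :=
  (.node (.node (.node (.node (.node (.node (.node (.node (.node (.node (.node (.leaf 0) (.leaf 5462)) (.node (.leaf 2348) (.leaf 10409))) (.node (.node (.leaf 1079) (.leaf 8213)) (.leaf 3718))) (.node (.node (.node (.leaf 539) (.leaf 6598)) (.leaf 3018)) (.node (.node (.leaf 1669) (.leaf 9897)) (.leaf 4520)))) (.node (.node (.node (.node (.leaf 257) (.leaf 5938)) (.leaf 2707)) (.node (.node (.leaf 1368) (.leaf 9570)) (.leaf 4107))) (.node (.node (.node (.leaf 815) (.leaf 7315)) (.leaf 3350)) (.node (.node (.leaf 1983) (.leaf 10153)) (.leaf 4998))))) (.node (.node (.node (.node (.node (.leaf 128) (.leaf 5664)) (.leaf 2534)) (.node (.node (.leaf 1223) (.leaf 8966)) (.leaf 3923))) (.node (.node (.node (.leaf 676) (.leaf 7020)) (.leaf 3178)) (.node (.node (.leaf 1829) (.leaf 10025)) (.leaf 4735)))) (.node (.node (.node (.node (.leaf 397) (.leaf 6221)) (.leaf 2867)) (.node (.node (.leaf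 1510) (.leaf 9769)) (.leaf 4308))) (.node (.node (.node (.leaf 946) (.leaf 7743)) (.leaf 3524)) (.node (.node (.leaf 2149) (.leaf 10281)) (.leaf 5232)))))) (.node (.node (.node (.node (.node (.node (.leaf 64) (.leaf 5556)) (.leaf 2449)) (.node (.node (.leaf 1151) (.leaf 8551)) (.leaf 3811))) (.node (.node (.node (.leaf 612) (.leaf 6807)) (.leaf 3092)) (.node (.node (.leaf 1747) (.leaf 9961)) (.leaf 4623)))) (.node (.node (.node (.node (.leaf 327) (.leaf 6066)) (.leaf 2790)) (.node (.node (.leaf 1438) (.leaf 9705)) (.leaf 4208))) (.node (.node (.node (.leaf 880) (.leaf 7496)) (.leaf 3439)) (.node (.node (.leaf 2062) (.leaf 10217)) (.leaf 5115))))) (.node (.node (.node (.node (.node (.leaf 192) (.leaf 5793)) (.leaf 2624)) (.node (.node (.leaf 1297) (.leaf 9271)) (.leaf 4005))) (.node (.node (.node (.leaf 743) (.leaf 7163)) (.leaf 3263)) (.node (.node (.leaf 1904) (.leaf 10089)) (.leaf 4841)))) (.node (.node (.node (.node (.leaf 465) (.leaf 6437)) (.leaf 2939)) (.node (.node (.leaf 1596) (.leaf 9833)) (.leaf 4414))) (.node (.node (.node (.leaf 1012) (.leaf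 7987)) (.leaf 3619)) (.node (.node (.leaf 2237) (.leaf 10345)) (.leaf 5352))))))) (.node (.node (.node (.node (.node (.node (.node (.leaf 32) (.leaf 5511)) (.leaf 2397)) (.node (.node (.leaf 1115) (.leaf 8390)) (.leaf 3771))) (.node (.node (.node (.leaf 575) (.leaf 6700)) (.leaf 3055)) (.node (.node (.leaf 1706) (.leaf 9929)) (.leaf 4570)))) (.node (.node (.node (.node (.leaf 291) (.leaf 6001)) (.leaf 2743)) (.node (.node (.leaf 1404) (.leaf 9673)) (.leaf 4155))) (.node (.node (.node (.leaf 848) (.leaf 7395)) (.leaf 3395)) (.node (.node (.leaf 2020) (.leaf 10185)) (.leaf 5050))))) (.node (.node (.node (.node (.node (.leaf 160) (.leaf 5730)) (.leaf 2578)) (.node (.node (.leaf 1259) (.leaf 9093)) (.leaf 3966))) (.node (.node (.node (.leaf 710) (.leaf 7087)) (.leaf 3217)) (.node (.node (.leaf 1867) (.leaf 10057)) (.leaf 4792)))) (.node (.node (.node (.node (.leaf 433) (.leaf 6320)) (.leaf 2904)) (.node (.node (.leaf 1554) (.leaf 9801)) (.leaf 4365))) (.node (.node (.node (.leaf 979) (.leaf 7861)) (.leaf 3574)) (.node (.node (.leaf 2188) (.leaf 10313)) (.leaf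 5306)))))) (.node (.node (.node (.node (.node (.node (.leaf 96) (.leaf 5606)) (.leaf 2490)) (.node (.node (.leaf 1189) (.leaf 8773)) (.leaf 3869))) (.node (.node (.node (.leaf 644) (.leaf 6924)) (.leaf 3135)) (.node (.node (.leaf 1788) (.leaf 9993)) (.leaf 4676)))) (.node (.node (.node (.node (.leaf 362) (.leaf 6138)) (.leaf 2831)) (.node (.node (.leaf 1474) (.leaf 9737)) (.leaf 4263))) (.node (.node (.node (.leaf 913) (.leaf 7593)) (.leaf 3481)) (.node (.node (.leaf 2111) (.leaf 10249)) (.leaf 5166))))) (.node (.node (.node (.node (.node (.leaf 225) (.leaf 5877)) (.leaf 2667)) (.node (.node (.leaf 1333) (.leaf 9415)) (.leaf 4058))) (.node (.node (.node (.leaf 778) (.leaf 7242)) (.leaf 3307)) (.node (.node (.leaf 1947) (.leaf 10121)) (.leaf 4905)))) (.node (.node (.node (.node (.leaf 504) (.leaf 6492)) (.leaf 2980)) (.node (.node (.leaf 1633) (.leaf 9865)) (.leaf 4459))) (.node (.node (.node (.leaf 1046) (.leaf 8081)) (.leaf 3671)) (.node (.node (.leaf 2282) (.leaf 10377)) (.leaf 5410)))))))) (.node (.node (.node (.node (.node (.node (.node (.node (.leaf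 16) (.leaf 5487)) (.leaf 2374)) (.node (.node (.leaf 1098) (.leaf 8287)) (.leaf 3749))) (.node (.node (.node (.leaf 558) (.leaf 6638)) (.leaf 3038)) (.node (.node (.leaf 1687) (.leaf 9913)) (.leaf 4541)))) (.node (.node (.node (.node (.leaf 275) (.leaf 5970)) (.leaf 2724)) (.node (.node (.leaf 1386) (.leaf 9657)) (.leaf 4133))) (.node (.node (.node (.leaf 831) (.leaf 7349)) (.leaf 3374)) (.node (.node (.leaf 2001) (.leaf 10169)) (.leaf 5026))))) (.node (.node (.node (.node (.node (.leaf 144) (.leaf 5695)) (.leaf 2555)) (.node (.node (.leaf 1239) (.leaf 9026)) (.leaf 3944))) (.node (.node (.node (.leaf 692) (.leaf 7054)) (.leaf 3198)) (.node (.node (.leaf 1846) (.leaf 10041)) (.leaf 4760)))) (.node (.node (.node (.node (.leaf 417) (.leaf 6272)) (.leaf 2887)) (.node (.node (.leaf 1531) (.leaf 9785)) (.leaf 4343))) (.node (.node (.node (.leaf 963) (.leaf 7806)) (.leaf 3550)) (.node (.node (.leaf 2167) (.leaf 10297)) (.leaf 5264)))))) (.node (.node (.node (.node (.node (.node (.leaf 80) (.leaf 5583)) (.leaf 2472)) (.node (.node (.leaf 1171) (.leaf 8647)) (.leaf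 3834))) (.node (.node (.node (.leaf 628) (.leaf 6855)) (.leaf 3111)) (.node (.node (.leaf 1769) (.leaf 9977)) (.leaf 4645)))) (.node (.node (.node (.node (.leaf 344) (.leaf 6105)) (.leaf 2812)) (.node (.node (.leaf 1456) (.leaf 9721)) (.leaf 4245))) (.node (.node (.node (.leaf 896) (.leaf 7550)) (.leaf 3460)) (.node (.node (.leaf 2088) (.leaf 10233)) (.leaf 5134))))) (.node (.node (.node (.node (.node (.leaf 209) (.leaf 5839)) (.leaf 2646)) (.node (.node (.leaf 1314) (.leaf 9347)) (.leaf 4027))) (.node (.node (.node (.leaf 760) (.leaf 7204)) (.leaf 3287)) (.node (.node (.leaf 1928) (.leaf 10105)) (.leaf 4883)))) (.node (.node (.node (.node (.leaf 485) (.leaf 6467)) (.leaf 2956)) (.node (.node (.leaf 1616) (.leaf 9849)) (.leaf 4432))) (.node (.node (.node (.leaf 1030) (.leaf 8025)) (.leaf 3641)) (.node (.node (.leaf 2254) (.leaf 10361)) (.leaf 5380))))))) (.node (.node (.node (.node (.node (.node (.node (.leaf 48) (.leaf 5533)) (.leaf 2425)) (.node (.node (.leaf 1134) (.leaf 8482)) (.leaf 3790))) (.node (.node (.node (.leaf 594) (.leaf 6767)) (.leaf 3076))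 (.node (.node (.leaf 1727) (.leaf 9945)) (.leaf 4597)))) (.node (.node (.node (.node (.leaf 309) (.leaf 6030)) (.leaf 2768)) (.node (.node (.leaf 1420) (.leaf 9689)) (.leaf 4176))) (.node (.node (.node (.leaf 864) (.leaf 7439)) (.leaf 3416)) (.node (.node (.leaf 2038) (.leaf 10201)) (.leaf 5079))))) (.node (.node (.node (.node (.node (.leaf 176) (.leaf 5757)) (.leaf 2598)) (.node (.node (.leaf 1279) (.leaf 9163)) (.leaf 3984))) (.node (.node (.node (.leaf 727) (.leaf 7123)) (.leaf 3242)) (.node (.node (.leaf 1887) (.leaf 10073)) (.leaf 4820)))) (.node (.node (.node (.node (.leaf 449) (.leaf 6369)) (.leaf 2921)) (.node (.node (.leaf 1573) (.leaf 9817)) (.leaf 4391))) (.node (.node (.node (.leaf 996) (.leaf 7939)) (.leaf 3593)) (.node (.node (.leaf 2217) (.leaf 10329)) (.leaf 5332)))))) (.node (.node (.node (.node (.node (.node (.leaf 112) (.leaf 5629)) (.leaf 2513)) (.node (.node (.leaf 1207) (.leaf 8854)) (.leaf 3892))) (.node (.node (.node (.leaf 660) (.leaf 6972)) (.leaf 3157)) (.node (.node (.leaf 1805) (.leaf 10009)) (.leaf 4710)))) (.node (.node (.node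 (.node (.leaf 379) (.leaf 6173)) (.leaf 2849)) (.node (.node (.leaf 1493) (.leaf 9753)) (.leaf 4284))) (.node (.node (.node (.leaf 929) (.leaf 7661)) (.leaf 3503)) (.node (.node (.leaf 2130) (.leaf 10265)) (.leaf 5194))))) (.node (.node (.node (.node (.node (.leaf 241) (.leaf 5905)) (.leaf 2690)) (.node (.node (.leaf 1350) (.leaf 9491)) (.leaf 4081))) (.node (.node (.node (.leaf 795) (.leaf 7287)) (.leaf 3331)) (.node (.node (.leaf 1967) (.leaf 10137)) (.leaf 4961)))) (.node (.node (.node (.node (.leaf 523) (.leaf 6531)) (.leaf 2997)) (.node (.node (.leaf 1650) (.leaf 9881)) (.leaf 4491))) (.node (.node (.node (.leaf 1062) (.leaf 8130)) (.leaf 3696)) (.node (.node (.leaf 2309) (.leaf 10393)) (.leaf 5438))))))))) (.node (.node (.node (.node (.node (.node (.node (.node (.node (.leaf 8) (.leaf 5475)) (.node (.leaf 2365) (.leaf 10417))) (.node (.node (.leaf 1087) (.leaf 8251)) (.leaf 3737))) (.node (.node (.node (.leaf 549) (.leaf 6625)) (.leaf 3027)) (.node (.node (.leaf 1678) (.leaf 9905)) (.leaf 4529)))) (.node (.node (.node (.node (.leaf 266) (.leaf 5957))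 (.leaf 2716)) (.node (.node (.leaf 1376) (.leaf 9647)) (.leaf 4117))) (.node (.node (.node (.leaf 823) (.leaf 7334)) (.leaf 3363)) (.node (.node (.leaf 1991) (.leaf 10161)) (.leaf 5014))))) (.node (.node (.node (.node (.node (.leaf 136) (.leaf 5683)) (.leaf 2544)) (.node (.node (.leaf 1231) (.leaf 8997)) (.leaf 3936))) (.node (.node (.node (.leaf 684) (.leaf 7042)) (.leaf 3188)) (.node (.node (.leaf 1837) (.leaf 10033)) (.leaf 4747)))) (.node (.node (.node (.node (.leaf 407) (.leaf 6245)) (.leaf 2876)) (.node (.node (.leaf 1521) (.leaf 9777)) (.leaf 4328))) (.node (.node (.node (.leaf 955) (.leaf 7775)) (.leaf 3536)) (.node (.node (.leaf 2158) (.leaf 10289)) (.leaf 5249)))))) (.node (.node (.node (.node (.node (.node (.leaf 72) (.leaf 5572)) (.leaf 2457)) (.node (.node (.leaf 1163) (.leaf 8592)) (.leaf 3825))) (.node (.node (.node (.leaf 620) (.leaf 6833)) (.leaf 3102)) (.node (.node (.leaf 1755) (.leaf 9969)) (.leaf 4635)))) (.node (.node (.node (.node (.leaf 335) (.leaf 6086)) (.leaf 2803)) (.node (.node (.leaf 1448) (.leaf 9713)) (.leaf 4225))) (.node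 (.node (.node (.leaf 888) (.leaf 7520)) (.leaf 3451)) (.node (.node (.leaf 2074) (.leaf 10225)) (.leaf 5123))))) (.node (.node (.node (.node (.node (.leaf 200) (.leaf 5820)) (.leaf 2634)) (.node (.node (.leaf 1305) (.leaf 9314)) (.leaf 4017))) (.node (.node (.node (.leaf 751) (.leaf 7185)) (.leaf 3273)) (.node (.node (.leaf 1917) (.leaf 10097)) (.leaf 4866)))) (.node (.node (.node (.node (.leaf 476) (.leaf 6450)) (.leaf 2947)) (.node (.node (.leaf 1606) (.leaf 9841)) (.leaf 4423))) (.node (.node (.node (.leaf 1021) (.leaf 7999)) (.leaf 3627)) (.node (.node (.leaf 2245) (.leaf 10353)) (.leaf 5365))))))) (.node (.node (.node (.node (.node (.node (.node (.leaf 40) (.leaf 5522)) (.leaf 2410)) (.node (.node (.leaf 1123) (.leaf 8432)) (.leaf 3781))) (.node (.node (.node (.leaf 584) (.leaf 6741)) (.leaf 3065)) (.node (.node (.leaf 1716) (.leaf 9937)) (.leaf 4583)))) (.node (.node (.node (.node (.leaf 299) (.leaf 6020)) (.leaf 2754)) (.node (.node (.leaf 1412) (.leaf 9681)) (.leaf 4168))) (.node (.node (.node (.leaf 856) (.leaf 7413)) (.leaf 3405)) (.node (.node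 (.leaf 2030) (.leaf 10193)) (.leaf 5061))))) (.node (.node (.node (.node (.node (.leaf 168) (.leaf 5744)) (.leaf 2589)) (.node (.node (.leaf 1270) (.leaf 9127)) (.leaf 3976))) (.node (.node (.node (.leaf 719) (.leaf 7101)) (.leaf 3233)) (.node (.node (.leaf 1875) (.leaf 10065)) (.leaf 4802)))) (.node (.node (.node (.node (.leaf 441) (.leaf 6351)) (.leaf 2913)) (.node (.node (.leaf 1563) (.leaf 9809)) (.leaf 4382))) (.node (.node (.node (.leaf 988) (.leaf 7897)) (.leaf 3583)) (.node (.node (.leaf 2202) (.leaf 10321)) (.leaf 5321)))))) (.node (.node (.node (.node (.node (.node (.leaf 104) (.leaf 5617)) (.leaf 2503)) (.node (.node (.leaf 1197) (.leaf 8810)) (.leaf 3879))) (.node (.node (.node (.leaf 652) (.leaf 6949)) (.leaf 3147)) (.node (.node (.leaf 1797) (.leaf 10001)) (.leaf 4690)))) (.node (.node (.node (.node (.leaf 371) (.leaf 6159)) (.leaf 2839)) (.node (.node (.leaf 1483) (.leaf 9745)) (.leaf 4272))) (.node (.node (.node (.leaf 921) (.leaf 7627)) (.leaf 3490)) (.node (.node (.leaf 2121) (.leaf 10257)) (.leaf 5179))))) (.node (.node (.node (.node (.node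 (.leaf 233) (.leaf 5891)) (.leaf 2679)) (.node (.node (.leaf 1341) (.leaf 9452)) (.leaf 4068))) (.node (.node (.node (.leaf 787) (.leaf 7261)) (.leaf 3316)) (.node (.node (.leaf 1956) (.leaf 10129)) (.leaf 4941)))) (.node (.node (.node (.node (.leaf 513) (.leaf 6504)) (.leaf 2988)) (.node (.node (.leaf 1641) (.leaf 9873)) (.leaf 4481))) (.node (.node (.node (.leaf 1054) (.leaf 8102)) (.leaf 3683)) (.node (.node (.leaf 2293) (.leaf 10385)) (.leaf 5424)))))))) (.node (.node (.node (.node (.node (.node (.node (.node (.leaf 24) (.leaf 5497)) (.leaf 2387)) (.node (.node (.leaf 1106) (.leaf 8354)) (.leaf 3762))) (.node (.node (.node (.leaf 566) (.leaf 6662)) (.leaf 3047)) (.node (.node (.leaf 1697) (.leaf 9921)) (.leaf 4551)))) (.node (.node (.node (.node (.leaf 283) (.leaf 5983)) (.leaf 2733)) (.node (.node (.leaf 1396) (.leaf 9665)) (.leaf 4142))) (.node (.node (.node (.leaf 840) (.leaf 7375)) (.leaf 3386)) (.node (.node (.leaf 2011) (.leaf 10177)) (.leaf 5039))))) (.node (.node (.node (.node (.node (.leaf 152) (.leaf 5716)) (.leaf 2567)) (.node (.node (.leaf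 1250) (.leaf 9067)) (.leaf 3956))) (.node (.node (.node (.leaf 701) (.leaf 7075)) (.leaf 3207)) (.node (.node (.leaf 1855) (.leaf 10049)) (.leaf 4779)))) (.node (.node (.node (.node (.leaf 425) (.leaf 6302)) (.leaf 2896)) (.node (.node (.leaf 1541) (.leaf 9793)) (.leaf 4354))) (.node (.node (.node (.leaf 971) (.leaf 7839)) (.leaf 3560)) (.node (.node (.leaf 2175) (.leaf 10305)) (.leaf 5287)))))) (.node (.node (.node (.node (.node (.node (.leaf 88) (.leaf 5595)) (.leaf 2481)) (.node (.node (.leaf 1179) (.leaf 8736)) (.leaf 3854))) (.node (.node (.node (.leaf 636) (.leaf 6879)) (.leaf 3123)) (.node (.node (.leaf 1778) (.leaf 9985)) (.leaf 4660)))) (.node (.node (.node (.node (.leaf 353) (.leaf 6123)) (.leaf 2821)) (.node (.node (.leaf 1465) (.leaf 9729)) (.leaf 4253))) (.node (.node (.node (.leaf 904) (.leaf 7580)) (.leaf 3471)) (.node (.node (.leaf 2099) (.leaf 10241)) (.leaf 5147))))) (.node (.node (.node (.node (.node (.leaf 217) (.leaf 5854)) (.leaf 2657)) (.node (.node (.leaf 1323) (.leaf 9382)) (.leaf 4046))) (.node (.node (.node (.leaf 770) (.leaf 7214))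 (.leaf 3297)) (.node (.node (.leaf 1938) (.leaf 10113)) (.leaf 4892)))) (.node (.node (.node (.node (.leaf 493) (.leaf 6480)) (.leaf 2969)) (.node (.node (.leaf 1625) (.leaf 9857)) (.leaf 4441))) (.node (.node (.node (.leaf 1038) (.leaf 8055)) (.leaf 3658)) (.node (.node (.leaf 2264) (.leaf 10369)) (.leaf 5392))))))) (.node (.node (.node (.node (.node (.node (.node (.leaf 56) (.leaf 5541)) (.leaf 2438)) (.node (.node (.leaf 1142) (.leaf 8516)) (.leaf 3800))) (.node (.node (.node (.leaf 604) (.leaf 6784)) (.leaf 3084)) (.node (.node (.leaf 1737) (.leaf 9953)) (.leaf 4610)))) (.node (.node (.node (.node (.leaf 318) (.leaf 6044)) (.leaf 2781)) (.node (.node (.leaf 1429) (.leaf 9697)) (.leaf 4188))) (.node (.node (.node (.leaf 872) (.leaf 7467)) (.leaf 3427)) (.node (.node (.leaf 2050) (.leaf 10209)) (.leaf 5097))))) (.node (.node (.node (.node (.node (.leaf 184) (.leaf 5771)) (.leaf 2607)) (.node (.node (.leaf 1287) (.leaf 9233)) (.leaf 3995))) (.node (.node (.node (.leaf 735) (.leaf 7144)) (.leaf 3254)) (.node (.node (.leaf 1896) (.leaf 10081)) (.leaf 4832))))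 (.node (.node (.node (.node (.leaf 457) (.leaf 6411)) (.leaf 2929)) (.node (.node (.leaf 1585) (.leaf 9825)) (.leaf 4403))) (.node (.node (.node (.leaf 1004) (.leaf 7957)) (.leaf 3607)) (.node (.node (.leaf 2228) (.leaf 10337)) (.leaf 5341)))))) (.node (.node (.node (.node (.node (.node (.leaf 120) (.leaf 5645)) (.leaf 2521)) (.node (.node (.leaf 1215) (.leaf 8913)) (.leaf 3908))) (.node (.node (.node (.leaf 668) (.leaf 6985)) (.leaf 3169)) (.node (.node (.leaf 1819) (.leaf 10017)) (.leaf 4725)))) (.node (.node (.node (.node (.leaf 388) (.leaf 6198)) (.leaf 2857)) (.node (.node (.leaf 1501) (.leaf 9761)) (.leaf 4296))) (.node (.node (.node (.leaf 938) (.leaf 7711)) (.leaf 3511)) (.node (.node (.leaf 2139) (.leaf 10273)) (.leaf 5207))))) (.node (.node (.node (.node (.node (.leaf 249) (.leaf 5923)) (.leaf 2698)) (.node (.node (.leaf 1358) (.leaf 9539)) (.leaf 4091))) (.node (.node (.node (.leaf 804) (.leaf 7305)) (.leaf 3341)) (.node (.node (.leaf 1975) (.leaf 10145)) (.leaf 4986)))) (.node (.node (.node (.node (.leaf 531) (.leaf 6553)) (.leaf 3006)) (.node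 (.node (.leaf 1659) (.leaf 9889)) (.leaf 4500))) (.node (.node (.node (.leaf 1070) (.leaf 8163)) (.leaf 3705)) (.node (.node (.leaf 2326) (.leaf 10401)) (.leaf 5451)))))))))) (.node (.node (.node (.node (.node (.node (.node (.node (.node (.node (.leaf 4) (.leaf 5467)) (.node (.leaf 2358) (.leaf 10413))) (.node (.node (.leaf 1083) (.leaf 8239)) (.leaf 3727))) (.node (.node (.node (.leaf 544) (.leaf 6614)) (.leaf 3022)) (.node (.node (.leaf 1673) (.leaf 9901)) (.leaf 4525)))) (.node (.node (.node (.node (.leaf 261) (.leaf 5950)) (.leaf 2711)) (.node (.node (.leaf 1372) (.leaf 9625)) (.leaf 4113))) (.node (.node (.node (.leaf 819) (.leaf 7325)) (.leaf 3356)) (.node (.node (.leaf 1987) (.leaf 10157)) (.leaf 5009))))) (.node (.node (.node (.node (.node (.leaf 132) (.leaf 5675)) (.leaf 2539)) (.node (.node (.leaf 1227) (.leaf 8983)) (.leaf 3928))) (.node (.node (.node (.leaf 680) (.leaf 7031)) (.leaf 3183)) (.node (.node (.leaf 1833) (.leaf 10029)) (.leaf 4740)))) (.node (.node (.node (.node (.leaf 402) (.leaf 6232)) (.leaf 2871)) (.node (.node (.leaf 1515) (.leaf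 9773)) (.leaf 4322))) (.node (.node (.node (.leaf 950) (.leaf 7752)) (.leaf 3530)) (.node (.node (.leaf 2154) (.leaf 10285)) (.leaf 5238)))))) (.node (.node (.node (.node (.node (.node (.leaf 68) (.leaf 5567)) (.leaf 2453)) (.node (.node (.leaf 1159) (.leaf 8579)) (.leaf 3821))) (.node (.node (.node (.leaf 616) (.leaf 6818)) (.leaf 3097)) (.node (.node (.leaf 1751) (.leaf 9965)) (.leaf 4631)))) (.node (.node (.node (.node (.leaf 331) (.leaf 6077)) (.leaf 2797)) (.node (.node (.leaf 1443) (.leaf 9709)) (.leaf 4219))) (.node (.node (.node (.leaf 884) (.leaf 7511)) (.leaf 3446)) (.node (.node (.leaf 2067) (.leaf 10221)) (.leaf 5119))))) (.node (.node (.node (.node (.node (.leaf 196) (.leaf 5811)) (.leaf 2628)) (.node (.node (.leaf 1301) (.leaf 9294)) (.leaf 4011))) (.node (.node (.node (.leaf 747) (.leaf 7174)) (.leaf 3268)) (.node (.node (.leaf 1909) (.leaf 10093)) (.leaf 4859)))) (.node (.node (.node (.node (.leaf 471) (.leaf 6444)) (.leaf 2943)) (.node (.node (.leaf 1602) (.leaf 9837)) (.leaf 4419))) (.node (.node (.node (.leaf 1017) (.leaf 7995)) (.leaf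 3623)) (.node (.node (.leaf 2241) (.leaf 10349)) (.leaf 5358))))))) (.node (.node (.node (.node (.node (.node (.node (.leaf 36) (.leaf 5515)) (.leaf 2404)) (.node (.node (.leaf 1119) (.leaf 8415)) (.leaf 3775))) (.node (.node (.node (.leaf 579) (.leaf 6723)) (.leaf 3059)) (.node (.node (.leaf 1711) (.leaf 9933)) (.leaf 4577)))) (.node (.node (.node (.node (.leaf 295) (.leaf 6013)) (.leaf 2749)) (.node (.node (.leaf 1408) (.leaf 9677)) (.leaf 4159))) (.node (.node (.node (.leaf 852) (.leaf 7408)) (.leaf 3400)) (.node (.node (.leaf 2025) (.leaf 10189)) (.leaf 5055))))) (.node (.node (.node (.node (.node (.leaf 164) (.leaf 5738)) (.leaf 2585)) (.node (.node (.leaf 1264) (.leaf 9107)) (.leaf 3971))) (.node (.node (.node (.leaf 715) (.leaf 7097)) (.leaf 3225)) (.node (.node (.leaf 1871) (.leaf 10061)) (.leaf 4798)))) (.node (.node (.node (.node (.leaf 437) (.leaf 6343)) (.leaf 2909)) (.node (.node (.leaf 1558) (.leaf 9805)) (.leaf 4369))) (.node (.node (.node (.leaf 983) (.leaf 7866)) (.leaf 3578)) (.node (.node (.leaf 2195) (.leaf 10317)) (.leaf 5315)))))) (.node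 (.node (.node (.node (.node (.node (.leaf 100) (.leaf 5611)) (.leaf 2495)) (.node (.node (.leaf 1193) (.leaf 8788)) (.leaf 3873))) (.node (.node (.node (.leaf 648) (.leaf 6940)) (.leaf 3143)) (.node (.node (.leaf 1792) (.leaf 9997)) (.leaf 4685)))) (.node (.node (.node (.node (.leaf 366) (.leaf 6151)) (.leaf 2835)) (.node (.node (.leaf 1479) (.leaf 9741)) (.leaf 4268))) (.node (.node (.node (.leaf 917) (.leaf 7610)) (.leaf 3486)) (.node (.node (.leaf 2115) (.leaf 10253)) (.leaf 5174))))) (.node (.node (.node (.node (.node (.leaf 229) (.leaf 5886)) (.leaf 2673)) (.node (.node (.leaf 1337) (.leaf 9425)) (.leaf 4062))) (.node (.node (.node (.leaf 782) (.leaf 7254)) (.leaf 3311)) (.node (.node (.leaf 1952) (.leaf 10125)) (.leaf 4918)))) (.node (.node (.node (.node (.leaf 509) (.leaf 6498)) (.leaf 2984)) (.node (.node (.leaf 1637) (.leaf 9869)) (.leaf 4473))) (.node (.node (.node (.leaf 1050) (.leaf 8095)) (.leaf 3679)) (.node (.node (.leaf 2289) (.leaf 10381)) (.leaf 5417)))))))) (.node (.node (.node (.node (.node (.node (.node (.node (.leaf 20) (.leaf 5492))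 (.leaf 2381)) (.node (.node (.leaf 1102) (.leaf 8319)) (.leaf 3758))) (.node (.node (.node (.leaf 562) (.leaf 6653)) (.leaf 3043)) (.node (.node (.leaf 1692) (.leaf 9917)) (.leaf 4547)))) (.node (.node (.node (.node (.leaf 279) (.leaf 5977)) (.leaf 2729)) (.node (.node (.leaf 1391) (.leaf 9661)) (.leaf 4137))) (.node (.node (.node (.leaf 835) (.leaf 7359)) (.leaf 3378)) (.node (.node (.leaf 2007) (.leaf 10173)) (.leaf 5032))))) (.node (.node (.node (.node (.node (.leaf 148) (.leaf 5707)) (.leaf 2561)) (.node (.node (.leaf 1245) (.leaf 9050)) (.leaf 3951))) (.node (.node (.node (.leaf 696) (.leaf 7063)) (.leaf 3202)) (.node (.node (.leaf 1851) (.leaf 10045)) (.leaf 4774)))) (.node (.node (.node (.node (.leaf 421) (.leaf 6285)) (.leaf 2891)) (.node (.node (.leaf 1535) (.leaf 9789)) (.leaf 4349))) (.node (.node (.node (.leaf 967) (.leaf 7826)) (.leaf 3555)) (.node (.node (.leaf 2171) (.leaf 10301)) (.leaf 5275)))))) (.node (.node (.node (.node (.node (.node (.leaf 84) (.leaf 5587)) (.leaf 2476)) (.node (.node (.leaf 1175) (.leaf 8668)) (.leaf 3845))) (.node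 (.node (.node (.leaf 632) (.leaf 6865)) (.leaf 3116)) (.node (.node (.leaf 1773) (.leaf 9981)) (.leaf 4650)))) (.node (.node (.node (.node (.leaf 348) (.leaf 6116)) (.leaf 2816)) (.node (.node (.leaf 1461) (.leaf 9725)) (.leaf 4249))) (.node (.node (.node (.leaf 900) (.leaf 7565)) (.leaf 3465)) (.node (.node (.leaf 2095) (.leaf 10237)) (.leaf 5138))))) (.node (.node (.node (.node (.node (.leaf 213) (.leaf 5849)) (.leaf 2651)) (.node (.node (.leaf 1319) (.leaf 9374)) (.leaf 4035))) (.node (.node (.node (.leaf 764) (.leaf 7208)) (.leaf 3291)) (.node (.node (.leaf 1933) (.leaf 10109)) (.leaf 4887)))) (.node (.node (.node (.node (.leaf 489) (.leaf 6474)) (.leaf 2962)) (.node (.node (.leaf 1621) (.leaf 9853)) (.leaf 4437))) (.node (.node (.node (.leaf 1034) (.leaf 8039)) (.leaf 3650)) (.node (.node (.leaf 2259) (.leaf 10365)) (.leaf 5386))))))) (.node (.node (.node (.node (.node (.node (.node (.leaf 52) (.leaf 5537)) (.leaf 2431)) (.node (.node (.leaf 1138) (.leaf 8502)) (.leaf 3795))) (.node (.node (.node (.leaf 598) (.leaf 6775)) (.leaf 3080)) (.node (.node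 (.leaf 1731) (.leaf 9949)) (.leaf 4605)))) (.node (.node (.node (.node (.leaf 314) (.leaf 6037)) (.leaf 2776)) (.node (.node (.leaf 1425) (.leaf 9693)) (.leaf 4181))) (.node (.node (.node (.leaf 868) (.leaf 7453)) (.leaf 3423)) (.node (.node (.leaf 2042) (.leaf 10205)) (.leaf 5085))))) (.node (.node (.node (.node (.node (.leaf 180) (.leaf 5765)) (.leaf 2602)) (.node (.node (.leaf 1283) (.leaf 9206)) (.leaf 3991))) (.node (.node (.node (.leaf 731) (.leaf 7129)) (.leaf 3247)) (.node (.node (.leaf 1892) (.leaf 10077)) (.leaf 4827)))) (.node (.node (.node (.node (.leaf 453) (.leaf 6377)) (.leaf 2925)) (.node (.node (.leaf 1579) (.leaf 9821)) (.leaf 4399))) (.node (.node (.node (.leaf 1000) (.leaf 7946)) (.leaf 3601)) (.node (.node (.leaf 2222) (.leaf 10333)) (.leaf 5336)))))) (.node (.node (.node (.node (.node (.node (.leaf 116) (.leaf 5637)) (.leaf 2517)) (.node (.node (.leaf 1211) (.leaf 8879)) (.leaf 3903))) (.node (.node (.node (.leaf 664) (.leaf 6978)) (.leaf 3164)) (.node (.node (.leaf 1811) (.leaf 10013)) (.leaf 4714)))) (.node (.node (.node (.node (.leaf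 383) (.leaf 6180)) (.leaf 2853)) (.node (.node (.leaf 1497) (.leaf 9757)) (.leaf 4292))) (.node (.node (.node (.leaf 934) (.leaf 7687)) (.leaf 3507)) (.node (.node (.leaf 2135) (.leaf 10269)) (.leaf 5201))))) (.node (.node (.node (.node (.node (.leaf 245) (.leaf 5910)) (.leaf 2694)) (.node (.node (.leaf 1354) (.leaf 9517)) (.leaf 4085))) (.node (.node (.node (.leaf 799) (.leaf 7294)) (.leaf 3336)) (.node (.node (.leaf 1971) (.leaf 10141)) (.leaf 4976)))) (.node (.node (.node (.node (.leaf 527) (.leaf 6541)) (.leaf 3002)) (.node (.node (.leaf 1654) (.leaf 9885)) (.leaf 4495))) (.node (.node (.node (.leaf 1066) (.leaf 8143)) (.leaf 3700)) (.node (.node (.leaf 2314) (.leaf 10397)) (.leaf 5443))))))))) (.node (.node (.node (.node (.node (.node (.node (.node (.node (.leaf 12) (.leaf 5480)) (.leaf 2370)) (.node (.node (.leaf 1094) (.leaf 8269)) (.leaf 3743))) (.node (.node (.node (.leaf 553) (.leaf 6630)) (.leaf 3032)) (.node (.node (.leaf 1682) (.leaf 9909)) (.leaf 4535)))) (.node (.node (.node (.node (.leaf 271) (.leaf 5961)) (.leaf 2720)) (.node (.node (.leaf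 1380) (.leaf 9653)) (.leaf 4126))) (.node (.node (.node (.leaf 827) (.leaf 7341)) (.leaf 3368)) (.node (.node (.leaf 1995) (.leaf 10165)) (.leaf 5018))))) (.node (.node (.node (.node (.node (.leaf 140) (.leaf 5687)) (.leaf 2549)) (.node (.node (.leaf 1235) (.leaf 9007)) (.leaf 3940))) (.node (.node (.node (.leaf 688) (.leaf 7050)) (.leaf 3194)) (.node (.node (.leaf 1841) (.leaf 10037)) (.leaf 4754)))) (.node (.node (.node (.node (.leaf 411) (.leaf 6259)) (.leaf 2880)) (.node (.node (.leaf 1526) (.leaf 9781)) (.leaf 4336))) (.node (.node (.node (.leaf 959) (.leaf 7783)) (.leaf 3542)) (.node (.node (.leaf 2163) (.leaf 10293)) (.leaf 5258)))))) (.node (.node (.node (.node (.node (.node (.leaf 76) (.leaf 5579)) (.leaf 2463)) (.node (.node (.leaf 1167) (.leaf 8615)) (.leaf 3830))) (.node (.node (.node (.leaf 624) (.leaf 6849)) (.leaf 3107)) (.node (.node (.leaf 1765) (.leaf 9973)) (.leaf 4639)))) (.node (.node (.node (.node (.leaf 340) (.leaf 6092)) (.leaf 2808)) (.node (.node (.leaf 1452) (.leaf 9717)) (.leaf 4238))) (.node (.node (.node (.leaf 892) (.leaf 7539))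 (.leaf 3455)) (.node (.node (.leaf 2078) (.leaf 10229)) (.leaf 5128))))) (.node (.node (.node (.node (.node (.leaf 205) (.leaf 5829)) (.leaf 2640)) (.node (.node (.leaf 1309) (.leaf 9324)) (.leaf 4022))) (.node (.node (.node (.leaf 756) (.leaf 7194)) (.leaf 3279)) (.node (.node (.leaf 1924) (.leaf 10101)) (.leaf 4873)))) (.node (.node (.node (.node (.leaf 480) (.leaf 6458)) (.leaf 2951)) (.node (.node (.leaf 1610) (.leaf 9845)) (.leaf 4428))) (.node (.node (.node (.leaf 1025) (.leaf 8013)) (.leaf 3634)) (.node (.node (.leaf 2249) (.leaf 10357)) (.leaf 5369))))))) (.node (.node (.node (.node (.node (.node (.node (.leaf 44) (.leaf 5528)) (.leaf 2418)) (.node (.node (.leaf 1128) (.leaf 8461)) (.leaf 3786))) (.node (.node (.node (.leaf 589) (.leaf 6755)) (.leaf 3071)) (.node (.node (.leaf 1723) (.leaf 9941)) (.leaf 4587)))) (.node (.node (.node (.node (.leaf 303) (.leaf 6024)) (.leaf 2760)) (.node (.node (.leaf 1416) (.leaf 9685)) (.leaf 4172))) (.node (.node (.node (.leaf 860) (.leaf 7432)) (.leaf 3410)) (.node (.node (.leaf 2034) (.leaf 10197)) (.leaf 5073)))))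 (.node (.node (.node (.node (.node (.leaf 172) (.leaf 5748)) (.leaf 2594)) (.node (.node (.leaf 1274) (.leaf 9137)) (.leaf 3980))) (.node (.node (.node (.leaf 723) (.leaf 7116)) (.leaf 3238)) (.node (.node (.leaf 1881) (.leaf 10069)) (.leaf 4813)))) (.node (.node (.node (.node (.leaf 445) (.leaf 6357)) (.leaf 2917)) (.node (.node (.leaf 1568) (.leaf 9813)) (.leaf 4386))) (.node (.node (.node (.leaf 992) (.leaf 7912)) (.leaf 3587)) (.node (.node (.leaf 2213) (.leaf 10325)) (.leaf 5326)))))) (.node (.node (.node (.node (.node (.node (.leaf 108) (.leaf 5623)) (.leaf 2509)) (.node (.node (.leaf 1203) (.leaf 8824)) (.leaf 3884))) (.node (.node (.node (.leaf 656) (.leaf 6961)) (.leaf 3152)) (.node (.node (.leaf 1801) (.leaf 10005)) (.leaf 4702)))) (.node (.node (.node (.node (.leaf 375) (.leaf 6165)) (.leaf 2844)) (.node (.node (.leaf 1487) (.leaf 9749)) (.leaf 4278))) (.node (.node (.node (.leaf 925) (.leaf 7646)) (.leaf 3497)) (.node (.node (.leaf 2125) (.leaf 10261)) (.leaf 5188))))) (.node (.node (.node (.node (.node (.leaf 237) (.leaf 5900)) (.leaf 2683))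 (.node (.node (.leaf 1345) (.leaf 9476)) (.leaf 4076))) (.node (.node (.node (.leaf 791) (.leaf 7272)) (.leaf 3322)) (.node (.node (.leaf 1962) (.leaf 10133)) (.leaf 4945)))) (.node (.node (.node (.node (.leaf 517) (.leaf 6513)) (.leaf 2993)) (.node (.node (.leaf 1646) (.leaf 9877)) (.leaf 4485))) (.node (.node (.node (.leaf 1058) (.leaf 8111)) (.leaf 3690)) (.node (.node (.leaf 2299) (.leaf 10389)) (.leaf 5430)))))))) (.node (.node (.node (.node (.node (.node (.node (.node (.leaf 28) (.leaf 5502)) (.leaf 2392)) (.node (.node (.leaf 1110) (.leaf 8370)) (.leaf 3766))) (.node (.node (.node (.leaf 570) (.leaf 6676)) (.leaf 3051)) (.node (.node (.leaf 1702) (.leaf 9925)) (.leaf 4566)))) (.node (.node (.node (.node (.leaf 287) (.leaf 5988)) (.leaf 2737)) (.node (.node (.leaf 1400) (.leaf 9669)) (.leaf 4149))) (.node (.node (.node (.leaf 844) (.leaf 7384)) (.leaf 3390)) (.node (.node (.leaf 2016) (.leaf 10181)) (.leaf 5045))))) (.node (.node (.node (.node (.node (.leaf 156) (.leaf 5722)) (.leaf 2571)) (.node (.node (.leaf 1255) (.leaf 9078)) (.leaf 3961))) (.node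 (.node (.node (.leaf 706) (.leaf 7083)) (.leaf 3212)) (.node (.node (.leaf 1862) (.leaf 10053)) (.leaf 4785)))) (.node (.node (.node (.node (.leaf 429) (.leaf 6314)) (.leaf 2900)) (.node (.node (.leaf 1547) (.leaf 9797)) (.leaf 4359))) (.node (.node (.node (.leaf 975) (.leaf 7848)) (.leaf 3570)) (.node (.node (.leaf 2181) (.leaf 10309)) (.leaf 5292)))))) (.node (.node (.node (.node (.node (.node (.leaf 92) (.leaf 5602)) (.leaf 2485)) (.node (.node (.leaf 1185) (.leaf 8752)) (.leaf 3865))) (.node (.node (.node (.leaf 640) (.leaf 6913)) (.leaf 3128)) (.node (.node (.leaf 1783) (.leaf 9989)) (.leaf 4665)))) (.node (.node (.node (.node (.leaf 358) (.leaf 6130)) (.leaf 2826)) (.node (.node (.leaf 1470) (.leaf 9733)) (.leaf 4258))) (.node (.node (.node (.leaf 909) (.leaf 7586)) (.leaf 3475)) (.node (.node (.leaf 2103) (.leaf 10245)) (.leaf 5151))))) (.node (.node (.node (.node (.node (.leaf 221) (.leaf 5865)) (.leaf 2662)) (.node (.node (.leaf 1329) (.leaf 9408)) (.leaf 4052))) (.node (.node (.node (.leaf 774) (.leaf 7221)) (.leaf 3302)) (.node (.node (.leaf 1942)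 (.leaf 10117)) (.leaf 4900)))) (.node (.node (.node (.node (.leaf 500) (.leaf 6485)) (.leaf 2974)) (.node (.node (.leaf 1629) (.leaf 9861)) (.leaf 4450))) (.node (.node (.node (.leaf 1042) (.leaf 8069)) (.leaf 3665)) (.node (.node (.leaf 2278) (.leaf 10373)) (.leaf 5404))))))) (.node (.node (.node (.node (.node (.node (.node (.leaf 60) (.leaf 5550)) (.leaf 2444)) (.node (.node (.leaf 1147) (.leaf 8528)) (.leaf 3805))) (.node (.node (.node (.leaf 608) (.leaf 6801)) (.leaf 3088)) (.node (.node (.leaf 1742) (.leaf 9957)) (.leaf 4615)))) (.node (.node (.node (.node (.leaf 323) (.leaf 6055)) (.leaf 2786)) (.node (.node (.leaf 1434) (.leaf 9701)) (.leaf 4197))) (.node (.node (.node (.leaf 876) (.leaf 7488)) (.leaf 3434)) (.node (.node (.leaf 2058) (.leaf 10213)) (.leaf 5108))))) (.node (.node (.node (.node (.node (.leaf 188) (.leaf 5783)) (.leaf 2618)) (.node (.node (.leaf 1293) (.leaf 9251)) (.leaf 3999))) (.node (.node (.node (.leaf 739) (.leaf 7153)) (.leaf 3259)) (.node (.node (.leaf 1900) (.leaf 10085)) (.leaf 4836)))) (.node (.node (.node (.node (.leaf 461)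 (.leaf 6422)) (.leaf 2934)) (.node (.node (.leaf 1592) (.leaf 9829)) (.leaf 4407))) (.node (.node (.node (.leaf 1008) (.leaf 7968)) (.leaf 3613)) (.node (.node (.leaf 2233) (.leaf 10341)) (.leaf 5347)))))) (.node (.node (.node (.node (.node (.node (.leaf 124) (.leaf 5657)) (.leaf 2529)) (.node (.node (.leaf 1219) (.leaf 8940)) (.leaf 3913))) (.node (.node (.node (.leaf 672) (.leaf 6997)) (.leaf 3174)) (.node (.node (.leaf 1824) (.leaf 10021)) (.leaf 4729)))) (.node (.node (.node (.node (.leaf 392) (.leaf 6206)) (.leaf 2861)) (.node (.node (.leaf 1505) (.leaf 9765)) (.leaf 4301))) (.node (.node (.node (.leaf 942) (.leaf 7727)) (.leaf 3519)) (.node (.node (.leaf 2143) (.leaf 10277)) (.leaf 5224))))) (.node (.node (.node (.node (.node (.leaf 253) (.leaf 5928)) (.leaf 2702)) (.node (.node (.leaf 1364) (.leaf 9547)) (.leaf 4102))) (.node (.node (.node (.leaf 808) (.leaf 7311)) (.leaf 3346)) (.node (.node (.leaf 1979) (.leaf 10149)) (.leaf 4992)))) (.node (.node (.node (.node (.leaf 535) (.leaf 6577)) (.leaf 3013)) (.node (.node (.leaf 1665) (.leaf 9893)) (.leaf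 4505))) (.node (.node (.node (.leaf 1074) (.leaf 8187)) (.leaf 3714)) (.node (.node (.leaf 2333) (.leaf 10405)) (.leaf 5457)))))))))))

noncomputable def liveA1 : Arr ℕ :=
  (.node (.node (.node (.node (.node (.node (.node (.node (.node (.node (.node (.leaf 1) (.leaf 5463)) (.node (.leaf 2353) (.leaf 10410))) (.node (.node (.leaf 1080) (.leaf 8215)) (.leaf 3719))) (.node (.node (.node (.leaf 540) (.leaf 6606)) (.leaf 3019)) (.node (.node (.leaf 1670) (.leaf 9898)) (.leaf 4521)))) (.node (.node (.node (.node (.leaf 258) (.leaf 5941)) (.leaf 2708)) (.node (.node (.leaf 1369) (.leaf 9599)) (.leaf 4108))) (.node (.node (.node (.leaf 816) (.leaf 7317)) (.leaf 3352)) (.node (.node (.leaf 1984) (.leaf 10154)) (.leaf 5000))))) (.node (.node (.node (.node (.node (.leaf 129) (.leaf 5670)) (.leaf 2535)) (.node (.node (.leaf 1224) (.leaf 8969)) (.leaf 3924))) (.node (.node (.node (.leaf 677) (.leaf 7027)) (.leaf 3179)) (.node (.node (.leaf 1830) (.leaf 10026)) (.leaf 4736)))) (.node (.node (.node (.node (.leaf 398) (.leaf 6223)) (.leaf 2868)) (.node (.node (.leaf 1511)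 (.leaf 9770)) (.leaf 4314))) (.node (.node (.node (.leaf 947) (.leaf 7746)) (.leaf 3525)) (.node (.node (.leaf 2150) (.leaf 10282)) (.leaf 5234)))))) (.node (.node (.node (.node (.node (.node (.leaf 65) (.leaf 5558)) (.leaf 2450)) (.node (.node (.leaf 1152) (.leaf 8553)) (.leaf 3814))) (.node (.node (.node (.leaf 613) (.leaf 6813)) (.leaf 3093)) (.node (.node (.leaf 1748) (.leaf 9962)) (.leaf 4625)))) (.node (.node (.node (.node (.leaf 328) (.leaf 6070)) (.leaf 2791)) (.node (.node (.leaf 1440) (.leaf 9706)) (.leaf 4211))) (.node (.node (.node (.leaf 881) (.leaf 7498)) (.leaf 3440)) (.node (.node (.leaf 2064) (.leaf 10218)) (.leaf 5116))))) (.node (.node (.node (.node (.node (.leaf 193) (.leaf 5795)) (.leaf 2625)) (.node (.node (.leaf 1298) (.leaf 9283)) (.leaf 4006))) (.node (.node (.node (.leaf 744) (.leaf 7165)) (.leaf 3265)) (.node (.node (.leaf 1906) (.leaf 10090)) (.leaf 4843)))) (.node (.node (.node (.node (.leaf 466) (.leaf 6439)) (.leaf 2940)) (.node (.node (.leaf 1597) (.leaf 9834)) (.leaf 4415))) (.node (.node (.node (.leaf 1013) (.leaf 7990))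 (.leaf 3620)) (.node (.node (.leaf 2238) (.leaf 10346)) (.leaf 5353))))))) (.node (.node (.node (.node (.node (.node (.node (.leaf 33) (.leaf 5512)) (.leaf 2398)) (.node (.node (.leaf 1116) (.leaf 8391)) (.leaf 3772))) (.node (.node (.node (.leaf 576) (.leaf 6704)) (.leaf 3056)) (.node (.node (.leaf 1707) (.leaf 9930)) (.leaf 4572)))) (.node (.node (.node (.node (.leaf 292) (.leaf 6006)) (.leaf 2744)) (.node (.node (.leaf 1405) (.leaf 9674)) (.leaf 4156))) (.node (.node (.node (.leaf 849) (.leaf 7397)) (.leaf 3397)) (.node (.node (.leaf 2021) (.leaf 10186)) (.leaf 5051))))) (.node (.node (.node (.node (.node (.leaf 161) (.leaf 5731)) (.leaf 2579)) (.node (.node (.leaf 1260) (.leaf 9094)) (.leaf 3967))) (.node (.node (.node (.leaf 711) (.leaf 7089)) (.leaf 3219)) (.node (.node (.leaf 1868) (.leaf 10058)) (.leaf 4793)))) (.node (.node (.node (.node (.leaf 434) (.leaf 6337)) (.leaf 2905)) (.node (.node (.leaf 1555) (.leaf 9802)) (.leaf 4366))) (.node (.node (.node (.leaf 980) (.leaf 7862)) (.leaf 3575)) (.node (.node (.leaf 2190) (.leaf 10314)) (.leaf 5309))))))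 (.node (.node (.node (.node (.node (.node (.leaf 97) (.leaf 5608)) (.leaf 2492)) (.node (.node (.leaf 1190) (.leaf 8776)) (.leaf 3870))) (.node (.node (.node (.leaf 645) (.leaf 6925)) (.leaf 3136)) (.node (.node (.leaf 1789) (.leaf 9994)) (.leaf 4678)))) (.node (.node (.node (.node (.leaf 363) (.leaf 6140)) (.leaf 2832)) (.node (.node (.leaf 1475) (.leaf 9738)) (.leaf 4264))) (.node (.node (.node (.leaf 914) (.leaf 7606)) (.leaf 3482)) (.node (.node (.leaf 2112) (.leaf 10250)) (.leaf 5168))))) (.node (.node (.node (.node (.node (.leaf 226) (.leaf 5878)) (.leaf 2668)) (.node (.node (.leaf 1334) (.leaf 9416)) (.leaf 4059))) (.node (.node (.node (.leaf 779) (.leaf 7244)) (.leaf 3308)) (.node (.node (.leaf 1948) (.leaf 10122)) (.leaf 4908)))) (.node (.node (.node (.node (.leaf 505) (.leaf 6495)) (.leaf 2981)) (.node (.node (.leaf 1634) (.leaf 9866)) (.leaf 4468))) (.node (.node (.node (.leaf 1047) (.leaf 8088)) (.leaf 3673)) (.node (.node (.leaf 2284) (.leaf 10378)) (.leaf 5412)))))))) (.node (.node (.node (.node (.node (.node (.node (.node (.leaf 17) (.leaf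 5488)) (.leaf 2375)) (.node (.node (.leaf 1099) (.leaf 8293)) (.leaf 3754))) (.node (.node (.node (.leaf 559) (.leaf 6640)) (.leaf 3039)) (.node (.node (.leaf 1688) (.leaf 9914)) (.leaf 4543)))) (.node (.node (.node (.node (.leaf 276) (.leaf 5971)) (.leaf 2726)) (.node (.node (.leaf 1387) (.leaf 9658)) (.leaf 4134))) (.node (.node (.node (.leaf 832) (.leaf 7350)) (.leaf 3375)) (.node (.node (.leaf 2002) (.leaf 10170)) (.leaf 5027))))) (.node (.node (.node (.node (.node (.leaf 145) (.leaf 5698)) (.leaf 2556)) (.node (.node (.leaf 1241) (.leaf 9031)) (.leaf 3946))) (.node (.node (.node (.leaf 693) (.leaf 7057)) (.leaf 3199)) (.node (.node (.leaf 1847) (.leaf 10042)) (.leaf 4767)))) (.node (.node (.node (.node (.leaf 418) (.leaf 6276)) (.leaf 2888)) (.node (.node (.leaf 1532) (.leaf 9786)) (.leaf 4346))) (.node (.node (.node (.leaf 964) (.leaf 7817)) (.leaf 3551)) (.node (.node (.leaf 2168) (.leaf 10298)) (.leaf 5268)))))) (.node (.node (.node (.node (.node (.node (.leaf 81) (.leaf 5584)) (.leaf 2473)) (.node (.node (.leaf 1172) (.leaf 8658)) (.leaf 3835)))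 (.node (.node (.node (.leaf 629) (.leaf 6856)) (.leaf 3113)) (.node (.node (.leaf 1770) (.leaf 9978)) (.leaf 4647)))) (.node (.node (.node (.node (.leaf 345) (.leaf 6107)) (.leaf 2813)) (.node (.node (.leaf 1457) (.leaf 9722)) (.leaf 4246))) (.node (.node (.node (.leaf 897) (.leaf 7551)) (.leaf 3461)) (.node (.node (.leaf 2089) (.leaf 10234)) (.leaf 5135))))) (.node (.node (.node (.node (.node (.leaf 210) (.leaf 5840)) (.leaf 2648)) (.node (.node (.leaf 1316) (.leaf 9351)) (.leaf 4028))) (.node (.node (.node (.leaf 761) (.leaf 7205)) (.leaf 3288)) (.node (.node (.leaf 1929) (.leaf 10106)) (.leaf 4884)))) (.node (.node (.node (.node (.leaf 486) (.leaf 6469)) (.leaf 2959)) (.node (.node (.leaf 1617) (.leaf 9850)) (.leaf 4433))) (.node (.node (.node (.leaf 1031) (.leaf 8026)) (.leaf 3645)) (.node (.node (.leaf 2256) (.leaf 10362)) (.leaf 5382))))))) (.node (.node (.node (.node (.node (.node (.node (.leaf 49) (.leaf 5534)) (.leaf 2426)) (.node (.node (.leaf 1135) (.leaf 8495)) (.leaf 3792))) (.node (.node (.node (.leaf 595) (.leaf 6769)) (.leaf 3077)) (.node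 (.node (.leaf 1728) (.leaf 9946)) (.leaf 4600)))) (.node (.node (.node (.node (.leaf 310) (.leaf 6032)) (.leaf 2770)) (.node (.node (.leaf 1421) (.leaf 9690)) (.leaf 4177))) (.node (.node (.node (.leaf 865) (.leaf 7440)) (.leaf 3417)) (.node (.node (.leaf 2039) (.leaf 10202)) (.leaf 5080))))) (.node (.node (.node (.node (.node (.leaf 177) (.leaf 5758)) (.leaf 2599)) (.node (.node (.leaf 1280) (.leaf 9169)) (.leaf 3986))) (.node (.node (.node (.leaf 728) (.leaf 7124)) (.leaf 3243)) (.node (.node (.leaf 1888) (.leaf 10074)) (.leaf 4821)))) (.node (.node (.node (.node (.leaf 450) (.leaf 6372)) (.leaf 2922)) (.node (.node (.leaf 1574) (.leaf 9818)) (.leaf 4393))) (.node (.node (.node (.leaf 997) (.leaf 7940)) (.leaf 3595)) (.node (.node (.leaf 2218) (.leaf 10330)) (.leaf 5333)))))) (.node (.node (.node (.node (.node (.node (.leaf 113) (.leaf 5630)) (.leaf 2514)) (.node (.node (.leaf 1208) (.leaf 8856)) (.leaf 3895))) (.node (.node (.node (.leaf 661) (.leaf 6973)) (.leaf 3161)) (.node (.node (.leaf 1806) (.leaf 10010)) (.leaf 4711)))) (.node (.node (.node (.node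 (.leaf 380) (.leaf 6174)) (.leaf 2850)) (.node (.node (.leaf 1494) (.leaf 9754)) (.leaf 4285))) (.node (.node (.node (.leaf 930) (.leaf 7664)) (.leaf 3504)) (.node (.node (.leaf 2131) (.leaf 10266)) (.leaf 5195))))) (.node (.node (.node (.node (.node (.leaf 242) (.leaf 5906)) (.leaf 2691)) (.node (.node (.leaf 1351) (.leaf 9501)) (.leaf 4082))) (.node (.node (.node (.leaf 796) (.leaf 7288)) (.leaf 3333)) (.node (.node (.leaf 1968) (.leaf 10138)) (.leaf 4964)))) (.node (.node (.node (.node (.leaf 524) (.leaf 6534)) (.leaf 2998)) (.node (.node (.leaf 1651) (.leaf 9882)) (.leaf 4492))) (.node (.node (.node (.leaf 1063) (.leaf 8131)) (.leaf 3697)) (.node (.node (.leaf 2310) (.leaf 10394)) (.leaf 5439))))))))) (.node (.node (.node (.node (.node (.node (.node (.node (.node (.leaf 9) (.leaf 5476)) (.node (.leaf 2367) (.leaf 10418))) (.node (.node (.leaf 1089) (.leaf 8253)) (.leaf 3738))) (.node (.node (.node (.leaf 550) (.leaf 6626)) (.leaf 3028)) (.node (.node (.leaf 1679) (.leaf 9906)) (.leaf 4530)))) (.node (.node (.node (.node (.leaf 267) (.leaf 5958)) (.leaf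 2717)) (.node (.node (.leaf 1377) (.leaf 9649)) (.leaf 4121))) (.node (.node (.node (.leaf 824) (.leaf 7335)) (.leaf 3364)) (.node (.node (.leaf 1992) (.leaf 10162)) (.leaf 5015))))) (.node (.node (.node (.node (.node (.leaf 137) (.leaf 5684)) (.leaf 2545)) (.node (.node (.leaf 1232) (.leaf 9001)) (.leaf 3937))) (.node (.node (.node (.leaf 685) (.leaf 7044)) (.leaf 3190)) (.node (.node (.leaf 1838) (.leaf 10034)) (.leaf 4748)))) (.node (.node (.node (.node (.leaf 408) (.leaf 6246)) (.leaf 2877)) (.node (.node (.leaf 1523) (.leaf 9778)) (.leaf 4330))) (.node (.node (.node (.leaf 956) (.leaf 7778)) (.leaf 3537)) (.node (.node (.leaf 2159) (.leaf 10290)) (.leaf 5250)))))) (.node (.node (.node (.node (.node (.node (.leaf 73) (.leaf 5576)) (.leaf 2458)) (.node (.node (.leaf 1164) (.leaf 8606)) (.leaf 3826))) (.node (.node (.node (.leaf 621) (.leaf 6839)) (.leaf 3103)) (.node (.node (.leaf 1756) (.leaf 9970)) (.leaf 4636)))) (.node (.node (.node (.node (.leaf 336) (.leaf 6089)) (.leaf 2804)) (.node (.node (.leaf 1449) (.leaf 9714)) (.leaf 4229))) (.node (.node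 (.node (.leaf 889) (.leaf 7528)) (.leaf 3452)) (.node (.node (.leaf 2075) (.leaf 10226)) (.leaf 5124))))) (.node (.node (.node (.node (.node (.leaf 201) (.leaf 5821)) (.leaf 2636)) (.node (.node (.leaf 1306) (.leaf 9316)) (.leaf 4018))) (.node (.node (.node (.leaf 753) (.leaf 7186)) (.leaf 3274)) (.node (.node (.leaf 1919) (.leaf 10098)) (.leaf 4869)))) (.node (.node (.node (.node (.leaf 477) (.leaf 6451)) (.leaf 2948)) (.node (.node (.leaf 1607) (.leaf 9842)) (.leaf 4424))) (.node (.node (.node (.leaf 1022) (.leaf 8002)) (.leaf 3630)) (.node (.node (.leaf 2246) (.leaf 10354)) (.leaf 5366))))))) (.node (.node (.node (.node (.node (.node (.node (.leaf 41) (.leaf 5523)) (.leaf 2411)) (.node (.node (.leaf 1124) (.leaf 8438)) (.leaf 3783))) (.node (.node (.node (.leaf 585) (.leaf 6745)) (.leaf 3066)) (.node (.node (.leaf 1719) (.leaf 9938)) (.leaf 4584)))) (.node (.node (.node (.node (.leaf 300) (.leaf 6021)) (.leaf 2756)) (.node (.node (.leaf 1413) (.leaf 9682)) (.leaf 4169))) (.node (.node (.node (.leaf 857) (.leaf 7425)) (.leaf 3407)) (.node (.node (.leaf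 2031) (.leaf 10194)) (.leaf 5063))))) (.node (.node (.node (.node (.node (.leaf 169) (.leaf 5745)) (.leaf 2591)) (.node (.node (.leaf 1271) (.leaf 9133)) (.leaf 3977))) (.node (.node (.node (.leaf 720) (.leaf 7103)) (.leaf 3234)) (.node (.node (.leaf 1878) (.leaf 10066)) (.leaf 4803)))) (.node (.node (.node (.node (.leaf 442) (.leaf 6352)) (.leaf 2914)) (.node (.node (.leaf 1564) (.leaf 9810)) (.leaf 4383))) (.node (.node (.node (.leaf 989) (.leaf 7901)) (.leaf 3584)) (.node (.node (.leaf 2209) (.leaf 10322)) (.leaf 5322)))))) (.node (.node (.node (.node (.node (.node (.leaf 105) (.leaf 5618)) (.leaf 2505)) (.node (.node (.leaf 1198) (.leaf 8811)) (.leaf 3880))) (.node (.node (.node (.leaf 653) (.leaf 6952)) (.leaf 3149)) (.node (.node (.leaf 1798) (.leaf 10002)) (.leaf 4691)))) (.node (.node (.node (.node (.leaf 372) (.leaf 6160)) (.leaf 2840)) (.node (.node (.leaf 1484) (.leaf 9746)) (.leaf 4274))) (.node (.node (.node (.leaf 922) (.leaf 7630)) (.leaf 3492)) (.node (.node (.leaf 2122) (.leaf 10258)) (.leaf 5181))))) (.node (.node (.node (.node (.node (.leaf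 234) (.leaf 5894)) (.leaf 2680)) (.node (.node (.leaf 1342) (.leaf 9464)) (.leaf 4071))) (.node (.node (.node (.leaf 788) (.leaf 7265)) (.leaf 3318)) (.node (.node (.leaf 1957) (.leaf 10130)) (.leaf 4942)))) (.node (.node (.node (.node (.leaf 514) (.leaf 6507)) (.leaf 2989)) (.node (.node (.leaf 1642) (.leaf 9874)) (.leaf 4482))) (.node (.node (.node (.leaf 1055) (.leaf 8103)) (.leaf 3684)) (.node (.node (.leaf 2294) (.leaf 10386)) (.leaf 5425)))))))) (.node (.node (.node (.node (.node (.node (.node (.node (.leaf 25) (.leaf 5498)) (.leaf 2388)) (.node (.node (.leaf 1107) (.leaf 8357)) (.leaf 3763))) (.node (.node (.node (.leaf 567) (.leaf 6666)) (.leaf 3048)) (.node (.node (.leaf 1698) (.leaf 9922)) (.leaf 4553)))) (.node (.node (.node (.node (.leaf 284) (.leaf 5985)) (.leaf 2734)) (.node (.node (.leaf 1397) (.leaf 9666)) (.leaf 4143))) (.node (.node (.node (.leaf 841) (.leaf 7377)) (.leaf 3387)) (.node (.node (.leaf 2012) (.leaf 10178)) (.leaf 5041))))) (.node (.node (.node (.node (.node (.leaf 153) (.leaf 5717)) (.leaf 2568)) (.node (.node (.leaf 1251)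 (.leaf 9069)) (.leaf 3957))) (.node (.node (.node (.leaf 702) (.leaf 7077)) (.leaf 3209)) (.node (.node (.leaf 1858) (.leaf 10050)) (.leaf 4781)))) (.node (.node (.node (.node (.leaf 426) (.leaf 6309)) (.leaf 2897)) (.node (.node (.leaf 1542) (.leaf 9794)) (.leaf 4355))) (.node (.node (.node (.leaf 972) (.leaf 7840)) (.leaf 3566)) (.node (.node (.leaf 2177) (.leaf 10306)) (.leaf 5289)))))) (.node (.node (.node (.node (.node (.node (.leaf 89) (.leaf 5597)) (.leaf 2482)) (.node (.node (.leaf 1181) (.leaf 8737)) (.leaf 3857))) (.node (.node (.node (.leaf 637) (.leaf 6885)) (.leaf 3124)) (.node (.node (.leaf 1779) (.leaf 9986)) (.leaf 4661)))) (.node (.node (.node (.node (.leaf 355) (.leaf 6124)) (.leaf 2822)) (.node (.node (.leaf 1466) (.leaf 9730)) (.leaf 4254))) (.node (.node (.node (.leaf 905) (.leaf 7581)) (.leaf 3472)) (.node (.node (.leaf 2100) (.leaf 10242)) (.leaf 5148))))) (.node (.node (.node (.node (.node (.leaf 218) (.leaf 5855)) (.leaf 2658)) (.node (.node (.leaf 1324) (.leaf 9384)) (.leaf 4047))) (.node (.node (.node (.leaf 771) (.leaf 7215))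 (.leaf 3298)) (.node (.node (.leaf 1939) (.leaf 10114)) (.leaf 4895)))) (.node (.node (.node (.node (.leaf 494) (.leaf 6481)) (.leaf 2970)) (.node (.node (.leaf 1626) (.leaf 9858)) (.leaf 4442))) (.node (.node (.node (.leaf 1039) (.leaf 8056)) (.leaf 3661)) (.node (.node (.leaf 2265) (.leaf 10370)) (.leaf 5401))))))) (.node (.node (.node (.node (.node (.node (.node (.leaf 57) (.leaf 5543)) (.leaf 2441)) (.node (.node (.leaf 1143) (.leaf 8518)) (.leaf 3801))) (.node (.node (.node (.leaf 605) (.leaf 6790)) (.leaf 3085)) (.node (.node (.leaf 1739) (.leaf 9954)) (.leaf 4611)))) (.node (.node (.node (.node (.leaf 319) (.leaf 6046)) (.leaf 2782)) (.node (.node (.leaf 1431) (.leaf 9698)) (.leaf 4191))) (.node (.node (.node (.leaf 873) (.leaf 7480)) (.leaf 3428)) (.node (.node (.leaf 2055) (.leaf 10210)) (.leaf 5098))))) (.node (.node (.node (.node (.node (.leaf 185) (.leaf 5773)) (.leaf 2610)) (.node (.node (.leaf 1288) (.leaf 9246)) (.leaf 3996))) (.node (.node (.node (.leaf 736) (.leaf 7146)) (.leaf 3256)) (.node (.node (.leaf 1897) (.leaf 10082)) (.leaf 4833))))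 (.node (.node (.node (.node (.leaf 458) (.leaf 6413)) (.leaf 2930)) (.node (.node (.leaf 1586) (.leaf 9826)) (.leaf 4404))) (.node (.node (.node (.leaf 1005) (.leaf 7962)) (.leaf 3608)) (.node (.node (.leaf 2229) (.leaf 10338)) (.leaf 5342)))))) (.node (.node (.node (.node (.node (.node (.leaf 121) (.leaf 5646)) (.leaf 2523)) (.node (.node (.leaf 1216) (.leaf 8915)) (.leaf 3909))) (.node (.node (.node (.leaf 669) (.leaf 6988)) (.leaf 3170)) (.node (.node (.leaf 1820) (.leaf 10018)) (.leaf 4726)))) (.node (.node (.node (.node (.leaf 389) (.leaf 6201)) (.leaf 2858)) (.node (.node (.leaf 1502) (.leaf 9762)) (.leaf 4298))) (.node (.node (.node (.leaf 939) (.leaf 7713)) (.leaf 3513)) (.node (.node (.leaf 2140) (.leaf 10274)) (.leaf 5208))))) (.node (.node (.node (.node (.node (.leaf 250) (.leaf 5924)) (.leaf 2699)) (.node (.node (.leaf 1359) (.leaf 9540)) (.leaf 4092))) (.node (.node (.node (.leaf 805) (.leaf 7306)) (.leaf 3342)) (.node (.node (.leaf 1976) (.leaf 10146)) (.leaf 4987)))) (.node (.node (.node (.node (.leaf 532) (.leaf 6557)) (.leaf 3008)) (.node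 (.node (.leaf 1660) (.leaf 9890)) (.leaf 4502))) (.node (.node (.node (.leaf 1071) (.leaf 8167)) (.leaf 3709)) (.node (.node (.leaf 2327) (.leaf 10402)) (.leaf 5452)))))))))) (.node (.node (.node (.node (.node (.node (.node (.node (.node (.node (.leaf 5) (.leaf 5468)) (.node (.leaf 2359) (.leaf 10414))) (.node (.node (.leaf 1084) (.leaf 8245)) (.leaf 3730))) (.node (.node (.node (.leaf 545) (.leaf 6618)) (.leaf 3024)) (.node (.node (.leaf 1674) (.leaf 9902)) (.leaf 4526)))) (.node (.node (.node (.node (.leaf 263) (.leaf 5951)) (.leaf 2712)) (.node (.node (.leaf 1373) (.leaf 9633)) (.leaf 4114))) (.node (.node (.node (.leaf 820) (.leaf 7327)) (.leaf 3359)) (.node (.node (.leaf 1988) (.leaf 10158)) (.leaf 5010))))) (.node (.node (.node (.node (.node (.leaf 133) (.leaf 5679)) (.leaf 2540)) (.node (.node (.leaf 1228) (.leaf 8989)) (.leaf 3932))) (.node (.node (.node (.leaf 681) (.leaf 7032)) (.leaf 3184)) (.node (.node (.leaf 1834) (.leaf 10030)) (.leaf 4741)))) (.node (.node (.node (.node (.leaf 403) (.leaf 6237)) (.leaf 2873)) (.node (.node (.leaf 1517) (.leaf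 9774)) (.leaf 4323))) (.node (.node (.node (.leaf 951) (.leaf 7755)) (.leaf 3531)) (.node (.node (.leaf 2155) (.leaf 10286)) (.leaf 5240)))))) (.node (.node (.node (.node (.node (.node (.leaf 69) (.leaf 5569)) (.leaf 2454)) (.node (.node (.leaf 1160) (.leaf 8586)) (.leaf 3822))) (.node (.node (.node (.leaf 617) (.leaf 6820)) (.leaf 3098)) (.node (.node (.leaf 1752) (.leaf 9966)) (.leaf 4632)))) (.node (.node (.node (.node (.leaf 332) (.leaf 6078)) (.leaf 2798)) (.node (.node (.leaf 1444) (.leaf 9710)) (.leaf 4220))) (.node (.node (.node (.leaf 885) (.leaf 7515)) (.leaf 3448)) (.node (.node (.leaf 2068) (.leaf 10222)) (.leaf 5120))))) (.node (.node (.node (.node (.node (.leaf 197) (.leaf 5815)) (.leaf 2631)) (.node (.node (.leaf 1302) (.leaf 9295)) (.leaf 4012))) (.node (.node (.node (.leaf 748) (.leaf 7176)) (.leaf 3270)) (.node (.node (.leaf 1910) (.leaf 10094)) (.leaf 4861)))) (.node (.node (.node (.node (.leaf 473) (.leaf 6447)) (.leaf 2944)) (.node (.node (.leaf 1603) (.leaf 9838)) (.leaf 4420))) (.node (.node (.node (.leaf 1018) (.leaf 7996)) (.leaf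 3624)) (.node (.node (.leaf 2242) (.leaf 10350)) (.leaf 5359))))))) (.node (.node (.node (.node (.node (.node (.node (.leaf 37) (.leaf 5517)) (.leaf 2405)) (.node (.node (.leaf 1120) (.leaf 8424)) (.leaf 3776))) (.node (.node (.node (.leaf 580) (.leaf 6729)) (.leaf 3060)) (.node (.node (.leaf 1713) (.leaf 9934)) (.leaf 4579)))) (.node (.node (.node (.node (.leaf 296) (.leaf 6015)) (.leaf 2751)) (.node (.node (.leaf 1409) (.leaf 9678)) (.leaf 4161))) (.node (.node (.node (.leaf 853) (.leaf 7410)) (.leaf 3401)) (.node (.node (.leaf 2026) (.leaf 10190)) (.leaf 5056))))) (.node (.node (.node (.node (.node (.leaf 165) (.leaf 5739)) (.leaf 2586)) (.node (.node (.leaf 1265) (.leaf 9108)) (.leaf 3972))) (.node (.node (.node (.leaf 716) (.leaf 7098)) (.leaf 3227)) (.node (.node (.leaf 1872) (.leaf 10062)) (.leaf 4799)))) (.node (.node (.node (.node (.leaf 438) (.leaf 6344)) (.leaf 2910)) (.node (.node (.leaf 1559) (.leaf 9806)) (.leaf 4374))) (.node (.node (.node (.leaf 984) (.leaf 7878)) (.leaf 3579)) (.node (.node (.leaf 2196) (.leaf 10318)) (.leaf 5317)))))) (.node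 (.node (.node (.node (.node (.node (.leaf 101) (.leaf 5612)) (.leaf 2496)) (.node (.node (.leaf 1194) (.leaf 8789)) (.leaf 3874))) (.node (.node (.node (.leaf 649) (.leaf 6942)) (.leaf 3144)) (.node (.node (.leaf 1793) (.leaf 9998)) (.leaf 4687)))) (.node (.node (.node (.node (.leaf 367) (.leaf 6153)) (.leaf 2836)) (.node (.node (.leaf 1480) (.leaf 9742)) (.leaf 4269))) (.node (.node (.node (.leaf 918) (.leaf 7616)) (.leaf 3487)) (.node (.node (.leaf 2116) (.leaf 10254)) (.leaf 5175))))) (.node (.node (.node (.node (.node (.leaf 230) (.leaf 5887)) (.leaf 2674)) (.node (.node (.leaf 1338) (.leaf 9428)) (.leaf 4063))) (.node (.node (.node (.leaf 783) (.leaf 7257)) (.leaf 3312)) (.node (.node (.leaf 1953) (.leaf 10126)) (.leaf 4924)))) (.node (.node (.node (.node (.leaf 510) (.leaf 6499)) (.leaf 2985)) (.node (.node (.leaf 1638) (.leaf 9870)) (.leaf 4474))) (.node (.node (.node (.leaf 1051) (.leaf 8097)) (.leaf 3680)) (.node (.node (.leaf 2290) (.leaf 10382)) (.leaf 5419)))))))) (.node (.node (.node (.node (.node (.node (.node (.node (.leaf 21) (.leaf 5494))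 (.leaf 2382)) (.node (.node (.leaf 1103) (.leaf 8329)) (.leaf 3759))) (.node (.node (.node (.leaf 563) (.leaf 6654)) (.leaf 3044)) (.node (.node (.leaf 1693) (.leaf 9918)) (.leaf 4548)))) (.node (.node (.node (.node (.leaf 280) (.leaf 5978)) (.leaf 2730)) (.node (.node (.leaf 1392) (.leaf 9662)) (.leaf 4138))) (.node (.node (.node (.leaf 837) (.leaf 7361)) (.leaf 3379)) (.node (.node (.leaf 2008) (.leaf 10174)) (.leaf 5033))))) (.node (.node (.node (.node (.node (.leaf 149) (.leaf 5709)) (.leaf 2562)) (.node (.node (.leaf 1247) (.leaf 9055)) (.leaf 3953))) (.node (.node (.node (.leaf 697) (.leaf 7064)) (.leaf 3203)) (.node (.node (.leaf 1852) (.leaf 10046)) (.leaf 4775)))) (.node (.node (.node (.node (.leaf 422) (.leaf 6290)) (.leaf 2892)) (.node (.node (.leaf 1537) (.leaf 9790)) (.leaf 4350))) (.node (.node (.node (.leaf 968) (.leaf 7827)) (.leaf 3556)) (.node (.node (.leaf 2172) (.leaf 10302)) (.leaf 5279)))))) (.node (.node (.node (.node (.node (.node (.leaf 85) (.leaf 5589)) (.leaf 2478)) (.node (.node (.leaf 1176) (.leaf 8689)) (.leaf 3847))) (.node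 (.node (.node (.leaf 633) (.leaf 6871)) (.leaf 3117)) (.node (.node (.leaf 1774) (.leaf 9982)) (.leaf 4654)))) (.node (.node (.node (.node (.leaf 349) (.leaf 6117)) (.leaf 2817)) (.node (.node (.leaf 1462) (.leaf 9726)) (.leaf 4250))) (.node (.node (.node (.leaf 901) (.leaf 7567)) (.leaf 3468)) (.node (.node (.leaf 2096) (.leaf 10238)) (.leaf 5140))))) (.node (.node (.node (.node (.node (.leaf 214) (.leaf 5850)) (.leaf 2652)) (.node (.node (.leaf 1320) (.leaf 9376)) (.leaf 4038))) (.node (.node (.node (.leaf 765) (.leaf 7209)) (.leaf 3293)) (.node (.node (.leaf 1934) (.leaf 10110)) (.leaf 4888)))) (.node (.node (.node (.node (.leaf 490) (.leaf 6475)) (.leaf 2964)) (.node (.node (.leaf 1622) (.leaf 9854)) (.leaf 4438))) (.node (.node (.node (.leaf 1035) (.leaf 8042)) (.leaf 3651)) (.node (.node (.leaf 2260) (.leaf 10366)) (.leaf 5388))))))) (.node (.node (.node (.node (.node (.node (.node (.leaf 53) (.leaf 5538)) (.leaf 2432)) (.node (.node (.leaf 1139) (.leaf 8504)) (.leaf 3796))) (.node (.node (.node (.leaf 601) (.leaf 6780)) (.leaf 3081)) (.node (.node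 (.leaf 1733) (.leaf 9950)) (.leaf 4606)))) (.node (.node (.node (.node (.leaf 315) (.leaf 6039)) (.leaf 2777)) (.node (.node (.leaf 1426) (.leaf 9694)) (.leaf 4182))) (.node (.node (.node (.leaf 869) (.leaf 7456)) (.leaf 3424)) (.node (.node (.leaf 2043) (.leaf 10206)) (.leaf 5087))))) (.node (.node (.node (.node (.node (.leaf 181) (.leaf 5768)) (.leaf 2604)) (.node (.node (.leaf 1284) (.leaf 9214)) (.leaf 3992))) (.node (.node (.node (.leaf 732) (.leaf 7136)) (.leaf 3248)) (.node (.node (.leaf 1893) (.leaf 10078)) (.leaf 4828)))) (.node (.node (.node (.node (.leaf 454) (.leaf 6384)) (.leaf 2926)) (.node (.node (.leaf 1580) (.leaf 9822)) (.leaf 4400))) (.node (.node (.node (.leaf 1001) (.leaf 7947)) (.leaf 3602)) (.node (.node (.leaf 2223) (.leaf 10334)) (.leaf 5337)))))) (.node (.node (.node (.node (.node (.node (.leaf 117) (.leaf 5639)) (.leaf 2518)) (.node (.node (.leaf 1212) (.leaf 8907)) (.leaf 3904))) (.node (.node (.node (.leaf 665) (.leaf 6979)) (.leaf 3166)) (.node (.node (.leaf 1812) (.leaf 10014)) (.leaf 4715)))) (.node (.node (.node (.node (.leaf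 384) (.leaf 6183)) (.leaf 2854)) (.node (.node (.leaf 1498) (.leaf 9758)) (.leaf 4293))) (.node (.node (.node (.leaf 935) (.leaf 7702)) (.leaf 3508)) (.node (.node (.leaf 2136) (.leaf 10270)) (.leaf 5202))))) (.node (.node (.node (.node (.node (.leaf 246) (.leaf 5911)) (.leaf 2695)) (.node (.node (.leaf 1355) (.leaf 9521)) (.leaf 4086))) (.node (.node (.node (.leaf 800) (.leaf 7295)) (.leaf 3337)) (.node (.node (.leaf 1972) (.leaf 10142)) (.leaf 4983)))) (.node (.node (.node (.node (.leaf 528) (.leaf 6542)) (.leaf 3003)) (.node (.node (.leaf 1655) (.leaf 9886)) (.leaf 4496))) (.node (.node (.node (.leaf 1067) (.leaf 8145)) (.leaf 3701)) (.node (.node (.leaf 2323) (.leaf 10398)) (.leaf 5446))))))))) (.node (.node (.node (.node (.node (.node (.node (.node (.node (.leaf 13) (.leaf 5484)) (.leaf 2371)) (.node (.node (.leaf 1095) (.leaf 8274)) (.leaf 3744))) (.node (.node (.node (.leaf 554) (.leaf 6631)) (.leaf 3034)) (.node (.node (.leaf 1684) (.leaf 9910)) (.leaf 4536)))) (.node (.node (.node (.node (.leaf 272) (.leaf 5962)) (.leaf 2721)) (.node (.node (.leaf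 1381) (.leaf 9654)) (.leaf 4128))) (.node (.node (.node (.leaf 828) (.leaf 7342)) (.leaf 3370)) (.node (.node (.leaf 1996) (.leaf 10166)) (.leaf 5019))))) (.node (.node (.node (.node (.node (.leaf 141) (.leaf 5690)) (.leaf 2552)) (.node (.node (.leaf 1236) (.leaf 9008)) (.leaf 3941))) (.node (.node (.node (.leaf 689) (.leaf 7051)) (.leaf 3195)) (.node (.node (.leaf 1843) (.leaf 10038)) (.leaf 4755)))) (.node (.node (.node (.node (.leaf 414) (.leaf 6261)) (.leaf 2881)) (.node (.node (.leaf 1527) (.leaf 9782)) (.leaf 4337))) (.node (.node (.node (.leaf 960) (.leaf 7784)) (.leaf 3543)) (.node (.node (.leaf 2164) (.leaf 10294)) (.leaf 5260)))))) (.node (.node (.node (.node (.node (.node (.leaf 77) (.leaf 5580)) (.leaf 2466)) (.node (.node (.leaf 1168) (.leaf 8631)) (.leaf 3831))) (.node (.node (.node (.leaf 625) (.leaf 6850)) (.leaf 3108)) (.node (.node (.leaf 1766) (.leaf 9974)) (.leaf 4640)))) (.node (.node (.node (.node (.leaf 341) (.leaf 6093)) (.leaf 2809)) (.node (.node (.leaf 1453) (.leaf 9718)) (.leaf 4241))) (.node (.node (.node (.leaf 893) (.leaf 7540))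 (.leaf 3456)) (.node (.node (.leaf 2079) (.leaf 10230)) (.leaf 5129))))) (.node (.node (.node (.node (.node (.leaf 206) (.leaf 5831)) (.leaf 2641)) (.node (.node (.leaf 1310) (.leaf 9328)) (.leaf 4023))) (.node (.node (.node (.leaf 757) (.leaf 7197)) (.leaf 3280)) (.node (.node (.leaf 1925) (.leaf 10102)) (.leaf 4874)))) (.node (.node (.node (.node (.leaf 482) (.leaf 6459)) (.leaf 2953)) (.node (.node (.leaf 1611) (.leaf 9846)) (.leaf 4429))) (.node (.node (.node (.leaf 1026) (.leaf 8016)) (.leaf 3635)) (.node (.node (.leaf 2250) (.leaf 10358)) (.leaf 5370))))))) (.node (.node (.node (.node (.node (.node (.node (.leaf 45) (.leaf 5529)) (.leaf 2421)) (.node (.node (.leaf 1129) (.leaf 8464)) (.leaf 3787))) (.node (.node (.node (.leaf 590) (.leaf 6759)) (.leaf 3072)) (.node (.node (.leaf 1724) (.leaf 9942)) (.leaf 4590)))) (.node (.node (.node (.node (.leaf 306) (.leaf 6025)) (.leaf 2762)) (.node (.node (.leaf 1417) (.leaf 9686)) (.leaf 4173))) (.node (.node (.node (.leaf 861) (.leaf 7433)) (.leaf 3411)) (.node (.node (.leaf 2035) (.leaf 10198)) (.leaf 5075)))))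 (.node (.node (.node (.node (.node (.leaf 173) (.leaf 5749)) (.leaf 2595)) (.node (.node (.leaf 1275) (.leaf 9150)) (.leaf 3981))) (.node (.node (.node (.leaf 724) (.leaf 7118)) (.leaf 3239)) (.node (.node (.leaf 1882) (.leaf 10070)) (.leaf 4817)))) (.node (.node (.node (.node (.leaf 446) (.leaf 6358)) (.leaf 2918)) (.node (.node (.leaf 1570) (.leaf 9814)) (.leaf 4387))) (.node (.node (.node (.leaf 993) (.leaf 7923)) (.leaf 3589)) (.node (.node (.leaf 2214) (.leaf 10326)) (.leaf 5328)))))) (.node (.node (.node (.node (.node (.node (.leaf 109) (.leaf 5626)) (.leaf 2510)) (.node (.node (.leaf 1204) (.leaf 8828)) (.leaf 3885))) (.node (.node (.node (.leaf 657) (.leaf 6968)) (.leaf 3153)) (.node (.node (.leaf 1802) (.leaf 10006)) (.leaf 4704)))) (.node (.node (.node (.node (.leaf 376) (.leaf 6166)) (.leaf 2845)) (.node (.node (.leaf 1489) (.leaf 9750)) (.leaf 4279))) (.node (.node (.node (.leaf 926) (.leaf 7649)) (.leaf 3499)) (.node (.node (.leaf 2126) (.leaf 10262)) (.leaf 5190))))) (.node (.node (.node (.node (.node (.leaf 238) (.leaf 5902)) (.leaf 2684))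 (.node (.node (.leaf 1347) (.leaf 9477)) (.leaf 4077))) (.node (.node (.node (.leaf 792) (.leaf 7282)) (.leaf 3324)) (.node (.node (.leaf 1964) (.leaf 10134)) (.leaf 4948)))) (.node (.node (.node (.node (.leaf 519) (.leaf 6525)) (.leaf 2994)) (.node (.node (.leaf 1647) (.leaf 9878)) (.leaf 4487))) (.node (.node (.node (.leaf 1059) (.leaf 8112)) (.leaf 3691)) (.node (.node (.leaf 2303) (.leaf 10390)) (.leaf 5431)))))))) (.node (.node (.node (.node (.node (.node (.node (.node (.leaf 29) (.leaf 5503)) (.leaf 2393)) (.node (.node (.leaf 1111) (.leaf 8372)) (.leaf 3767))) (.node (.node (.node (.leaf 571) (.leaf 6678)) (.leaf 3052)) (.node (.node (.leaf 1703) (.leaf 9926)) (.leaf 4567)))) (.node (.node (.node (.node (.leaf 288) (.leaf 5989)) (.leaf 2739)) (.node (.node (.leaf 1401) (.leaf 9670)) (.leaf 4150))) (.node (.node (.node (.leaf 845) (.leaf 7386)) (.leaf 3391)) (.node (.node (.leaf 2017) (.leaf 10182)) (.leaf 5046))))) (.node (.node (.node (.node (.node (.leaf 157) (.leaf 5723)) (.leaf 2572)) (.node (.node (.leaf 1256) (.leaf 9084)) (.leaf 3962))) (.node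 (.node (.node (.leaf 707) (.leaf 7084)) (.leaf 3213)) (.node (.node (.leaf 1864) (.leaf 10054)) (.leaf 4786)))) (.node (.node (.node (.node (.leaf 430) (.leaf 6315)) (.leaf 2901)) (.node (.node (.leaf 1548) (.leaf 9798)) (.leaf 4360))) (.node (.node (.node (.leaf 976) (.leaf 7857)) (.leaf 3571)) (.node (.node (.leaf 2183) (.leaf 10310)) (.leaf 5293)))))) (.node (.node (.node (.node (.node (.node (.leaf 93) (.leaf 5603)) (.leaf 2486)) (.node (.node (.leaf 1186) (.leaf 8754)) (.leaf 3866))) (.node (.node (.node (.leaf 641) (.leaf 6914)) (.leaf 3129)) (.node (.node (.leaf 1784) (.leaf 9990)) (.leaf 4666)))) (.node (.node (.node (.node (.leaf 359) (.leaf 6132)) (.leaf 2827)) (.node (.node (.leaf 1471) (.leaf 9734)) (.leaf 4259))) (.node (.node (.node (.leaf 910) (.leaf 7587)) (.leaf 3477)) (.node (.node (.leaf 2105) (.leaf 10246)) (.leaf 5153))))) (.node (.node (.node (.node (.node (.leaf 222) (.leaf 5869)) (.leaf 2663)) (.node (.node (.leaf 1330) (.leaf 9409)) (.leaf 4053))) (.node (.node (.node (.leaf 775) (.leaf 7227)) (.leaf 3303)) (.node (.node (.leaf 1943)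 (.leaf 10118)) (.leaf 4902)))) (.node (.node (.node (.node (.leaf 501) (.leaf 6488)) (.leaf 2975)) (.node (.node (.leaf 1630) (.leaf 9862)) (.leaf 4452))) (.node (.node (.node (.leaf 1043) (.leaf 8072)) (.leaf 3666)) (.node (.node (.leaf 2279) (.leaf 10374)) (.leaf 5405))))))) (.node (.node (.node (.node (.node (.node (.node (.leaf 61) (.leaf 5553)) (.leaf 2445)) (.node (.node (.leaf 1148) (.leaf 8532)) (.leaf 3806))) (.node (.node (.node (.leaf 609) (.leaf 6802)) (.leaf 3089)) (.node (.node (.leaf 1743) (.leaf 9958)) (.leaf 4617)))) (.node (.node (.node (.node (.leaf 324) (.leaf 6058)) (.leaf 2787)) (.node (.node (.leaf 1435) (.leaf 9702)) (.leaf 4198))) (.node (.node (.node (.leaf 877) (.leaf 7489)) (.leaf 3435)) (.node (.node (.leaf 2059) (.leaf 10214)) (.leaf 5110))))) (.node (.node (.node (.node (.node (.leaf 189) (.leaf 5784)) (.leaf 2620)) (.node (.node (.leaf 1294) (.leaf 9259)) (.leaf 4000))) (.node (.node (.node (.leaf 740) (.leaf 7154)) (.leaf 3260)) (.node (.node (.leaf 1901) (.leaf 10086)) (.leaf 4837)))) (.node (.node (.node (.node (.leaf 462)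 (.leaf 6430)) (.leaf 2936)) (.node (.node (.leaf 1593) (.leaf 9830)) (.leaf 4408))) (.node (.node (.node (.leaf 1009) (.leaf 7973)) (.leaf 3615)) (.node (.node (.leaf 2234) (.leaf 10342)) (.leaf 5348)))))) (.node (.node (.node (.node (.node (.node (.leaf 125) (.leaf 5661)) (.leaf 2531)) (.node (.node (.leaf 1220) (.leaf 8960)) (.leaf 3915))) (.node (.node (.node (.leaf 673) (.leaf 7000)) (.leaf 3175)) (.node (.node (.leaf 1825) (.leaf 10022)) (.leaf 4731)))) (.node (.node (.node (.node (.leaf 393) (.leaf 6208)) (.leaf 2862)) (.node (.node (.leaf 1507) (.leaf 9766)) (.leaf 4303))) (.node (.node (.node (.leaf 943) (.leaf 7730)) (.leaf 3520)) (.node (.node (.leaf 2144) (.leaf 10278)) (.leaf 5225))))) (.node (.node (.node (.node (.node (.leaf 254) (.leaf 5929)) (.leaf 2703)) (.node (.node (.leaf 1365) (.leaf 9551)) (.leaf 4104))) (.node (.node (.node (.leaf 809) (.leaf 7312)) (.leaf 3347)) (.node (.node (.leaf 1980) (.leaf 10150)) (.leaf 4993)))) (.node (.node (.node (.node (.leaf 536) (.leaf 6580)) (.leaf 3015)) (.node (.node (.leaf 1666) (.leaf 9894)) (.leaf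 4506))) (.node (.node (.node (.leaf 1075) (.leaf 8194)) (.leaf 3715)) (.node (.node (.leaf 2334) (.leaf 10406)) (.leaf 5458)))))))))))

noncomputable def liveA2 : Arr ℕ :=
  (.node (.node (.node (.node (.node (.node (.node (.node (.node (.node (.node (.leaf 2) (.leaf 5464)) (.node (.leaf 2354) (.leaf 10411))) (.node (.node (.leaf 1081) (.leaf 8225)) (.leaf 3723))) (.node (.node (.node (.leaf 542) (.leaf 6612)) (.leaf 3020)) (.node (.node (.leaf 1671) (.leaf 9899)) (.leaf 4522)))) (.node (.node (.node (.node (.leaf 259) (.leaf 5945)) (.leaf 2709)) (.node (.node (.leaf 1370) (.leaf 9605)) (.leaf 4109))) (.node (.node (.node (.leaf 817) (.leaf 7321)) (.leaf 3353)) (.node (.node (.leaf 1985) (.leaf 10155)) (.leaf 5002))))) (.node (.node (.node (.node (.node (.leaf 130) (.leaf 5671)) (.leaf 2537)) (.node (.node (.leaf 1225) (.leaf 8972)) (.leaf 3925))) (.node (.node (.node (.leaf 678) (.leaf 7029)) (.leaf 3180)) (.node (.node (.leaf 1831) (.leaf 10027)) (.leaf 4737)))) (.node (.node (.node (.node (.leaf 399) (.leaf 6225)) (.leaf 2869)) (.node (.node (.leaf 1512)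 (.leaf 9771)) (.leaf 4315))) (.node (.node (.node (.leaf 948) (.leaf 7747)) (.leaf 3528)) (.node (.node (.leaf 2151) (.leaf 10283)) (.leaf 5235)))))) (.node (.node (.node (.node (.node (.node (.leaf 66) (.leaf 5559)) (.leaf 2451)) (.node (.node (.leaf 1157) (.leaf 8564)) (.leaf 3816))) (.node (.node (.node (.leaf 614) (.leaf 6814)) (.leaf 3094)) (.node (.node (.leaf 1749) (.leaf 9963)) (.leaf 4626)))) (.node (.node (.node (.node (.leaf 329) (.leaf 6071)) (.leaf 2795)) (.node (.node (.leaf 1441) (.leaf 9707)) (.leaf 4212))) (.node (.node (.node (.leaf 882) (.leaf 7509)) (.leaf 3443)) (.node (.node (.leaf 2065) (.leaf 10219)) (.leaf 5117))))) (.node (.node (.node (.node (.node (.leaf 194) (.leaf 5804)) (.leaf 2626)) (.node (.node (.leaf 1299) (.leaf 9284)) (.leaf 4007))) (.node (.node (.node (.leaf 745) (.leaf 7167)) (.leaf 3266)) (.node (.node (.leaf 1907) (.leaf 10091)) (.leaf 4844)))) (.node (.node (.node (.node (.leaf 469) (.leaf 6441)) (.leaf 2941)) (.node (.node (.leaf 1599) (.leaf 9835)) (.leaf 4416))) (.node (.node (.node (.leaf 1014) (.leaf 7992))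 (.leaf 3621)) (.node (.node (.leaf 2239) (.leaf 10347)) (.leaf 5354))))))) (.node (.node (.node (.node (.node (.node (.node (.leaf 34) (.leaf 5513)) (.leaf 2401)) (.node (.node (.leaf 1117) (.leaf 8399)) (.leaf 3773))) (.node (.node (.node (.leaf 577) (.leaf 6706)) (.leaf 3057)) (.node (.node (.leaf 1708) (.leaf 9931)) (.leaf 4574)))) (.node (.node (.node (.node (.leaf 293) (.leaf 6008)) (.leaf 2746)) (.node (.node (.leaf 1406) (.leaf 9675)) (.leaf 4157))) (.node (.node (.node (.leaf 850) (.leaf 7401)) (.leaf 3398)) (.node (.node (.leaf 2023) (.leaf 10187)) (.leaf 5053))))) (.node (.node (.node (.node (.node (.leaf 162) (.leaf 5735)) (.leaf 2581)) (.node (.node (.leaf 1261) (.leaf 9097)) (.leaf 3968))) (.node (.node (.node (.leaf 712) (.leaf 7090)) (.leaf 3221)) (.node (.node (.leaf 1869) (.leaf 10059)) (.leaf 4796)))) (.node (.node (.node (.node (.leaf 435) (.leaf 6340)) (.leaf 2907)) (.node (.node (.leaf 1556) (.leaf 9803)) (.leaf 4367))) (.node (.node (.node (.leaf 981) (.leaf 7863)) (.leaf 3576)) (.node (.node (.leaf 2191) (.leaf 10315)) (.leaf 5311))))))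 (.node (.node (.node (.node (.node (.node (.leaf 98) (.leaf 5609)) (.leaf 2493)) (.node (.node (.leaf 1191) (.leaf 8777)) (.leaf 3871))) (.node (.node (.node (.leaf 646) (.leaf 6931)) (.leaf 3137)) (.node (.node (.leaf 1790) (.leaf 9995)) (.leaf 4679)))) (.node (.node (.node (.node (.leaf 364) (.leaf 6142)) (.leaf 2833)) (.node (.node (.leaf 1476) (.leaf 9739)) (.leaf 4266))) (.node (.node (.node (.leaf 915) (.leaf 7607)) (.leaf 3483)) (.node (.node (.leaf 2113) (.leaf 10251)) (.leaf 5169))))) (.node (.node (.node (.node (.node (.leaf 227) (.leaf 5879)) (.leaf 2671)) (.node (.node (.leaf 1335) (.leaf 9417)) (.leaf 4060))) (.node (.node (.node (.leaf 780) (.leaf 7245)) (.leaf 3309)) (.node (.node (.leaf 1949) (.leaf 10123)) (.leaf 4909)))) (.node (.node (.node (.node (.leaf 507) (.leaf 6496)) (.leaf 2982)) (.node (.node (.leaf 1635) (.leaf 9867)) (.leaf 4469))) (.node (.node (.node (.leaf 1048) (.leaf 8091)) (.leaf 3674)) (.node (.node (.leaf 2285) (.leaf 10379)) (.leaf 5414)))))))) (.node (.node (.node (.node (.node (.node (.node (.node (.leaf 18) (.leaf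 5490)) (.leaf 2376)) (.node (.node (.leaf 1100) (.leaf 8294)) (.leaf 3756))) (.node (.node (.node (.leaf 560) (.leaf 6643)) (.leaf 3040)) (.node (.node (.leaf 1689) (.leaf 9915)) (.leaf 4544)))) (.node (.node (.node (.node (.leaf 277) (.leaf 5972)) (.leaf 2727)) (.node (.node (.leaf 1388) (.leaf 9659)) (.leaf 4135))) (.node (.node (.node (.leaf 833) (.leaf 7352)) (.leaf 3376)) (.node (.node (.leaf 2004) (.leaf 10171)) (.leaf 5028))))) (.node (.node (.node (.node (.node (.leaf 146) (.leaf 5703)) (.leaf 2559)) (.node (.node (.leaf 1242) (.leaf 9040)) (.leaf 3949))) (.node (.node (.node (.leaf 694) (.leaf 7058)) (.leaf 3200)) (.node (.node (.leaf 1848) (.leaf 10043)) (.leaf 4769)))) (.node (.node (.node (.node (.leaf 419) (.leaf 6278)) (.leaf 2889)) (.node (.node (.leaf 1533) (.leaf 9787)) (.leaf 4347))) (.node (.node (.node (.leaf 965) (.leaf 7821)) (.leaf 3552)) (.node (.node (.leaf 2169) (.leaf 10299)) (.leaf 5270)))))) (.node (.node (.node (.node (.node (.node (.leaf 82) (.leaf 5585)) (.leaf 2474)) (.node (.node (.leaf 1173) (.leaf 8660)) (.leaf 3836)))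 (.node (.node (.node (.leaf 630) (.leaf 6857)) (.leaf 3114)) (.node (.node (.leaf 1771) (.leaf 9979)) (.leaf 4648)))) (.node (.node (.node (.node (.leaf 346) (.leaf 6108)) (.leaf 2814)) (.node (.node (.leaf 1458) (.leaf 9723)) (.leaf 4247))) (.node (.node (.node (.leaf 898) (.leaf 7560)) (.leaf 3462)) (.node (.node (.leaf 2091) (.leaf 10235)) (.leaf 5136))))) (.node (.node (.node (.node (.node (.leaf 211) (.leaf 5843)) (.leaf 2649)) (.node (.node (.leaf 1317) (.leaf 9364)) (.leaf 4029))) (.node (.node (.node (.leaf 762) (.leaf 7206)) (.leaf 3289)) (.node (.node (.leaf 1930) (.leaf 10107)) (.leaf 4885)))) (.node (.node (.node (.node (.leaf 487) (.leaf 6470)) (.leaf 2960)) (.node (.node (.leaf 1619) (.leaf 9851)) (.leaf 4434))) (.node (.node (.node (.leaf 1032) (.leaf 8028)) (.leaf 3646)) (.node (.node (.leaf 2257) (.leaf 10363)) (.leaf 5383))))))) (.node (.node (.node (.node (.node (.node (.node (.leaf 50) (.leaf 5535)) (.leaf 2428)) (.node (.node (.leaf 1136) (.leaf 8499)) (.leaf 3793))) (.node (.node (.node (.leaf 596) (.leaf 6771)) (.leaf 3078)) (.node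 (.node (.leaf 1729) (.leaf 9947)) (.leaf 4601)))) (.node (.node (.node (.node (.leaf 311) (.leaf 6033)) (.leaf 2771)) (.node (.node (.leaf 1422) (.leaf 9691)) (.leaf 4178))) (.node (.node (.node (.leaf 866) (.leaf 7442)) (.leaf 3418)) (.node (.node (.leaf 2040) (.leaf 10203)) (.leaf 5081))))) (.node (.node (.node (.node (.node (.leaf 178) (.leaf 5760)) (.leaf 2600)) (.node (.node (.leaf 1281) (.leaf 9186)) (.leaf 3989))) (.node (.node (.node (.leaf 729) (.leaf 7125)) (.leaf 3244)) (.node (.node (.leaf 1889) (.leaf 10075)) (.leaf 4823)))) (.node (.node (.node (.node (.leaf 451) (.leaf 6374)) (.leaf 2923)) (.node (.node (.leaf 1575) (.leaf 9819)) (.leaf 4394))) (.node (.node (.node (.leaf 998) (.leaf 7941)) (.leaf 3596)) (.node (.node (.leaf 2219) (.leaf 10331)) (.leaf 5334)))))) (.node (.node (.node (.node (.node (.node (.leaf 114) (.leaf 5633)) (.leaf 2515)) (.node (.node (.leaf 1209) (.leaf 8875)) (.leaf 3896))) (.node (.node (.node (.leaf 662) (.leaf 6974)) (.leaf 3162)) (.node (.node (.leaf 1807) (.leaf 10011)) (.leaf 4712)))) (.node (.node (.node (.node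 (.leaf 381) (.leaf 6177)) (.leaf 2851)) (.node (.node (.leaf 1495) (.leaf 9755)) (.leaf 4290))) (.node (.node (.node (.leaf 931) (.leaf 7673)) (.leaf 3505)) (.node (.node (.leaf 2132) (.leaf 10267)) (.leaf 5196))))) (.node (.node (.node (.node (.node (.leaf 243) (.leaf 5908)) (.leaf 2692)) (.node (.node (.leaf 1352) (.leaf 9507)) (.leaf 4083))) (.node (.node (.node (.leaf 797) (.leaf 7289)) (.leaf 3334)) (.node (.node (.leaf 1969) (.leaf 10139)) (.leaf 4965)))) (.node (.node (.node (.node (.leaf 525) (.leaf 6535)) (.leaf 3000)) (.node (.node (.leaf 1652) (.leaf 9883)) (.leaf 4493))) (.node (.node (.node (.leaf 1064) (.leaf 8137)) (.leaf 3698)) (.node (.node (.leaf 2311) (.leaf 10395)) (.leaf 5441))))))))) (.node (.node (.node (.node (.node (.node (.node (.node (.node (.leaf 10) (.leaf 5477)) (.node (.leaf 2368) (.leaf 10419))) (.node (.node (.leaf 1091) (.leaf 8254)) (.leaf 3740))) (.node (.node (.node (.leaf 551) (.leaf 6627)) (.leaf 3029)) (.node (.node (.leaf 1680) (.leaf 9907)) (.leaf 4533)))) (.node (.node (.node (.node (.leaf 269) (.leaf 5959)) (.leaf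 2718)) (.node (.node (.leaf 1378) (.leaf 9650)) (.leaf 4122))) (.node (.node (.node (.leaf 825) (.leaf 7336)) (.leaf 3366)) (.node (.node (.leaf 1993) (.leaf 10163)) (.leaf 5016))))) (.node (.node (.node (.node (.node (.leaf 138) (.leaf 5685)) (.leaf 2547)) (.node (.node (.leaf 1233) (.leaf 9002)) (.leaf 3938))) (.node (.node (.node (.leaf 686) (.leaf 7046)) (.leaf 3192)) (.node (.node (.leaf 1839) (.leaf 10035)) (.leaf 4750)))) (.node (.node (.node (.node (.leaf 409) (.leaf 6249)) (.leaf 2878)) (.node (.node (.leaf 1524) (.leaf 9779)) (.leaf 4331))) (.node (.node (.node (.leaf 957) (.leaf 7781)) (.leaf 3538)) (.node (.node (.leaf 2160) (.leaf 10291)) (.leaf 5252)))))) (.node (.node (.node (.node (.node (.node (.leaf 74) (.leaf 5577)) (.leaf 2460)) (.node (.node (.leaf 1165) (.leaf 8609)) (.leaf 3827))) (.node (.node (.node (.leaf 622) (.leaf 6844)) (.leaf 3105)) (.node (.node (.leaf 1757) (.leaf 9971)) (.leaf 4637)))) (.node (.node (.node (.node (.leaf 338) (.leaf 6090)) (.leaf 2806)) (.node (.node (.leaf 1450) (.leaf 9715)) (.leaf 4234))) (.node (.node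 (.node (.leaf 890) (.leaf 7535)) (.leaf 3453)) (.node (.node (.leaf 2076) (.leaf 10227)) (.leaf 5125))))) (.node (.node (.node (.node (.node (.leaf 203) (.leaf 5822)) (.leaf 2638)) (.node (.node (.leaf 1307) (.leaf 9318)) (.leaf 4019))) (.node (.node (.node (.leaf 754) (.leaf 7187)) (.leaf 3275)) (.node (.node (.leaf 1922) (.leaf 10099)) (.leaf 4870)))) (.node (.node (.node (.node (.leaf 478) (.leaf 6454)) (.leaf 2949)) (.node (.node (.leaf 1608) (.leaf 9843)) (.leaf 4425))) (.node (.node (.node (.leaf 1023) (.leaf 8010)) (.leaf 3631)) (.node (.node (.leaf 2247) (.leaf 10355)) (.leaf 5367))))))) (.node (.node (.node (.node (.node (.node (.node (.leaf 42) (.leaf 5524)) (.leaf 2415)) (.node (.node (.leaf 1125) (.leaf 8444)) (.leaf 3784))) (.node (.node (.node (.leaf 586) (.leaf 6746)) (.leaf 3067)) (.node (.node (.leaf 1720) (.leaf 9939)) (.leaf 4585)))) (.node (.node (.node (.node (.leaf 301) (.leaf 6022)) (.leaf 2758)) (.node (.node (.leaf 1414) (.leaf 9683)) (.leaf 4170))) (.node (.node (.node (.leaf 858) (.leaf 7428)) (.leaf 3408)) (.node (.node (.leaf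 2032) (.leaf 10195)) (.leaf 5065))))) (.node (.node (.node (.node (.node (.leaf 170) (.leaf 5746)) (.leaf 2592)) (.node (.node (.leaf 1272) (.leaf 9135)) (.leaf 3978))) (.node (.node (.node (.leaf 721) (.leaf 7107)) (.leaf 3235)) (.node (.node (.leaf 1879) (.leaf 10067)) (.leaf 4806)))) (.node (.node (.node (.node (.leaf 443) (.leaf 6354)) (.leaf 2915)) (.node (.node (.leaf 1566) (.leaf 9811)) (.leaf 4384))) (.node (.node (.node (.leaf 990) (.leaf 7906)) (.leaf 3585)) (.node (.node (.leaf 2210) (.leaf 10323)) (.leaf 5324)))))) (.node (.node (.node (.node (.node (.node (.leaf 106) (.leaf 5620)) (.leaf 2506)) (.node (.node (.leaf 1199) (.leaf 8817)) (.leaf 3881))) (.node (.node (.node (.leaf 654) (.leaf 6955)) (.leaf 3150)) (.node (.node (.leaf 1799) (.leaf 10003)) (.leaf 4695)))) (.node (.node (.node (.node (.leaf 373) (.leaf 6162)) (.leaf 2841)) (.node (.node (.leaf 1485) (.leaf 9747)) (.leaf 4276))) (.node (.node (.node (.leaf 923) (.leaf 7637)) (.leaf 3494)) (.node (.node (.leaf 2123) (.leaf 10259)) (.leaf 5182))))) (.node (.node (.node (.node (.node (.leaf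 235) (.leaf 5895)) (.leaf 2681)) (.node (.node (.leaf 1343) (.leaf 9469)) (.leaf 4073))) (.node (.node (.node (.leaf 789) (.leaf 7268)) (.leaf 3319)) (.node (.node (.leaf 1959) (.leaf 10131)) (.leaf 4943)))) (.node (.node (.node (.node (.leaf 515) (.leaf 6509)) (.leaf 2990)) (.node (.node (.leaf 1643) (.leaf 9875)) (.leaf 4483))) (.node (.node (.node (.leaf 1056) (.leaf 8107)) (.leaf 3687)) (.node (.node (.leaf 2295) (.leaf 10387)) (.leaf 5426)))))))) (.node (.node (.node (.node (.node (.node (.node (.node (.leaf 26) (.leaf 5499)) (.leaf 2389)) (.node (.node (.leaf 1108) (.leaf 8363)) (.leaf 3764))) (.node (.node (.node (.leaf 568) (.leaf 6672)) (.leaf 3049)) (.node (.node (.leaf 1699) (.leaf 9923)) (.leaf 4555)))) (.node (.node (.node (.node (.leaf 285) (.leaf 5986)) (.leaf 2735)) (.node (.node (.leaf 1398) (.leaf 9667)) (.leaf 4146))) (.node (.node (.node (.leaf 842) (.leaf 7378)) (.leaf 3388)) (.node (.node (.leaf 2013) (.leaf 10179)) (.leaf 5042))))) (.node (.node (.node (.node (.node (.leaf 154) (.leaf 5720)) (.leaf 2569)) (.node (.node (.leaf 1252)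 (.leaf 9071)) (.leaf 3959))) (.node (.node (.node (.leaf 703) (.leaf 7078)) (.leaf 3210)) (.node (.node (.leaf 1859) (.leaf 10051)) (.leaf 4783)))) (.node (.node (.node (.node (.leaf 427) (.leaf 6311)) (.leaf 2898)) (.node (.node (.leaf 1544) (.leaf 9795)) (.leaf 4356))) (.node (.node (.node (.leaf 973) (.leaf 7842)) (.leaf 3567)) (.node (.node (.leaf 2178) (.leaf 10307)) (.leaf 5290)))))) (.node (.node (.node (.node (.node (.node (.leaf 90) (.leaf 5598)) (.leaf 2483)) (.node (.node (.leaf 1183) (.leaf 8744)) (.leaf 3862))) (.node (.node (.node (.leaf 638) (.leaf 6886)) (.leaf 3125)) (.node (.node (.leaf 1780) (.leaf 9987)) (.leaf 4662)))) (.node (.node (.node (.node (.leaf 356) (.leaf 6125)) (.leaf 2824)) (.node (.node (.leaf 1467) (.leaf 9731)) (.leaf 4255))) (.node (.node (.node (.leaf 907) (.leaf 7582)) (.leaf 3473)) (.node (.node (.leaf 2101) (.leaf 10243)) (.leaf 5149))))) (.node (.node (.node (.node (.node (.leaf 219) (.leaf 5856)) (.leaf 2660)) (.node (.node (.leaf 1325) (.leaf 9402)) (.leaf 4048))) (.node (.node (.node (.leaf 772) (.leaf 7219))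 (.leaf 3299)) (.node (.node (.leaf 1940) (.leaf 10115)) (.leaf 4896)))) (.node (.node (.node (.node (.leaf 495) (.leaf 6483)) (.leaf 2971)) (.node (.node (.leaf 1627) (.leaf 9859)) (.leaf 4445))) (.node (.node (.node (.leaf 1040) (.leaf 8067)) (.leaf 3662)) (.node (.node (.leaf 2266) (.leaf 10371)) (.leaf 5402))))))) (.node (.node (.node (.node (.node (.node (.node (.leaf 58) (.leaf 5544)) (.leaf 2442)) (.node (.node (.leaf 1145) (.leaf 8521)) (.leaf 3803))) (.node (.node (.node (.leaf 606) (.leaf 6794)) (.leaf 3086)) (.node (.node (.leaf 1740) (.leaf 9955)) (.leaf 4612)))) (.node (.node (.node (.node (.leaf 321) (.leaf 6050)) (.leaf 2783)) (.node (.node (.leaf 1432) (.leaf 9699)) (.leaf 4192))) (.node (.node (.node (.leaf 874) (.leaf 7483)) (.leaf 3431)) (.node (.node (.leaf 2056) (.leaf 10211)) (.leaf 5099))))) (.node (.node (.node (.node (.node (.leaf 186) (.leaf 5776)) (.leaf 2614)) (.node (.node (.leaf 1291) (.leaf 9248)) (.leaf 3997))) (.node (.node (.node (.leaf 737) (.leaf 7147)) (.leaf 3257)) (.node (.node (.leaf 1898) (.leaf 10083)) (.leaf 4834))))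 (.node (.node (.node (.node (.leaf 459) (.leaf 6416)) (.leaf 2932)) (.node (.node (.leaf 1590) (.leaf 9827)) (.leaf 4405))) (.node (.node (.node (.leaf 1006) (.leaf 7964)) (.leaf 3611)) (.node (.node (.leaf 2230) (.leaf 10339)) (.leaf 5343)))))) (.node (.node (.node (.node (.node (.node (.leaf 122) (.leaf 5653)) (.leaf 2524)) (.node (.node (.leaf 1217) (.leaf 8931)) (.leaf 3911))) (.node (.node (.node (.leaf 670) (.leaf 6993)) (.leaf 3172)) (.node (.node (.leaf 1821) (.leaf 10019)) (.leaf 4727)))) (.node (.node (.node (.node (.leaf 390) (.leaf 6203)) (.leaf 2859)) (.node (.node (.leaf 1503) (.leaf 9763)) (.leaf 4299))) (.node (.node (.node (.leaf 940) (.leaf 7721)) (.leaf 3515)) (.node (.node (.leaf 2141) (.leaf 10275)) (.leaf 5209))))) (.node (.node (.node (.node (.node (.leaf 251) (.leaf 5926)) (.leaf 2700)) (.node (.node (.leaf 1361) (.leaf 9544)) (.leaf 4094))) (.node (.node (.node (.leaf 806) (.leaf 7308)) (.leaf 3344)) (.node (.node (.leaf 1977) (.leaf 10147)) (.leaf 4988)))) (.node (.node (.node (.node (.leaf 533) (.leaf 6569)) (.leaf 3009)) (.node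 (.node (.leaf 1661) (.leaf 9891)) (.leaf 4503))) (.node (.node (.node (.leaf 1072) (.leaf 8178)) (.leaf 3711)) (.node (.node (.leaf 2330) (.leaf 10403)) (.leaf 5453)))))))))) (.node (.node (.node (.node (.node (.node (.node (.node (.node (.node (.leaf 6) (.leaf 5469)) (.node (.leaf 2362) (.leaf 10415))) (.node (.node (.leaf 1085) (.leaf 8246)) (.leaf 3734))) (.node (.node (.node (.leaf 546) (.leaf 6619)) (.leaf 3025)) (.node (.node (.leaf 1675) (.leaf 9903)) (.leaf 4527)))) (.node (.node (.node (.node (.leaf 264) (.leaf 5952)) (.leaf 2713)) (.node (.node (.leaf 1374) (.leaf 9640)) (.leaf 4115))) (.node (.node (.node (.leaf 821) (.leaf 7328)) (.leaf 3360)) (.node (.node (.leaf 1989) (.leaf 10159)) (.leaf 5011))))) (.node (.node (.node (.node (.node (.leaf 134) (.leaf 5680)) (.leaf 2541)) (.node (.node (.leaf 1229) (.leaf 8992)) (.leaf 3933))) (.node (.node (.node (.leaf 682) (.leaf 7035)) (.leaf 3185)) (.node (.node (.leaf 1835) (.leaf 10031)) (.leaf 4745)))) (.node (.node (.node (.node (.leaf 404) (.leaf 6242)) (.leaf 2874)) (.node (.node (.leaf 1518) (.leaf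 9775)) (.leaf 4324))) (.node (.node (.node (.leaf 953) (.leaf 7760)) (.leaf 3532)) (.node (.node (.leaf 2156) (.leaf 10287)) (.leaf 5243)))))) (.node (.node (.node (.node (.node (.node (.leaf 70) (.leaf 5570)) (.leaf 2455)) (.node (.node (.leaf 1161) (.leaf 8588)) (.leaf 3823))) (.node (.node (.node (.leaf 618) (.leaf 6823)) (.leaf 3099)) (.node (.node (.leaf 1753) (.leaf 9967)) (.leaf 4633)))) (.node (.node (.node (.node (.leaf 333) (.leaf 6079)) (.leaf 2799)) (.node (.node (.leaf 1445) (.leaf 9711)) (.leaf 4221))) (.node (.node (.node (.leaf 886) (.leaf 7516)) (.leaf 3449)) (.node (.node (.leaf 2069) (.leaf 10223)) (.leaf 5121))))) (.node (.node (.node (.node (.node (.leaf 198) (.leaf 5816)) (.leaf 2632)) (.node (.node (.leaf 1303) (.leaf 9297)) (.leaf 4014))) (.node (.node (.node (.leaf 749) (.leaf 7182)) (.leaf 3271)) (.node (.node (.leaf 1911) (.leaf 10095)) (.leaf 4862)))) (.node (.node (.node (.node (.leaf 474) (.leaf 6448)) (.leaf 2945)) (.node (.node (.leaf 1604) (.leaf 9839)) (.leaf 4421))) (.node (.node (.node (.leaf 1019) (.leaf 7997)) (.leaf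 3625)) (.node (.node (.leaf 2243) (.leaf 10351)) (.leaf 5361))))))) (.node (.node (.node (.node (.node (.node (.node (.leaf 38) (.leaf 5518)) (.leaf 2406)) (.node (.node (.leaf 1121) (.leaf 8428)) (.leaf 3778))) (.node (.node (.node (.leaf 581) (.leaf 6730)) (.leaf 3061)) (.node (.node (.leaf 1714) (.leaf 9935)) (.leaf 4581)))) (.node (.node (.node (.node (.leaf 297) (.leaf 6018)) (.leaf 2752)) (.node (.node (.leaf 1410) (.leaf 9679)) (.leaf 4162))) (.node (.node (.node (.leaf 854) (.leaf 7411)) (.leaf 3402)) (.node (.node (.leaf 2027) (.leaf 10191)) (.leaf 5057))))) (.node (.node (.node (.node (.node (.leaf 166) (.leaf 5741)) (.leaf 2587)) (.node (.node (.leaf 1266) (.leaf 9110)) (.leaf 3973))) (.node (.node (.node (.leaf 717) (.leaf 7099)) (.leaf 3229)) (.node (.node (.leaf 1873) (.leaf 10063)) (.leaf 4800)))) (.node (.node (.node (.node (.leaf 439) (.leaf 6345)) (.leaf 2911)) (.node (.node (.leaf 1560) (.leaf 9807)) (.leaf 4377))) (.node (.node (.node (.leaf 986) (.leaf 7881)) (.leaf 3581)) (.node (.node (.leaf 2198) (.leaf 10319)) (.leaf 5318)))))) (.node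 (.node (.node (.node (.node (.node (.leaf 102) (.leaf 5614)) (.leaf 2498)) (.node (.node (.leaf 1195) (.leaf 8799)) (.leaf 3876))) (.node (.node (.node (.leaf 650) (.leaf 6943)) (.leaf 3145)) (.node (.node (.leaf 1795) (.leaf 9999)) (.leaf 4688)))) (.node (.node (.node (.node (.leaf 368) (.leaf 6156)) (.leaf 2837)) (.node (.node (.leaf 1481) (.leaf 9743)) (.leaf 4270))) (.node (.node (.node (.leaf 919) (.leaf 7623)) (.leaf 3488)) (.node (.node (.leaf 2117) (.leaf 10255)) (.leaf 5176))))) (.node (.node (.node (.node (.node (.leaf 231) (.leaf 5888)) (.leaf 2675)) (.node (.node (.leaf 1339) (.leaf 9432)) (.leaf 4064))) (.node (.node (.node (.leaf 785) (.leaf 7258)) (.leaf 3313)) (.node (.node (.leaf 1954) (.leaf 10127)) (.leaf 4934)))) (.node (.node (.node (.node (.leaf 511) (.leaf 6500)) (.leaf 2986)) (.node (.node (.leaf 1639) (.leaf 9871)) (.leaf 4475))) (.node (.node (.node (.leaf 1052) (.leaf 8099)) (.leaf 3681)) (.node (.node (.leaf 2291) (.leaf 10383)) (.leaf 5422)))))))) (.node (.node (.node (.node (.node (.node (.node (.node (.leaf 22) (.leaf 5495))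 (.leaf 2383)) (.node (.node (.leaf 1104) (.leaf 8339)) (.leaf 3760))) (.node (.node (.node (.leaf 564) (.leaf 6655)) (.leaf 3045)) (.node (.node (.leaf 1695) (.leaf 9919)) (.leaf 4549)))) (.node (.node (.node (.node (.leaf 281) (.leaf 5980)) (.leaf 2731)) (.node (.node (.leaf 1393) (.leaf 9663)) (.leaf 4139))) (.node (.node (.node (.leaf 838) (.leaf 7362)) (.leaf 3381)) (.node (.node (.leaf 2009) (.leaf 10175)) (.leaf 5035))))) (.node (.node (.node (.node (.node (.leaf 150) (.leaf 5710)) (.leaf 2564)) (.node (.node (.leaf 1248) (.leaf 9059)) (.leaf 3954))) (.node (.node (.node (.leaf 699) (.leaf 7067)) (.leaf 3204)) (.node (.node (.leaf 1853) (.leaf 10047)) (.leaf 4776)))) (.node (.node (.node (.node (.leaf 423) (.leaf 6295)) (.leaf 2894)) (.node (.node (.leaf 1539) (.leaf 9791)) (.leaf 4352))) (.node (.node (.node (.leaf 969) (.leaf 7835)) (.leaf 3557)) (.node (.node (.leaf 2173) (.leaf 10303)) (.leaf 5282)))))) (.node (.node (.node (.node (.node (.node (.leaf 86) (.leaf 5590)) (.leaf 2479)) (.node (.node (.leaf 1177) (.leaf 8696)) (.leaf 3850))) (.node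 (.node (.node (.leaf 634) (.leaf 6872)) (.leaf 3118)) (.node (.node (.leaf 1775) (.leaf 9983)) (.leaf 4656)))) (.node (.node (.node (.node (.leaf 350) (.leaf 6121)) (.leaf 2818)) (.node (.node (.leaf 1463) (.leaf 9727)) (.leaf 4251))) (.node (.node (.node (.leaf 902) (.leaf 7573)) (.leaf 3469)) (.node (.node (.leaf 2097) (.leaf 10239)) (.leaf 5141))))) (.node (.node (.node (.node (.node (.leaf 215) (.leaf 5852)) (.leaf 2653)) (.node (.node (.leaf 1321) (.leaf 9379)) (.leaf 4039))) (.node (.node (.node (.leaf 766) (.leaf 7211)) (.leaf 3294)) (.node (.node (.leaf 1935) (.leaf 10111)) (.leaf 4890)))) (.node (.node (.node (.node (.leaf 491) (.leaf 6476)) (.leaf 2965)) (.node (.node (.leaf 1623) (.leaf 9855)) (.leaf 4439))) (.node (.node (.node (.leaf 1036) (.leaf 8047)) (.leaf 3654)) (.node (.node (.leaf 2262) (.leaf 10367)) (.leaf 5390))))))) (.node (.node (.node (.node (.node (.node (.node (.leaf 54) (.leaf 5539)) (.leaf 2435)) (.node (.node (.leaf 1140) (.leaf 8513)) (.leaf 3797))) (.node (.node (.node (.leaf 602) (.leaf 6781)) (.leaf 3082)) (.node (.node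 (.leaf 1734) (.leaf 9951)) (.leaf 4607)))) (.node (.node (.node (.node (.leaf 316) (.leaf 6042)) (.leaf 2779)) (.node (.node (.leaf 1427) (.leaf 9695)) (.leaf 4183))) (.node (.node (.node (.leaf 870) (.leaf 7460)) (.leaf 3425)) (.node (.node (.leaf 2048) (.leaf 10207)) (.leaf 5088))))) (.node (.node (.node (.node (.node (.leaf 182) (.leaf 5769)) (.leaf 2605)) (.node (.node (.leaf 1285) (.leaf 9229)) (.leaf 3993))) (.node (.node (.node (.leaf 733) (.leaf 7141)) (.leaf 3249)) (.node (.node (.leaf 1894) (.leaf 10079)) (.leaf 4829)))) (.node (.node (.node (.node (.leaf 455) (.leaf 6400)) (.leaf 2927)) (.node (.node (.leaf 1581) (.leaf 9823)) (.leaf 4401))) (.node (.node (.node (.leaf 1002) (.leaf 7954)) (.leaf 3605)) (.node (.node (.leaf 2226) (.leaf 10335)) (.leaf 5338)))))) (.node (.node (.node (.node (.node (.node (.leaf 118) (.leaf 5640)) (.leaf 2519)) (.node (.node (.leaf 1213) (.leaf 8909)) (.leaf 3905))) (.node (.node (.node (.leaf 666) (.leaf 6982)) (.leaf 3167)) (.node (.node (.leaf 1813) (.leaf 10015)) (.leaf 4722)))) (.node (.node (.node (.node (.leaf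 385) (.leaf 6187)) (.leaf 2855)) (.node (.node (.leaf 1499) (.leaf 9759)) (.leaf 4294))) (.node (.node (.node (.leaf 936) (.leaf 7704)) (.leaf 3509)) (.node (.node (.leaf 2137) (.leaf 10271)) (.leaf 5204))))) (.node (.node (.node (.node (.node (.leaf 247) (.leaf 5915)) (.leaf 2696)) (.node (.node (.leaf 1356) (.leaf 9535)) (.leaf 4087))) (.node (.node (.node (.leaf 801) (.leaf 7296)) (.leaf 3338)) (.node (.node (.leaf 1973) (.leaf 10143)) (.leaf 4984)))) (.node (.node (.node (.node (.leaf 529) (.leaf 6548)) (.leaf 3004)) (.node (.node (.leaf 1657) (.leaf 9887)) (.leaf 4498))) (.node (.node (.node (.leaf 1068) (.leaf 8147)) (.leaf 3703)) (.node (.node (.leaf 2324) (.leaf 10399)) (.leaf 5449))))))))) (.node (.node (.node (.node (.node (.node (.node (.node (.node (.leaf 14) (.leaf 5485)) (.leaf 2372)) (.node (.node (.leaf 1096) (.leaf 8278)) (.leaf 3747))) (.node (.node (.node (.leaf 555) (.leaf 6635)) (.leaf 3036)) (.node (.node (.leaf 1685) (.leaf 9911)) (.leaf 4538)))) (.node (.node (.node (.node (.leaf 273) (.leaf 5968)) (.leaf 2722)) (.node (.node (.leaf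 1382) (.leaf 9655)) (.leaf 4129))) (.node (.node (.node (.leaf 829) (.leaf 7347)) (.leaf 3371)) (.node (.node (.leaf 1997) (.leaf 10167)) (.leaf 5024))))) (.node (.node (.node (.node (.node (.leaf 142) (.leaf 5691)) (.leaf 2553)) (.node (.node (.leaf 1237) (.leaf 9022)) (.leaf 3942))) (.node (.node (.node (.leaf 690) (.leaf 7052)) (.leaf 3196)) (.node (.node (.leaf 1844) (.leaf 10039)) (.leaf 4756)))) (.node (.node (.node (.node (.leaf 415) (.leaf 6269)) (.leaf 2883)) (.node (.node (.leaf 1528) (.leaf 9783)) (.leaf 4338))) (.node (.node (.node (.leaf 961) (.leaf 7785)) (.leaf 3546)) (.node (.node (.leaf 2165) (.leaf 10295)) (.leaf 5261)))))) (.node (.node (.node (.node (.node (.node (.leaf 78) (.leaf 5581)) (.leaf 2467)) (.node (.node (.leaf 1169) (.leaf 8635)) (.leaf 3832))) (.node (.node (.node (.leaf 626) (.leaf 6851)) (.leaf 3109)) (.node (.node (.leaf 1767) (.leaf 9975)) (.leaf 4643)))) (.node (.node (.node (.node (.leaf 342) (.leaf 6094)) (.leaf 2810)) (.node (.node (.leaf 1454) (.leaf 9719)) (.leaf 4243))) (.node (.node (.node (.leaf 894) (.leaf 7542))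 (.leaf 3458)) (.node (.node (.leaf 2080) (.leaf 10231)) (.leaf 5130))))) (.node (.node (.node (.node (.node (.leaf 207) (.leaf 5832)) (.leaf 2642)) (.node (.node (.leaf 1311) (.leaf 9342)) (.leaf 4024))) (.node (.node (.node (.leaf 758) (.leaf 7199)) (.leaf 3281)) (.node (.node (.leaf 1926) (.leaf 10103)) (.leaf 4880)))) (.node (.node (.node (.node (.leaf 483) (.leaf 6461)) (.leaf 2954)) (.node (.node (.leaf 1614) (.leaf 9847)) (.leaf 4430))) (.node (.node (.node (.leaf 1027) (.leaf 8017)) (.leaf 3636)) (.node (.node (.leaf 2251) (.leaf 10359)) (.leaf 5373))))))) (.node (.node (.node (.node (.node (.node (.node (.leaf 46) (.leaf 5531)) (.leaf 2422)) (.node (.node (.leaf 1130) (.leaf 8477)) (.leaf 3788))) (.node (.node (.node (.leaf 591) (.leaf 6765)) (.leaf 3073)) (.node (.node (.leaf 1725) (.leaf 9943)) (.leaf 4593)))) (.node (.node (.node (.node (.leaf 307) (.leaf 6026)) (.leaf 2763)) (.node (.node (.leaf 1418) (.leaf 9687)) (.leaf 4174))) (.node (.node (.node (.leaf 862) (.leaf 7436)) (.leaf 3412)) (.node (.node (.leaf 2036) (.leaf 10199)) (.leaf 5076)))))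 (.node (.node (.node (.node (.node (.leaf 174) (.leaf 5750)) (.leaf 2596)) (.node (.node (.leaf 1277) (.leaf 9155)) (.leaf 3982))) (.node (.node (.node (.leaf 725) (.leaf 7119)) (.leaf 3240)) (.node (.node (.leaf 1883) (.leaf 10071)) (.leaf 4818)))) (.node (.node (.node (.node (.leaf 447) (.leaf 6360)) (.leaf 2919)) (.node (.node (.leaf 1571) (.leaf 9815)) (.leaf 4388))) (.node (.node (.node (.leaf 994) (.leaf 7926)) (.leaf 3590)) (.node (.node (.leaf 2215) (.leaf 10327)) (.leaf 5330)))))) (.node (.node (.node (.node (.node (.node (.leaf 110) (.leaf 5627)) (.leaf 2511)) (.node (.node (.leaf 1205) (.leaf 8834)) (.leaf 3886))) (.node (.node (.node (.leaf 658) (.leaf 6969)) (.leaf 3154)) (.node (.node (.leaf 1803) (.leaf 10007)) (.leaf 4706)))) (.node (.node (.node (.node (.leaf 377) (.leaf 6168)) (.leaf 2847)) (.node (.node (.leaf 1491) (.leaf 9751)) (.leaf 4280))) (.node (.node (.node (.leaf 927) (.leaf 7650)) (.leaf 3501)) (.node (.node (.leaf 2128) (.leaf 10263)) (.leaf 5192))))) (.node (.node (.node (.node (.node (.leaf 239) (.leaf 5903)) (.leaf 2686))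 (.node (.node (.leaf 1348) (.leaf 9482)) (.leaf 4079))) (.node (.node (.node (.leaf 793) (.leaf 7283)) (.leaf 3327)) (.node (.node (.leaf 1965) (.leaf 10135)) (.leaf 4955)))) (.node (.node (.node (.node (.leaf 521) (.leaf 6526)) (.leaf 2995)) (.node (.node (.leaf 1648) (.leaf 9879)) (.leaf 4488))) (.node (.node (.node (.leaf 1060) (.leaf 8121)) (.leaf 3693)) (.node (.node (.leaf 2305) (.leaf 10391)) (.leaf 5432)))))))) (.node (.node (.node (.node (.node (.node (.node (.node (.leaf 30) (.leaf 5504)) (.leaf 2394)) (.node (.node (.leaf 1112) (.leaf 8376)) (.leaf 3768))) (.node (.node (.node (.leaf 572) (.leaf 6683)) (.leaf 3053)) (.node (.node (.leaf 1704) (.leaf 9927)) (.leaf 4568)))) (.node (.node (.node (.node (.leaf 289) (.leaf 5991)) (.leaf 2740)) (.node (.node (.leaf 1402) (.leaf 9671)) (.leaf 4151))) (.node (.node (.node (.leaf 846) (.leaf 7388)) (.leaf 3392)) (.node (.node (.leaf 2018) (.leaf 10183)) (.leaf 5047))))) (.node (.node (.node (.node (.node (.leaf 158) (.leaf 5727)) (.leaf 2574)) (.node (.node (.leaf 1257) (.leaf 9086)) (.leaf 3963))) (.node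 (.node (.node (.leaf 708) (.leaf 7085)) (.leaf 3214)) (.node (.node (.leaf 1865) (.leaf 10055)) (.leaf 4787)))) (.node (.node (.node (.node (.leaf 431) (.leaf 6316)) (.leaf 2902)) (.node (.node (.leaf 1549) (.leaf 9799)) (.leaf 4361))) (.node (.node (.node (.leaf 977) (.leaf 7858)) (.leaf 3572)) (.node (.node (.leaf 2184) (.leaf 10311)) (.leaf 5295)))))) (.node (.node (.node (.node (.node (.node (.leaf 94) (.leaf 5604)) (.leaf 2487)) (.node (.node (.leaf 1187) (.leaf 8764)) (.leaf 3867))) (.node (.node (.node (.leaf 642) (.leaf 6919)) (.leaf 3130)) (.node (.node (.leaf 1785) (.leaf 9991)) (.leaf 4667)))) (.node (.node (.node (.node (.leaf 360) (.leaf 6135)) (.leaf 2829)) (.node (.node (.leaf 1472) (.leaf 9735)) (.leaf 4260))) (.node (.node (.node (.leaf 911) (.leaf 7589)) (.leaf 3478)) (.node (.node (.leaf 2108) (.leaf 10247)) (.leaf 5160))))) (.node (.node (.node (.node (.node (.leaf 223) (.leaf 5871)) (.leaf 2665)) (.node (.node (.leaf 1331) (.leaf 9412)) (.leaf 4054))) (.node (.node (.node (.leaf 776) (.leaf 7231)) (.leaf 3304)) (.node (.node (.leaf 1944)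 (.leaf 10119)) (.leaf 4903)))) (.node (.node (.node (.node (.leaf 502) (.leaf 6489)) (.leaf 2976)) (.node (.node (.leaf 1631) (.leaf 9863)) (.leaf 4453))) (.node (.node (.node (.leaf 1044) (.leaf 8074)) (.leaf 3668)) (.node (.node (.leaf 2280) (.leaf 10375)) (.leaf 5406))))))) (.node (.node (.node (.node (.node (.node (.node (.leaf 62) (.leaf 5554)) (.leaf 2447)) (.node (.node (.leaf 1149) (.leaf 8533)) (.leaf 3807))) (.node (.node (.node (.leaf 610) (.leaf 6803)) (.leaf 3090)) (.node (.node (.leaf 1744) (.leaf 9959)) (.leaf 4619)))) (.node (.node (.node (.node (.leaf 325) (.leaf 6059)) (.leaf 2788)) (.node (.node (.leaf 1436) (.leaf 9703)) (.leaf 4203))) (.node (.node (.node (.leaf 878) (.leaf 7493)) (.leaf 3436)) (.node (.node (.leaf 2060) (.leaf 10215)) (.leaf 5111))))) (.node (.node (.node (.node (.node (.leaf 190) (.leaf 5791)) (.leaf 2621)) (.node (.node (.leaf 1295) (.leaf 9260)) (.leaf 4001))) (.node (.node (.node (.leaf 741) (.leaf 7161)) (.leaf 3261)) (.node (.node (.leaf 1902) (.leaf 10087)) (.leaf 4838)))) (.node (.node (.node (.node (.leaf 463)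 (.leaf 6432)) (.leaf 2937)) (.node (.node (.leaf 1594) (.leaf 9831)) (.leaf 4410))) (.node (.node (.node (.leaf 1010) (.leaf 7974)) (.leaf 3617)) (.node (.node (.leaf 2235) (.leaf 10343)) (.leaf 5349)))))) (.node (.node (.node (.node (.node (.node (.leaf 126) (.leaf 5662)) (.leaf 2532)) (.node (.node (.leaf 1221) (.leaf 8964)) (.leaf 3916))) (.node (.node (.node (.leaf 674) (.leaf 7008)) (.leaf 3176)) (.node (.node (.leaf 1826) (.leaf 10023)) (.leaf 4732)))) (.node (.node (.node (.node (.leaf 394) (.leaf 6216)) (.leaf 2863)) (.node (.node (.leaf 1508) (.leaf 9767)) (.leaf 4304))) (.node (.node (.node (.leaf 944) (.leaf 7738)) (.leaf 3522)) (.node (.node (.leaf 2146) (.leaf 10279)) (.leaf 5226))))) (.node (.node (.node (.node (.node (.leaf 255) (.leaf 5931)) (.leaf 2705)) (.node (.node (.leaf 1366) (.leaf 9566)) (.leaf 4105))) (.node (.node (.node (.leaf 810) (.leaf 7313)) (.leaf 3348)) (.node (.node (.leaf 1981) (.leaf 10151)) (.leaf 4995)))) (.node (.node (.node (.node (.leaf 537) (.leaf 6585)) (.leaf 3016)) (.node (.node (.leaf 1667) (.leaf 9895)) (.leaf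 4513))) (.node (.node (.node (.leaf 1077) (.leaf 8207)) (.leaf 3716)) (.node (.node (.leaf 2335) (.leaf 10407)) (.leaf 5460)))))))))))

noncomputable def liveA3 : Arr ℕ :=
  (.node (.node (.node (.node (.node (.node (.node (.node (.node (.node (.node (.leaf 3) (.leaf 5466)) (.node (.leaf 2355) (.leaf 10412))) (.node (.node (.leaf 1082) (.leaf 8229)) (.leaf 3724))) (.node (.node (.node (.leaf 543) (.leaf 6613)) (.leaf 3021)) (.node (.node (.leaf 1672) (.leaf 9900)) (.leaf 4524)))) (.node (.node (.node (.node (.leaf 260) (.leaf 5948)) (.leaf 2710)) (.node (.node (.leaf 1371) (.leaf 9614)) (.leaf 4110))) (.node (.node (.node (.leaf 818) (.leaf 7323)) (.leaf 3355)) (.node (.node (.leaf 1986) (.leaf 10156)) (.leaf 5008))))) (.node (.node (.node (.node (.node (.leaf 131) (.leaf 5674)) (.leaf 2538)) (.node (.node (.leaf 1226) (.leaf 8973)) (.leaf 3927))) (.node (.node (.node (.leaf 679) (.leaf 7030)) (.leaf 3181)) (.node (.node (.leaf 1832) (.leaf 10028)) (.leaf 4739)))) (.node (.node (.node (.node (.leaf 400) (.leaf 6227)) (.leaf 2870)) (.node (.node (.leaf 1514)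 (.leaf 9772)) (.leaf 4317))) (.node (.node (.node (.leaf 949) (.leaf 7748)) (.leaf 3529)) (.node (.node (.leaf 2153) (.leaf 10284)) (.leaf 5237)))))) (.node (.node (.node (.node (.node (.node (.leaf 67) (.leaf 5564)) (.leaf 2452)) (.node (.node (.leaf 1158) (.leaf 8573)) (.leaf 3818))) (.node (.node (.node (.leaf 615) (.leaf 6817)) (.leaf 3096)) (.node (.node (.leaf 1750) (.leaf 9964)) (.leaf 4630)))) (.node (.node (.node (.node (.leaf 330) (.leaf 6074)) (.leaf 2796)) (.node (.node (.leaf 1442) (.leaf 9708)) (.leaf 4217))) (.node (.node (.node (.leaf 883) (.leaf 7510)) (.leaf 3445)) (.node (.node (.leaf 2066) (.leaf 10220)) (.leaf 5118))))) (.node (.node (.node (.node (.node (.leaf 195) (.leaf 5806)) (.leaf 2627)) (.node (.node (.leaf 1300) (.leaf 9289)) (.leaf 4008))) (.node (.node (.node (.leaf 746) (.leaf 7171)) (.leaf 3267)) (.node (.node (.leaf 1908) (.leaf 10092)) (.leaf 4846)))) (.node (.node (.node (.node (.leaf 470) (.leaf 6442)) (.leaf 2942)) (.node (.node (.leaf 1601) (.leaf 9836)) (.leaf 4418))) (.node (.node (.node (.leaf 1016) (.leaf 7994))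 (.leaf 3622)) (.node (.node (.leaf 2240) (.leaf 10348)) (.leaf 5355))))))) (.node (.node (.node (.node (.node (.node (.node (.leaf 35) (.leaf 5514)) (.leaf 2402)) (.node (.node (.leaf 1118) (.leaf 8412)) (.leaf 3774))) (.node (.node (.node (.leaf 578) (.leaf 6709)) (.leaf 3058)) (.node (.node (.leaf 1710) (.leaf 9932)) (.leaf 4575)))) (.node (.node (.node (.node (.leaf 294) (.leaf 6009)) (.leaf 2748)) (.node (.node (.leaf 1407) (.leaf 9676)) (.leaf 4158))) (.node (.node (.node (.leaf 851) (.leaf 7407)) (.leaf 3399)) (.node (.node (.leaf 2024) (.leaf 10188)) (.leaf 5054))))) (.node (.node (.node (.node (.node (.leaf 163) (.leaf 5737)) (.leaf 2584)) (.node (.node (.leaf 1262) (.leaf 9104)) (.leaf 3970))) (.node (.node (.node (.leaf 713) (.leaf 7096)) (.leaf 3222)) (.node (.node (.leaf 1870) (.leaf 10060)) (.leaf 4797)))) (.node (.node (.node (.node (.leaf 436) (.leaf 6342)) (.leaf 2908)) (.node (.node (.leaf 1557) (.leaf 9804)) (.leaf 4368))) (.node (.node (.node (.leaf 982) (.leaf 7864)) (.leaf 3577)) (.node (.node (.leaf 2194) (.leaf 10316)) (.leaf 5314))))))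 (.node (.node (.node (.node (.node (.node (.leaf 99) (.leaf 5610)) (.leaf 2494)) (.node (.node (.leaf 1192) (.leaf 8778)) (.leaf 3872))) (.node (.node (.node (.leaf 647) (.leaf 6932)) (.leaf 3140)) (.node (.node (.leaf 1791) (.leaf 9996)) (.leaf 4680)))) (.node (.node (.node (.node (.leaf 365) (.leaf 6150)) (.leaf 2834)) (.node (.node (.leaf 1477) (.leaf 9740)) (.leaf 4267))) (.node (.node (.node (.leaf 916) (.leaf 7609)) (.leaf 3485)) (.node (.node (.leaf 2114) (.leaf 10252)) (.leaf 5170))))) (.node (.node (.node (.node (.node (.leaf 228) (.leaf 5880)) (.leaf 2672)) (.node (.node (.leaf 1336) (.leaf 9418)) (.leaf 4061))) (.node (.node (.node (.leaf 781) (.leaf 7248)) (.leaf 3310)) (.node (.node (.leaf 1950) (.leaf 10124)) (.leaf 4912)))) (.node (.node (.node (.node (.leaf 508) (.leaf 6497)) (.leaf 2983)) (.node (.node (.leaf 1636) (.leaf 9868)) (.leaf 4470))) (.node (.node (.node (.leaf 1049) (.leaf 8092)) (.leaf 3675)) (.node (.node (.leaf 2287) (.leaf 10380)) (.leaf 5416)))))))) (.node (.node (.node (.node (.node (.node (.node (.node (.leaf 19) (.leaf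 5491)) (.leaf 2380)) (.node (.node (.leaf 1101) (.leaf 8312)) (.leaf 3757))) (.node (.node (.node (.leaf 561) (.leaf 6646)) (.leaf 3042)) (.node (.node (.leaf 1690) (.leaf 9916)) (.leaf 4545)))) (.node (.node (.node (.node (.leaf 278) (.leaf 5975)) (.leaf 2728)) (.node (.node (.leaf 1390) (.leaf 9660)) (.leaf 4136))) (.node (.node (.node (.leaf 834) (.leaf 7358)) (.leaf 3377)) (.node (.node (.leaf 2006) (.leaf 10172)) (.leaf 5031))))) (.node (.node (.node (.node (.node (.leaf 147) (.leaf 5705)) (.leaf 2560)) (.node (.node (.leaf 1244) (.leaf 9044)) (.leaf 3950))) (.node (.node (.node (.leaf 695) (.leaf 7061)) (.leaf 3201)) (.node (.node (.leaf 1850) (.leaf 10044)) (.leaf 4771)))) (.node (.node (.node (.node (.leaf 420) (.leaf 6281)) (.leaf 2890)) (.node (.node (.leaf 1534) (.leaf 9788)) (.leaf 4348))) (.node (.node (.node (.leaf 966) (.leaf 7824)) (.leaf 3553)) (.node (.node (.leaf 2170) (.leaf 10300)) (.leaf 5273)))))) (.node (.node (.node (.node (.node (.node (.leaf 83) (.leaf 5586)) (.leaf 2475)) (.node (.node (.leaf 1174) (.leaf 8666)) (.leaf 3839)))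 (.node (.node (.node (.leaf 631) (.leaf 6860)) (.leaf 3115)) (.node (.node (.leaf 1772) (.leaf 9980)) (.leaf 4649)))) (.node (.node (.node (.node (.leaf 347) (.leaf 6109)) (.leaf 2815)) (.node (.node (.leaf 1460) (.leaf 9724)) (.leaf 4248))) (.node (.node (.node (.leaf 899) (.leaf 7562)) (.leaf 3464)) (.node (.node (.leaf 2092) (.leaf 10236)) (.leaf 5137))))) (.node (.node (.node (.node (.node (.leaf 212) (.leaf 5846)) (.leaf 2650)) (.node (.node (.leaf 1318) (.leaf 9368)) (.leaf 4031))) (.node (.node (.node (.leaf 763) (.leaf 7207)) (.leaf 3290)) (.node (.node (.leaf 1931) (.leaf 10108)) (.leaf 4886)))) (.node (.node (.node (.node (.leaf 488) (.leaf 6473)) (.leaf 2961)) (.node (.node (.leaf 1620) (.leaf 9852)) (.leaf 4436))) (.node (.node (.node (.leaf 1033) (.leaf 8031)) (.leaf 3647)) (.node (.node (.leaf 2258) (.leaf 10364)) (.leaf 5384))))))) (.node (.node (.node (.node (.node (.node (.node (.leaf 51) (.leaf 5536)) (.leaf 2429)) (.node (.node (.leaf 1137) (.leaf 8500)) (.leaf 3794))) (.node (.node (.node (.leaf 597) (.leaf 6773)) (.leaf 3079)) (.node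 (.node (.leaf 1730) (.leaf 9948)) (.leaf 4604)))) (.node (.node (.node (.node (.leaf 312) (.leaf 6035)) (.leaf 2773)) (.node (.node (.leaf 1423) (.leaf 9692)) (.leaf 4179))) (.node (.node (.node (.leaf 867) (.leaf 7443)) (.leaf 3421)) (.node (.node (.leaf 2041) (.leaf 10204)) (.leaf 5082))))) (.node (.node (.node (.node (.node (.leaf 179) (.leaf 5764)) (.leaf 2601)) (.node (.node (.leaf 1282) (.leaf 9195)) (.leaf 3990))) (.node (.node (.node (.leaf 730) (.leaf 7126)) (.leaf 3245)) (.node (.node (.leaf 1891) (.leaf 10076)) (.leaf 4826)))) (.node (.node (.node (.node (.leaf 452) (.leaf 6375)) (.leaf 2924)) (.node (.node (.leaf 1578) (.leaf 9820)) (.leaf 4397))) (.node (.node (.node (.leaf 999) (.leaf 7943)) (.leaf 3600)) (.node (.node (.leaf 2221) (.leaf 10332)) (.leaf 5335)))))) (.node (.node (.node (.node (.node (.node (.leaf 115) (.leaf 5634)) (.leaf 2516)) (.node (.node (.leaf 1210) (.leaf 8876)) (.leaf 3900))) (.node (.node (.node (.leaf 663) (.leaf 6976)) (.leaf 3163)) (.node (.node (.leaf 1809) (.leaf 10012)) (.leaf 4713)))) (.node (.node (.node (.node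 (.leaf 382) (.leaf 6178)) (.leaf 2852)) (.node (.node (.leaf 1496) (.leaf 9756)) (.leaf 4291))) (.node (.node (.node (.leaf 932) (.leaf 7678)) (.leaf 3506)) (.node (.node (.leaf 2134) (.leaf 10268)) (.leaf 5200))))) (.node (.node (.node (.node (.node (.leaf 244) (.leaf 5909)) (.leaf 2693)) (.node (.node (.leaf 1353) (.leaf 9511)) (.leaf 4084))) (.node (.node (.node (.leaf 798) (.leaf 7293)) (.leaf 3335)) (.node (.node (.leaf 1970) (.leaf 10140)) (.leaf 4971)))) (.node (.node (.node (.node (.leaf 526) (.leaf 6538)) (.leaf 3001)) (.node (.node (.leaf 1653) (.leaf 9884)) (.leaf 4494))) (.node (.node (.node (.leaf 1065) (.leaf 8140)) (.leaf 3699)) (.node (.node (.leaf 2313) (.leaf 10396)) (.leaf 5442))))))))) (.node (.node (.node (.node (.node (.node (.node (.node (.node (.leaf 11) (.leaf 5478)) (.node (.leaf 2369) (.leaf 10420))) (.node (.node (.leaf 1092) (.leaf 8259)) (.leaf 3742))) (.node (.node (.node (.leaf 552) (.leaf 6629)) (.leaf 3030)) (.node (.node (.leaf 1681) (.leaf 9908)) (.leaf 4534)))) (.node (.node (.node (.node (.leaf 270) (.leaf 5960)) (.leaf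 2719)) (.node (.node (.leaf 1379) (.leaf 9652)) (.leaf 4123))) (.node (.node (.node (.leaf 826) (.leaf 7338)) (.leaf 3367)) (.node (.node (.leaf 1994) (.leaf 10164)) (.leaf 5017))))) (.node (.node (.node (.node (.node (.leaf 139) (.leaf 5686)) (.leaf 2548)) (.node (.node (.leaf 1234) (.leaf 9004)) (.leaf 3939))) (.node (.node (.node (.leaf 687) (.leaf 7049)) (.leaf 3193)) (.node (.node (.leaf 1840) (.leaf 10036)) (.leaf 4753)))) (.node (.node (.node (.node (.leaf 410) (.leaf 6252)) (.leaf 2879)) (.node (.node (.leaf 1525) (.leaf 9780)) (.leaf 4332))) (.node (.node (.node (.leaf 958) (.leaf 7782)) (.leaf 3541)) (.node (.node (.leaf 2161) (.leaf 10292)) (.leaf 5253)))))) (.node (.node (.node (.node (.node (.node (.leaf 75) (.leaf 5578)) (.leaf 2461)) (.node (.node (.leaf 1166) (.leaf 8611)) (.leaf 3829))) (.node (.node (.node (.leaf 623) (.leaf 6848)) (.leaf 3106)) (.node (.node (.leaf 1758) (.leaf 9972)) (.leaf 4638)))) (.node (.node (.node (.node (.leaf 339) (.leaf 6091)) (.leaf 2807)) (.node (.node (.leaf 1451) (.leaf 9716)) (.leaf 4237))) (.node (.node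 (.node (.leaf 891) (.leaf 7536)) (.leaf 3454)) (.node (.node (.leaf 2077) (.leaf 10228)) (.leaf 5127))))) (.node (.node (.node (.node (.node (.leaf 204) (.leaf 5825)) (.leaf 2639)) (.node (.node (.leaf 1308) (.leaf 9320)) (.leaf 4021))) (.node (.node (.node (.leaf 755) (.leaf 7193)) (.leaf 3276)) (.node (.node (.leaf 1923) (.leaf 10100)) (.leaf 4871)))) (.node (.node (.node (.node (.leaf 479) (.leaf 6455)) (.leaf 2950)) (.node (.node (.leaf 1609) (.leaf 9844)) (.leaf 4426))) (.node (.node (.node (.leaf 1024) (.leaf 8011)) (.leaf 3633)) (.node (.node (.leaf 2248) (.leaf 10356)) (.leaf 5368))))))) (.node (.node (.node (.node (.node (.node (.node (.leaf 43) (.leaf 5526)) (.leaf 2416)) (.node (.node (.leaf 1127) (.leaf 8460)) (.leaf 3785))) (.node (.node (.node (.leaf 587) (.leaf 6748)) (.leaf 3070)) (.node (.node (.leaf 1722) (.leaf 9940)) (.leaf 4586)))) (.node (.node (.node (.node (.leaf 302) (.leaf 6023)) (.leaf 2759)) (.node (.node (.leaf 1415) (.leaf 9684)) (.leaf 4171))) (.node (.node (.node (.leaf 859) (.leaf 7430)) (.leaf 3409)) (.node (.node (.leaf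 2033) (.leaf 10196)) (.leaf 5069))))) (.node (.node (.node (.node (.node (.leaf 171) (.leaf 5747)) (.leaf 2593)) (.node (.node (.leaf 1273) (.leaf 9136)) (.leaf 3979))) (.node (.node (.node (.leaf 722) (.leaf 7112)) (.leaf 3236)) (.node (.node (.leaf 1880) (.leaf 10068)) (.leaf 4811)))) (.node (.node (.node (.node (.leaf 444) (.leaf 6356)) (.leaf 2916)) (.node (.node (.leaf 1567) (.leaf 9812)) (.leaf 4385))) (.node (.node (.node (.leaf 991) (.leaf 7909)) (.leaf 3586)) (.node (.node (.leaf 2211) (.leaf 10324)) (.leaf 5325)))))) (.node (.node (.node (.node (.node (.node (.leaf 107) (.leaf 5621)) (.leaf 2507)) (.node (.node (.leaf 1202) (.leaf 8820)) (.leaf 3882))) (.node (.node (.node (.leaf 655) (.leaf 6956)) (.leaf 3151)) (.node (.node (.leaf 1800) (.leaf 10004)) (.leaf 4700)))) (.node (.node (.node (.node (.leaf 374) (.leaf 6163)) (.leaf 2843)) (.node (.node (.leaf 1486) (.leaf 9748)) (.leaf 4277))) (.node (.node (.node (.leaf 924) (.leaf 7639)) (.leaf 3495)) (.node (.node (.leaf 2124) (.leaf 10260)) (.leaf 5184))))) (.node (.node (.node (.node (.node (.leaf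 236) (.leaf 5896)) (.leaf 2682)) (.node (.node (.leaf 1344) (.leaf 9472)) (.leaf 4074))) (.node (.node (.node (.leaf 790) (.leaf 7269)) (.leaf 3320)) (.node (.node (.leaf 1961) (.leaf 10132)) (.leaf 4944)))) (.node (.node (.node (.node (.leaf 516) (.leaf 6510)) (.leaf 2991)) (.node (.node (.leaf 1644) (.leaf 9876)) (.leaf 4484))) (.node (.node (.node (.leaf 1057) (.leaf 8110)) (.leaf 3689)) (.node (.node (.leaf 2297) (.leaf 10388)) (.leaf 5429)))))))) (.node (.node (.node (.node (.node (.node (.node (.node (.leaf 27) (.leaf 5501)) (.leaf 2390)) (.node (.node (.leaf 1109) (.leaf 8365)) (.leaf 3765))) (.node (.node (.node (.leaf 569) (.leaf 6674)) (.leaf 3050)) (.node (.node (.leaf 1700) (.leaf 9924)) (.leaf 4558)))) (.node (.node (.node (.node (.leaf 286) (.leaf 5987)) (.leaf 2736)) (.node (.node (.leaf 1399) (.leaf 9668)) (.leaf 4147))) (.node (.node (.node (.leaf 843) (.leaf 7382)) (.leaf 3389)) (.node (.node (.leaf 2014) (.leaf 10180)) (.leaf 5043))))) (.node (.node (.node (.node (.node (.leaf 155) (.leaf 5721)) (.leaf 2570)) (.node (.node (.leaf 1253)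 (.leaf 9073)) (.leaf 3960))) (.node (.node (.node (.leaf 705) (.leaf 7081)) (.leaf 3211)) (.node (.node (.leaf 1860) (.leaf 10052)) (.leaf 4784)))) (.node (.node (.node (.node (.leaf 428) (.leaf 6313)) (.leaf 2899)) (.node (.node (.leaf 1545) (.leaf 9796)) (.leaf 4357))) (.node (.node (.node (.leaf 974) (.leaf 7844)) (.leaf 3568)) (.node (.node (.leaf 2180) (.leaf 10308)) (.leaf 5291)))))) (.node (.node (.node (.node (.node (.node (.leaf 91) (.leaf 5599)) (.leaf 2484)) (.node (.node (.leaf 1184) (.leaf 8748)) (.leaf 3863))) (.node (.node (.node (.leaf 639) (.leaf 6894)) (.leaf 3127)) (.node (.node (.leaf 1781) (.leaf 9988)) (.leaf 4663)))) (.node (.node (.node (.node (.leaf 357) (.leaf 6129)) (.leaf 2825)) (.node (.node (.leaf 1469) (.leaf 9732)) (.leaf 4257))) (.node (.node (.node (.leaf 908) (.leaf 7585)) (.leaf 3474)) (.node (.node (.leaf 2102) (.leaf 10244)) (.leaf 5150))))) (.node (.node (.node (.node (.node (.leaf 220) (.leaf 5859)) (.leaf 2661)) (.node (.node (.leaf 1327) (.leaf 9404)) (.leaf 4049))) (.node (.node (.node (.leaf 773) (.leaf 7220))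 (.leaf 3300)) (.node (.node (.leaf 1941) (.leaf 10116)) (.leaf 4899)))) (.node (.node (.node (.node (.leaf 499) (.leaf 6484)) (.leaf 2972)) (.node (.node (.leaf 1628) (.leaf 9860)) (.leaf 4448))) (.node (.node (.node (.leaf 1041) (.leaf 8068)) (.leaf 3663)) (.node (.node (.leaf 2271) (.leaf 10372)) (.leaf 5403))))))) (.node (.node (.node (.node (.node (.node (.node (.leaf 59) (.leaf 5549)) (.leaf 2443)) (.node (.node (.leaf 1146) (.leaf 8526)) (.leaf 3804))) (.node (.node (.node (.leaf 607) (.leaf 6796)) (.leaf 3087)) (.node (.node (.leaf 1741) (.leaf 9956)) (.leaf 4613)))) (.node (.node (.node (.node (.leaf 322) (.leaf 6054)) (.leaf 2784)) (.node (.node (.leaf 1433) (.leaf 9700)) (.leaf 4194))) (.node (.node (.node (.leaf 875) (.leaf 7486)) (.leaf 3433)) (.node (.node (.leaf 2057) (.leaf 10212)) (.leaf 5106))))) (.node (.node (.node (.node (.node (.leaf 187) (.leaf 5782)) (.leaf 2617)) (.node (.node (.leaf 1292) (.leaf 9250)) (.leaf 3998))) (.node (.node (.node (.leaf 738) (.leaf 7149)) (.leaf 3258)) (.node (.node (.leaf 1899) (.leaf 10084)) (.leaf 4835))))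 (.node (.node (.node (.node (.leaf 460) (.leaf 6417)) (.leaf 2933)) (.node (.node (.leaf 1591) (.leaf 9828)) (.leaf 4406))) (.node (.node (.node (.leaf 1007) (.leaf 7967)) (.leaf 3612)) (.node (.node (.leaf 2231) (.leaf 10340)) (.leaf 5346)))))) (.node (.node (.node (.node (.node (.node (.leaf 123) (.leaf 5654)) (.leaf 2525)) (.node (.node (.leaf 1218) (.leaf 8938)) (.leaf 3912))) (.node (.node (.node (.leaf 671) (.leaf 6994)) (.leaf 3173)) (.node (.node (.leaf 1823) (.leaf 10020)) (.leaf 4728)))) (.node (.node (.node (.node (.leaf 391) (.leaf 6204)) (.leaf 2860)) (.node (.node (.leaf 1504) (.leaf 9764)) (.leaf 4300))) (.node (.node (.node (.leaf 941) (.leaf 7724)) (.leaf 3517)) (.node (.node (.leaf 2142) (.leaf 10276)) (.leaf 5220))))) (.node (.node (.node (.node (.node (.leaf 252) (.leaf 5927)) (.leaf 2701)) (.node (.node (.leaf 1362) (.leaf 9545)) (.leaf 4098))) (.node (.node (.node (.leaf 807) (.leaf 7310)) (.leaf 3345)) (.node (.node (.leaf 1978) (.leaf 10148)) (.leaf 4991)))) (.node (.node (.node (.node (.leaf 534) (.leaf 6570)) (.leaf 3010)) (.node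 (.node (.leaf 1662) (.leaf 9892)) (.leaf 4504))) (.node (.node (.node (.leaf 1073) (.leaf 8183)) (.leaf 3712)) (.node (.node (.leaf 2331) (.leaf 10404)) (.leaf 5455)))))))))) (.node (.node (.node (.node (.node (.node (.node (.node (.node (.node (.leaf 7) (.leaf 5474)) (.node (.leaf 2363) (.leaf 10416))) (.node (.node (.leaf 1086) (.leaf 8250)) (.leaf 3736))) (.node (.node (.node (.leaf 547) (.leaf 6620)) (.leaf 3026)) (.node (.node (.leaf 1677) (.leaf 9904)) (.leaf 4528)))) (.node (.node (.node (.node (.leaf 265) (.leaf 5955)) (.leaf 2715)) (.node (.node (.leaf 1375) (.leaf 9643)) (.leaf 4116))) (.node (.node (.node (.leaf 822) (.leaf 7329)) (.leaf 3361)) (.node (.node (.leaf 1990) (.leaf 10160)) (.leaf 5013))))) (.node (.node (.node (.node (.node (.leaf 135) (.leaf 5682)) (.leaf 2543)) (.node (.node (.leaf 1230) (.leaf 8995)) (.leaf 3934))) (.node (.node (.node (.leaf 683) (.leaf 7037)) (.leaf 3187)) (.node (.node (.leaf 1836) (.leaf 10032)) (.leaf 4746)))) (.node (.node (.node (.node (.leaf 406) (.leaf 6243)) (.leaf 2875)) (.node (.node (.leaf 1520) (.leaf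 9776)) (.leaf 4326))) (.node (.node (.node (.leaf 954) (.leaf 7768)) (.leaf 3533)) (.node (.node (.leaf 2157) (.leaf 10288)) (.leaf 5244)))))) (.node (.node (.node (.node (.node (.node (.leaf 71) (.leaf 5571)) (.leaf 2456)) (.node (.node (.leaf 1162) (.leaf 8590)) (.leaf 3824))) (.node (.node (.node (.leaf 619) (.leaf 6824)) (.leaf 3101)) (.node (.node (.leaf 1754) (.leaf 9968)) (.leaf 4634)))) (.node (.node (.node (.node (.leaf 334) (.leaf 6083)) (.leaf 2802)) (.node (.node (.leaf 1446) (.leaf 9712)) (.leaf 4222))) (.node (.node (.node (.leaf 887) (.leaf 7519)) (.leaf 3450)) (.node (.node (.leaf 2070) (.leaf 10224)) (.leaf 5122))))) (.node (.node (.node (.node (.node (.leaf 199) (.leaf 5817)) (.leaf 2633)) (.node (.node (.leaf 1304) (.leaf 9313)) (.leaf 4016))) (.node (.node (.node (.leaf 750) (.leaf 7184)) (.leaf 3272)) (.node (.node (.leaf 1915) (.leaf 10096)) (.leaf 4865)))) (.node (.node (.node (.node (.leaf 475) (.leaf 6449)) (.leaf 2946)) (.node (.node (.leaf 1605) (.leaf 9840)) (.leaf 4422))) (.node (.node (.node (.leaf 1020) (.leaf 7998)) (.leaf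 3626)) (.node (.node (.leaf 2244) (.leaf 10352)) (.leaf 5362))))))) (.node (.node (.node (.node (.node (.node (.node (.leaf 39) (.leaf 5521)) (.leaf 2407)) (.node (.node (.leaf 1122) (.leaf 8431)) (.leaf 3779))) (.node (.node (.node (.leaf 582) (.leaf 6738)) (.leaf 3062)) (.node (.node (.leaf 1715) (.leaf 9936)) (.leaf 4582)))) (.node (.node (.node (.node (.leaf 298) (.leaf 6019)) (.leaf 2753)) (.node (.node (.leaf 1411) (.leaf 9680)) (.leaf 4167))) (.node (.node (.node (.leaf 855) (.leaf 7412)) (.leaf 3404)) (.node (.node (.leaf 2028) (.leaf 10192)) (.leaf 5059))))) (.node (.node (.node (.node (.node (.leaf 167) (.leaf 5742)) (.leaf 2588)) (.node (.node (.leaf 1269) (.leaf 9114)) (.leaf 3974))) (.node (.node (.node (.leaf 718) (.leaf 7100)) (.leaf 3230)) (.node (.node (.leaf 1874) (.leaf 10064)) (.leaf 4801)))) (.node (.node (.node (.node (.leaf 440) (.leaf 6350)) (.leaf 2912)) (.node (.node (.leaf 1562) (.leaf 9808)) (.leaf 4378))) (.node (.node (.node (.leaf 987) (.leaf 7884)) (.leaf 3582)) (.node (.node (.leaf 2199) (.leaf 10320)) (.leaf 5320)))))) (.node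 (.node (.node (.node (.node (.node (.leaf 103) (.leaf 5615)) (.leaf 2500)) (.node (.node (.leaf 1196) (.leaf 8804)) (.leaf 3878))) (.node (.node (.node (.leaf 651) (.leaf 6948)) (.leaf 3146)) (.node (.node (.leaf 1796) (.leaf 10000)) (.leaf 4689)))) (.node (.node (.node (.node (.leaf 370) (.leaf 6157)) (.leaf 2838)) (.node (.node (.leaf 1482) (.leaf 9744)) (.leaf 4271))) (.node (.node (.node (.leaf 920) (.leaf 7625)) (.leaf 3489)) (.node (.node (.leaf 2118) (.leaf 10256)) (.leaf 5177))))) (.node (.node (.node (.node (.node (.leaf 232) (.leaf 5890)) (.leaf 2676)) (.node (.node (.leaf 1340) (.leaf 9442)) (.leaf 4065))) (.node (.node (.node (.leaf 786) (.leaf 7259)) (.leaf 3315)) (.node (.node (.leaf 1955) (.leaf 10128)) (.leaf 4939)))) (.node (.node (.node (.node (.leaf 512) (.leaf 6503)) (.leaf 2987)) (.node (.node (.leaf 1640) (.leaf 9872)) (.leaf 4478))) (.node (.node (.node (.leaf 1053) (.leaf 8100)) (.leaf 3682)) (.node (.node (.leaf 2292) (.leaf 10384)) (.leaf 5423)))))))) (.node (.node (.node (.node (.node (.node (.node (.node (.leaf 23) (.leaf 5496))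 (.leaf 2385)) (.node (.node (.leaf 1105) (.leaf 8350)) (.leaf 3761))) (.node (.node (.node (.leaf 565) (.leaf 6656)) (.leaf 3046)) (.node (.node (.leaf 1696) (.leaf 9920)) (.leaf 4550)))) (.node (.node (.node (.node (.leaf 282) (.leaf 5982)) (.leaf 2732)) (.node (.node (.leaf 1394) (.leaf 9664)) (.leaf 4141))) (.node (.node (.node (.leaf 839) (.leaf 7374)) (.leaf 3383)) (.node (.node (.leaf 2010) (.leaf 10176)) (.leaf 5037))))) (.node (.node (.node (.node (.node (.leaf 151) (.leaf 5713)) (.leaf 2565)) (.node (.node (.leaf 1249) (.leaf 9060)) (.leaf 3955))) (.node (.node (.node (.leaf 700) (.leaf 7072)) (.leaf 3205)) (.node (.node (.leaf 1854) (.leaf 10048)) (.leaf 4778)))) (.node (.node (.node (.node (.leaf 424) (.leaf 6300)) (.leaf 2895)) (.node (.node (.leaf 1540) (.leaf 9792)) (.leaf 4353))) (.node (.node (.node (.leaf 970) (.leaf 7836)) (.leaf 3558)) (.node (.node (.leaf 2174) (.leaf 10304)) (.leaf 5286)))))) (.node (.node (.node (.node (.node (.node (.leaf 87) (.leaf 5591)) (.leaf 2480)) (.node (.node (.leaf 1178) (.leaf 8728)) (.leaf 3853))) (.node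 (.node (.node (.leaf 635) (.leaf 6876)) (.leaf 3119)) (.node (.node (.leaf 1777) (.leaf 9984)) (.leaf 4658)))) (.node (.node (.node (.node (.leaf 352) (.leaf 6122)) (.leaf 2820)) (.node (.node (.leaf 1464) (.leaf 9728)) (.leaf 4252))) (.node (.node (.node (.leaf 903) (.leaf 7577)) (.leaf 3470)) (.node (.node (.leaf 2098) (.leaf 10240)) (.leaf 5144))))) (.node (.node (.node (.node (.node (.leaf 216) (.leaf 5853)) (.leaf 2654)) (.node (.node (.leaf 1322) (.leaf 9381)) (.leaf 4040))) (.node (.node (.node (.leaf 769) (.leaf 7212)) (.leaf 3296)) (.node (.node (.leaf 1937) (.leaf 10112)) (.leaf 4891)))) (.node (.node (.node (.node (.leaf 492) (.leaf 6477)) (.leaf 2967)) (.node (.node (.leaf 1624) (.leaf 9856)) (.leaf 4440))) (.node (.node (.node (.leaf 1037) (.leaf 8054)) (.leaf 3657)) (.node (.node (.leaf 2263) (.leaf 10368)) (.leaf 5391))))))) (.node (.node (.node (.node (.node (.node (.node (.leaf 55) (.leaf 5540)) (.leaf 2437)) (.node (.node (.leaf 1141) (.leaf 8515)) (.leaf 3799))) (.node (.node (.node (.leaf 603) (.leaf 6782)) (.leaf 3083)) (.node (.node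 (.leaf 1735) (.leaf 9952)) (.leaf 4609)))) (.node (.node (.node (.node (.leaf 317) (.leaf 6043)) (.leaf 2780)) (.node (.node (.leaf 1428) (.leaf 9696)) (.leaf 4186))) (.node (.node (.node (.leaf 871) (.leaf 7463)) (.leaf 3426)) (.node (.node (.leaf 2049) (.leaf 10208)) (.leaf 5096))))) (.node (.node (.node (.node (.node (.leaf 183) (.leaf 5770)) (.leaf 2606)) (.node (.node (.leaf 1286) (.leaf 9232)) (.leaf 3994))) (.node (.node (.node (.leaf 734) (.leaf 7143)) (.leaf 3250)) (.node (.node (.leaf 1895) (.leaf 10080)) (.leaf 4831)))) (.node (.node (.node (.node (.leaf 456) (.leaf 6401)) (.leaf 2928)) (.node (.node (.leaf 1582) (.leaf 9824)) (.leaf 4402))) (.node (.node (.node (.leaf 1003) (.leaf 7956)) (.leaf 3606)) (.node (.node (.leaf 2227) (.leaf 10336)) (.leaf 5340)))))) (.node (.node (.node (.node (.node (.node (.leaf 119) (.leaf 5643)) (.leaf 2520)) (.node (.node (.leaf 1214) (.leaf 8910)) (.leaf 3906))) (.node (.node (.node (.leaf 667) (.leaf 6983)) (.leaf 3168)) (.node (.node (.leaf 1814) (.leaf 10016)) (.leaf 4723)))) (.node (.node (.node (.node (.leaf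 387) (.leaf 6189)) (.leaf 2856)) (.node (.node (.leaf 1500) (.leaf 9760)) (.leaf 4295))) (.node (.node (.node (.leaf 937) (.leaf 7706)) (.leaf 3510)) (.node (.node (.leaf 2138) (.leaf 10272)) (.leaf 5206))))) (.node (.node (.node (.node (.node (.leaf 248) (.leaf 5921)) (.leaf 2697)) (.node (.node (.leaf 1357) (.leaf 9538)) (.leaf 4088))) (.node (.node (.node (.leaf 802) (.leaf 7298)) (.leaf 3340)) (.node (.node (.leaf 1974) (.leaf 10144)) (.leaf 4985)))) (.node (.node (.node (.node (.leaf 530) (.leaf 6552)) (.leaf 3005)) (.node (.node (.leaf 1658) (.leaf 9888)) (.leaf 4499))) (.node (.node (.node (.leaf 1069) (.leaf 8161)) (.leaf 3704)) (.node (.node (.leaf 2325) (.leaf 10400)) (.leaf 5450))))))))) (.node (.node (.node (.node (.node (.node (.node (.node (.node (.leaf 15) (.leaf 5486)) (.leaf 2373)) (.node (.node (.leaf 1097) (.leaf 8279)) (.leaf 3748))) (.node (.node (.node (.leaf 557) (.leaf 6637)) (.leaf 3037)) (.node (.node (.leaf 1686) (.leaf 9912)) (.leaf 4540)))) (.node (.node (.node (.node (.leaf 274) (.leaf 5969)) (.leaf 2723)) (.node (.node (.leaf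 1384) (.leaf 9656)) (.leaf 4131))) (.node (.node (.node (.leaf 830) (.leaf 7348)) (.leaf 3372)) (.node (.node (.leaf 2000) (.leaf 10168)) (.leaf 5025))))) (.node (.node (.node (.node (.node (.leaf 143) (.leaf 5694)) (.leaf 2554)) (.node (.node (.leaf 1238) (.leaf 9023)) (.leaf 3943))) (.node (.node (.node (.leaf 691) (.leaf 7053)) (.leaf 3197)) (.node (.node (.leaf 1845) (.leaf 10040)) (.leaf 4758)))) (.node (.node (.node (.node (.leaf 416) (.leaf 6271)) (.leaf 2885)) (.node (.node (.leaf 1529) (.leaf 9784)) (.leaf 4341))) (.node (.node (.node (.leaf 962) (.leaf 7789)) (.leaf 3547)) (.node (.node (.leaf 2166) (.leaf 10296)) (.leaf 5262)))))) (.node (.node (.node (.node (.node (.node (.leaf 79) (.leaf 5582)) (.leaf 2469)) (.node (.node (.leaf 1170) (.leaf 8637)) (.leaf 3833))) (.node (.node (.node (.leaf 627) (.leaf 6853)) (.leaf 3110)) (.node (.node (.leaf 1768) (.leaf 9976)) (.leaf 4644)))) (.node (.node (.node (.node (.leaf 343) (.leaf 6096)) (.leaf 2811)) (.node (.node (.leaf 1455) (.leaf 9720)) (.leaf 4244))) (.node (.node (.node (.leaf 895) (.leaf 7544))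 (.leaf 3459)) (.node (.node (.leaf 2087) (.leaf 10232)) (.leaf 5131))))) (.node (.node (.node (.node (.node (.leaf 208) (.leaf 5833)) (.leaf 2644)) (.node (.node (.leaf 1313) (.leaf 9343)) (.leaf 4025))) (.node (.node (.node (.leaf 759) (.leaf 7202)) (.leaf 3286)) (.node (.node (.leaf 1927) (.leaf 10104)) (.leaf 4881)))) (.node (.node (.node (.node (.leaf 484) (.leaf 6463)) (.leaf 2955)) (.node (.node (.leaf 1615) (.leaf 9848)) (.leaf 4431))) (.node (.node (.node (.leaf 1029) (.leaf 8018)) (.leaf 3638)) (.node (.node (.leaf 2253) (.leaf 10360)) (.leaf 5379))))))) (.node (.node (.node (.node (.node (.node (.node (.leaf 47) (.leaf 5532)) (.leaf 2423)) (.node (.node (.leaf 1133) (.leaf 8479)) (.leaf 3789))) (.node (.node (.node (.leaf 593) (.leaf 6766)) (.leaf 3074)) (.node (.node (.leaf 1726) (.leaf 9944)) (.leaf 4594)))) (.node (.node (.node (.node (.leaf 308) (.leaf 6029)) (.leaf 2764)) (.node (.node (.leaf 1419) (.leaf 9688)) (.leaf 4175))) (.node (.node (.node (.leaf 863) (.leaf 7438)) (.leaf 3415)) (.node (.node (.leaf 2037) (.leaf 10200)) (.leaf 5077)))))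 (.node (.node (.node (.node (.node (.leaf 175) (.leaf 5753)) (.leaf 2597)) (.node (.node (.leaf 1278) (.leaf 9158)) (.leaf 3983))) (.node (.node (.node (.leaf 726) (.leaf 7121)) (.leaf 3241)) (.node (.node (.leaf 1886) (.leaf 10072)) (.leaf 4819)))) (.node (.node (.node (.node (.leaf 448) (.leaf 6366)) (.leaf 2920)) (.node (.node (.leaf 1572) (.leaf 9816)) (.leaf 4390))) (.node (.node (.node (.leaf 995) (.leaf 7936)) (.leaf 3591)) (.node (.node (.leaf 2216) (.leaf 10328)) (.leaf 5331)))))) (.node (.node (.node (.node (.node (.node (.leaf 111) (.leaf 5628)) (.leaf 2512)) (.node (.node (.leaf 1206) (.leaf 8836)) (.leaf 3890))) (.node (.node (.node (.leaf 659) (.leaf 6970)) (.leaf 3155)) (.node (.node (.leaf 1804) (.leaf 10008)) (.leaf 4707)))) (.node (.node (.node (.node (.leaf 378) (.leaf 6169)) (.leaf 2848)) (.node (.node (.leaf 1492) (.leaf 9752)) (.leaf 4281))) (.node (.node (.node (.leaf 928) (.leaf 7658)) (.leaf 3502)) (.node (.node (.leaf 2129) (.leaf 10264)) (.leaf 5193))))) (.node (.node (.node (.node (.node (.leaf 240) (.leaf 5904)) (.leaf 2687))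 (.node (.node (.leaf 1349) (.leaf 9484)) (.leaf 4080))) (.node (.node (.node (.leaf 794) (.leaf 7285)) (.leaf 3328)) (.node (.node (.leaf 1966) (.leaf 10136)) (.leaf 4960)))) (.node (.node (.node (.node (.leaf 522) (.leaf 6528)) (.leaf 2996)) (.node (.node (.leaf 1649) (.leaf 9880)) (.leaf 4489))) (.node (.node (.node (.leaf 1061) (.leaf 8129)) (.leaf 3695)) (.node (.node (.leaf 2308) (.leaf 10392)) (.leaf 5435)))))))) (.node (.node (.node (.node (.node (.node (.node (.node (.leaf 31) (.leaf 5507)) (.leaf 2396)) (.node (.node (.leaf 1114) (.leaf 8383)) (.leaf 3770))) (.node (.node (.node (.leaf 574) (.leaf 6692)) (.leaf 3054)) (.node (.node (.leaf 1705) (.leaf 9928)) (.leaf 4569)))) (.node (.node (.node (.node (.leaf 290) (.leaf 5992)) (.leaf 2742)) (.node (.node (.leaf 1403) (.leaf 9672)) (.leaf 4152))) (.node (.node (.node (.leaf 847) (.leaf 7391)) (.leaf 3393)) (.node (.node (.leaf 2019) (.leaf 10184)) (.leaf 5049))))) (.node (.node (.node (.node (.node (.leaf 159) (.leaf 5728)) (.leaf 2575)) (.node (.node (.leaf 1258) (.leaf 9089)) (.leaf 3964))) (.node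 (.node (.node (.leaf 709) (.leaf 7086)) (.leaf 3215)) (.node (.node (.leaf 1866) (.leaf 10056)) (.leaf 4791)))) (.node (.node (.node (.node (.leaf 432) (.leaf 6319)) (.leaf 2903)) (.node (.node (.leaf 1553) (.leaf 9800)) (.leaf 4364))) (.node (.node (.node (.leaf 978) (.leaf 7859)) (.leaf 3573)) (.node (.node (.leaf 2187) (.leaf 10312)) (.leaf 5297)))))) (.node (.node (.node (.node (.node (.node (.leaf 95) (.leaf 5605)) (.leaf 2489)) (.node (.node (.leaf 1188) (.leaf 8772)) (.leaf 3868))) (.node (.node (.node (.leaf 643) (.leaf 6922)) (.leaf 3134)) (.node (.node (.leaf 1786) (.leaf 9992)) (.leaf 4675)))) (.node (.node (.node (.node (.leaf 361) (.leaf 6136)) (.leaf 2830)) (.node (.node (.leaf 1473) (.leaf 9736)) (.leaf 4261))) (.node (.node (.node (.leaf 912) (.leaf 7590)) (.leaf 3479)) (.node (.node (.leaf 2109) (.leaf 10248)) (.leaf 5163))))) (.node (.node (.node (.node (.node (.leaf 224) (.leaf 5875)) (.leaf 2666)) (.node (.node (.leaf 1332) (.leaf 9413)) (.leaf 4056))) (.node (.node (.node (.leaf 777) (.leaf 7237)) (.leaf 3305)) (.node (.node (.leaf 1946)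 (.leaf 10120)) (.leaf 4904)))) (.node (.node (.node (.node (.leaf 503) (.leaf 6491)) (.leaf 2978)) (.node (.node (.leaf 1632) (.leaf 9864)) (.leaf 4456))) (.node (.node (.node (.leaf 1045) (.leaf 8077)) (.leaf 3670)) (.node (.node (.leaf 2281) (.leaf 10376)) (.leaf 5407))))))) (.node (.node (.node (.node (.node (.node (.node (.leaf 63) (.leaf 5555)) (.leaf 2448)) (.node (.node (.leaf 1150) (.leaf 8546)) (.leaf 3809))) (.node (.node (.node (.leaf 611) (.leaf 6805)) (.leaf 3091)) (.node (.node (.leaf 1745) (.leaf 9960)) (.leaf 4620)))) (.node (.node (.node (.node (.leaf 326) (.leaf 6063)) (.leaf 2789)) (.node (.node (.leaf 1437) (.leaf 9704)) (.leaf 4206))) (.node (.node (.node (.leaf 879) (.leaf 7494)) (.leaf 3437)) (.node (.node (.leaf 2061) (.leaf 10216)) (.leaf 5113))))) (.node (.node (.node (.node (.node (.leaf 191) (.leaf 5792)) (.leaf 2623)) (.node (.node (.leaf 1296) (.leaf 9265)) (.leaf 4002))) (.node (.node (.node (.leaf 742) (.leaf 7162)) (.leaf 3262)) (.node (.node (.leaf 1903) (.leaf 10088)) (.leaf 4839)))) (.node (.node (.node (.node (.leaf 464)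 (.leaf 6434)) (.leaf 2938)) (.node (.node (.leaf 1595) (.leaf 9832)) (.leaf 4413))) (.node (.node (.node (.leaf 1011) (.leaf 7981)) (.leaf 3618)) (.node (.node (.leaf 2236) (.leaf 10344)) (.leaf 5350)))))) (.node (.node (.node (.node (.node (.node (.leaf 127) (.leaf 5663)) (.leaf 2533)) (.node (.node (.leaf 1222) (.leaf 8965)) (.leaf 3922))) (.node (.node (.node (.leaf 675) (.leaf 7016)) (.leaf 3177)) (.node (.node (.leaf 1828) (.leaf 10024)) (.leaf 4733)))) (.node (.node (.node (.node (.leaf 395) (.leaf 6220)) (.leaf 2864)) (.node (.node (.leaf 1509) (.leaf 9768)) (.leaf 4305))) (.node (.node (.node (.leaf 945) (.leaf 7741)) (.leaf 3523)) (.node (.node (.leaf 2148) (.leaf 10280)) (.leaf 5230))))) (.node (.node (.node (.node (.node (.leaf 256) (.leaf 5934)) (.leaf 2706)) (.node (.node (.leaf 1367) (.leaf 9567)) (.leaf 4106))) (.node (.node (.node (.leaf 812) (.leaf 7314)) (.leaf 3349)) (.node (.node (.leaf 1982) (.leaf 10152)) (.leaf 4997)))) (.node (.node (.node (.node (.leaf 538) (.leaf 6596)) (.leaf 3017)) (.node (.node (.leaf 1668) (.leaf 9896)) (.leaf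 4514))) (.node (.node (.node (.leaf 1078) (.leaf 8208)) (.leaf 3717)) (.node (.node (.leaf 2338) (.leaf 10408)) (.leaf 5461)))))))))))

noncomputable def liveA : Arr ℕ :=
  (.node (.node liveA0 liveA2) (.node liveA1 liveA3))

noncomputable def edgeA0 : Arr ℕ :=
  (.node (.node (.node (.node (.node (.node (.node (.node (.node (.node (.node (.leaf 0) (.leaf 778224912)) (.node (.leaf 549644105) (.leaf 1103434355))) (.node (.node (.leaf 380932628) (.leaf 491631788)) (.leaf 1050457782))) (.node (.node (.node (.leaf 27107841) (.leaf 1080211310)) (.leaf 171886043)) (.node (.node (.leaf 874910814) (.leaf 1064105738)) (.leaf 801305215)))) (.node (.node (.node (.node (.leaf 94225962) (.leaf 871174924)) (.leaf 903367039)) (.node (.node (.leaf 681323456) (.leaf 812304845)) (.leaf 1075681106))) (.node (.node (.node (.leaf 103425683) (.leaf 414304786)) (.leaf 824477280)) (.node (.node (.leaf 360116606) (.leaf 1062491341)) (.leaf 293621256))))) (.node (.node (.node (.node (.node (.leaf 8151170) (.leaf 886330630)) (.leaf 968786511)) (.node (.node (.leaf 99935114) (.leaf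 1016329708)) (.leaf 538952874))) (.node (.node (.node (.leaf 747892012) (.leaf 398904473)) (.leaf 182862288)) (.node (.node (.leaf 102220241) (.leaf 1041356194)) (.leaf 280937153)))) (.node (.node (.node (.node (.leaf 149915853) (.leaf 714704168)) (.leaf 1018828283)) (.node (.node (.leaf 727329253) (.leaf 998281283)) (.leaf 960685709))) (.node (.node (.node (.leaf 538550845) (.leaf 433456321)) (.leaf 208653154)) (.node (.node (.leaf 130885647) (.leaf 1083198495)) (.leaf 567406453)))))) (.node (.node (.node (.node (.node (.node (.leaf 4530245) (.leaf 622298406)) (.leaf 209939336)) (.node (.node (.leaf 245738763) (.leaf 955732759)) (.leaf 731982419))) (.node (.node (.node (.leaf 233131148) (.leaf 957678949)) (.leaf 1012528595)) (.node (.node (.leaf 964858923) (.leaf 1031009858)) (.leaf 274580140)))) (.node (.node (.node (.node (.leaf 56124392) (.leaf 910372323)) (.leaf 857689958)) (.node (.node (.leaf 611380607) (.leaf 1032328777)) (.leaf 1055479508))) (.node (.node (.node (.leaf 325914677) (.leaf 910150381)) (.leaf 202211829)) (.node (.node (.leaf 116057940)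 (.leaf 1088681890)) (.leaf 811904668))))) (.node (.node (.node (.node (.node (.leaf 11763850) (.leaf 845828214)) (.leaf 148128285)) (.node (.node (.leaf 375820792) (.leaf 1008752062)) (.leaf 560252471))) (.node (.node (.node (.leaf 161147258) (.leaf 905122724)) (.leaf 840361456)) (.node (.node (.leaf 356790627) (.leaf 1104771080)) (.leaf 955273018)))) (.node (.node (.node (.node (.leaf 23658670) (.leaf 827984747)) (.leaf 165593513)) (.node (.node (.leaf 743351946) (.leaf 1009043652)) (.leaf 1022531089))) (.node (.node (.node (.leaf 53002827) (.leaf 1037325927)) (.leaf 681297152)) (.node (.node (.leaf 140650569) (.leaf 1093473891)) (.leaf 1045829274))))))) (.node (.node (.node (.node (.node (.node (.node (.leaf 12075208) (.leaf 322276144)) (.leaf 495580342)) (.node (.node (.leaf 165800386) (.leaf 915408388)) (.leaf 631227315))) (.node (.node (.node (.leaf 732685484) (.leaf 681742939)) (.leaf 905678567)) (.node (.node (.leaf 93291476) (.leaf 1025134454)) (.leaf 832951115)))) (.node (.node (.node (.node (.leaf 106940102) (.leaf 887558067)) (.leaf 156485934))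 (.node (.node (.leaf 652453149) (.leaf 981717946)) (.leaf 794044109))) (.node (.node (.node (.leaf 161843590) (.leaf 952079101)) (.leaf 213968264)) (.node (.node (.leaf 113689730) (.leaf 1069012777)) (.leaf 821488315))))) (.node (.node (.node (.node (.node (.leaf 55460000) (.leaf 880430190)) (.leaf 590447302)) (.node (.node (.leaf 784035956) (.leaf 788476275)) (.leaf 234636922))) (.node (.node (.node (.leaf 40215244) (.leaf 597879126)) (.leaf 551815824)) (.node (.node (.leaf 772354606) (.leaf 1046785093)) (.leaf 418698024)))) (.node (.node (.node (.node (.leaf 162433420) (.leaf 877679361)) (.leaf 916362388)) (.node (.node (.leaf 552560472) (.leaf 1003506850)) (.leaf 598459043))) (.node (.node (.node (.leaf 189360840) (.leaf 657789556)) (.leaf 921981965)) (.node (.node (.leaf 995235182) (.leaf 1095858127)) (.leaf 561677926)))))) (.node (.node (.node (.node (.node (.node (.leaf 14016757) (.leaf 937732058)) (.leaf 1038489198)) (.node (.node (.leaf 884943321) (.leaf 1031198275)) (.leaf 577130761))) (.node (.node (.node (.leaf 56607390) (.leaf 622390278)) (.leaf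 935523391)) (.node (.node (.leaf 824503040) (.leaf 1036243565)) (.leaf 770518938)))) (.node (.node (.node (.node (.leaf 132409374) (.leaf 848938785)) (.leaf 830883308)) (.node (.node (.leaf 80363740) (.leaf 1040389754)) (.leaf 259501505))) (.node (.node (.node (.leaf 47661906) (.leaf 702123736)) (.leaf 214657965)) (.node (.node (.leaf 1043895951) (.leaf 1077857586)) (.leaf 539297188))))) (.node (.node (.node (.node (.node (.leaf 32030990) (.leaf 774262894)) (.leaf 642147881)) (.node (.node (.leaf 74498510) (.leaf 692777461)) (.leaf 240960088))) (.node (.node (.node (.leaf 583657476) (.leaf 853731707)) (.leaf 822503944)) (.node (.node (.leaf 535520795) (.leaf 1057196054)) (.leaf 580167469)))) (.node (.node (.node (.node (.leaf 33325201) (.leaf 824108642)) (.leaf 168969794)) (.node (.node (.leaf 90473971) (.leaf 1014371610)) (.leaf 756503107))) (.node (.node (.node (.leaf 823912944) (.leaf 1019336190)) (.leaf 549244147)) (.node (.node (.leaf 126257086) (.leaf 1098501883)) (.leaf 982578469)))))))) (.node (.node (.node (.node (.node (.node (.node (.node (.leaf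 2924586) (.leaf 1059100395)) (.leaf 130992028)) (.node (.node (.leaf 59818728) (.leaf 856314925)) (.leaf 224379428))) (.node (.node (.node (.leaf 216796094) (.leaf 380437766)) (.leaf 173017464)) (.node (.node (.leaf 992564574) (.leaf 1102198775)) (.leaf 396145263)))) (.node (.node (.node (.node (.leaf 101287542) (.leaf 949179223)) (.leaf 1072191293)) (.node (.node (.leaf 778252288) (.leaf 979079196)) (.leaf 764228326))) (.node (.node (.node (.leaf 44089619) (.leaf 1092638650)) (.leaf 1064883984)) (.node (.node (.leaf 771878318) (.leaf 1064848144)) (.leaf 958550738))))) (.node (.node (.node (.node (.node (.leaf 50094224) (.leaf 335168392)) (.leaf 144345045)) (.node (.node (.leaf 68731069) (.leaf 699156787)) (.leaf 779834374))) (.node (.node (.node (.leaf 260115909) (.leaf 916590268)) (.leaf 551840416)) (.node (.node (.leaf 589660535) (.leaf 1044125014)) (.leaf 906900069)))) (.node (.node (.node (.node (.leaf 123881417) (.leaf 362087354)) (.leaf 162840993)) (.node (.node (.leaf 83624165) (.leaf 1000853879)) (.leaf 616460215))) (.node (.node (.node (.leaf 727395165)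 (.leaf 436571334)) (.leaf 529124267)) (.node (.node (.leaf 650939829) (.leaf 1085821199)) (.leaf 891570430)))))) (.node (.node (.node (.node (.node (.node (.leaf 17965382) (.leaf 654356854)) (.leaf 139520088)) (.node (.node (.leaf 74802404) (.leaf 472335673)) (.leaf 720770308))) (.node (.node (.node (.leaf 33783896) (.leaf 717975004)) (.leaf 178013258)) (.node (.node (.leaf 97715142) (.leaf 1033522649)) (.leaf 870614133)))) (.node (.node (.node (.node (.leaf 20308350) (.leaf 995390831)) (.leaf 607732791)) (.node (.node (.leaf 480236655) (.leaf 990024381)) (.leaf 983643435))) (.node (.node (.node (.leaf 785245033) (.leaf 1031886407)) (.leaf 889391465)) (.node (.node (.leaf 556463313) (.leaf 1075368746)) (.leaf 302221970))))) (.node (.node (.node (.node (.node (.leaf 44311315) (.leaf 357970287)) (.leaf 698811752)) (.node (.node (.leaf 885795291) (.leaf 506530097)) (.leaf 366465454))) (.node (.node (.node (.leaf 712270132) (.leaf 672687457)) (.leaf 866954941)) (.node (.node (.leaf 531334674) (.leaf 1054855649)) (.leaf 852962451)))) (.node (.node (.node (.node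 (.leaf 182848128) (.leaf 823414633)) (.leaf 166920619)) (.node (.node (.leaf 558148536) (.leaf 1011994002)) (.leaf 264097228))) (.node (.node (.node (.leaf 294539021) (.leaf 447186157)) (.leaf 928084924)) (.node (.node (.leaf 555804437) (.leaf 1095996917)) (.leaf 759754019))))))) (.node (.node (.node (.node (.node (.node (.node (.leaf 17023280) (.leaf 728052006)) (.leaf 214173565)) (.node (.node (.leaf 62129200) (.leaf 669208916)) (.leaf 565839551))) (.node (.node (.node (.leaf 29245946) (.leaf 773001252)) (.leaf 176013758)) (.node (.node (.leaf 997184890) (.leaf 1027920604)) (.leaf 272812489)))) (.node (.node (.node (.node (.leaf 17039408) (.leaf 761121214)) (.leaf 1054480078)) (.node (.node (.leaf 80045400) (.leaf 1059280620)) (.leaf 748144519))) (.node (.node (.node (.leaf 47014732) (.leaf 1018467833)) (.leaf 322334752)) (.node (.node (.leaf 555111645) (.leaf 1070240593)) (.leaf 714221865))))) (.node (.node (.node (.node (.node (.leaf 50602910) (.leaf 843285742)) (.leaf 571246312)) (.node (.node (.leaf 429855597) (.leaf 1086969751)) (.leaf 1051989695)))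 (.node (.node (.node (.leaf 603185818) (.leaf 405590711)) (.leaf 367817141)) (.node (.node (.leaf 592445841) (.leaf 1049432381)) (.leaf 286336094)))) (.node (.node (.node (.node (.leaf 32686387) (.leaf 675418846)) (.leaf 606660907)) (.node (.node (.leaf 196511825) (.leaf 1006357691)) (.leaf 929190287))) (.node (.node (.node (.leaf 616886216) (.leaf 829106858)) (.leaf 214944667)) (.node (.node (.leaf 148220097) (.leaf 1091016310)) (.leaf 321294356)))))) (.node (.node (.node (.node (.node (.node (.leaf 41075422) (.leaf 799951357)) (.leaf 871762694)) (.node (.node (.leaf 67092948) (.leaf 1091893173)) (.leaf 836818135))) (.node (.node (.node (.leaf 249072966) (.leaf 396265128)) (.leaf 793323564)) (.node (.node (.leaf 100680565) (.leaf 1038864099)) (.leaf 704746637)))) (.node (.node (.node (.node (.leaf 140429263) (.leaf 358269868)) (.leaf 304967523)) (.node (.node (.leaf 94913370) (.leaf 1068840744)) (.leaf 987272513))) (.node (.node (.node (.leaf 789742570) (.leaf 962736644)) (.leaf 206766590)) (.node (.node (.leaf 118030658) (.leaf 1080513960)) (.leaf 717407709)))))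 (.node (.node (.node (.node (.node (.leaf 88655311) (.leaf 860662923)) (.leaf 889193712)) (.node (.node (.leaf 889219312) (.leaf 578023105)) (.leaf 344469730))) (.node (.node (.node (.leaf 547350697) (.leaf 412979945)) (.leaf 823676264)) (.node (.node (.leaf 810658423) (.leaf 1059951628)) (.leaf 292143844)))) (.node (.node (.node (.node (.leaf 198478629) (.leaf 820513649)) (.leaf 823886816)) (.node (.node (.leaf 847547072) (.leaf 1016958645)) (.leaf 748678453))) (.node (.node (.node (.leaf 68199558) (.leaf 450856184)) (.leaf 221793123)) (.node (.node (.leaf 1047213731) (.leaf 1100977711)) (.leaf 318636849))))))))) (.node (.node (.node (.node (.node (.node (.node (.node (.node (.leaf 2269213) (.leaf 867757179)) (.node (.leaf 590857882) (.leaf 1104746176))) (.node (.node (.leaf 683876710) (.leaf 849506859)) (.leaf 739886732))) (.node (.node (.node (.leaf 27459663) (.leaf 878012540)) (.leaf 822479584)) (.node (.node (.leaf 177408581) (.leaf 1021022279)) (.leaf 293678848)))) (.node (.node (.node (.node (.leaf 30351942) (.leaf 988902730)) (.leaf 610665807)) (.node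 (.node (.leaf 711111034) (.leaf 1050629815)) (.leaf 1070774067))) (.node (.node (.node (.leaf 57893881) (.leaf 415273711)) (.leaf 1021924878)) (.node (.node (.leaf 742904463) (.leaf 1063749745)) (.leaf 294358349))))) (.node (.node (.node (.node (.node (.leaf 47792997) (.leaf 426423131)) (.leaf 572180294)) (.node (.node (.leaf 583378812) (.leaf 689867153)) (.leaf 1021343242))) (.node (.node (.node (.leaf 36651109) (.leaf 801903789)) (.leaf 183289586)) (.node (.node (.leaf 742622527) (.leaf 1042729838)) (.leaf 281740443)))) (.node (.node (.node (.node (.leaf 20840782) (.leaf 361218999)) (.leaf 162539917)) (.node (.node (.leaf 213945120) (.leaf 999773486)) (.leaf 1004443045))) (.node (.node (.node (.leaf 335196304) (.leaf 933015790)) (.leaf 209913920)) (.node (.node (.leaf 119341395) (.leaf 1084471117)) (.leaf 308609816)))))) (.node (.node (.node (.node (.node (.node (.leaf 31023257) (.leaf 623690793)) (.leaf 251168811)) (.node (.node (.leaf 401232531) (.leaf 738521940)) (.leaf 539758431))) (.node (.node (.node (.leaf 33456218) (.leaf 640534847)) (.leaf 676613123))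 (.node (.node (.leaf 281579143) (.leaf 1056388826)) (.leaf 882870678)))) (.node (.node (.node (.node (.leaf 27894290) (.leaf 352440575)) (.leaf 158155156)) (.node (.node (.leaf 477434975) (.leaf 988678892)) (.leaf 751455641))) (.node (.node (.node (.leaf 873196141) (.leaf 635349956)) (.leaf 202818054)) (.node (.node (.leaf 550887817) (.leaf 1074007627)) (.leaf 871436062))))) (.node (.node (.node (.node (.node (.leaf 12091424) (.leaf 777868214)) (.leaf 720375530)) (.node (.node (.leaf 239160531) (.leaf 503859371)) (.leaf 938545237))) (.node (.node (.node (.leaf 56689338) (.leaf 672400739)) (.leaf 189318048)) (.node (.node (.leaf 572632933) (.leaf 1053462859)) (.leaf 584126189)))) (.node (.node (.node (.node (.leaf 87025090) (.leaf 1079293800)) (.leaf 175008294)) (.node (.node (.leaf 519853306) (.leaf 1010537807)) (.leaf 725575407))) (.node (.node (.node (.leaf 97994323) (.leaf 1062958851)) (.leaf 218360780)) (.node (.node (.leaf 123732327) (.leaf 1094650575)) (.leaf 616858544))))))) (.node (.node (.node (.node (.node (.node (.node (.leaf 14582011) (.leaf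 932015866)) (.leaf 1017452019)) (.node (.node (.leaf 609036812) (.leaf 652511763)) (.leaf 1023456790))) (.node (.node (.node (.leaf 225414173) (.leaf 384356153)) (.leaf 186788519)) (.node (.node (.leaf 993736037) (.leaf 1026558199)) (.leaf 1097562074)))) (.node (.node (.node (.node (.leaf 98132748) (.leaf 728303932)) (.leaf 156109086)) (.node (.node (.leaf 714731904) (.leaf 983076124)) (.leaf 747507262))) (.node (.node (.node (.leaf 314830789) (.leaf 418664096)) (.leaf 864203240)) (.node (.node (.leaf 819007305) (.leaf 1068815728)) (.leaf 297206935))))) (.node (.node (.node (.node (.node (.leaf 10764456) (.leaf 337478677)) (.leaf 547254049)) (.node (.node (.leaf 798410015) (.leaf 491000359)) (.leaf 235602791))) (.node (.node (.node (.leaf 181627506) (.leaf 1082333051)) (.leaf 243846393)) (.node (.node (.leaf 396284528) (.leaf 1048038285)) (.leaf 929999083)))) (.node (.node (.node (.node (.leaf 965060520) (.leaf 1052628675)) (.leaf 1081669495)) (.node (.node (.leaf 121489319) (.leaf 1080538992)) (.leaf 257393287))) (.node (.node (.node (.leaf 356962661) (.leaf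 440255705)) (.leaf 963022027)) (.node (.node (.leaf 965034408) (.leaf 1089754969)) (.leaf 311905629)))))) (.node (.node (.node (.node (.node (.node (.leaf 37946004) (.leaf 809675262)) (.leaf 501281987)) (.node (.node (.leaf 401339028) (.leaf 478778421)) (.leaf 873836076))) (.node (.node (.node (.leaf 246549783) (.leaf 397161081)) (.leaf 895144323)) (.node (.node (.leaf 107726540) (.leaf 1037469478)) (.leaf 277889720)))) (.node (.node (.node (.node (.leaf 136398922) (.leaf 933989626)) (.leaf 159187352)) (.node (.node (.leaf 698837200) (.leaf 994054301)) (.leaf 823700208))) (.node (.node (.node (.leaf 169175522) (.leaf 1089427366)) (.leaf 206326606)) (.node (.node (.leaf 240307419) (.leaf 1079267784)) (.leaf 786474591))))) (.node (.node (.node (.node (.node (.leaf 19521898) (.leaf 1066530585)) (.leaf 929664681)) (.node (.node (.leaf 883617868) (.leaf 897404739)) (.leaf 241403480))) (.node (.node (.node (.leaf 59843600) (.leaf 663999609)) (.leaf 192621319)) (.node (.node (.leaf 571271344) (.leaf 1058632643)) (.leaf 580823882)))) (.node (.node (.node (.node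 (.leaf 191580916) (.leaf 864176936)) (.leaf 808544946)) (.node (.node (.leaf 89751796) (.leaf 1015722177)) (.leaf 619357807))) (.node (.node (.node (.leaf 56082752) (.leaf 663236061)) (.leaf 222358518)) (.node (.node (.leaf 225520670) (.leaf 1099813155)) (.leaf 318148574)))))))) (.node (.node (.node (.node (.node (.node (.node (.node (.leaf 8552582) (.leaf 722055831)) (.leaf 134965297)) (.node (.node (.leaf 81585521) (.leaf 640463681)) (.leaf 224954263))) (.node (.node (.node (.leaf 935094599) (.leaf 692660500)) (.leaf 855584661)) (.node (.node (.leaf 94504491) (.leaf 1023723318)) (.leaf 270664391)))) (.node (.node (.node (.node (.leaf 751796849) (.leaf 731116343)) (.leaf 899257014)) (.node (.node (.leaf 79979863) (.leaf 980358419)) (.leaf 778448958))) (.node (.node (.node (.leaf 308596616) (.leaf 1076221781)) (.leaf 194374435)) (.node (.node (.leaf 189418185) (.leaf 1066349206)) (.leaf 821234965))))) (.node (.node (.node (.node (.node (.leaf 9535640) (.leaf 1097308120)) (.leaf 209709958)) (.node (.node (.leaf 69107903) (.leaf 836257971)) (.leaf 853036703)))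 (.node (.node (.node (.leaf 255503753) (.leaf 401867851)) (.leaf 184994453)) (.node (.node (.leaf 615531615) (.leaf 1045419139)) (.leaf 284085769)))) (.node (.node (.node (.node (.leaf 159172968) (.leaf 634030065)) (.leaf 756544083)) (.node (.node (.leaf 127918458) (.leaf 1002214068)) (.leaf 602641639))) (.node (.node (.node (.leaf 49987820) (.leaf 715370682)) (.leaf 211438436)) (.node (.node (.leaf 120326008) (.leaf 1087083436)) (.leaf 1041708674)))))) (.node (.node (.node (.node (.node (.node (.leaf 33768016) (.leaf 1020335620)) (.leaf 139495504)) (.node (.node (.leaf 65511742) (.leaf 673271857)) (.leaf 262703980))) (.node (.node (.node (.leaf 240946400) (.leaf 994891116)) (.leaf 600998686)) (.node (.node (.leaf 241429736) (.leaf 1034865778)) (.leaf 758453268)))) (.node (.node (.node (.node (.leaf 548045114) (.leaf 355045179)) (.leaf 1042364038)) (.node (.node (.leaf 80053552) (.leaf 991481114)) (.leaf 645935341))) (.node (.node (.node (.leaf 830794090) (.leaf 535471668)) (.leaf 206080862)) (.node (.node (.leaf 552535456) (.leaf 1076712510)) (.leaf 303320919)))))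 (.node (.node (.node (.node (.node (.leaf 61449258) (.leaf 894845985)) (.leaf 219065297)) (.node (.node (.leaf 761261378) (.leaf 509199777)) (.leaf 239913585))) (.node (.node (.node (.leaf 288181958) (.leaf 865112504)) (.leaf 191122155)) (.node (.node (.leaf 408637954) (.leaf 1056084980)) (.leaf 702223200)))) (.node (.node (.node (.node (.leaf 50987617) (.leaf 372540380)) (.leaf 885511046)) (.node (.node (.leaf 170215924) (.leaf 1013305110)) (.leaf 714501172))) (.node (.node (.node (.leaf 371151300) (.leaf 656532830)) (.leaf 696407001)) (.node (.node (.leaf 139134958) (.leaf 1097240728)) (.leaf 659993647))))))) (.node (.node (.node (.node (.node (.node (.node (.leaf 19759474) (.leaf 745024775)) (.leaf 525585421)) (.node (.node (.leaf 233630866) (.leaf 653955892)) (.leaf 839406340))) (.node (.node (.node (.leaf 204671836) (.leaf 849712123)) (.leaf 1089148837)) (.node (.node (.leaf 946171011) (.leaf 1063122692)) (.leaf 750644542)))) (.node (.node (.node (.node (.leaf 114968383) (.leaf 351323027)) (.leaf 598396285)) (.node (.node (.leaf 608307498) (.leaf 985977155))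 (.leaf 960024875))) (.node (.node (.node (.leaf 321556503) (.leaf 421168435)) (.leaf 250768727)) (.node (.node (.leaf 903434693) (.leaf 1071500699)) (.leaf 299593122))))) (.node (.node (.node (.node (.node (.leaf 63972419) (.leaf 804934684)) (.leaf 524457196)) (.node (.node (.leaf 71599258) (.leaf 526370980)) (.leaf 236864185))) (.node (.node (.node (.leaf 277876328) (.leaf 1007220149)) (.leaf 834546956)) (.node (.node (.leaf 173615639) (.leaf 1092007862)) (.leaf 605800757)))) (.node (.node (.node (.node (.leaf 23265347) (.leaf 865096408)) (.leaf 733089986)) (.node (.node (.leaf 815952125) (.leaf 1007584883)) (.leaf 1090738094))) (.node (.node (.node (.leaf 593603530) (.leaf 1011717582)) (.leaf 558122448)) (.node (.node (.leaf 133457961) (.leaf 1092399052)) (.leaf 955696430)))))) (.node (.node (.node (.node (.node (.node (.leaf 33251907) (.leaf 735168430)) (.leaf 951912274)) (.node (.node (.leaf 814263401) (.leaf 670313978)) (.leaf 867684441))) (.node (.node (.node (.leaf 251006298) (.leaf 604139210)) (.leaf 575237923)) (.node (.node (.leaf 550930669) (.leaf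 1040094078)) (.leaf 280185281)))) (.node (.node (.node (.node (.leaf 146245795) (.leaf 1103198206)) (.leaf 173058576)) (.node (.node (.leaf 840609781) (.leaf 996871117)) (.leaf 716353982))) (.node (.node (.node (.leaf 301576011) (.leaf 942961164)) (.leaf 644264814)) (.node (.node (.leaf 120383384) (.leaf 1081773282)) (.leaf 306759451))))) (.node (.node (.node (.node (.node (.leaf 37610129) (.leaf 941362348)) (.leaf 153831666)) (.node (.node (.leaf 450843632) (.leaf 520025339)) (.leaf 243729431))) (.node (.node (.node (.leaf 42467485) (.leaf 1098651617)) (.leaf 1026905642)) (.node (.node (.leaf 111542570) (.leaf 1062852354)) (.leaf 1055160018)))) (.node (.node (.node (.node (.leaf 203688785) (.leaf 375784640)) (.leaf 1084307335)) (.node (.node (.leaf 172034561) (.leaf 1018136243)) (.leaf 603051218))) (.node (.node (.node (.leaf 301854542) (.leaf 659230186)) (.leaf 506843196)) (.node (.node (.leaf 557843921) (.leaf 1102305213)) (.leaf 996234612)))))))))) (.node (.node (.node (.node (.node (.node (.node (.node (.node (.node (.leaf 843787) (.leaf 723151869))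 (.node (.leaf 583631584) (.leaf 1104123043))) (.node (.node (.leaf 683084674) (.leaf 793751979)) (.leaf 507183649))) (.node (.node (.node (.leaf 210291596) (.leaf 962712432)) (.leaf 918906602)) (.node (.node (.leaf 915395616) (.leaf 1020301400)) (.leaf 1099683815)))) (.node (.node (.node (.node (.leaf 23478532) (.leaf 934400915)) (.leaf 605687299)) (.node (.node (.leaf 188705474) (.leaf 720702544)) (.leaf 245285475))) (.node (.node (.node (.leaf 57664502) (.leaf 839429176)) (.leaf 1057019614)) (.node (.node (.leaf 305500010) (.leaf 1063097912)) (.leaf 741950660))))) (.node (.node (.node (.node (.node (.leaf 8405091) (.leaf 575548502)) (.leaf 145057942)) (.node (.node (.leaf 70935726) (.leaf 749579435)) (.leaf 1084004229))) (.node (.node (.node (.leaf 256134549) (.leaf 399673941)) (.leaf 842339053)) (.node (.node (.leaf 818424244) (.leaf 1042043157)) (.leaf 1094555591)))) (.node (.node (.node (.node (.leaf 138674506) (.leaf 1029854779)) (.leaf 853559982)) (.node (.node (.leaf 84944293) (.leaf 999084597)) (.leaf 665572249))) (.node (.node (.node (.leaf 49169233)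 (.leaf 1101379570)) (.leaf 209438652)) (.node (.node (.leaf 119144773) (.leaf 1083789957)) (.leaf 948933403)))))) (.node (.node (.node (.node (.node (.node (.leaf 8872078) (.leaf 1099323365)) (.leaf 136070551)) (.node (.node (.leaf 64169028) (.leaf 761721138)) (.leaf 1098995683))) (.node (.node (.node (.leaf 31686818) (.leaf 855217127)) (.leaf 177242885)) (.node (.node (.leaf 110307051) (.leaf 1031327478)) (.leaf 274907821)))) (.node (.node (.node (.node (.leaf 118556543) (.leaf 953969177)) (.leaf 196585593)) (.node (.node (.leaf 649636842) (.leaf 987960303)) (.leaf 766413149))) (.node (.node (.node (.leaf 257968545) (.leaf 679708031)) (.leaf 1047320228)) (.node (.node (.leaf 554272923) (.leaf 1073320475)) (.leaf 1027094059))))) (.node (.node (.node (.node (.node (.leaf 71763133) (.leaf 998192511)) (.leaf 1009079744)) (.node (.node (.leaf 741977860) (.leaf 553723692)) (.leaf 237849185))) (.node (.node (.node (.leaf 589357372) (.leaf 716108965)) (.leaf 188860195)) (.node (.node (.leaf 106824823) (.leaf 1052821646)) (.leaf 600615907)))) (.node (.node (.node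 (.node (.leaf 57999812) (.leaf 371164120)) (.leaf 165939628)) (.node (.node (.leaf 296906534) (.leaf 1009839054)) (.leaf 591194124))) (.node (.node (.node (.leaf 364941730) (.leaf 1012356562)) (.leaf 635327304)) (.node (.node (.leaf 720596718) (.leaf 1094154084)) (.leaf 842221116))))))) (.node (.node (.node (.node (.node (.node (.node (.leaf 13172963) (.leaf 773026352)) (.leaf 133055919)) (.node (.node (.leaf 61096348) (.leaf 883134023)) (.leaf 225953679))) (.node (.node (.node (.leaf 224365584) (.leaf 683740179)) (.leaf 559639631)) (.node (.node (.leaf 773571698) (.leaf 1040840317)) (.leaf 271615677)))) (.node (.node (.node (.node (.leaf 63308663) (.leaf 350097577)) (.leaf 612346258)) (.node (.node (.leaf 963405573) (.leaf 982371509)) (.leaf 865325526))) (.node (.node (.node (.leaf 162204042) (.leaf 1015387622)) (.leaf 848425287)) (.node (.node (.leaf 714083381) (.leaf 1068339661)) (.leaf 576540933))))) (.node (.node (.node (.node (.node (.leaf 10289180) (.leaf 336954205)) (.leaf 526398648)) (.node (.node (.leaf 337703082) (.leaf 1031738950)) (.leaf 235242943)))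 (.node (.node (.node (.leaf 167405415) (.leaf 880805965)) (.leaf 817427119)) (.node (.node (.leaf 104825991) (.leaf 1047300932)) (.leaf 285207062)))) (.node (.node (.node (.node (.leaf 163498396) (.leaf 488240281)) (.leaf 1082775422)) (.node (.node (.leaf 539324256) (.leaf 1034262101)) (.leaf 886909935))) (.node (.node (.node (.leaf 96020030) (.leaf 905147072)) (.leaf 645564249)) (.node (.node (.leaf 121274900) (.leaf 1089050217)) (.leaf 311602201)))))) (.node (.node (.node (.node (.node (.node (.leaf 6045790) (.leaf 1095325644)) (.leaf 140937162)) (.node (.node (.leaf 408998611) (.leaf 920210527)) (.leaf 527640681))) (.node (.node (.node (.leaf 779111567) (.leaf 736725615)) (.leaf 529903037)) (.node (.node (.leaf 928986230) (.leaf 1036799746)) (.leaf 610341462)))) (.node (.node (.node (.node (.leaf 135252021) (.leaf 763759781)) (.leaf 905751102)) (.node (.node (.leaf 671982874) (.leaf 993495723)) (.leaf 252643387))) (.node (.node (.node (.leaf 715188518) (.leaf 1059608302)) (.leaf 211463064)) (.node (.node (.leaf 116574052) (.leaf 1094129604)) (.leaf 815821707)))))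 (.node (.node (.node (.node (.node (.leaf 586154726) (.leaf 734138065)) (.leaf 211708825)) (.node (.node (.leaf 74777680) (.leaf 947857927)) (.leaf 746804009))) (.node (.node (.node (.leaf 292130544) (.leaf 909946994)) (.leaf 959596660)) (.node (.node (.leaf 573124505) (.leaf 1057968170)) (.leaf 642386143)))) (.node (.node (.node (.node (.leaf 26050634) (.leaf 373326814)) (.leaf 297955115)) (.node (.node (.leaf 954748229) (.leaf 1015010418)) (.leaf 1058436839))) (.node (.node (.node (.leaf 55607521) (.leaf 1069799213)) (.leaf 601400410)) (.node (.node (.leaf 125420049) (.leaf 1099141154)) (.leaf 798176364)))))))) (.node (.node (.node (.node (.node (.node (.node (.node (.leaf 1671188) (.leaf 321286064)) (.leaf 212577185)) (.node (.node (.leaf 70263974) (.leaf 758492760)) (.leaf 224725836))) (.node (.node (.node (.leaf 121300900) (.leaf 380945408)) (.leaf 973032998)) (.node (.node (.leaf 531679846) (.leaf 1023021083)) (.leaf 408744655)))) (.node (.node (.node (.node (.leaf 30933146) (.leaf 939077044)) (.leaf 692802072)) (.node (.node (.leaf 391262804) (.leaf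 979653131)) (.leaf 709282337))) (.node (.node (.node (.leaf 44450271) (.leaf 900237589)) (.leaf 933434225)) (.node (.node (.leaf 555647343) (.leaf 1065619020)) (.leaf 295716475))))) (.node (.node (.node (.node (.node (.leaf 9060378) (.leaf 784651207)) (.leaf 933800359)) (.node (.node (.leaf 423088967) (.leaf 916326816)) (.leaf 981980449))) (.node (.node (.node (.leaf 37961832) (.leaf 401310824)) (.leaf 950191694)) (.node (.node (.leaf 103580813) (.leaf 1044919612)) (.leaf 720983231)))) (.node (.node (.node (.node (.leaf 158140744) (.leaf 925684252)) (.leaf 934278078)) (.node (.node (.leaf 83805571) (.leaf 1016018410)) (.leaf 1098364895))) (.node (.node (.node (.leaf 351588668) (.leaf 438137754)) (.leaf 211823514)) (.node (.node (.leaf 120111431) (.leaf 1086410725)) (.leaf 863949514)))))) (.node (.node (.node (.node (.node (.node (.leaf 29508150) (.leaf 330318663)) (.leaf 581865046)) (.node (.node (.leaf 106686146) (.leaf 663376966)) (.leaf 261827599))) (.node (.node (.node (.leaf 977315683) (.leaf 391234836)) (.leaf 616107978)) (.node (.node (.leaf 1003656609)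 (.leaf 1034112425)) (.leaf 275612337)))) (.node (.node (.node (.node (.leaf 18440533) (.leaf 669119536)) (.leaf 597591150)) (.node (.node (.leaf 667759575) (.leaf 990809877)) (.leaf 1064261387))) (.node (.node (.node (.leaf 48522099) (.leaf 738497608)) (.leaf 655668341)) (.node (.node (.leaf 116066112) (.leaf 1076039877)) (.leaf 775595276))))) (.node (.node (.node (.node (.node (.leaf 77284626) (.leaf 1074755404)) (.leaf 974271005)) (.node (.node (.leaf 438358940) (.leaf 840053710)) (.leaf 978572557))) (.node (.node (.node (.leaf 287002302) (.leaf 767054926)) (.leaf 926568078)) (.node (.node (.leaf 532997735) (.leaf 1055501632)) (.leaf 736486983)))) (.node (.node (.node (.node (.leaf 67118192) (.leaf 1083692931)) (.leaf 923438749)) (.node (.node (.leaf 558457358) (.leaf 1012567049)) (.leaf 264471187))) (.node (.node (.node (.leaf 93283872) (.leaf 1074599755)) (.leaf 543462233)) (.node (.node (.leaf 125806511) (.leaf 1096633089)) (.leaf 329576526))))))) (.node (.node (.node (.node (.node (.node (.node (.leaf 3457034) (.leaf 858604453)) (.leaf 930369972))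 (.node (.node (.leaf 67306609) (.leaf 931203321)) (.leaf 714460632))) (.node (.node (.node (.leaf 120891295) (.leaf 386428903)) (.leaf 286199469)) (.node (.node (.leaf 535581528) (.leaf 1028609434)) (.leaf 276704859)))) (.node (.node (.node (.node (.leaf 712245968) (.leaf 735971790)) (.leaf 1035826781)) (.node (.node (.leaf 737129242) (.leaf 985240406)) (.leaf 748524522))) (.node (.node (.node (.leaf 799418582) (.leaf 688976952)) (.leaf 200313644)) (.node (.node (.leaf 114779961) (.leaf 1070862497)) (.leaf 825332197))))) (.node (.node (.node (.node (.node (.leaf 43451138) (.leaf 338494307)) (.leaf 567857673)) (.node (.node (.leaf 800974538) (.leaf 695809001)) (.leaf 562524031))) (.node (.node (.node (.leaf 39158431) (.leaf 1002280344)) (.leaf 189008581)) (.node (.node (.leaf 914387450) (.leaf 1050119100)) (.leaf 666144161)))) (.node (.node (.node (.node (.leaf 171444731) (.leaf 930392116)) (.leaf 818398852)) (.node (.node (.leaf 85852394) (.leaf 1006996254)) (.leaf 939053332))) (.node (.node (.node (.leaf 853082525) (.leaf 442926306)) (.leaf 545280252))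 (.node (.node (.leaf 122454373) (.leaf 1091767027)) (.leaf 794961846)))))) (.node (.node (.node (.node (.node (.node (.leaf 15261959) (.leaf 784008352)) (.leaf 959621860)) (.node (.node (.leaf 413192947) (.leaf 1041167999)) (.leaf 525748307))) (.node (.node (.node (.leaf 37397135) (.leaf 687838112)) (.leaf 592243758)) (.node (.node (.leaf 1007949242) (.leaf 1039487509)) (.leaf 854176425)))) (.node (.node (.node (.node (.leaf 123267005) (.leaf 1085290381)) (.leaf 233319569)) (.node (.node (.leaf 710079481) (.leaf 996200440)) (.leaf 709952434))) (.node (.node (.node (.leaf 805988941) (.leaf 431260855)) (.leaf 207161402)) (.node (.node (.leaf 789562246) (.leaf 1081150769)) (.leaf 569510255))))) (.node (.node (.node (.node (.node (.leaf 89736680) (.leaf 1012725205)) (.leaf 657477335)) (.node (.node (.leaf 390361675) (.leaf 913978410)) (.leaf 1003451807))) (.node (.node (.node (.leaf 547481766) (.leaf 894775509)) (.leaf 191594984)) (.node (.node (.leaf 826454366) (.leaf 1060558089)) (.leaf 930834636)))) (.node (.node (.node (.node (.leaf 201034554) (.leaf 771501714))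 (.leaf 170149336)) (.node (.node (.leaf 90842615) (.leaf 1017597454)) (.leaf 1022785042))) (.node (.node (.node (.leaf 95938109) (.leaf 1056110296)) (.leaf 624624665)) (.node (.node (.leaf 578072255) (.leaf 1101633434)) (.leaf 774426865))))))))) (.node (.node (.node (.node (.node (.node (.node (.node (.node (.leaf 933895) (.leaf 737571097)) (.leaf 591171012)) (.node (.node (.leaf 62006319) (.leaf 1059976944)) (.leaf 1071888186))) (.node (.node (.node (.leaf 27591163) (.leaf 942936952)) (.leaf 609010728)) (.node (.node (.leaf 537315980) (.leaf 1083438977)) (.leaf 818318771)))) (.node (.node (.node (.node (.leaf 80684394) (.leaf 347997065)) (.leaf 312160170)) (.node (.node (.leaf 775573332) (.leaf 978292595)) (.leaf 834521784))) (.node (.node (.node (.leaf 98107688) (.leaf 871158016)) (.leaf 876621962)) (.node (.node (.leaf 1032410698) (.leaf 1064416028)) (.leaf 811240917))))) (.node (.node (.node (.node (.node (.leaf 49628045) (.leaf 334676831)) (.leaf 143803785)) (.node (.node (.leaf 293056253) (.leaf 700593053)) (.leaf 233144896))) (.node (.node (.node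 (.leaf 258919867) (.leaf 400458853)) (.leaf 537339404)) (.node (.node (.leaf 739912712) (.leaf 1087911837)) (.leaf 587122130)))) (.node (.node (.node (.node (.leaf 28893738) (.leaf 1068652327)) (.leaf 162447776)) (.node (.node (.leaf 83330434) (.leaf 1000412515)) (.leaf 696625738))) (.node (.node (.node (.leaf 837544053) (.leaf 435340490)) (.leaf 210305540)) (.node (.node (.leaf 131278867) (.leaf 1085134300)) (.leaf 947497045)))))) (.node (.node (.node (.node (.node (.node (.leaf 26427886) (.leaf 883590376)) (.leaf 136710087)) (.node (.node (.leaf 64668379) (.leaf 934833014)) (.leaf 228788369))) (.node (.node (.node (.leaf 33948236) (.leaf 706972073)) (.leaf 737694541)) (.node (.node (.leaf 710651255) (.leaf 1032768702)) (.leaf 1065645844)))) (.node (.node (.node (.node (.leaf 122701751) (.leaf 600763361)) (.leaf 1017296370)) (.node (.node (.leaf 79413466) (.leaf 989318413)) (.leaf 249676403))) (.node (.node (.node (.leaf 46990128) (.leaf 424399694)) (.leaf 224750612)) (.node (.node (.leaf 550127437) (.leaf 1074729172)) (.leaf 301713119))))) (.node (.node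 (.node (.node (.node (.leaf 74974439) (.leaf 758092598)) (.leaf 930606836)) (.node (.node (.leaf 533621372) (.leaf 712951562)) (.leaf 574884705))) (.node (.node (.node (.leaf 40190624) (.leaf 1067333406)) (.leaf 189794071)) (.node (.node (.leaf 107751016) (.leaf 1054149362)) (.leaf 757232063)))) (.node (.node (.node (.node (.leaf 100001385) (.leaf 1020188163)) (.leaf 285322917)) (.node (.node (.leaf 641708890) (.leaf 1101215729)) (.leaf 264154576))) (.node (.node (.node (.leaf 54010455) (.leaf 446385433)) (.leaf 218336200)) (.node (.node (.leaf 133760965) (.leaf 1095290980)) (.leaf 1092376504))))))) (.node (.node (.node (.node (.node (.node (.node (.leaf 3080205) (.leaf 763408668)) (.leaf 793299568)) (.node (.node (.leaf 393417311) (.leaf 963466443)) (.leaf 554837806))) (.node (.node (.node (.leaf 126108150) (.leaf 1066653466)) (.leaf 792956737)) (.node (.node (.leaf 94585125) (.leaf 1027231574)) (.leaf 873811048)))) (.node (.node (.node (.node (.leaf 24551594) (.leaf 732925651)) (.leaf 995972466)) (.node (.node (.leaf 467391548) (.leaf 1098004445)) (.leaf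 747864704))) (.node (.node (.node (.leaf 323808199) (.leaf 558828605)) (.leaf 200338228)) (.node (.node (.leaf 553702596) (.leaf 1069658450)) (.leaf 418435877))))) (.node (.node (.node (.node (.node (.leaf 11042903) (.leaf 937846940)) (.leaf 837766989)) (.node (.node (.leaf 732660256) (.leaf 491607040)) (.leaf 941396216))) (.node (.node (.node (.leaf 274566720) (.leaf 917653546)) (.leaf 822135459)) (.node (.node (.leaf 273944119) (.leaf 1048712435)) (.leaf 1037022821)))) (.node (.node (.node (.node (.leaf 885434805) (.leaf 815483569)) (.leaf 165964228)) (.node (.node (.leaf 85278953) (.leaf 1005605355)) (.leaf 756683874))) (.node (.node (.node (.leaf 358257008) (.leaf 1087133592)) (.leaf 596577825)) (.node (.node (.leaf 122028434) (.leaf 1090441953)) (.leaf 888640371)))))) (.node (.node (.node (.node (.node (.node (.leaf 6783084) (.leaf 850890684)) (.leaf 976540315)) (.node (.node (.leaf 66782290) (.leaf 797650916)) (.leaf 231459941))) (.node (.node (.node (.leaf 247942451) (.leaf 740919850)) (.leaf 807849775)) (.node (.node (.leaf 160541046) (.leaf 1038126191))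 (.leaf 278547059)))) (.node (.node (.node (.node (.leaf 85550510) (.leaf 358057453)) (.leaf 875393174)) (.node (.node (.leaf 793111202) (.leaf 994906712)) (.leaf 976565445))) (.node (.node (.node (.leaf 576761703) (.leaf 643763058)) (.leaf 262687832)) (.node (.node (.leaf 117490441) (.leaf 1090254763)) (.leaf 714575390))))) (.node (.node (.node (.node (.node (.leaf 50013080) (.leaf 872976851)) (.leaf 152455191)) (.node (.node (.leaf 446141387) (.leaf 524478648)) (.leaf 574540786))) (.node (.node (.node (.leaf 741796382) (.leaf 810806895)) (.leaf 988673352)) (.node (.node (.leaf 346329337) (.leaf 1059231024)) (.leaf 1060730613)))) (.node (.node (.node (.node (.leaf 58958857) (.leaf 872712673)) (.leaf 823333354)) (.node (.node (.leaf 830908768) (.leaf 1016288384)) (.leaf 975072785))) (.node (.node (.node (.leaf 914092097) (.leaf 651947497)) (.leaf 221282843)) (.node (.node (.leaf 137512988) (.leaf 1101821941)) (.leaf 318374734)))))))) (.node (.node (.node (.node (.node (.node (.node (.node (.leaf 10272932) (.leaf 979113232)) (.leaf 137537516)) (.node (.node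 (.leaf 60555446) (.leaf 804958392)) (.leaf 710755089))) (.node (.node (.node (.leaf 155085074) (.leaf 925987220)) (.leaf 944813042)) (.node (.node (.leaf 435229578) (.leaf 1024461965)) (.leaf 743532166)))) (.node (.node (.node (.node (.leaf 749290093) (.leaf 763383852)) (.leaf 927109353)) (.node (.node (.leaf 80110937) (.leaf 981110653)) (.leaf 983102760))) (.node (.node (.node (.leaf 310054811) (.leaf 1064392460)) (.leaf 198773543)) (.node (.node (.leaf 1035056729) (.leaf 1067013479)) (.leaf 884337643))))) (.node (.node (.node (.node (.node (.leaf 9814059) (.leaf 1036580450)) (.leaf 937824428)) (.node (.node (.leaf 96364097) (.leaf 488837806)) (.leaf 903720813))) (.node (.node (.node (.leaf 100484718) (.leaf 1063515910)) (.leaf 241765609)) (.node (.node (.leaf 942738430) (.leaf 1046058229)) (.leaf 811863872)))) (.node (.node (.node (.node (.leaf 61137956) (.leaf 363594687)) (.leaf 163512740)) (.node (.node (.leaf 84394215) (.leaf 1002803225)) (.leaf 675819129))) (.node (.node (.node (.leaf 629943285) (.leaf 438371540)) (.leaf 215788471)) (.node (.node (.leaf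 131016720) (.leaf 1089943465)) (.leaf 310136702)))))) (.node (.node (.node (.node (.node (.node (.leaf 35111530) (.leaf 331444326)) (.leaf 583757426)) (.node (.node (.leaf 66093498) (.leaf 904909502)) (.leaf 263668283))) (.node (.node (.node (.leaf 238472394) (.leaf 875851931)) (.leaf 178914903)) (.node (.node (.leaf 713566543) (.leaf 1035473230)) (.leaf 276940446)))) (.node (.node (.node (.node (.leaf 130746382) (.leaf 355386943)) (.leaf 675107421)) (.node (.node (.leaf 483824764) (.leaf 1071241014)) (.leaf 258469302))) (.node (.node (.node (.leaf 47480967) (.leaf 876090450)) (.leaf 204653112)) (.node (.node (.leaf 971245211) (.leaf 1077237215)) (.leaf 827198977))))) (.node (.node (.node (.node (.node (.leaf 80348512) (.leaf 800836139)) (.leaf 528386927)) (.node (.node (.leaf 74187023) (.leaf 947967205)) (.leaf 240583538))) (.node (.node (.node (.leaf 164202923) (.leaf 1027946032)) (.leaf 876948938)) (.node (.node (.leaf 897239774) (.leaf 1093236670)) (.leaf 704070801)))) (.node (.node (.node (.node (.leaf 187927222) (.leaf 901809323)) (.leaf 966380595))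 (.node (.node (.leaf 90654197) (.leaf 1085159308)) (.leaf 717902416))) (.node (.node (.node (.leaf 372527576) (.leaf 690425331)) (.leaf 1047860903)) (.node (.node (.leaf 125075794) (.leaf 1097864997)) (.leaf 318894067))))))) (.node (.node (.node (.node (.node (.node (.node (.leaf 9281685) (.leaf 506866680)) (.leaf 251407707)) (.node (.node (.leaf 107947726) (.leaf 467404076)) (.leaf 513012966))) (.node (.node (.node (.leaf 232180854) (.leaf 600435685)) (.leaf 1046451870)) (.node (.node (.leaf 841805764) (.leaf 1029935617)) (.leaf 274271750)))) (.node (.node (.node (.node (.leaf 589333188) (.leaf 351601556)) (.leaf 728330536)) (.node (.node (.leaf 393704033) (.leaf 1044895380)) (.leaf 750326921))) (.node (.node (.node (.leaf 320548875) (.leaf 921716939)) (.leaf 201755419)) (.node (.node (.leaf 565225469) (.leaf 1102927868)) (.leaf 300500667))))) (.node (.node (.node (.node (.node (.leaf 68338826) (.leaf 816361977)) (.leaf 530631903)) (.node (.node (.leaf 743025167) (.leaf 497821626)) (.leaf 710880633))) (.node (.node (.node (.leaf 40329934) (.leaf 520156412))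 (.leaf 827503250)) (.node (.node (.leaf 1020401157) (.leaf 1051382155)) (.leaf 916558480)))) (.node (.node (.node (.node (.leaf 100745501) (.leaf 848187545)) (.leaf 165317037)) (.node (.node (.leaf 86312307) (.leaf 1008514326)) (.leaf 1103730690))) (.node (.node (.node (.leaf 631288189) (.leaf 919620560)) (.leaf 1050146484)) (.node (.node (.leaf 209464196) (.leaf 1092881514)) (.leaf 850915436)))))) (.node (.node (.node (.node (.node (.node (.leaf 7700603) (.leaf 333484014)) (.leaf 877990408)) (.node (.node (.leaf 950579573) (.leaf 483837276)) (.leaf 1101436915))) (.node (.node (.node (.leaf 253381994) (.leaf 532639578)) (.leaf 533595340)) (.node (.node (.leaf 549880194) (.leaf 1040615521)) (.leaf 885254611)))) (.node (.node (.node (.node (.leaf 147540154) (.leaf 949948205)) (.leaf 831072615)) (.node (.node (.leaf 679244605) (.leaf 997649114)) (.leaf 615705785))) (.node (.node (.node (.leaf 48857281) (.leaf 432817339)) (.leaf 212298653)) (.node (.node (.leaf 583353480) (.leaf 1082444194)) (.leaf 568419811))))) (.node (.node (.node (.node (.node (.leaf 92112401)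 (.leaf 545303476)) (.leaf 566494949)) (.node (.node (.leaf 75924398) (.leaf 520131260)) (.leaf 615745927))) (.node (.node (.node (.leaf 43950863) (.leaf 414041206)) (.leaf 927361307)) (.node (.node (.leaf 645762258) (.leaf 1061803245)) (.leaf 959074965)))) (.node (.node (.node (.node (.leaf 28664358) (.leaf 800100361)) (.leaf 737284403)) (.node (.node (.leaf 258886149) (.leaf 1019030222)) (.leaf 760845227))) (.node (.node (.node (.leaf 63611966) (.leaf 453267281)) (.leaf 1054611151)) (.node (.node (.leaf 750169403) (.leaf 1102878524)) (.leaf 776488310)))))))))))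

noncomputable def edgeA1 : Arr ℕ :=
  (.node (.node (.node (.node (.node (.node (.node (.node (.node (.node (.node (.leaf 81921) (.leaf 768840584)) (.node (.leaf 129614179) (.leaf 1103516303))) (.node (.node (.leaf 381014549) (.leaf 695628133)) (.leaf 943501403))) (.node (.node (.node (.leaf 203156299) (.leaf 1090287531)) (.leaf 171909773)) (.node (.node (.leaf 91375105) (.leaf 1019646368)) (.leaf 268190372)))) (.node (.node (.node (.node (.leaf 92759577) (.leaf 870952222)) (.leaf 903400871)) (.node (.node (.leaf 681338885) (.leaf 1088714658)) (.leaf 1007490487))) (.node (.node (.node (.leaf 269463051) (.leaf 953799550)) (.leaf 1023440406)) (.node (.node (.leaf 801960584) (.leaf 1062556057)) (.leaf 293577449))))) (.node (.node (.node (.node (.node (.leaf 7938071) (.leaf 886359330)) (.leaf 968824047)) (.node (.node (.leaf 101738107) (.leaf 917383739)) (.leaf 577039454))) (.node (.node (.node (.leaf 36438657) (.leaf 398894144)) (.leaf 841829036)) (.node (.node (.leaf 102187477) (.leaf 1041396161)) (.leaf 1004926376)))) (.node (.node (.node (.node (.leaf 137865296)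 (.leaf 714737022)) (.leaf 161472925)) (.node (.node (.leaf 727344279) (.leaf 998345107)) (.leaf 672322690))) (.node (.node (.node (.leaf 95233585) (.leaf 433541737)) (.leaf 212249501)) (.node (.node (.leaf 629609589) (.leaf 1083183463)) (.leaf 541708182)))))) (.node (.node (.node (.node (.node (.node (.leaf 5349462) (.leaf 588967404)) (.leaf 645099909)) (.node (.node (.leaf 806941186) (.leaf 956590930)) (.leaf 660575127))) (.node (.node (.node (.leaf 233163917) (.leaf 957715142)) (.leaf 909825119)) (.node (.node (.leaf 999413126) (.leaf 1030846017)) (.leaf 708347134)))) (.node (.node (.node (.node (.leaf 17711374) (.leaf 910265753)) (.leaf 857641739)) (.node (.node (.leaf 610585986) (.leaf 987165221)) (.leaf 960718477))) (.node (.node (.node (.leaf 601303642) (.leaf 921490551)) (.leaf 202230573)) (.node (.node (.leaf 553486303) (.leaf 1072713235)) (.leaf 812083661))))) (.node (.node (.node (.node (.node (.leaf 47833957) (.leaf 845860960)) (.leaf 641232612)) (.node (.node (.leaf 117260714) (.leaf 863933130)) (.leaf 237625935))) (.node (.node (.node (.leaf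 57353202) (.leaf 905155585)) (.leaf 1011668430)) (.node (.node (.leaf 396358257) (.leaf 1052102692)) (.leaf 1018992124)))) (.node (.node (.node (.node (.leaf 65266775) (.leaf 821013618)) (.leaf 885565912)) (.node (.node (.leaf 424273081) (.leaf 1009143530)) (.leaf 1000551821))) (.node (.node (.node (.leaf 98379350) (.leaf 445281219)) (.leaf 217122792)) (.node (.node (.leaf 143591562) (.leaf 1093438212)) (.leaf 314249145))))))) (.node (.node (.node (.node (.node (.node (.node (.leaf 9576601) (.leaf 322249531)) (.leaf 554313540)) (.node (.node (.leaf 545516469) (.leaf 989140299)) (.leaf 594121098))) (.node (.node (.node (.leaf 729785223) (.leaf 681775711)) (.leaf 1080489840)) (.node (.node (.leaf 93217022) (.leaf 1025118843)) (.leaf 832983401)))) (.node (.node (.node (.node (.leaf 786596107) (.leaf 1103534080)) (.leaf 632505558)) (.node (.node (.leaf 652387625) (.leaf 981796992)) (.leaf 1079097191))) (.node (.node (.node (.leaf 194494962) (.leaf 1103296511)) (.leaf 925823515)) (.node (.node (.leaf 113624239) (.leaf 1067699198)) (.leaf 972828250))))) (.node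 (.node (.node (.node (.node (.leaf 57623542) (.leaf 880463708)) (.leaf 590481021)) (.node (.node (.leaf 350712110) (.leaf 830229788)) (.leaf 234603464))) (.node (.node (.node (.leaf 62759990) (.leaf 402297174)) (.leaf 547498150)) (.node (.node (.leaf 268217856) (.leaf 1046745248)) (.leaf 669200724)))) (.node (.node (.node (.node (.leaf 46629698) (.leaf 787318893)) (.leaf 737404556)) (.node (.node (.leaf 526431416) (.leaf 1003587201)) (.leaf 598493575))) (.node (.node (.node (.leaf 50783137) (.leaf 657436375)) (.leaf 212501032)) (.node (.node (.leaf 162384267) (.leaf 1088401135)) (.leaf 561710071)))))) (.node (.node (.node (.node (.node (.node (.leaf 6512743) (.leaf 1077917536)) (.leaf 871100689)) (.node (.node (.leaf 356807011) (.leaf 767111892)) (.leaf 230687295))) (.node (.node (.node (.leaf 61621294) (.leaf 668862880)) (.leaf 631042092)) (.node (.node (.leaf 785075295) (.leaf 1036210823)) (.leaf 770828847)))) (.node (.node (.node (.node (.leaf 554477330) (.leaf 520033531)) (.leaf 982701350)) (.node (.node (.leaf 672345472) (.leaf 992929296)) (.leaf 896283119)))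 (.node (.node (.node (.leaf 337645738) (.leaf 1096194001)) (.leaf 205047717)) (.node (.node (.leaf 1044092560) (.leaf 1077891264)) (.leaf 304630408))))) (.node (.node (.node (.node (.node (.leaf 13074601) (.leaf 344264857)) (.leaf 151413123)) (.node (.node (.leaf 86238650) (.leaf 511666046)) (.leaf 766137199))) (.node (.node (.node (.leaf 41181296) (.leaf 694424753)) (.leaf 864145303)) (.node (.node (.leaf 1025103392) (.leaf 1057213348)) (.leaf 579667896)))) (.node (.node (.node (.node (.leaf 44065552) (.leaf 822879942)) (.leaf 168871053)) (.node (.node (.leaf 89317619) (.leaf 1014435650)) (.leaf 265568950))) (.node (.node (.node (.leaf 372699611) (.leaf 667608404)) (.leaf 549274207)) (.node (.node (.leaf 141289574) (.leaf 1098520485)) (.leaf 821120279)))))))) (.node (.node (.node (.node (.node (.node (.node (.node (.leaf 5144661) (.leaf 927895222)) (.leaf 209374083)) (.node (.node (.leaf 168929760) (.leaf 1012626900)) (.leaf 698208329))) (.node (.node (.node (.leaf 27779152) (.leaf 380429310)) (.leaf 173066084)) (.node (.node (.leaf 992728415) (.leaf 1022324525))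 (.leaf 852225174)))) (.node (.node (.node (.node (.leaf 101320311) (.leaf 1105082378)) (.leaf 899089357)) (.node (.node (.leaf 455209987) (.leaf 1002960285)) (.leaf 764351554))) (.node (.node (.node (.leaf 50520990) (.leaf 945434306)) (.leaf 889850995)) (.node (.node (.leaf 1031484997) (.leaf 1064899568)) (.leaf 923388248))))) (.node (.node (.node (.node (.node (.leaf 51266473) (.leaf 1059583726)) (.leaf 144361453)) (.node (.node (.leaf 635382724) (.leaf 674457240)) (.leaf 823472592))) (.node (.node (.node (.leaf 260148678) (.leaf 915736994)) (.leaf 574377027)) (.node (.node (.leaf 589693265) (.leaf 1044379281)) (.leaf 936219798)))) (.node (.node (.node (.node (.leaf 21159995) (.leaf 762660914)) (.leaf 675835513)) (.node (.node (.leaf 138324054) (.leaf 1000869120)) (.leaf 1050924729))) (.node (.node (.node (.leaf 726852753) (.leaf 520369405)) (.leaf 529066040)) (.node (.node (.leaf 696578638) (.leaf 1085756234)) (.leaf 1005811117)))))) (.node (.node (.node (.node (.node (.node (.leaf 27755023) (.leaf 1076672344)) (.leaf 137889826)) (.node (.node (.leaf 65414232)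 (.leaf 914485553)) (.leaf 229296329))) (.node (.node (.node (.leaf 86975938) (.leaf 712052535)) (.leaf 177947635)) (.node (.node (.leaf 97689864) (.leaf 1033457410)) (.leaf 870650636)))) (.node (.node (.node (.node (.leaf 82806150) (.leaf 435630989)) (.leaf 748711221)) (.node (.node (.leaf 781510194) (.leaf 989959124)) (.leaf 778923151))) (.node (.node (.node (.leaf 785310556) (.leaf 756437350)) (.leaf 889426056)) (.node (.node (.leaf 556369382) (.leaf 1075401496)) (.leaf 334196870))))) (.node (.node (.node (.node (.node (.leaf 59188234) (.leaf 342041458)) (.leaf 602047138)) (.node (.node (.leaf 113649440) (.leaf 506613684)) (.leaf 238920275))) (.node (.node (.node (.leaf 801850434) (.leaf 924428854)) (.leaf 866766281)) (.node (.node (.leaf 831015258) (.leaf 1054822049)) (.leaf 289050321)))) (.node (.node (.node (.node (.leaf 182880897) (.leaf 823447343)) (.leaf 375878136)) (.node (.node (.leaf 88720849) (.leaf 1012093125)) (.leaf 264086162))) (.node (.node (.node (.leaf 538706493) (.leaf 874058445)) (.leaf 891466202)) (.node (.node (.leaf 124356015) (.leaf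 1095980211)) (.leaf 326119478))))))) (.node (.node (.node (.node (.node (.node (.node (.leaf 15114501) (.leaf 325634959)) (.leaf 684229621)) (.node (.node (.leaf 62169801) (.leaf 465560871)) (.leaf 818382468))) (.node (.node (.node (.leaf 216427450) (.leaf 1075533649)) (.leaf 176030749)) (.node (.node (.leaf 781259716) (.leaf 1027904932)) (.leaf 272844509)))) (.node (.node (.node (.node (.leaf 32252110) (.leaf 854184755)) (.leaf 156647831)) (.node (.node (.leaf 734045365) (.leaf 984494479)) (.leaf 748176731))) (.node (.node (.node (.leaf 939599658) (.leaf 1037874794)) (.leaf 199623456)) (.node (.node (.leaf 571959130) (.leaf 1070322660)) (.leaf 399651459))))) (.node (.node (.node (.node (.node (.leaf 22618543) (.leaf 872663771)) (.leaf 146776441)) (.node (.node (.leaf 429888366) (.leaf 1085519758)) (.leaf 236216906))) (.node (.node (.node (.leaf 160475509) (.leaf 755774288)) (.leaf 808324431)) (.node (.node (.leaf 105750812) (.leaf 1049397310)) (.leaf 770675019)))) (.node (.node (.node (.node (.leaf 30548553) (.leaf 638439473)) (.leaf 924544571)) (.node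 (.node (.leaf 196528333) (.leaf 1006399839)) (.leaf 760827388))) (.node (.node (.node (.leaf 616902714) (.leaf 844088835)) (.leaf 215009505)) (.node (.node (.leaf 555050799) (.leaf 1091049366)) (.leaf 327395615)))))) (.node (.node (.node (.node (.node (.node (.leaf 41124575) (.leaf 799982697)) (.leaf 871795413)) (.node (.node (.leaf 166308295) (.leaf 480847186)) (.leaf 836847364))) (.node (.node (.node (.leaf 248065334) (.leaf 1071363895)) (.leaf 181256790)) (.node (.node (.leaf 100663739) (.leaf 1038830140)) (.leaf 704407880)))) (.node (.node (.node (.node (.leaf 136325193) (.leaf 844147370)) (.leaf 159655651)) (.node (.node (.leaf 180447846) (.leaf 995529680)) (.leaf 253767025))) (.node (.node (.node (.leaf 48399217) (.leaf 763587753)) (.leaf 1073362756)) (.node (.node (.leaf 789088925) (.leaf 1080446597)) (.leaf 717443137))))) (.node (.node (.node (.node (.node (.leaf 88688080) (.leaf 345690353)) (.leaf 153200881)) (.node (.node (.leaf 889071648) (.leaf 1043019401)) (.leaf 242879729))) (.node (.node (.node (.leaf 41754739) (.leaf 814681789)) (.leaf 823709024))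 (.node (.node (.leaf 110823000) (.leaf 1074706252)) (.leaf 648025282)))) (.node (.node (.node (.node (.leaf 26484812) (.leaf 820548461)) (.leaf 901665641)) (.node (.node (.leaf 341242058) (.leaf 1016893021)) (.leaf 267103631))) (.node (.node (.node (.leaf 592701743) (.leaf 944788203)) (.leaf 221809535)) (.node (.node (.leaf 127508822) (.leaf 1101058397)) (.leaf 774328562))))))))) (.node (.node (.node (.node (.node (.node (.node (.node (.node (.leaf 2834473) (.leaf 957115123)) (.node (.leaf 590892589) (.leaf 1104811960))) (.node (.node (.leaf 683946388) (.leaf 849515114)) (.leaf 975105553))) (.node (.node (.node (.leaf 209431428) (.leaf 559785808)) (.leaf 822612452)) (.node (.node (.leaf 91635967) (.leaf 1021046192)) (.leaf 269009895)))) (.node (.node (.node (.node (.leaf 97519183) (.leaf 829965611)) (.leaf 610701921)) (.node (.node (.leaf 677802571) (.leaf 954714226)) (.leaf 745148326))) (.node (.node (.node (.leaf 117475180) (.leaf 1097660379)) (.leaf 998176127)) (.node (.node (.leaf 761860406) (.leaf 1063784775)) (.leaf 777688074))))) (.node (.node (.node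 (.node (.node (.leaf 8609816) (.leaf 1019172349)) (.leaf 836293786)) (.node (.node (.leaf 586524865) (.leaf 485721447)) (.leaf 577325732))) (.node (.node (.node (.leaf 36766322) (.leaf 909256847)) (.leaf 183337980)) (.node (.node (.leaf 1011750351) (.leaf 1042715898)) (.leaf 741819116)))) (.node (.node (.node (.node (.leaf 136177733) (.leaf 630795286)) (.leaf 506899448)) (.node (.node (.leaf 820572656) (.leaf 999789486)) (.leaf 255386242))) (.node (.node (.node (.leaf 347590916) (.leaf 782976491)) (.leaf 221522925)) (.node (.node (.leaf 137783201) (.leaf 1084421584)) (.leaf 559974118)))))) (.node (.node (.node (.node (.node (.node (.leaf 31580459) (.leaf 650997220)) (.leaf 980694298)) (.node (.node (.leaf 813330222) (.leaf 705147622)) (.leaf 539789045))) (.node (.node (.node (.leaf 30474416) (.leaf 763964689)) (.leaf 177687113)) (.node (.node (.leaf 96960831) (.leaf 1032111887)) (.leaf 1014986212)))) (.node (.node (.node (.node (.leaf 120604573) (.leaf 786051049)) (.leaf 1075902291)) (.node (.node (.leaf 477467744) (.leaf 988615319)) (.leaf 751488501)))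 (.node (.node (.node (.leaf 814302328) (.leaf 423158932)) (.leaf 202785275)) (.node (.node (.leaf 549554155) (.leaf 1074049869)) (.leaf 1022334480))))) (.node (.node (.node (.node (.node (.leaf 31858890) (.leaf 1092859836)) (.leaf 700806050)) (.node (.node (.leaf 238611661) (.leaf 1006712242)) (.leaf 1013265880))) (.node (.node (.node (.leaf 56525388) (.leaf 727691556)) (.leaf 740901939)) (.node (.node (.leaf 572541086) (.leaf 1053446489)) (.leaf 288441967)))) (.node (.node (.node (.node (.leaf 24879561) (.leaf 1056044760)) (.leaf 166462325)) (.node (.node (.leaf 405442912) (.leaf 1010487472)) (.leaf 861268040))) (.node (.node (.node (.leaf 53592646) (.leaf 1006581169)) (.leaf 217795488)) (.node (.node (.leaf 123724110) (.leaf 1094686307)) (.leaf 315459991))))))) (.node (.node (.node (.node (.node (.node (.node (.leaf 14614780) (.leaf 1020671494)) (.leaf 957474585)) (.node (.node (.leaf 61375529) (.leaf 728445134)) (.leaf 526929240))) (.node (.node (.node (.leaf 217770952) (.leaf 443757497)) (.leaf 175516201)) (.node (.node (.leaf 995628401) (.leaf 1026610278))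 (.leaf 272109097)))) (.node (.node (.node (.node (.leaf 107488971) (.leaf 734408934)) (.leaf 595594780)) (.node (.node (.leaf 694317777) (.leaf 983060486)) (.leaf 747539460))) (.node (.node (.node (.leaf 46433087) (.leaf 418713188)) (.leaf 766018910)) (.node (.node (.leaf 712624137) (.leaf 1068880339)) (.leaf 297305836))))) (.node (.node (.node (.node (.node (.leaf 60441626) (.leaf 337562193)) (.leaf 1054815952)) (.node (.node (.leaf 860695691) (.leaf 491047400)) (.leaf 235669028))) (.node (.node (.node (.leaf 67420757) (.leaf 1081243508)) (.leaf 235629736)) (.node (.node (.leaf 615928404) (.leaf 1048104909)) (.leaf 374911475)))) (.node (.node (.node (.node (.leaf 22388799) (.leaf 574352233)) (.leaf 890499543)) (.node (.node (.leaf 199813937) (.leaf 1039029873)) (.leaf 755829315))) (.node (.node (.node (.leaf 740487454) (.leaf 700139763)) (.leaf 1078892390)) (.node (.node (.leaf 965069274) (.leaf 1089819731)) (.leaf 311953468)))))) (.node (.node (.node (.node (.node (.node (.leaf 37978773) (.leaf 779060495)) (.leaf 205695846)) (.node (.node (.leaf 409637594)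 (.leaf 731998803)) (.leaf 577268861))) (.node (.node (.node (.leaf 246648088) (.leaf 922775627)) (.leaf 895175501)) (.node (.node (.leaf 789791722) (.leaf 1037519926)) (.leaf 1041380992)))) (.node (.node (.node (.node (.leaf 19406903) (.leaf 934022354)) (.leaf 961357455)) (.node (.node (.leaf 674343205) (.leaf 994103443)) (.leaf 258452918))) (.node (.node (.node (.leaf 58098683) (.leaf 901640006)) (.leaf 644781130)) (.node (.node (.leaf 116934216) (.leaf 1079232957)) (.leaf 857821663))))) (.node (.node (.node (.node (.node (.leaf 84886949) (.leaf 888589937)) (.leaf 152314245)) (.node (.node (.leaf 75056361) (.leaf 1058125541)) (.leaf 241484969))) (.node (.node (.node (.leaf 68379786) (.leaf 742663816)) (.leaf 1068873512)) (.node (.node (.leaf 793118060) (.leaf 1058599995)) (.leaf 647899171)))) (.node (.node (.node (.node (.leaf 191630069) (.leaf 864210495)) (.leaf 831467694)) (.node (.node (.leaf 790221366) (.leaf 1034090068)) (.leaf 647472797))) (.node (.node (.node (.leaf 56049969) (.leaf 1099200484)) (.leaf 549938812)) (.node (.node (.leaf 558597580)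 (.leaf 1099781102)) (.leaf 318132195)))))))) (.node (.node (.node (.node (.node (.node (.node (.node (.leaf 8585351) (.leaf 321695769)) (.leaf 133579119)) (.node (.node (.leaf 60310498) (.leaf 1034499670)) (.leaf 224938260))) (.node (.node (.node (.leaf 216640445) (.leaf 683255810)) (.leaf 742010628)) (.node (.node (.leaf 92668679) (.leaf 1023806580)) (.leaf 270656161)))) (.node (.node (.node (.node (.leaf 16080941) (.leaf 960064824)) (.leaf 155388185)) (.node (.node (.leaf 77579545) (.leaf 980407576)) (.leaf 246754585))) (.node (.node (.node (.leaf 44703866) (.leaf 635276118)) (.leaf 193389038)) (.node (.node (.leaf 113051240) (.leaf 1066300473)) (.leaf 821269452))))) (.node (.node (.node (.node (.node (.leaf 54100942) (.leaf 336080330)) (.leaf 205843303)) (.node (.node (.leaf 69141238) (.leaf 793143016)) (.leaf 921441406))) (.node (.node (.node (.leaf 266833389) (.leaf 1077786463)) (.leaf 185041676)) (.node (.node (.leaf 674432357) (.leaf 1045466718)) (.leaf 284132460)))) (.node (.node (.node (.node (.leaf 159205737) (.leaf 633883690)) (.leaf 277818982))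 (.node (.node (.leaf 85566894) (.leaf 1072740160)) (.leaf 599158730))) (.node (.node (.node (.leaf 159738225) (.leaf 621603142)) (.leaf 211468831)) (.node (.node (.leaf 921915710) (.leaf 1094547399)) (.leaf 953478548)))))) (.node (.node (.node (.node (.node (.node (.leaf 33849937) (.leaf 330572616)) (.leaf 196618343)) (.node (.node (.leaf 65372348) (.leaf 476222553)) (.leaf 944867868))) (.node (.node (.node (.leaf 240979169) (.leaf 1064253195)) (.leaf 601031477)) (.node (.node (.leaf 991737177) (.leaf 1034889324)) (.leaf 1051309755)))) (.node (.node (.node (.node (.leaf 550397759) (.leaf 354902946)) (.leaf 1044690579)) (.node (.node (.leaf 735744287) (.leaf 991545831)) (.leaf 645736188))) (.node (.node (.node (.leaf 335777941) (.leaf 530671804)) (.leaf 205981574)) (.node (.node (.leaf 552569969) (.leaf 1076677797)) (.leaf 303418516))))) (.node (.node (.node (.node (.node (.leaf 78611768) (.leaf 894881038)) (.leaf 150585865)) (.node (.node (.leaf 733770018) (.leaf 978556173)) (.leaf 239960774))) (.node (.node (.node (.leaf 584329180) (.leaf 865521926)) (.leaf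 192457477)) (.node (.node (.leaf 1024267803) (.leaf 1056134271)) (.leaf 904515893)))) (.node (.node (.node (.node (.leaf 53838687) (.leaf 838568433)) (.leaf 885542762)) (.node (.node (.leaf 194513698) (.leaf 1013287975)) (.leaf 710284275))) (.node (.node (.node (.leaf 713075252) (.leaf 447948017)) (.leaf 219472406)) (.node (.node (.leaf 585592491) (.leaf 1097291661)) (.leaf 316829656))))))) (.node (.node (.node (.node (.node (.node (.node (.leaf 19808627) (.leaf 766594371)) (.leaf 1058871018)) (.node (.node (.leaf 106227386) (.leaf 466961747)) (.leaf 839438087))) (.node (.node (.node (.leaf 29565012) (.leaf 1102772219)) (.leaf 176769593)) (.node (.node (.leaf 945309495) (.leaf 1029360382)) (.leaf 661164952)))) (.node (.node (.node (.node (.leaf 17293361) (.leaf 734596678)) (.leaf 759074982)) (.node (.node (.leaf 799474484) (.leaf 1099773928)) (.leaf 1012757973))) (.node (.node (.node (.leaf 321589272) (.leaf 421119269)) (.leaf 200821006)) (.node (.node (.leaf 903490947) (.leaf 1071551142)) (.leaf 299567658))))) (.node (.node (.node (.node (.node (.leaf 22561197)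 (.leaf 804966708)) (.leaf 1061762811)) (.node (.node (.leaf 736259659) (.leaf 857960929)) (.leaf 236929694))) (.node (.node (.node (.leaf 277909097) (.leaf 405620386)) (.leaf 997250426)) (.node (.node (.leaf 106062109) (.leaf 1050801313)) (.leaf 606644561)))) (.node (.node (.node (.node (.leaf 65913014) (.leaf 864858827)) (.leaf 750366012)) (.node (.node (.leaf 971125442) (.leaf 1007617795)) (.leaf 1002141079))) (.node (.node (.node (.leaf 52650131) (.leaf 839970592)) (.leaf 215926888)) (.node (.node (.leaf 511145181) (.leaf 1092367422)) (.leaf 748203312)))))) (.node (.node (.node (.node (.node (.node (.leaf 42181367) (.leaf 735202209)) (.leaf 951945338)) (.node (.node (.leaf 814297176) (.leaf 1004746151)) (.leaf 867814614))) (.node (.node (.node (.leaf 585745124) (.leaf 403780267)) (.leaf 297299752)) (.node (.node (.leaf 587181708) (.leaf 1040077600)) (.leaf 600796129)))) (.node (.node (.node (.node (.leaf 146294948) (.leaf 714254633)) (.leaf 160711577)) (.node (.node (.leaf 777798509) (.leaf 996919998)) (.leaf 1103124478))) (.node (.node (.node (.leaf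 111044338) (.leaf 1018164728)) (.leaf 322449441)) (.node (.node (.leaf 213445542) (.leaf 1081841474)) (.leaf 306843259))))) (.node (.node (.node (.node (.node (.leaf 14434552) (.leaf 941387028)) (.leaf 643641055)) (.node (.node (.leaf 450876401) (.leaf 1036514914)) (.leaf 884749190))) (.node (.node (.node (.leaf 42533020) (.leaf 413790940)) (.leaf 946377683)) (.node (.node (.leaf 879940097) (.leaf 1061243371)) (.leaf 292884217)))) (.node (.node (.node (.node (.leaf 26771784) (.leaf 375884205)) (.leaf 565006209)) (.node (.node (.leaf 979350802) (.leaf 1021638156)) (.leaf 692236835))) (.node (.node (.node (.leaf 531736084) (.leaf 1070724915)) (.leaf 506874252)) (.node (.node (.leaf 215804855) (.leaf 1102238557)) (.leaf 804177056)))))))))) (.node (.node (.node (.node (.node (.node (.node (.node (.node (.node (.leaf 1589268) (.leaf 320048359)) (.node (.leaf 139847773) (.leaf 1104105996))) (.node (.node (.leaf 58744995) (.leaf 808413872)) (.leaf 622892109))) (.node (.node (.node (.leaf 210373517) (.leaf 962743182)) (.leaf 264138192)) (.node (.node (.leaf 790049370)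 (.leaf 1020318791)) (.leaf 1065842453)))) (.node (.node (.node (.node (.leaf 96650820) (.leaf 347664645)) (.leaf 605597613)) (.node (.node (.leaf 185330329) (.leaf 645188453)) (.leaf 1091844021))) (.node (.node (.node (.leaf 43565829) (.leaf 834703945)) (.leaf 1041938051)) (.node (.node (.leaf 112133569) (.leaf 1063160555)) (.leaf 741984109))))) (.node (.node (.node (.node (.node (.leaf 8364146) (.leaf 577818462)) (.leaf 143099314)) (.node (.node (.leaf 278441579) (.leaf 696839564)) (.leaf 1096669140))) (.node (.node (.node (.leaf 610608448) (.leaf 399724330)) (.leaf 883757141)) (.node (.node (.leaf 818377515) (.leaf 1098397663)) (.leaf 1016690158)))) (.node (.node (.node (.node (.leaf 138707002) (.leaf 1068005154)) (.leaf 853594363)) (.node (.node (.leaf 83083775) (.leaf 999115395)) (.leaf 256732574))) (.node (.node (.node (.leaf 49160331) (.leaf 605343226)) (.leaf 209404453)) (.node (.node (.leaf 218246091) (.leaf 1083746738)) (.leaf 1048983213)))))) (.node (.node (.node (.node (.node (.node (.leaf 4513861) (.leaf 328868676)) (.leaf 144713875)) (.node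 (.node (.leaf 64128030) (.leaf 617813103)) (.leaf 792023460))) (.node (.node (.node (.leaf 30130322) (.leaf 794273485)) (.leaf 177217985)) (.node (.node (.leaf 96740933) (.leaf 1037538920)) (.leaf 612889207)))) (.node (.node (.node (.node (.leaf 17891653) (.leaf 1020147203)) (.leaf 196978878)) (.node (.node (.leaf 476140632) (.leaf 987943640)) (.leaf 766446866))) (.node (.node (.node (.leaf 919447668) (.leaf 640124200)) (.leaf 765742351)) (.node (.node (.leaf 889079024) (.leaf 1073337534)) (.leaf 301212419))))) (.node (.node (.node (.node (.node (.leaf 72008894) (.leaf 1002542490)) (.leaf 647409128)) (.node (.node (.leaf 113420061) (.leaf 1008924095)) (.leaf 795886525))) (.node (.node (.node (.leaf 589160795) (.leaf 1032664651)) (.leaf 718456478)) (.node (.node (.leaf 813567072) (.leaf 1052758212)) (.leaf 287935687)))) (.node (.node (.node (.node (.leaf 58082152) (.leaf 371182276)) (.leaf 353087820)) (.node (.node (.leaf 176269873) (.leaf 1009824992)) (.leaf 260073908))) (.node (.node (.node (.leaf 792767111) (.leaf 445318383)) (.leaf 730689835)) (.node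 (.node (.leaf 502068420) (.leaf 1094104210)) (.leaf 984315183))))))) (.node (.node (.node (.node (.node (.node (.node (.leaf 13205732) (.leaf 329855057)) (.leaf 555706132)) (.node (.node (.leaf 61031323) (.leaf 1041118847)) (.leaf 225944105))) (.node (.node (.node (.leaf 697182806) (.leaf 383214600)) (.leaf 174753392)) (.node (.node (.leaf 187181736) (.leaf 1025951587)) (.leaf 271714770)))) (.node (.node (.node (.node (.leaf 94643756) (.leaf 350081186)) (.leaf 611988550)) (.node (.node (.leaf 963325428) (.leaf 982361575)) (.leaf 865354714))) (.node (.node (.node (.leaf 199551791) (.leaf 930818252)) (.leaf 1059780335)) (.node (.node (.leaf 1035343451) (.leaf 1068275488)) (.leaf 576475309))))) (.node (.node (.node (.node (.node (.leaf 42509048) (.leaf 839791567)) (.leaf 146327717)) (.node (.node (.leaf 70115520) (.leaf 490366324)) (.leaf 235209624))) (.node (.node (.node (.leaf 104638112) (.leaf 837620100)) (.leaf 551961442)) (.node (.node (.leaf 104800538) (.leaf 1047335116)) (.leaf 592144225)))) (.node (.node (.node (.node (.leaf 600932806) (.leaf 872016605))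 (.leaf 163940773)) (.node (.node (.leaf 539339413) (.leaf 1004326964)) (.leaf 663311444))) (.node (.node (.node (.leaf 50905539) (.leaf 863105053)) (.leaf 1055618773)) (.node (.node (.leaf 1048393386) (.leaf 1098545120)) (.leaf 629826491)))))) (.node (.node (.node (.node (.node (.node (.leaf 36758152) (.leaf 778257680)) (.leaf 525937756)) (.node (.node (.leaf 66372709) (.leaf 934048104)) (.leaf 1022113295))) (.node (.node (.node (.leaf 245533961) (.leaf 736758946)) (.leaf 1045214870)) (.node (.node (.leaf 929002496) (.leaf 1036864702)) (.leaf 677743179)))) (.node (.node (.node (.node (.leaf 552691547) (.leaf 680199468)) (.leaf 946735865)) (.node (.node (.leaf 681800224) (.leaf 993547260)) (.leaf 252726075))) (.node (.node (.node (.leaf 715747507) (.leaf 427823367)) (.leaf 574508268)) (.node (.node (.leaf 559672399) (.leaf 1080063853)) (.leaf 305270629))))) (.node (.node (.node (.node (.node (.leaf 13271269) (.leaf 736601409)) (.leaf 227765310)) (.node (.node (.leaf 74826472) (.leaf 970223927)) (.leaf 746836961))) (.node (.node (.node (.leaf 585739611) (.leaf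 1056405210)) (.leaf 959629920)) (.node (.node (.leaf 109987379) (.leaf 1058049788)) (.leaf 641468318)))) (.node (.node (.node (.node (.leaf 871819376) (.leaf 824922004)) (.leaf 169395077)) (.node (.node (.leaf 556256471) (.leaf 1014993609)) (.leaf 650970426))) (.node (.node (.node (.leaf 59368459) (.leaf 703198113)) (.leaf 720268658)) (.node (.node (.leaf 895199848) (.leaf 1099208527)) (.leaf 317834034)))))))) (.node (.node (.node (.node (.node (.node (.node (.node (.leaf 1605639) (.leaf 621872407)) (.leaf 143001553)) (.node (.node (.leaf 59965902) (.leaf 459138324)) (.leaf 224693116))) (.node (.node (.node (.leaf 217312193) (.leaf 380996759)) (.leaf 973063969)) (.node (.node (.leaf 531711177) (.leaf 1023088028)) (.leaf 355447132)))) (.node (.node (.node (.node (.leaf 15925369) (.leaf 348623125)) (.leaf 155206183)) (.node (.node (.leaf 620472086) (.leaf 979732994)) (.leaf 709315639))) (.node (.node (.node (.leaf 801603762) (.leaf 900828146)) (.leaf 933309537)) (.node (.node (.leaf 555681782) (.leaf 1065604871)) (.leaf 295781327))))) (.node (.node (.node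 (.node (.node (.leaf 9076878) (.leaf 784681654)) (.leaf 933680022)) (.node (.node (.leaf 421819194) (.leaf 916378669)) (.leaf 233818795))) (.node (.node (.node (.leaf 615804156) (.leaf 401302600)) (.leaf 950226972)) (.node (.node (.leaf 103547198) (.leaf 1064630030)) (.leaf 720963506)))) (.node (.node (.node (.node (.leaf 158173513) (.leaf 683921956)) (.leaf 664175825)) (.node (.node (.leaf 83789196) (.leaf 1020818951)) (.leaf 953452542))) (.node (.node (.node (.leaf 735144153) (.leaf 437544146)) (.leaf 691704354)) (.node (.node (.leaf 1049384624) (.leaf 1086460660)) (.leaf 646638088)))))) (.node (.node (.node (.node (.node (.node (.leaf 29540919) (.leaf 997078393)) (.leaf 581897809)) (.node (.node (.leaf 355004760) (.leaf 483030137)) (.leaf 261941467))) (.node (.node (.node (.leaf 574139042) (.leaf 800714973)) (.leaf 619081241)) (.node (.node (.leaf 891972347) (.leaf 1034098161)) (.leaf 275712457)))) (.node (.node (.node (.node (.leaf 122169263) (.leaf 669699075)) (.leaf 158533973)) (.node (.node (.leaf 667657463) (.leaf 990777665)) (.leaf 689203617)))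 (.node (.node (.node (.leaf 76784903) (.leaf 738527753)) (.leaf 204136953)) (.node (.node (.leaf 555149104) (.leaf 1076057690)) (.leaf 941224183))))) (.node (.node (.node (.node (.node (.leaf 620913043) (.leaf 883470419)) (.leaf 606456143)) (.node (.node (.leaf 73457863) (.leaf 835932702)) (.leaf 239362644))) (.node (.node (.node (.leaf 287035071) (.leaf 767083848)) (.leaf 926602290)) (.node (.node (.leaf 108388643) (.leaf 1055453904)) (.leaf 727593091)))) (.node (.node (.node (.node (.leaf 88032713) (.leaf 838437411)) (.leaf 409187029)) (.node (.node (.leaf 558295107) (.leaf 1012634484)) (.leaf 377303549))) (.node (.node (.node (.leaf 244919554) (.leaf 892752026)) (.leaf 543494286)) (.node (.node (.leaf 127363054) (.leaf 1096651470)) (.leaf 316567508))))))) (.node (.node (.node (.node (.node (.node (.node (.leaf 18071882) (.leaf 1027896880)) (.leaf 930399276)) (.node (.node (.leaf 62571430) (.leaf 957837986)) (.leaf 227058221))) (.node (.node (.node (.leaf 229264464) (.leaf 803465077)) (.leaf 713051511)) (.node (.node (.leaf 535553563) (.leaf 1028564728))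 (.leaf 534619722)))) (.node (.node (.node (.node (.leaf 113837858) (.leaf 914420218)) (.leaf 1070151471)) (.node (.node (.leaf 737190779) (.leaf 1094260677)) (.leaf 748554500))) (.node (.node (.node (.leaf 799449304) (.leaf 420701327)) (.leaf 252972391)) (.node (.node (.leaf 114385206) (.leaf 1070846741)) (.leaf 863275564))))) (.node (.node (.node (.node (.node (.leaf 11444405) (.leaf 803377245)) (.leaf 572106566)) (.node (.node (.leaf 800992852) (.leaf 1069242154)) (.leaf 569831299))) (.node (.node (.node (.leaf 39142058) (.leaf 755527326)) (.leaf 187794606)) (.node (.node (.leaf 469660740) (.leaf 1050088934)) (.leaf 666260605)))) (.node (.node (.node (.node (.leaf 607954236) (.leaf 739447381)) (.leaf 165210554)) (.node (.node (.leaf 85868909) (.leaf 1006978760)) (.leaf 1006384560))) (.node (.node (.node (.leaf 718056858) (.leaf 826508619)) (.leaf 545310223)) (.node (.node (.leaf 251669853) (.leaf 1091695779)) (.leaf 496190879)))))) (.node (.node (.node (.node (.node (.node (.leaf 7323692) (.leaf 782125752)) (.leaf 919425092)) (.node (.node (.leaf 67535989)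 (.leaf 924996717)) (.leaf 828674063))) (.node (.node (.node (.leaf 35512414) (.leaf 612912534)) (.leaf 590506144)) (.node (.node (.leaf 399872645) (.leaf 1039443768)) (.leaf 1076803417)))) (.node (.node (.node (.node (.leaf 19832888) (.leaf 844526599)) (.leaf 603390618)) (.node (.node (.leaf 974303773) (.leaf 1012348370)) (.leaf 254143861))) (.node (.node (.node (.leaf 342659283) (.leaf 856355856)) (.leaf 312340395)) (.node (.node (.leaf 789594721) (.leaf 1081217103)) (.leaf 569593716))))) (.node (.node (.node (.node (.node (.leaf 89769449) (.leaf 967781493)) (.leaf 756470609)) (.node (.node (.leaf 746859748) (.leaf 913994856)) (.leaf 243073900))) (.node (.node (.node (.leaf 547548194) (.leaf 1019983362)) (.leaf 970117434)) (.node (.node (.leaf 1027348013) (.leaf 1060534004)) (.leaf 595979809)))) (.node (.node (.node (.node (.leaf 214231088) (.leaf 708947522)) (.leaf 500741313)) (.node (.node (.leaf 90571402) (.leaf 1017564767)) (.leaf 963302443))) (.node (.node (.node (.leaf 57476004) (.leaf 817827657)) (.leaf 662810342)) (.node (.node (.leaf 211102572)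 (.leaf 1101697299)) (.leaf 844928093))))))))) (.node (.node (.node (.node (.node (.node (.node (.node (.node (.leaf 1032203) (.leaf 856294673)) (.leaf 591204093)) (.node (.node (.leaf 177990224) (.leaf 838939583)) (.leaf 930113765))) (.node (.node (.node (.leaf 27574789) (.leaf 1009472962)) (.leaf 875884699)) (.node (.node (.leaf 537347675) (.leaf 1021662072)) (.leaf 904447827)))) (.node (.node (.node (.node (.leaf 99321445) (.leaf 1066309400)) (.leaf 154624395)) (.node (.node (.leaf 776299123) (.leaf 978342744)) (.leaf 834552748))) (.node (.node (.node (.leaf 301494091) (.leaf 415573113)) (.leaf 851186518)) (.node (.node (.leaf 708898369) (.leaf 1069414187)) (.leaf 1019860481))))) (.node (.node (.node (.node (.node (.leaf 49677198) (.leaf 334611605)) (.leaf 579735272)) (.node (.node (.leaf 72246465) (.leaf 700467444)) (.leaf 779438785))) (.node (.node (.node (.leaf 258952636) (.leaf 400396505)) (.leaf 183943641)) (.node (.node (.leaf 737383008) (.leaf 1043500459)) (.leaf 587155404)))) (.node (.node (.node (.node (.leaf 682132479) (.leaf 1099036643)) (.leaf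 162482568)) (.node (.node (.leaf 126830523) (.leaf 1033680465)) (.leaf 688950236))) (.node (.node (.node (.leaf 348590356) (.leaf 435357421)) (.leaf 210324312)) (.node (.node (.leaf 119752589) (.leaf 1085115901)) (.leaf 308896537)))))) (.node (.node (.node (.node (.node (.node (.leaf 26460655) (.leaf 883626184)) (.leaf 526206387)) (.node (.node (.leaf 65880995) (.leaf 724985678)) (.leaf 228745779))) (.node (.node (.node (.leaf 56746702) (.leaf 984511792)) (.leaf 677254192)) (.node (.node (.leaf 534333196) (.leaf 1032785783)) (.leaf 945984374)))) (.node (.node (.node (.node (.leaf 18153704) (.leaf 353029353)) (.leaf 690130447)) (.node (.node (.leaf 79430959) (.leaf 989352975)) (.leaf 808735157))) (.node (.node (.node (.leaf 332009581) (.leaf 424137219)) (.leaf 203549519)) (.node (.node (.leaf 550160344) (.leaf 1074713654)) (.leaf 301633162))))) (.node (.node (.node (.node (.node (.leaf 75023592) (.leaf 1055766230)) (.leaf 930526415)) (.node (.node (.leaf 533638993) (.leaf 1030944322)) (.leaf 575007714))) (.node (.node (.node (.leaf 40174236) (.leaf 863659516))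 (.leaf 189843836)) (.node (.node (.leaf 108324563) (.leaf 1054116310)) (.leaf 757051904)))) (.node (.node (.node (.node (.leaf 24969304) (.leaf 892129773)) (.leaf 300789566)) (.node (.node (.leaf 558590912) (.leaf 1083357057)) (.leaf 981398814))) (.node (.node (.node (.leaf 81290606) (.leaf 446325996)) (.leaf 323633964)) (.node (.node (.leaf 550987384) (.leaf 1095340213)) (.leaf 325857331))))))) (.node (.node (.node (.node (.node (.node (.node (.leaf 3112981) (.leaf 959654628)) (.leaf 793331326)) (.node (.node (.leaf 679511421) (.leaf 963498506)) (.leaf 226445463))) (.node (.node (.node (.leaf 126140499) (.leaf 955386529)) (.leaf 1008809406)) (.node (.node (.leaf 94651331) (.leaf 1027314412)) (.leaf 873841405)))) (.node (.node (.node (.node (.leaf 41493227) (.leaf 350572772)) (.leaf 1023129108)) (.node (.node (.leaf 659435475) (.leaf 1061377785)) (.leaf 747900287))) (.node (.node (.node (.leaf 316690389) (.leaf 558860206)) (.leaf 201796412)) (.node (.node (.leaf 114231085) (.leaf 1069610461)) (.leaf 298339966))))) (.node (.node (.node (.node (.node (.leaf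 10993805) (.leaf 841108153)) (.leaf 576852923)) (.node (.node (.leaf 348795161) (.leaf 764810096)) (.leaf 966437340))) (.node (.node (.node (.leaf 604335154) (.leaf 917581712)) (.leaf 828740531)) (.node (.node (.leaf 278621804) (.leaf 1100871663)) (.leaf 286040784)))) (.node (.node (.node (.node (.leaf 168102359) (.leaf 366112522)) (.leaf 164283424)) (.node (.node (.leaf 122750903) (.leaf 1005669135)) (.leaf 756028494))) (.node (.node (.node (.leaf 358322545) (.leaf 912191162)) (.leaf 634540882)) (.node (.node (.leaf 616526517) (.leaf 1090377091)) (.leaf 689279889)))))) (.node (.node (.node (.node (.node (.node (.leaf 39305913) (.leaf 857614656)) (.leaf 976507727)) (.node (.node (.leaf 598191059) (.leaf 802197470)) (.leaf 1060230898))) (.node (.node (.node (.leaf 35168348) (.leaf 740954684)) (.leaf 782225963)) (.node (.node (.leaf 100394605) (.leaf 1042151045)) (.leaf 278627311)))) (.node (.node (.node (.node (.leaf 136751180) (.leaf 489878688)) (.leaf 875262811)) (.node (.node (.leaf 488133784) (.leaf 1070495537)) (.leaf 253436540))) (.node (.node (.node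 (.leaf 92448277) (.leaf 648153066)) (.leaf 1054979793)) (.node (.node (.leaf 117457821) (.leaf 1079814527)) (.leaf 771534482))))) (.node (.node (.node (.node (.node (.leaf 86295996) (.leaf 873688615)) (.leaf 153250034)) (.node (.node (.leaf 821292824) (.leaf 515859896)) (.leaf 1072592703))) (.node (.node (.node (.leaf 741810890) (.leaf 412438938)) (.leaf 950250132)) (.node (.node (.leaf 182217336) (.leaf 1059293608)) (.leaf 963523628)))) (.node (.node (.node (.node (.leaf 100132458) (.leaf 872740088)) (.leaf 169839085)) (.node (.node (.leaf 788640305) (.leaf 1016351485)) (.leaf 588940099))) (.node (.node (.node (.leaf 742417298) (.leaf 450089949)) (.leaf 724232810)) (.node (.node (.leaf 582993032) (.leaf 1100370018)) (.leaf 785050845)))))))) (.node (.node (.node (.node (.node (.node (.node (.node (.leaf 10420389) (.leaf 820824812)) (.leaf 195504182)) (.node (.node (.leaf 66003390) (.leaf 472364112)) (.leaf 710790960))) (.node (.node (.node (.leaf 28205137) (.leaf 925706305)) (.leaf 944852673)) (.node (.node (.leaf 331591784) (.leaf 1024419544)) (.leaf 605243694))))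 (.node (.node (.node (.node (.leaf 105727663) (.leaf 763417743)) (.leaf 927140950)) (.node (.node (.leaf 607584662) (.leaf 981158069)) (.leaf 829870444))) (.node (.node (.node (.leaf 308719498) (.leaf 1004148131)) (.leaf 201075514)) (.node (.node (.leaf 821145568) (.leaf 1066944684)) (.leaf 752977669))))) (.node (.node (.node (.node (.node (.leaf 10395812) (.leaf 344355041)) (.leaf 937857010)) (.node (.node (.leaf 70034595) (.leaf 488919623)) (.leaf 234447429))) (.node (.node (.node (.leaf 38256750) (.leaf 896821053)) (.leaf 539456727)) (.node (.node (.leaf 1014224351) (.leaf 1046107782)) (.leaf 284517067)))) (.node (.node (.node (.node (.leaf 43016956) (.leaf 1064089354)) (.leaf 616907696)) (.node (.node (.leaf 548546362) (.leaf 1002834220)) (.leaf 610510143))) (.node (.node (.node (.leaf 593995675) (.leaf 638178514)) (.leaf 212141485)) (.node (.node (.leaf 1049130670) (.leaf 1094113220)) (.leaf 310125340)))))) (.node (.node (.node (.node (.node (.node (.leaf 35144299) (.leaf 330801993)) (.leaf 582247128)) (.node (.node (.leaf 66856045) (.leaf 1071003445))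 (.leaf 544138195))) (.node (.node (.node (.leaf 242633968) (.leaf 393086234)) (.leaf 365474215)) (.node (.node (.leaf 371519941) (.leaf 1035586934)) (.leaf 1032484426)))) (.node (.node (.node (.node (.leaf 18948445) (.leaf 355484775)) (.leaf 913920982)) (.node (.node (.leaf 765307712) (.leaf 992154632)) (.leaf 251562802))) (.node (.node (.node (.leaf 47498070) (.leaf 849981547)) (.leaf 574327440)) (.node (.node (.leaf 971278914) (.leaf 1077219323)) (.leaf 1046730400))))) (.node (.node (.node (.node (.node (.leaf 80381281) (.leaf 800871079)) (.leaf 194063136)) (.node (.node (.leaf 74252527) (.leaf 985380149)) (.leaf 737215796))) (.node (.node (.node (.leaf 276557401) (.leaf 826290411)) (.leaf 871961213)) (.node (.node (.leaf 535822716) (.leaf 1056689611)) (.leaf 886493428)))) (.node (.node (.node (.node (.leaf 75130090) (.leaf 372724182)) (.leaf 966413471)) (.node (.node (.leaf 200403765) (.leaf 1013878368)) (.leaf 811339532))) (.node (.node (.node (.leaf 55140507) (.leaf 760624043)) (.leaf 705008772)) (.node (.node (.leaf 139782236) (.leaf 1097796812)) (.leaf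 782995699))))))) (.node (.node (.node (.node (.node (.node (.node (.leaf 7495797) (.leaf 327192636)) (.leaf 979252497)) (.node (.node (.leaf 369930683) (.leaf 659810621)) (.leaf 227683389))) (.node (.node (.node (.leaf 232213623) (.leaf 387582509)) (.leaf 923571299)) (.node (.node (.leaf 790073519) (.leaf 1029924606)) (.leaf 274260651)))) (.node (.node (.node (.node (.leaf 116328285) (.leaf 734971768)) (.leaf 856663574)) (.node (.node (.leaf 607930715) (.leaf 986805566)) (.leaf 1074313034))) (.node (.node (.node (.leaf 163686814) (.leaf 925495797)) (.leaf 259927491)) (.node (.node (.leaf 1025496610) (.leaf 1080686449)) (.leaf 300469394))))) (.node (.node (.node (.node (.node (.leaf 64857168) (.leaf 816186591)) (.leaf 978318604)) (.node (.node (.leaf 743042876) (.leaf 497805464)) (.leaf 1010365895))) (.node (.node (.node (.leaf 56648288) (.leaf 954091702)) (.leaf 188359133)) (.node (.node (.leaf 932630568) (.leaf 1051462588)) (.leaf 916630792)))) (.node (.node (.node (.node (.leaf 175278632) (.leaf 370123733)) (.leaf 165298908)) (.node (.node (.leaf 86517181)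 (.leaf 1008481372)) (.leaf 258985405))) (.node (.node (.node (.leaf 594078587) (.leaf 838363881)) (.leaf 888812410)) (.node (.node (.leaf 170729996) (.leaf 1092866124)) (.leaf 1063802632)))))) (.node (.node (.node (.node (.node (.node (.leaf 37053067) (.leaf 783602930)) (.leaf 878022537)) (.node (.node (.leaf 950593475) (.leaf 1047557797)) (.leaf 1093810114))) (.node (.node (.node (.leaf 253414763) (.leaf 397954259)) (.leaf 303050583)) (.node (.node (.leaf 549914675) (.leaf 1040697477)) (.leaf 280497338)))) (.node (.node (.node (.node (.leaf 516335566) (.leaf 1014429152)) (.leaf 245689610)) (.node (.node (.leaf 82403554) (.leaf 997599497)) (.leaf 254362264))) (.node (.node (.node (.leaf 69166232) (.leaf 962769412)) (.leaf 496882873)) (.node (.node (.leaf 125667284) (.leaf 1082479643)) (.leaf 987739459))))) (.node (.node (.node (.node (.node (.leaf 14680317) (.leaf 543517652)) (.leaf 566529935)) (.node (.node (.leaf 75998340) (.leaf 891923196)) (.leaf 615779802))) (.node (.node (.node (.leaf 42959049) (.leaf 953709674)) (.leaf 1084241799)) (.node (.node (.leaf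 645860392) (.leaf 1061869276)) (.leaf 959188965)))) (.node (.node (.node (.node (.leaf 193891103) (.leaf 603811206)) (.leaf 1071839034)) (.node (.node (.leaf 863634530) (.leaf 1018982850)) (.leaf 1021064712))) (.node (.node (.node (.leaf 304623456) (.leaf 453349595)) (.leaf 647320347)) (.node (.node (.leaf 495864121) (.leaf 1102893656)) (.leaf 776521291)))))))))))

noncomputable def edgeA2 : Arr ℕ :=
  (.node (.node (.node (.node (.node (.node (.node (.node (.node (.node (.node (.leaf 360453) (.leaf 833204224)) (.node (.leaf 616025468) (.leaf 1103549702))) (.node (.node (.leaf 58605730) (.leaf 861800842)) (.leaf 943532570))) (.node (.node (.node (.leaf 208309117) (.leaf 378209268)) (.leaf 862122992)) (.node (.node (.leaf 809937992) (.leaf 1019594421)) (.leaf 922167762)))) (.node (.node (.node (.node (.leaf 95110702) (.leaf 1008530876)) (.leaf 911552077)) (.node (.node (.leaf 681534076) (.leaf 812461921)) (.leaf 912951769))) (.node (.node (.node (.leaf 944318610) (.leaf 414254198)) (.leaf 928090443)) (.node (.node (.leaf 111739179) (.leaf 1062572349)) (.leaf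 922290553))))) (.node (.node (.node (.node (.node (.leaf 45761335) (.leaf 886392274)) (.leaf 968868450)) (.node (.node (.leaf 545859446) (.leaf 921283127)) (.leaf 539051729))) (.node (.node (.node (.leaf 854976333) (.leaf 398984424)) (.leaf 845697799)) (.node (.node (.leaf 926253569) (.leaf 1041427618)) (.leaf 906104984)))) (.node (.node (.node (.node (.leaf 149981390) (.leaf 714818941)) (.leaf 853216914)) (.node (.node (.leaf 82526434) (.leaf 998262328)) (.leaf 672351274))) (.node (.node (.node (.leaf 346001654) (.leaf 1104853000)) (.leaf 641286727)) (.node (.node (.leaf 724306523) (.leaf 1083250479)) (.leaf 564571370)))))) (.node (.node (.node (.node (.node (.node (.leaf 3964940) (.leaf 738414767)) (.leaf 968109262)) (.node (.node (.leaf 63684784) (.leaf 955951021)) (.leaf 984003885))) (.node (.node (.node (.leaf 779985376) (.leaf 967272439)) (.leaf 1005024680)) (.node (.node (.leaf 96256259) (.leaf 1030720654)) (.leaf 716239556)))) (.node (.node (.node (.node (.leaf 117770094) (.leaf 910452533)) (.leaf 857778979)) (.node (.node (.leaf 967223122) (.leaf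 987131715)) (.leaf 1079801707))) (.node (.node (.node (.leaf 315527112) (.leaf 944367251)) (.leaf 886804080)) (.node (.node (.leaf 650122140) (.leaf 1072679192)) (.leaf 301073154))))) (.node (.node (.node (.node (.node (.leaf 784417615) (.leaf 845890931)) (.leaf 524863667)) (.node (.node (.leaf 433673089) (.leaf 877841870)) (.leaf 560317430))) (.node (.node (.node (.leaf 280759935) (.leaf 905253626)) (.leaf 874375871)) (.node (.node (.leaf 973557840) (.leaf 1052142033)) (.leaf 1051113146)))) (.node (.node (.node (.node (.leaf 601500046) (.leaf 828270095)) (.leaf 940943796)) (.node (.node (.leaf 86835436) (.leaf 1009192411)) (.leaf 259342989))) (.node (.node (.node (.leaf 556639718) (.leaf 834490358)) (.leaf 644976782)) (.node (.node (.leaf 687641631) (.leaf 1093515169)) (.leaf 681690086))))))) (.node (.node (.node (.node (.node (.node (.node (.leaf 12189900) (.leaf 888720892)) (.leaf 951470902)) (.node (.node (.leaf 937521111) (.leaf 462292251)) (.leaf 847834474))) (.node (.node (.node (.leaf 223366148) (.leaf 947392492)) (.leaf 174522810)) (.node (.node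 (.leaf 985797943) (.leaf 1025215551)) (.leaf 913830622)))) (.node (.node (.node (.node (.leaf 554803698) (.leaf 887639116)) (.leaf 205605733)) (.node (.node (.leaf 732492143) (.leaf 981814366)) (.leaf 958116825))) (.node (.node (.node (.leaf 312463276) (.leaf 952175121)) (.leaf 895943971)) (.node (.node (.leaf 642074629) (.leaf 1067718432)) (.leaf 575179646))))) (.node (.node (.node (.node (.node (.leaf 57918458) (.leaf 975416522)) (.leaf 146114613)) (.node (.node (.leaf 69746879) (.leaf 875350659)) (.leaf 1073723206))) (.node (.node (.node (.leaf 270274066) (.leaf 891882236)) (.leaf 645688334)) (.node (.node (.leaf 908021841) (.leaf 1046719304)) (.leaf 1093105597)))) (.node (.node (.node (.node (.leaf 21741629) (.leaf 787335996)) (.leaf 841255609)) (.node (.node (.leaf 526593997) (.leaf 1003603878)) (.leaf 256950917))) (.node (.node (.node (.leaf 826355947) (.leaf 657691867)) (.leaf 1034974808)) (.node (.node (.leaf 1044936340) (.leaf 1088476661)) (.leaf 565587853)))))) (.node (.node (.node (.node (.node (.node (.leaf 36274813) (.leaf 330974025)) (.leaf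 917804246)) (.node (.node (.leaf 940451686) (.leaf 974153533)) (.leaf 951012942))) (.node (.node (.node (.leaf 244337916) (.leaf 875238002)) (.leaf 928238342)) (.node (.node (.leaf 928336682) (.leaf 1036277337)) (.leaf 1016198635)))) (.node (.node (.node (.node (.leaf 133236773) (.leaf 519951039)) (.leaf 830964757)) (.node (.node (.leaf 728892860) (.leaf 993028883)) (.leaf 762384706))) (.node (.node (.node (.leaf 337858732) (.leaf 1089009571)) (.leaf 549290590)) (.node (.node (.leaf 924216841) (.leaf 1077958458)) (.leaf 955412282))))) (.node (.node (.node (.node (.node (.leaf 82068854) (.leaf 803746676)) (.leaf 642462119)) (.node (.node (.leaf 442471346) (.leaf 641993183)) (.leaf 1003050397))) (.node (.node (.node (.leaf 621117652) (.leaf 915253979)) (.leaf 988714312)) (.node (.node (.leaf 109478181) (.leaf 1057264046)) (.leaf 1030370878)))) (.node (.node (.node (.node (.leaf 779960896) (.leaf 927786747)) (.leaf 801801263)) (.node (.node (.leaf 170412534) (.leaf 1014450653)) (.leaf 959034081))) (.node (.node (.node (.leaf 820701574) (.leaf 878241840)) (.leaf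 261516108)) (.node (.node (.leaf 327593902) (.leaf 1098484590)) (.leaf 1032648267)))))))) (.node (.node (.node (.node (.node (.node (.node (.node (.leaf 1392643) (.leaf 927798462)) (.leaf 1022834195)) (.node (.node (.leaf 801777326) (.leaf 457786641)) (.leaf 936920257))) (.node (.node (.node (.leaf 217385922) (.leaf 831500462)) (.leaf 931984001)) (.node (.node (.leaf 980137238) (.leaf 1022307878)) (.leaf 938979604)))) (.node (.node (.node (.node (.leaf 101467769) (.leaf 960097592)) (.leaf 899189452)) (.node (.node (.leaf 833678148) (.leaf 979060184)) (.leaf 842410629))) (.node (.node (.node (.leaf 305663851) (.leaf 945556129)) (.leaf 889898160)) (.node (.node (.leaf 932382364) (.leaf 1088133022)) (.leaf 1006785970))))) (.node (.node (.node (.node (.node (.leaf 52052908) (.leaf 952625812)) (.leaf 571819821)) (.node (.node (.leaf 804597971) (.leaf 699123508)) (.leaf 779930219))) (.node (.node (.node (.leaf 861005131) (.leaf 922339170)) (.leaf 791630489)) (.node (.node (.leaf 751993455) (.leaf 1044221556)) (.leaf 282936005)))) (.node (.node (.node (.node (.leaf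 156502319) (.leaf 1040905853)) (.leaf 1068922664)) (.node (.node (.leaf 196790462) (.leaf 1000834632)) (.leaf 616597292))) (.node (.node (.node (.leaf 784101492) (.leaf 996521334)) (.leaf 544507087)) (.node (.node (.leaf 928777314) (.leaf 1085870335)) (.leaf 892015868)))))) (.node (.node (.node (.node (.node (.node (.leaf 28000789) (.leaf 973571776)) (.leaf 951370805)) (.node (.node (.leaf 802111774) (.leaf 846408042)) (.leaf 229411138))) (.node (.node (.node (.leaf 237915333) (.leaf 810461818)) (.leaf 972542905)) (.node (.node (.leaf 642665361) (.leaf 1033572107)) (.leaf 870745158)))) (.node (.node (.node (.node (.leaf 589611774) (.leaf 537080716)) (.leaf 607782876)) (.node (.node (.leaf 805236919) (.leaf 990105562)) (.leaf 249987699))) (.node (.node (.node (.leaf 47104133) (.leaf 878890088)) (.leaf 889472145)) (.node (.node (.leaf 564725757) (.leaf 1075336969)) (.leaf 537930365))))) (.node (.node (.node (.node (.node (.leaf 76072190) (.leaf 961279035)) (.leaf 618481306)) (.node (.node (.leaf 544596296) (.leaf 506512797)) (.leaf 1069471531))) (.node (.node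 (.node (.leaf 286232238) (.leaf 737038707)) (.leaf 866865502)) (.node (.node (.leaf 108085538) (.leaf 1054896629)) (.leaf 728777618)))) (.node (.node (.node (.node (.leaf 183011974) (.leaf 823543454)) (.leaf 940093997)) (.node (.node (.leaf 599289237) (.leaf 1012107727)) (.leaf 264177121))) (.node (.node (.node (.leaf 546112059) (.leaf 946925753)) (.leaf 919638959)) (.node (.node (.leaf 195880990) (.leaf 1096046222)) (.leaf 1017353714))))))) (.node (.node (.node (.node (.node (.node (.node (.leaf 17137972) (.leaf 868968387)) (.leaf 878334944)) (.node (.node (.leaf 940929075) (.leaf 913740622)) (.leaf 904168168))) (.node (.node (.node (.leaf 262203411) (.leaf 385745938)) (.leaf 917164542)) (.node (.node (.leaf 844796205) (.leaf 1027969353)) (.leaf 602745125)))) (.node (.node (.node (.node (.leaf 112969495) (.leaf 854329136)) (.leaf 946664427)) (.node (.node (.leaf 802679397) (.leaf 1096742868)) (.leaf 956076463))) (.node (.node (.node (.leaf 784278404) (.leaf 977619676)) (.leaf 933843862)) (.node (.node (.leaf 854364464) (.leaf 1070336263)) (.leaf 298795772)))))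 (.node (.node (.node (.node (.node (.leaf 63669312) (.leaf 843321338)) (.leaf 1003992482)) (.node (.node (.leaf 889924368) (.leaf 966358192)) (.leaf 749225323))) (.node (.node (.node (.leaf 634717341) (.leaf 919949785)) (.leaf 903646364)) (.node (.node (.leaf 592564147) (.leaf 1049495536)) (.leaf 959876521)))) (.node (.node (.node (.node (.leaf 169691626) (.leaf 848211961)) (.leaf 924691775)) (.node (.node (.leaf 85655785) (.leaf 1006432060)) (.leaf 965364133))) (.node (.node (.node (.leaf 616980894) (.leaf 844583212)) (.leaf 922063885)) (.node (.node (.leaf 665293802) (.leaf 1090983319)) (.leaf 550659702)))))) (.node (.node (.node (.node (.node (.node (.leaf 6881299) (.leaf 332235596)) (.leaf 889710733)) (.node (.node (.leaf 627338072) (.leaf 936618539)) (.leaf 940526018))) (.node (.node (.node (.leaf 751640854) (.leaf 620332821)) (.leaf 803213319)) (.node (.node (.leaf 814985306) (.leaf 1038905692)) (.leaf 886795072)))) (.node (.node (.node (.node (.leaf 589013272) (.leaf 741148002)) (.leaf 833958128)) (.node (.node (.leaf 534999482) (.leaf 995575683))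 (.leaf 253707770))) (.node (.node (.node (.leaf 727281372) (.leaf 765023426)) (.leaf 525806708)) (.node (.node (.leaf 1046517407) (.leaf 1080596091)) (.leaf 846384413))))) (.node (.node (.node (.node (.node (.leaf 88819157) (.leaf 833972592)) (.leaf 594177187)) (.node (.node (.leaf 889122106) (.leaf 1005237674)) (.leaf 840086456))) (.node (.node (.node (.leaf 295833365) (.leaf 1015739880)) (.leaf 191463911)) (.node (.node (.leaf 901468654) (.leaf 1059990440)) (.leaf 877924146)))) (.node (.node (.node (.node (.leaf 198839080) (.leaf 895898498)) (.leaf 879093902)) (.node (.node (.leaf 780953573) (.leaf 1017007177)) (.leaf 619219017))) (.node (.node (.node (.leaf 586622932) (.leaf 862104064)) (.leaf 795536024)) (.node (.node (.leaf 1049523888) (.leaf 1101075332)) (.leaf 834004691))))))))) (.node (.node (.node (.node (.node (.node (.node (.node (.node (.leaf 557057) (.leaf 799773404)) (.node (.leaf 1040742012) (.leaf 1104827264))) (.node (.node (.leaf 684026770) (.leaf 977096558)) (.leaf 875284845))) (.node (.node (.node (.leaf 525707320) (.leaf 536766038))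 (.leaf 920457284)) (.node (.node (.leaf 537545339) (.leaf 1021102806)) (.leaf 936873224)))) (.node (.node (.node (.node (.leaf 98207316) (.leaf 830033707)) (.leaf 961008503)) (.node (.node (.leaf 893987381) (.leaf 1079154535)) (.leaf 922398216))) (.node (.node (.node (.leaf 303566682) (.leaf 991417687)) (.leaf 880003895)) (.node (.node (.leaf 742965620) (.leaf 1068250915)) (.leaf 991663448))))) (.node (.node (.node (.node (.node (.leaf 48137067) (.leaf 914740106)) (.leaf 573794193)) (.node (.node (.leaf 68255931) (.leaf 836792215)) (.leaf 966193650))) (.node (.node (.node (.leaf 36807282) (.leaf 802014477)) (.leaf 901524571)) (.node (.node (.leaf 864800577) (.leaf 1042696019)) (.leaf 944163063)))) (.node (.node (.node (.node (.leaf 153913593) (.leaf 1099986921)) (.leaf 161956255)) (.node (.node (.leaf 893240118) (.leaf 999736901)) (.leaf 614639703))) (.node (.node (.node (.leaf 928525669) (.leaf 833721151)) (.leaf 926123004)) (.node (.node (.leaf 1011693006) (.leaf 1084404690)) (.leaf 561137364)))))) (.node (.node (.node (.node (.node (.node (.leaf 25723356)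 (.leaf 961186161)) (.leaf 897840379)) (.node (.node (.leaf 64438451) (.leaf 705098819)) (.leaf 914851328))) (.node (.node (.node (.leaf 235818154) (.leaf 833713167)) (.leaf 875802745)) (.node (.node (.leaf 1000822160) (.leaf 1032178799)) (.leaf 895347205)))) (.node (.node (.node (.node (.leaf 544572624) (.leaf 856918307)) (.leaf 933940319)) (.node (.node (.leaf 669606782) (.leaf 988736224)) (.leaf 751552427))) (.node (.node (.node (.leaf 814933860) (.leaf 675677496)) (.leaf 1046804128)) (.node (.node (.leaf 750726462) (.leaf 1074098743)) (.leaf 1079211880))))) (.node (.node (.node (.node (.node (.leaf 73598170) (.leaf 777966529)) (.leaf 720629486)) (.node (.node (.leaf 536553188) (.leaf 1084110726)) (.leaf 844993667))) (.node (.node (.node (.leaf 283676308) (.leaf 1053112006)) (.leaf 906081063)) (.node (.node (.leaf 572582706) (.leaf 1053520004)) (.leaf 584239073)))) (.node (.node (.node (.node (.leaf 544483346) (.leaf 818005084)) (.leaf 815124571)) (.node (.node (.leaf 87933165) (.leaf 1010551013)) (.leaf 814992463))) (.node (.node (.node (.leaf 547137753)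 (.leaf 1076033364)) (.leaf 880765630)) (.node (.node (.leaf 594486954) (.leaf 1101264881)) (.leaf 315540288))))))) (.node (.node (.node (.node (.node (.node (.node (.leaf 14762241) (.leaf 1061222136)) (.leaf 957909261)) (.node (.node (.leaf 391959130) (.leaf 845590298)) (.leaf 1087543194))) (.node (.node (.node (.leaf 683589795) (.leaf 1091934133)) (.leaf 1084675977)) (.node (.node (.leaf 995792242) (.leaf 1036621410)) (.leaf 947154673)))) (.node (.node (.node (.node (.leaf 111249139) (.leaf 1011922383)) (.leaf 197240227)) (.node (.node (.leaf 729285389) (.leaf 983127170)) (.leaf 773771023))) (.node (.node (.node (.leaf 314462146) (.leaf 685249641)) (.leaf 198853104)) (.node (.node (.leaf 920823806) (.leaf 1068894608)) (.leaf 960587403))))) (.node (.node (.node (.node (.node (.leaf 60703775) (.leaf 742523884)) (.leaf 546062794)) (.node (.node (.leaf 802795483) (.leaf 853502338)) (.leaf 803287243))) (.node (.node (.node (.leaf 579774604) (.leaf 403326031)) (.leaf 876213083)) (.node (.node (.leaf 753503407) (.leaf 1048122441)) (.leaf 701746564)))) (.node (.node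 (.node (.node (.leaf 886269800) (.leaf 365511622)) (.leaf 890401095)) (.node (.node (.leaf 947448564) (.leaf 1005005376)) (.leaf 959906497))) (.node (.node (.node (.leaf 357110120) (.leaf 700224424)) (.leaf 1059878640)) (.node (.node (.leaf 965407067) (.leaf 1089835286)) (.leaf 945898740)))))) (.node (.node (.node (.node (.node (.node (.leaf 38142618) (.leaf 914696555)) (.leaf 595004988)) (.node (.node (.leaf 66584759) (.leaf 913600853)) (.leaf 878883664))) (.node (.node (.node (.leaf 35029083) (.leaf 940502846)) (.leaf 984708401)) (.node (.node (.leaf 841871346) (.leaf 1037587755)) (.leaf 899859383)))) (.node (.node (.node (.node (.leaf 587425451) (.leaf 357122984)) (.leaf 914755606)) (.node (.node (.leaf 753780001) (.leaf 994191258)) (.leaf 934594980))) (.node (.node (.node (.leaf 853027987) (.leaf 966800630)) (.leaf 263056351)) (.node (.node (.leaf 886243752) (.leaf 1079308104)) (.leaf 572771101))))) (.node (.node (.node (.node (.node (.leaf 85083559) (.leaf 888776972)) (.leaf 930924748)) (.node (.node (.leaf 399004288) (.leaf 897534047)) (.leaf 723830831)))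 (.node (.node (.node (.leaf 904195120) (.leaf 877417425)) (.leaf 878580703)) (.node (.node (.leaf 568126285) (.leaf 1058582594)) (.leaf 647886006)))) (.node (.node (.node (.node (.leaf 191843065) (.leaf 373605342)) (.leaf 169623983)) (.node (.node (.leaf 790267061) (.leaf 1015673584)) (.leaf 266650263))) (.node (.node (.node (.leaf 811085950) (.leaf 1067915041)) (.leaf 558936876)) (.node (.node (.leaf 231844977) (.leaf 1099854781)) (.leaf 790348646)))))))) (.node (.node (.node (.node (.node (.node (.node (.node (.leaf 8700044) (.leaf 952528041)) (.leaf 195905560)) (.node (.node (.leaf 567624466) (.leaf 701787676)) (.leaf 933547005))) (.node (.node (.node (.leaf 220351458) (.leaf 770315087)) (.leaf 1076787033)) (.node (.node (.leaf 531579964) (.leaf 1023822153)) (.leaf 614623266)))) (.node (.node (.node (.node (.leaf 588988784) (.leaf 1078949734)) (.leaf 1072666432)) (.node (.node (.leaf 671196440) (.leaf 1060501236)) (.leaf 1085028235))) (.node (.node (.node (.leaf 564291301) (.leaf 967493431)) (.leaf 1029338680)) (.node (.node (.leaf 764399099) (.leaf 1066284070))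 (.leaf 1001469331))))) (.node (.node (.node (.node (.node (.leaf 54641619) (.leaf 906120832)) (.leaf 918595526)) (.node (.node (.leaf 424170317) (.leaf 1049220782)) (.leaf 923945550))) (.node (.node (.node (.leaf 603898623) (.leaf 791777685)) (.leaf 795511792)) (.node (.node (.leaf 104022295) (.leaf 1045565428)) (.leaf 949529046)))) (.node (.node (.node (.node (.leaf 961577505) (.leaf 915107182)) (.leaf 961759997)) (.node (.node (.leaf 750781038) (.leaf 1002194509)) (.leaf 599180751))) (.node (.node (.node (.leaf 740255076) (.leaf 661095823)) (.leaf 546275910)) (.node (.node (.leaf 261213125) (.leaf 1087221507)) (.leaf 944009560)))))) (.node (.node (.node (.node (.node (.node (.leaf 34030164) (.leaf 951806134)) (.leaf 614600337)) (.node (.node (.leaf 680538190) (.leaf 685601108)) (.leaf 230148971))) (.node (.node (.node (.leaf 241077478) (.leaf 1008858558)) (.leaf 601082270)) (.node (.node (.leaf 881037733) (.leaf 1034947488)) (.leaf 758612963)))) (.node (.node (.node (.node (.leaf 128763900) (.leaf 944017304)) (.leaf 958648011)) (.node (.node (.leaf 809862415)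 (.leaf 991645448)) (.leaf 250888822))) (.node (.node (.node (.leaf 960947854) (.leaf 426067106)) (.leaf 627311728)) (.node (.node (.leaf 1028331058) (.leaf 1076751014)) (.leaf 531497847))))) (.node (.node (.node (.node (.node (.leaf 78857533) (.leaf 894948380)) (.leaf 976680133)) (.node (.node (.leaf 700133087) (.leaf 524905420)) (.leaf 931419276))) (.node (.node (.node (.leaf 40910959) (.leaf 1064449805)) (.leaf 913421177)) (.node (.node (.leaf 972442959) (.leaf 1056051859)) (.leaf 926517971)))) (.node (.node (.node (.node (.leaf 187222697) (.leaf 838259566)) (.leaf 912740727)) (.node (.node (.leaf 979047696) (.leaf 1013319537)) (.leaf 809324549))) (.node (.node (.node (.leaf 54968474) (.leaf 952888863)) (.leaf 913353097)) (.node (.node (.leaf 758779181) (.leaf 1100691438)) (.leaf 725182893))))))) (.node (.node (.node (.node (.node (.node (.node (.leaf 20021623) (.leaf 907216063)) (.leaf 525681160)) (.node (.node (.leaf 943698385) (.leaf 936175921)) (.leaf 227181101))) (.node (.node (.node (.leaf 230542428) (.leaf 849824434)) (.leaf 1044067983)) (.node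 (.node (.leaf 998249856) (.leaf 1029376792)) (.leaf 274006698)))) (.node (.node (.node (.node (.leaf 115164996) (.leaf 861980123)) (.leaf 548595514)) (.node (.node (.leaf 675705672) (.leaf 985904011)) (.leaf 960074000))) (.node (.node (.node (.leaf 321818653) (.leaf 803573853)) (.leaf 973835706)) (.node (.node (.leaf 903580726) (.leaf 1071757113)) (.leaf 896748274))))) (.node (.node (.node (.node (.node (.leaf 66962543) (.leaf 338740067)) (.leaf 911853938)) (.node (.node (.leaf 750447932) (.leaf 526625827)) (.leaf 680052087))) (.node (.node (.node (.leaf 807528019) (.leaf 589890946)) (.leaf 784974763)) (.node (.node (.leaf 1020073475) (.leaf 1050767647)) (.leaf 740017030)))) (.node (.node (.node (.node (.leaf 173197842) (.leaf 864900059)) (.leaf 733152420)) (.node (.node (.leaf 956409054) (.leaf 1007692351)) (.leaf 784516476))) (.node (.node (.node (.leaf 361714060) (.leaf 840060144)) (.leaf 639657621)) (.node (.node (.leaf 196937873) (.leaf 1092350569)) (.leaf 655282974)))))) (.node (.node (.node (.node (.node (.node (.leaf 44188433) (.leaf 735232975))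 (.leaf 951995929)) (.node (.node (.leaf 415404810) (.leaf 917205675)) (.leaf 868205529))) (.node (.node (.node (.leaf 251792734) (.leaf 992834911)) (.leaf 803680231)) (.node (.node (.leaf 551028718) (.leaf 1040143827)) (.leaf 940511687)))) (.node (.node (.node (.node (.leaf 146458793) (.leaf 909322383)) (.leaf 1079318377)) (.node (.node (.leaf 82198753) (.leaf 996979924)) (.leaf 1071281974))) (.node (.node (.node (.leaf 796043503) (.leaf 1060951798)) (.leaf 934990962)) (.node (.node (.leaf 573736773) (.leaf 1081857766)) (.leaf 922324527))))) (.node (.node (.node (.node (.node (.leaf 90736118) (.leaf 346243970)) (.leaf 553969475)) (.node (.node (.leaf 75563213) (.leaf 519538117)) (.leaf 940035320))) (.node (.node (.node (.leaf 42434708) (.leaf 413762677)) (.leaf 919522978)) (.node (.node (.leaf 920063378) (.leaf 1061261352)) (.leaf 1011512781)))) (.node (.node (.node (.node (.leaf 260702532) (.leaf 940053119)) (.leaf 951776095)) (.node (.node (.leaf 986748222) (.leaf 1018203258)) (.leaf 966070438))) (.node (.node (.node (.leaf 560099212) (.leaf 922522686))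 (.leaf 506956188)) (.node (.node (.leaf 597551643) (.leaf 1102352746)) (.leaf 804230388)))))))))) (.node (.node (.node (.node (.node (.node (.node (.node (.node (.node (.leaf 1753109) (.leaf 933489761)) (.node (.leaf 583697054) (.leaf 1104172124))) (.node (.node (.leaf 382292511) (.leaf 903933086)) (.leaf 223380000))) (.node (.node (.node (.leaf 544909975) (.leaf 962824130)) (.leaf 528635114)) (.node (.node (.leaf 990156113) (.leaf 1020282553)) (.leaf 928124597)))) (.node (.node (.node (.node (.leaf 96912967) (.leaf 1005557163)) (.leaf 568733599)) (.node (.node (.leaf 537209484) (.leaf 721038535)) (.leaf 744834276))) (.node (.node (.node (.leaf 532967046) (.leaf 834782439)) (.leaf 1030608447)) (.node (.node (.leaf 940558785) (.leaf 1063176609)) (.leaf 1091458994))))) (.node (.node (.node (.node (.node (.leaf 35660404) (.leaf 1053374152)) (.leaf 888927287)) (.node (.node (.leaf 417780513) (.leaf 651062756)) (.leaf 928378303))) (.node (.node (.node (.leaf 256396697) (.leaf 779824234)) (.leaf 961613531)) (.node (.node (.leaf 912920950) (.leaf 1089656743)) (.leaf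 1017181681)))) (.node (.node (.node (.node (.leaf 152160486) (.leaf 360842165)) (.leaf 161563037)) (.node (.node (.leaf 795027382) (.leaf 999051313)) (.leaf 701714088))) (.node (.node (.node (.leaf 784253744) (.leaf 1101092848)) (.leaf 969683354)) (.node (.node (.leaf 795411005) (.leaf 1083838217)) (.leaf 949027842)))))) (.node (.node (.node (.node (.node (.node (.leaf 4423722) (.leaf 890014216)) (.leaf 747356778)) (.node (.node (.leaf 756198829) (.leaf 803555186)) (.leaf 914951446))) (.node (.node (.node (.leaf 234179737) (.leaf 861622482)) (.leaf 536914612)) (.node (.node (.leaf 739853636) (.leaf 1031296057)) (.leaf 934736748)))) (.node (.node (.node (.node (.leaf 260727288) (.leaf 954143863)) (.leaf 158007699)) (.node (.node (.leaf 739878468) (.leaf 988006795)) (.leaf 766495722))) (.node (.node (.node (.leaf 328994887) (.leaf 1036023391)) (.leaf 833651984)) (.node (.node (.leaf 115179832) (.leaf 1073301794)) (.leaf 897454305))))) (.node (.node (.node (.node (.node (.leaf 72352963) (.leaf 880280698)) (.leaf 931410849)) (.node (.node (.leaf 837363783) (.leaf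 502188230)) (.leaf 978654477))) (.node (.node (.node (.leaf 282513036) (.leaf 716213824)) (.leaf 188842463)) (.node (.node (.leaf 106791199) (.leaf 1052906162)) (.leaf 753085740)))) (.node (.node (.node (.node (.leaf 178342483) (.leaf 371232010)) (.leaf 937284655)) (.node (.node (.leaf 906474053) (.leaf 1009881358)) (.leaf 922970975))) (.node (.node (.node (.leaf 792913829) (.leaf 901149857)) (.leaf 729252702)) (.node (.node (.leaf 613680842) (.leaf 1094087421)) (.leaf 842172939))))))) (.node (.node (.node (.node (.node (.node (.node (.leaf 13402346) (.leaf 936371995)) (.leaf 594300429)) (.node (.node (.leaf 390468175) (.leaf 883157101)) (.leaf 261901265))) (.node (.node (.node (.leaf 697246399) (.leaf 926207222)) (.leaf 955052997)) (.node (.node (.leaf 834032579) (.leaf 1025995945)) (.leaf 940066666)))) (.node (.node (.node (.node (.leaf 108857052) (.leaf 833908723)) (.leaf 972280649)) (.node (.node (.leaf 963668517) (.leaf 1002452377)) (.leaf 247366249))) (.node (.node (.node (.leaf 313806780) (.leaf 418317446)) (.leaf 198459887)) (.node (.node (.leaf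 389993033) (.leaf 1084716938)) (.leaf 969631803))))) (.node (.node (.node (.node (.node (.leaf 14967042) (.leaf 938537045)) (.leaf 731672771)) (.node (.node (.leaf 733178296) (.leaf 1024570908)) (.leaf 1062762241))) (.node (.node (.node (.leaf 885122023) (.leaf 900084230)) (.leaf 819188291)) (.node (.node (.leaf 699823014) (.leaf 1047414946)) (.leaf 917704428)))) (.node (.node (.node (.node (.leaf 22200382) (.leaf 847312115)) (.leaf 934612328)) (.node (.node (.leaf 796781658) (.leaf 1004351105)) (.leaf 1052563138))) (.node (.node (.node (.leaf 355684701) (.leaf 967406451)) (.leaf 212976137)) (.node (.node (.leaf 948777934) (.leaf 1089098740)) (.leaf 1104427014)))))) (.node (.node (.node (.node (.node (.node (.leaf 6160477) (.leaf 851767859)) (.leaf 525879541)) (.node (.node (.leaf 409080532) (.leaf 477939017)) (.leaf 262604862))) (.node (.node (.node (.leaf 34619482) (.leaf 1094367174)) (.leaf 574786140)) (.node (.node (.leaf 99303691) (.leaf 1036883346)) (.leaf 875696988)))) (.node (.node (.node (.node (.leaf 19218486) (.leaf 356860839)) (.leaf 896190977))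 (.node (.node (.leaf 740230040) (.leaf 993592870)) (.leaf 862048846))) (.node (.node (.node (.leaf 715711889) (.leaf 893830492)) (.leaf 205357564)) (.node (.node (.leaf 814908232) (.leaf 1095055306)) (.leaf 1070069550))))) (.node (.node (.node (.node (.node (.leaf 83363213) (.leaf 870049293)) (.leaf 574779658)) (.node (.node (.leaf 744860932) (.leaf 947934447)) (.leaf 882208796))) (.node (.node (.node (.leaf 878307747) (.leaf 411255916)) (.leaf 190841317)) (.node (.node (.leaf 536528072) (.leaf 1058035182)) (.leaf 642426490)))) (.node (.node (.node (.node (.leaf 190434010) (.leaf 920441107)) (.leaf 856855097)) (.node (.node (.leaf 981505311) (.leaf 1015040422)) (.leaf 651039876))) (.node (.node (.node (.leaf 375050740) (.leaf 936096373)) (.leaf 794497471)) (.node (.node (.leaf 261417023) (.leaf 1099223353)) (.leaf 799294797)))))))) (.node (.node (.node (.node (.node (.node (.node (.node (.leaf 6897777) (.leaf 601949279)) (.leaf 1043674765)) (.node (.node (.leaf 386044466) (.leaf 620529718)) (.leaf 994522474))) (.node (.node (.node (.leaf 544801917) (.leaf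 853354881)) (.leaf 1015920105)) (.node (.node (.leaf 92389628) (.leaf 1023152613)) (.leaf 767685315)))) (.node (.node (.node (.node (.leaf 102680199) (.leaf 938987024)) (.leaf 1052669635)) (.node (.node (.leaf 620749807) (.leaf 979765346)) (.leaf 246137446))) (.node (.node (.node (.leaf 307023738) (.leaf 900903563)) (.leaf 933423995)) (.node (.node (.leaf 1034409558) (.leaf 1065699729)) (.leaf 944993127))))) (.node (.node (.node (.node (.node (.leaf 42459896) (.leaf 784747801)) (.leaf 933867877)) (.node (.node (.leaf 726151333) (.leaf 961055998)) (.leaf 533218506))) (.node (.node (.node (.leaf 615180245) (.leaf 872910620)) (.leaf 952610960)) (.node (.node (.leaf 907970905) (.leaf 1044883360)) (.leaf 283689672)))) (.node (.node (.node (.node (.leaf 158304590) (.leaf 881708735)) (.leaf 928262919)) (.node (.node (.leaf 596045193) (.leaf 1063556870)) (.leaf 953519966))) (.node (.node (.node (.leaf 735390818) (.leaf 661702913)) (.leaf 770240001)) (.node (.node (.leaf 1049712306) (.leaf 1086568030)) (.leaf 861639657)))))) (.node (.node (.node (.node (.node (.node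 (.leaf 5128207) (.leaf 938446094)) (.leaf 581927651)) (.node (.node (.leaf 404329135) (.leaf 878258977)) (.leaf 544965363))) (.node (.node (.node (.leaf 34046040) (.leaf 665315421)) (.leaf 854820130)) (.node (.node (.leaf 98222344) (.leaf 1034146251)) (.leaf 613725410)))) (.node (.node (.node (.node (.leaf 748831340) (.leaf 685429848)) (.leaf 1077352285)) (.node (.node (.leaf 481514612) (.leaf 990848931)) (.leaf 250364533))) (.node (.node (.node (.leaf 334499979) (.leaf 425395358)) (.leaf 262663020)) (.node (.node (.leaf 855016067) (.leaf 1076007880)) (.leaf 1101985782))))) (.node (.node (.node (.node (.node (.leaf 621142752) (.leaf 913583699)) (.leaf 713508073)) (.node (.node (.leaf 951281615) (.leaf 996988280)) (.leaf 914999469))) (.node (.node (.node (.leaf 578315326) (.leaf 409093220)) (.leaf 190169571)) (.node (.node (.leaf 561155976) (.leaf 1055435530)) (.leaf 1061459705)))) (.node (.node (.node (.node (.leaf 547185207) (.leaf 947063605)) (.leaf 977842725)) (.node (.node (.leaf 761326914) (.leaf 1093367743)) (.leaf 793883051))) (.node (.node (.node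 (.leaf 537519627) (.leaf 834194438)) (.leaf 951085809)) (.node (.node (.leaf 586597360) (.leaf 1096717616)) (.leaf 916869673))))))) (.node (.node (.node (.node (.node (.node (.node (.leaf 18317649) (.leaf 1037743721)) (.leaf 930448199)) (.node (.node (.leaf 617180559) (.leaf 931301525)) (.leaf 941322487))) (.node (.node (.node (.leaf 229461073) (.leaf 989885775)) (.leaf 713133323)) (.node (.node (.leaf 565510937) (.leaf 1028690974)) (.leaf 613754793)))) (.node (.node (.node (.node (.leaf 17154096) (.leaf 736052547)) (.leaf 869197669)) (.node (.node (.leaf 78528727) (.leaf 985205645)) (.leaf 748602759))) (.node (.node (.node (.leaf 45629566) (.leaf 653536773)) (.leaf 643985658)) (.node (.node (.leaf 699151504) (.leaf 1070911825)) (.leaf 863013017))))) (.node (.node (.node (.node (.node (.leaf 64750670) (.leaf 803160947)) (.leaf 524855346)) (.node (.node (.leaf 801056979) (.leaf 964725886)) (.leaf 236536395))) (.node (.node (.node (.leaf 584591561) (.leaf 1027159595)) (.leaf 537061956)) (.node (.node (.leaf 846351563) (.leaf 1050167239)) (.leaf 928232386))))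 (.node (.node (.node (.node (.leaf 171739646) (.leaf 367477707)) (.leaf 912976320)) (.node (.node (.leaf 157296951) (.leaf 1007076971)) (.leaf 258278025))) (.node (.node (.node (.leaf 52510866) (.leaf 944239666)) (.leaf 1065334546)) (.node (.node (.leaf 895865231) (.leaf 1091678415)) (.leaf 312853281)))))) (.node (.node (.node (.node (.node (.node (.leaf 12820701) (.leaf 784073616)) (.leaf 141885806)) (.node (.node (.leaf 413389558) (.leaf 481527124)) (.leaf 525781872))) (.node (.node (.node (.leaf 35618948) (.leaf 936137553)) (.leaf 594446475)) (.node (.node (.leaf 101220623) (.leaf 1039552711)) (.leaf 1044248208)))) (.node (.node (.node (.node (.leaf 742991624) (.leaf 949357086)) (.leaf 854987963)) (.node (.node (.leaf 852902469) (.leaf 996282591)) (.leaf 710021765))) (.node (.node (.node (.leaf 48578697) (.leaf 848220384)) (.leaf 553379638)) (.node (.node (.leaf 1046845089) (.leaf 1081250417)) (.leaf 569584252))))) (.node (.node (.node (.node (.node (.leaf 89982446) (.leaf 345785215)) (.leaf 153452935)) (.node (.node (.leaf 945926056) (.leaf 804253688))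 (.leaf 920507083))) (.node (.node (.node (.leaf 42008691) (.leaf 413307541)) (.leaf 947422632)) (.node (.node (.leaf 951666239) (.leaf 1060599064)) (.leaf 292520677)))) (.node (.node (.node (.node (.leaf 201952062) (.leaf 375063524)) (.leaf 969542649)) (.node (.node (.leaf 969722603) (.leaf 1017661681)) (.leaf 931533923))) (.node (.node (.node (.leaf 378196480) (.leaf 1089116068)) (.leaf 854381394)) (.node (.node (.leaf 127631702) (.leaf 1101713014)) (.leaf 1045583512))))))))) (.node (.node (.node (.node (.node (.node (.node (.node (.node (.leaf 3948608) (.leaf 1092229047)) (.leaf 940239299)) (.node (.node (.leaf 853880442) (.leaf 947384577)) (.leaf 903203929))) (.node (.node (.node (.leaf 546620350) (.leaf 1034393173)) (.leaf 1039906422)) (.node (.node (.leaf 91947259) (.leaf 1021609667)) (.leaf 975492231)))) (.node (.node (.node (.node (.leaf 99649127) (.leaf 941574531)) (.leaf 888705256)) (.node (.node (.leaf 360173950) (.leaf 978408058)) (.leaf 1101895669))) (.node (.node (.node (.leaf 894594331) (.leaf 1086224274)) (.leaf 1047271075)) (.node (.node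 (.leaf 1032738380) (.leaf 1068447525)) (.leaf 294470381))))) (.node (.node (.node (.node (.node (.leaf 8716312) (.leaf 962557031)) (.leaf 579748520)) (.node (.node (.leaf 965436556) (.leaf 931327192)) (.leaf 779521358))) (.node (.node (.node (.leaf 546227150) (.leaf 1027765807)) (.leaf 537183492)) (.node (.node (.leaf 773753491) (.leaf 1069676332)) (.leaf 282526404)))) (.node (.node (.node (.node (.leaf 155240725) (.leaf 361726904)) (.leaf 324872517)) (.node (.node (.leaf 749519434) (.leaf 1042273925)) (.leaf 732545785))) (.node (.node (.node (.leaf 348688663) (.leaf 534917456)) (.leaf 526685397)) (.node (.node (.leaf 723964761) (.leaf 1085183450)) (.leaf 560071672)))))) (.node (.node (.node (.node (.node (.node (.leaf 26657269) (.leaf 1103247358)) (.leaf 586416853)) (.node (.node (.leaf 402051740) (.leaf 929121951)) (.leaf 887664928))) (.node (.node (.node (.leaf 237046969) (.leaf 895660101)) (.leaf 805613538)) (.node (.node (.leaf 97321222) (.leaf 1032750860)) (.leaf 945689690)))) (.node (.node (.node (.node (.leaf 122865593) (.leaf 912822333)) (.leaf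 869321591)) (.node (.node (.leaf 804635989) (.leaf 989286553)) (.leaf 776815989))) (.node (.node (.node (.leaf 332222576) (.leaf 851702842)) (.leaf 261532640)) (.node (.node (.leaf 975940441) (.leaf 1074760189)) (.leaf 848023733))))) (.node (.node (.node (.node (.node (.leaf 12206112) (.leaf 829033132)) (.leaf 930859240)) (.node (.node (.leaf 72941765) (.leaf 1033401935)) (.leaf 752659125))) (.node (.node (.node (.leaf 744154751) (.leaf 920472108)) (.leaf 899213584)) (.node (.node (.leaf 739788069) (.leaf 1054191130)) (.leaf 949326569)))) (.node (.node (.node (.node (.leaf 545761297) (.leaf 1027503661)) (.leaf 973624286)) (.node (.node (.leaf 558675182) (.leaf 1011297703)) (.leaf 260375185))) (.node (.node (.node (.leaf 533161322) (.leaf 446416129)) (.leaf 526611672)) (.node (.node (.leaf 195789199) (.leaf 1095439166)) (.leaf 936709443))))))) (.node (.node (.node (.node (.node (.node (.node (.leaf 5431383) (.leaf 689097203)) (.leaf 803098621)) (.node (.node (.leaf 738624958) (.leaf 963546034)) (.leaf 613781053))) (.node (.node (.node (.leaf 261598083) (.leaf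 385270799)) (.leaf 920498892)) (.node (.node (.leaf 536036604) (.leaf 1049048749)) (.leaf 997700989)))) (.node (.node (.node (.node (.leaf 112019203) (.leaf 844600240)) (.leaf 978998543)) (.node (.node (.leaf 922612514) (.leaf 983815166)) (.leaf 753487556))) (.node (.node (.node (.leaf 857565882) (.leaf 558910440)) (.leaf 1073575749)) (.node (.node (.leaf 615320976) (.leaf 1069594252)) (.leaf 1102100471))))) (.node (.node (.node (.node (.node (.leaf 11092140) (.leaf 337871712)) (.leaf 877319190)) (.node (.node (.leaf 70680769) (.leaf 1072035643)) (.leaf 235962953))) (.node (.node (.node (.leaf 709124217) (.leaf 404079699)) (.leaf 829010124)) (.node (.node (.leaf 588300633) (.leaf 1048873907)) (.leaf 713297175)))) (.node (.node (.node (.node (.leaf 22511679) (.leaf 941549349)) (.leaf 912904227)) (.node (.node (.leaf 324489162) (.leaf 1005684933)) (.leaf 767414697))) (.node (.node (.node (.leaf 52068496) (.leaf 1013470681)) (.leaf 214558874)) (.node (.node (.leaf 122011978) (.leaf 1090492251)) (.leaf 312476448)))))) (.node (.node (.node (.node (.node (.node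 (.leaf 39568061) (.leaf 920579901)) (.leaf 976596006)) (.node (.node (.leaf 411243236) (.leaf 479642958)) (.leaf 542524866))) (.node (.node (.node (.leaf 748855636) (.leaf 1080424303)) (.leaf 849593225)) (.node (.node (.leaf 588154282) (.leaf 1038108455)) (.leaf 589579674)))) (.node (.node (.node (.node (.leaf 140789859) (.leaf 764062993)) (.leaf 876235785)) (.node (.node (.leaf 488314011) (.leaf 994962175)) (.leaf 835536028))) (.node (.node (.node (.leaf 340857029) (.leaf 934678084)) (.leaf 262671188)) (.node (.node (.leaf 985462069) (.leaf 1079905733)) (.leaf 816328892))))) (.node (.node (.node (.node (.node (.leaf 86820288) (.leaf 878954265)) (.leaf 579551938)) (.node (.node (.leaf 446698445) (.leaf 1091286961)) (.leaf 242418267))) (.node (.node (.node (.leaf 294129413) (.leaf 933570485)) (.leaf 947637295)) (.node (.node (.leaf 809759985) (.leaf 1059194938)) (.leaf 917647012)))) (.node (.node (.node (.node (.leaf 193170198) (.leaf 1042634375)) (.leaf 877867997)) (.node (.node (.leaf 851636334) (.leaf 1016368249)) (.leaf 733283214))) (.node (.node (.node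 (.leaf 742551720) (.leaf 924930885)) (.leaf 1062434559)) (.node (.node (.leaf 758566198) (.leaf 1100420273)) (.leaf 875991584)))))))) (.node (.node (.node (.node (.node (.node (.node (.node (.leaf 9306261) (.leaf 890293476)) (.leaf 951447090)) (.node (.node (.leaf 819736018) (.leaf 894972120)) (.leaf 1092515769))) (.node (.node (.node (.leaf 222071794) (.leaf 926044386)) (.leaf 944917485)) (.node (.node (.leaf 956983102) (.leaf 1024545956)) (.leaf 701731864)))) (.node (.node (.node (.node (.leaf 16236589) (.leaf 959574479)) (.leaf 927057705)) (.node (.node (.leaf 671870605) (.leaf 981095708)) (.leaf 832910194))) (.node (.node (.node (.leaf 561587757) (.leaf 417121410)) (.leaf 646382350)) (.node (.node (.leaf 113328434) (.leaf 1076598615)) (.leaf 872927892))))) (.node (.node (.node (.node (.node (.leaf 10403996) (.leaf 989640013)) (.leaf 937938418)) (.node (.node (.leaf 835562860) (.leaf 1102657530)) (.leaf 903670448))) (.node (.node (.node (.leaf 268275202) (.leaf 402064460)) (.leaf 1082390395)) (.node (.node (.leaf 865724176) (.leaf 1077000026)) (.leaf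 975777838)))) (.node (.node (.node (.node (.leaf 161319294) (.leaf 1026962986)) (.leaf 506981368)) (.node (.node (.leaf 506057935) (.leaf 1002771242)) (.leaf 1051702973))) (.node (.node (.node (.leaf 796732453) (.leaf 650094400)) (.leaf 503796935)) (.node (.node (.leaf 262883313) (.leaf 1087786130)) (.leaf 560677827)))))) (.node (.node (.node (.node (.node (.node (.leaf 35275377) (.leaf 875742247)) (.leaf 584904391)) (.node (.node (.leaf 818033096) (.leaf 1104189444)) (.leaf 230556216))) (.node (.node (.node (.leaf 243010803) (.leaf 884093015)) (.leaf 574900836)) (.node (.node (.leaf 99008778) (.leaf 1035603522)) (.leaf 1024390683)))) (.node (.node (.node (.node (.leaf 545685574) (.leaf 1038792304)) (.leaf 685556639)) (.node (.node (.leaf 893858660) (.leaf 992292417)) (.leaf 251980686))) (.node (.node (.node (.leaf 336810146) (.leaf 875720292)) (.leaf 204636666)) (.node (.node (.leaf 971326803) (.leaf 1077283343)) (.leaf 827288677))))) (.node (.node (.node (.node (.node (.leaf 12664866) (.leaf 1075017550)) (.leaf 925381741)) (.node (.node (.leaf 839364366)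 (.leaf 918211269)) (.leaf 729138491))) (.node (.node (.node (.leaf 289427161) (.leaf 799797256)) (.leaf 977605424)) (.node (.node (.leaf 108871972) (.leaf 1056655370)) (.leaf 727253872)))) (.node (.node (.node (.node (.leaf 25739336) (.leaf 878973404)) (.leaf 966477067)) (.node (.node (.leaf 878374463) (.leaf 1013928700)) (.leaf 718188205))) (.node (.node (.node (.leaf 879063515) (.leaf 869265670)) (.leaf 1098086365)) (.node (.node (.leaf 607807824) (.leaf 1097911229)) (.leaf 802836444))))))) (.node (.node (.node (.node (.node (.node (.node (.leaf 3686411) (.leaf 327126979)) (.leaf 1059509998)) (.node (.node (.leaf 531605016) (.leaf 940838107)) (.leaf 901255941))) (.node (.node (.node (.leaf 232344699) (.leaf 908324903)) (.leaf 920941695)) (.node (.node (.leaf 913708207) (.leaf 1030034103)) (.leaf 595028072)))) (.node (.node (.node (.node (.leaf 17416241) (.leaf 735038051)) (.leaf 1007416758)) (.node (.node (.leaf 732628133) (.leaf 1073092418)) (.leaf 750421176))) (.node (.node (.node (.leaf 46186626) (.leaf 925535142)) (.leaf 787362208)) (.node (.node (.leaf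 565367003) (.leaf 1072138978)) (.leaf 1006286256))))) (.node (.node (.node (.node (.node (.leaf 68600974) (.leaf 816303980)) (.leaf 564989123)) (.node (.node (.leaf 433083262) (.leaf 795380903)) (.leaf 237339213))) (.node (.node (.node (.leaf 279400050) (.leaf 406389851)) (.leaf 827721609)) (.node (.node (.leaf 106365213) (.leaf 1051497678)) (.leaf 286950099)))) (.node (.node (.node (.node (.leaf 953018487) (.leaf 843072617)) (.leaf 940150407)) (.node (.node (.leaf 728917344) (.leaf 1008447744)) (.leaf 881167254))) (.node (.node (.node (.leaf 795831537) (.leaf 837945755)) (.leaf 753740974)) (.node (.node (.leaf 261687174) (.leaf 1092930857)) (.leaf 313819940)))))) (.node (.node (.node (.node (.node (.node (.leaf 44942114) (.leaf 843123038)) (.leaf 878104465)) (.node (.node (.leaf 950707447) (.leaf 882469718)) (.leaf 804833031))) (.node (.node (.node (.leaf 681510144) (.leaf 531944334)) (.leaf 569560948)) (.node (.node (.leaf 101761297) (.leaf 1040713736)) (.leaf 922634131)))) (.node (.node (.node (.node (.leaf 147687613) (.leaf 949997211)) (.leaf 161235355))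 (.node (.node (.leaf 784543160) (.leaf 1019360766)) (.leaf 599336960))) (.node (.node (.node (.leaf 828876291) (.leaf 929023587)) (.leaf 682361855)) (.node (.node (.leaf 616304001) (.leaf 1082544207)) (.leaf 987428161))))) (.node (.node (.node (.node (.node (.leaf 92374548) (.leaf 901506807)) (.leaf 566609155)) (.node (.node (.leaf 536061484) (.leaf 891932560)) (.leaf 244351584))) (.node (.node (.node (.leaf 298782512) (.leaf 1013945820)) (.leaf 891876000)) (.node (.node (.leaf 920024045) (.leaf 1061900722)) (.leaf 292995815)))) (.node (.node (.node (.node (.leaf 205343588) (.leaf 966290947)) (.leaf 737329614)) (.node (.node (.leaf 988058949) (.leaf 1018963674)) (.leaf 888762400))) (.node (.node (.node (.leaf 926149512) (.leaf 981005595)) (.leaf 1004205475)) (.node (.node (.leaf 128778584) (.leaf 1102859607)) (.leaf 1010906570)))))))))))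

noncomputable def edgeA3 : Arr ℕ :=
  (.node (.node (.node (.node (.node (.node (.node (.node (.node (.node (.node (.leaf 32768) (.leaf 991753561)) (.node (.leaf 138373206) (.leaf 1103483633))) (.node (.node (.leaf 965357174) (.leaf 744893700)) (.leaf 723584151))) (.node (.node (.node (.leaf 207367031) (.leaf 905037590)) (.leaf 252857701)) (.node (.node (.leaf 805416930) (.leaf 1019680023)) (.leaf 770387866)))) (.node (.node (.node (.node (.leaf 95176239) (.leaf 871017758)) (.leaf 903334330)) (.node (.node (.leaf 681551937) (.leaf 757157929)) (.leaf 244777573))) (.node (.node (.node (.leaf 43762443) (.leaf 919161414)) (.leaf 824562214)) (.node (.node (.leaf 932122362) (.leaf 1062605228)) (.leaf 293716726))))) (.node (.node (.node (.node (.node (.leaf 7995431) (.leaf 886426509)) (.leaf 1064556302)) (.node (.node (.leaf 884403179) (.leaf 921416668)) (.leaf 232686142))) (.node (.node (.node (.leaf 254905731) (.leaf 1029273143)) (.leaf 844351657)) (.node (.node (.leaf 184674965) (.leaf 1041337259)) (.leaf 738620244)))) (.node (.node (.node (.node (.leaf 786907403)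 (.leaf 360489908)) (.leaf 921482359)) (.node (.node (.leaf 493950133) (.leaf 998419296)) (.leaf 905906752))) (.node (.node (.node (.leaf 529935805) (.leaf 433442206)) (.leaf 208740903)) (.node (.node (.leaf 314306497) (.leaf 1083280898)) (.leaf 570345466)))))) (.node (.node (.node (.node (.node (.node (.leaf 22528429) (.leaf 652494106)) (.leaf 820654576)) (.node (.node (.leaf 824716036) (.leaf 956616225)) (.leaf 311486873))) (.node (.node (.node (.leaf 232500350) (.leaf 1018246648)) (.leaf 1090434988)) (.node (.node (.leaf 813220314) (.leaf 1038595695)) (.leaf 1087821724)))) (.node (.node (.node (.node (.leaf 96085566) (.leaf 900023979)) (.leaf 857624327)) (.node (.node (.leaf 396849783) (.leaf 987091639)) (.leaf 887681312))) (.node (.node (.node (.leaf 326045750) (.leaf 422323346)) (.leaf 765380508)) (.node (.node (.leaf 553552983) (.leaf 1072764727)) (.leaf 811943730))))) (.node (.node (.node (.node (.node (.leaf 70517927) (.leaf 339764073)) (.leaf 148021629)) (.node (.node (.leaf 433722242) (.leaf 500000139)) (.leaf 1102075895))) (.node (.node (.node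 (.leaf 39682273) (.leaf 1103001597)) (.leaf 1062483712)) (.node (.node (.leaf 961669885) (.leaf 1052120741)) (.leaf 532882987)))) (.node (.node (.node (.node (.leaf 69837985) (.leaf 950299284)) (.leaf 165659602)) (.node (.node (.leaf 917090583) (.leaf 1009092773)) (.leaf 894063092))) (.node (.node (.node (.leaf 107701964) (.leaf 815523377)) (.leaf 217180436)) (.node (.node (.leaf 146286755) (.leaf 1093457137)) (.leaf 765537089))))))) (.node (.node (.node (.node (.node (.node (.node (.leaf 11591867) (.leaf 322364219)) (.leaf 583877309)) (.node (.node (.leaf 60768426) (.leaf 915502109)) (.leaf 1030452798))) (.node (.node (.node (.leaf 697346990) (.leaf 382493701)) (.leaf 905671752)) (.node (.node (.leaf 93307465) (.leaf 1025247213)) (.leaf 833046119)))) (.node (.node (.node (.node (.leaf 106456766) (.leaf 1091663796)) (.leaf 717336428)) (.node (.node (.leaf 649588757) (.leaf 1022293520)) (.leaf 354865495))) (.node (.node (.node (.leaf 44900475) (.leaf 952206730)) (.leaf 194037807)) (.node (.node (.leaf 113566003) (.leaf 1067634815)) (.leaf 729187645))))) (.node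 (.node (.node (.node (.node (.leaf 10117147) (.leaf 897026285)) (.leaf 590545643)) (.node (.node (.leaf 425825110) (.leaf 874106372)) (.leaf 234744265))) (.node (.node (.node (.leaf 270339603) (.leaf 760476537)) (.leaf 551866456)) (.node (.node (.leaf 772312871) (.leaf 1046678964)) (.leaf 284746444)))) (.node (.node (.node (.node (.leaf 162711950) (.leaf 787368054)) (.leaf 163776404)) (.node (.node (.leaf 865055438) (.leaf 1003491108)) (.leaf 605513991))) (.node (.node (.node (.leaf 800944348) (.leaf 657838792)) (.leaf 639726634)) (.node (.node (.leaf 120922440) (.leaf 1088317997)) (.leaf 788022064)))))) (.node (.node (.node (.node (.node (.node (.leaf 6529127) (.leaf 845637122)) (.leaf 140009835)) (.node (.node (.leaf 288583371) (.leaf 618385004)) (.leaf 850546440))) (.node (.node (.node (.leaf 34447449) (.leaf 686984729)) (.leaf 626568026)) (.node (.node (.leaf 99206166) (.leaf 1036317547)) (.leaf 770864099)))) (.node (.node (.node (.node (.leaf 133269542) (.leaf 843927529)) (.leaf 857706342)) (.node (.node (.leaf 703295411) (.leaf 992973101)) (.leaf 253005159)))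 (.node (.node (.node (.leaf 337973421) (.leaf 714862976)) (.leaf 1065957142)) (.node (.node (.leaf 116465980) (.leaf 1077843721)) (.leaf 304705144))))) (.node (.node (.node (.node (.node (.leaf 53502918) (.leaf 782599430)) (.leaf 194448163)) (.node (.node (.leaf 116991848) (.leaf 918628294)) (.leaf 746588053))) (.node (.node (.node (.leaf 585097728) (.leaf 719385220)) (.leaf 897959883)) (.node (.node (.leaf 949850492) (.leaf 1057322375)) (.leaf 917729964)))) (.node (.node (.node (.node (.leaf 33415448) (.leaf 859213439)) (.leaf 168903882)) (.node (.node (.leaf 980653338) (.leaf 1014354684)) (.leaf 265495189))) (.node (.node (.node (.leaf 838643935) (.leaf 667551060)) (.leaf 633046232)) (.node (.node (.leaf 1053890251) (.leaf 1098585981)) (.leaf 820939452)))))))) (.node (.node (.node (.node (.node (.node (.node (.node (.leaf 5455960) (.leaf 840192002)) (.leaf 887156337)) (.node (.node (.leaf 63332606) (.leaf 856379102)) (.leaf 856991261))) (.node (.node (.node (.leaf 217418691) (.leaf 831729990)) (.leaf 173081963)) (.node (.node (.leaf 984462640) (.leaf 1052817092))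 (.leaf 917472607)))) (.node (.node (.node (.node (.leaf 100296299) (.leaf 348275595)) (.leaf 899222864)) (.node (.node (.leaf 778117871) (.leaf 1092843452)) (.leaf 855830876))) (.node (.node (.node (.leaf 86730175) (.leaf 859940406)) (.leaf 919136066)) (.node (.node (.leaf 712725163) (.leaf 1064839301)) (.leaf 923423377))))) (.node (.node (.node (.node (.node (.leaf 8921113) (.leaf 832457386)) (.leaf 826618804)) (.node (.node (.leaf 773124656) (.leaf 942157682)) (.leaf 1024439836))) (.node (.node (.node (.leaf 46867272) (.leaf 915820006)) (.leaf 847426811)) (.node (.node (.leaf 244665598) (.leaf 1044254949)) (.leaf 702813315)))) (.node (.node (.node (.node (.leaf 909355151) (.leaf 692962305)) (.leaf 1081300853)) (.node (.node (.leaf 220867560) (.leaf 1000935805)) (.leaf 964980393))) (.node (.node (.node (.leaf 730951939) (.leaf 803066422)) (.leaf 529036523)) (.node (.node (.leaf 119955782) (.leaf 1085772199)) (.leaf 309158681)))))) (.node (.node (.node (.node (.node (.node (.leaf 21774752) (.leaf 654291331)) (.leaf 816066813)) (.node (.node (.leaf 160655734)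 (.leaf 619801005)) (.leaf 229442964))) (.node (.node (.node (.leaf 56557677) (.leaf 711928068)) (.leaf 561857309)) (.node (.node (.leaf 97780001) (.leaf 1033613899)) (.leaf 870778916)))) (.node (.node (.node (.node (.leaf 124585942) (.leaf 813606596)) (.leaf 770740982)) (.node (.node (.leaf 618702697) (.leaf 989973123)) (.leaf 898837383))) (.node (.node (.node (.leaf 785376045) (.leaf 771714706)) (.leaf 889508080)) (.node (.node (.leaf 1041274496) (.leaf 1075433960)) (.leaf 723397485))))) (.node (.node (.node (.node (.node (.leaf 24895945) (.leaf 773894254)) (.leaf 1009268161)) (.node (.node (.leaf 88163085) (.leaf 1004778919)) (.leaf 788115437))) (.node (.node (.node (.leaf 286265007) (.leaf 756667491)) (.leaf 355733853)) (.node (.node (.leaf 829893912) (.leaf 1054838980)) (.leaf 987116864)))) (.node (.node (.node (.node (.leaf 182168183) (.leaf 1068332836)) (.leaf 818762740)) (.node (.node (.leaf 558212522) (.leaf 1012125976)) (.leaf 825381353))) (.node (.node (.node (.leaf 368906678) (.leaf 848710120)) (.leaf 891440717)) (.node (.node (.leaf 572491464)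 (.leaf 1096086132)) (.leaf 688335834))))))) (.node (.node (.node (.node (.node (.node (.node (.leaf 16343327) (.leaf 637224233)) (.leaf 925578362)) (.node (.node (.leaf 62070957) (.leaf 905073343)) (.leaf 226886189))) (.node (.node (.node (.leaf 227904576) (.leaf 773098386)) (.leaf 966535644)) (.node (.node (.leaf 95199488) (.leaf 1028025713)) (.leaf 272951966)))) (.node (.node (.node (.node (.leaf 95954493) (.leaf 761073189)) (.leaf 1060386547)) (.node (.node (.leaf 631091244) (.leaf 984436313)) (.leaf 753446485))) (.node (.node (.node (.leaf 312053673) (.leaf 419996812)) (.leaf 253078888)) (.node (.node (.leaf 979907861) (.leaf 1070224479)) (.leaf 1032599115))))) (.node (.node (.node (.node (.node (.leaf 63005753) (.leaf 338289505)) (.leaf 827134697)) (.node (.node (.leaf 643934243) (.leaf 492381563)) (.leaf 749261193))) (.node (.node (.node (.leaf 608945468) (.leaf 404464724)) (.leaf 808301209)) (.node (.node (.leaf 606898709) (.leaf 1049530284)) (.leaf 718499502)))) (.node (.node (.node (.node (.leaf 168962528) (.leaf 639739961)) (.leaf 1013577178))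 (.node (.node (.leaf 527461270) (.leaf 1006342027)) (.leaf 1017263602))) (.node (.node (.node (.leaf 52215955) (.leaf 1068627751)) (.leaf 661492634)) (.node (.node (.leaf 227716157) (.leaf 1091079182)) (.leaf 312755004)))))) (.node (.node (.node (.node (.node (.node (.leaf 41272036) (.leaf 800049457)) (.leaf 871862682)) (.node (.node (.leaf 111109874) (.leaf 970970228)) (.leaf 836913687))) (.node (.node (.node (.leaf 751658022) (.leaf 396256310)) (.leaf 181273464)) (.node (.node (.leaf 100606221) (.leaf 1038848845)) (.leaf 279356091)))) (.node (.node (.node (.node (.leaf 89662950) (.leaf 844321210)) (.leaf 160737656)) (.node (.node (.leaf 489804960) (.leaf 995468838)) (.leaf 891718395))) (.node (.node (.node (.leaf 240037081) (.leaf 764728117)) (.leaf 206817257)) (.node (.node (.leaf 789169011) (.leaf 1080462526)) (.leaf 306373393))))) (.node (.node (.node (.node (.node (.leaf 557621798) (.leaf 1086240658)) (.leaf 153133597)) (.node (.node (.leaf 781906040) (.leaf 516548025)) (.leaf 242737967))) (.node (.node (.node (.leaf 552037028) (.leaf 814745723)) (.leaf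 823722635)) (.node (.node (.leaf 813147208) (.leaf 1059935160)) (.leaf 1047180963)))) (.node (.node (.node (.node (.leaf 700351705) (.leaf 1043101322)) (.leaf 838543084)) (.node (.node (.leaf 90351090) (.leaf 1016908348)) (.leaf 931893889))) (.node (.node (.node (.leaf 753971656) (.leaf 1002599834)) (.leaf 734589159)) (.node (.node (.leaf 219843550) (.leaf 1101122680)) (.leaf 773827219))))))))) (.node (.node (.node (.node (.node (.node (.node (.node (.node (.leaf 3129389) (.leaf 799804890)) (.node (.leaf 1016247788) (.leaf 1104729472))) (.node (.node (.leaf 684042222) (.leaf 456582413)) (.leaf 672105828))) (.node (.node (.node (.leaf 149678281) (.leaf 836416664)) (.leaf 504378570)) (.node (.node (.leaf 839898354) (.leaf 1020987866)) (.leaf 269026875)))) (.node (.node (.node (.node (.leaf 98256469) (.leaf 348213518)) (.leaf 711504467)) (.node (.node (.leaf 76858449) (.leaf 954820400)) (.leaf 888655138))) (.node (.node (.node (.leaf 273690164) (.leaf 990016848)) (.leaf 902911182)) (.node (.node (.leaf 743694781) (.leaf 1102706683)) (.leaf 820308714))))) (.node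 (.node (.node (.node (.node (.leaf 48169836) (.leaf 769783021)) (.leaf 143352178)) (.node (.node (.leaf 643328890) (.leaf 1087158168)) (.leaf 839543864))) (.node (.node (.node (.leaf 250309971) (.leaf 802048340)) (.leaf 183272530)) (.node (.node (.leaf 742707492) (.leaf 1042870477)) (.leaf 281676468)))) (.node (.node (.node (.node (.leaf 153946362) (.leaf 641533217)) (.leaf 324716569)) (.node (.node (.leaf 214010705) (.leaf 999854193)) (.leaf 689360973))) (.node (.node (.node (.leaf 347820296) (.leaf 434915817)) (.leaf 216271649)) (.node (.node (.leaf 631653512) (.leaf 1084364140)) (.leaf 570599512)))))) (.node (.node (.node (.node (.node (.node (.leaf 25076174) (.leaf 329089861)) (.leaf 136274279)) (.node (.node (.leaf 401543830) (.leaf 1010775498)) (.leaf 228450866))) (.node (.node (.node (.leaf 235203748) (.leaf 640567583)) (.leaf 676712048)) (.node (.node (.leaf 96952580) (.leaf 1032131368)) (.leaf 771199618)))) (.node (.node (.node (.node (.leaf 120850335) (.leaf 575409219)) (.leaf 967446973)) (.node (.node (.leaf 79306969) (.leaf 988571135)) (.leaf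 751588038))) (.node (.node (.node (.leaf 46841989) (.leaf 635292585)) (.leaf 214083590)) (.node (.node (.leaf 1040930430) (.leaf 1073974877)) (.leaf 1042241157))))) (.node (.node (.node (.node (.node (.leaf 590315857) (.leaf 847588067)) (.leaf 858276829)) (.node (.node (.leaf 427660129) (.leaf 825610076)) (.leaf 804343808))) (.node (.node (.node (.leaf 56509419) (.leaf 407733344)) (.leaf 189344299)) (.node (.node (.leaf 871108885) (.leaf 1053485480)) (.leaf 647391879)))) (.node (.node (.node (.node (.leaf 179604063) (.leaf 794841122)) (.leaf 187132584)) (.node (.node (.leaf 846540763) (.leaf 1010502364)) (.leaf 864391843))) (.node (.node (.node (.leaf 63292474) (.leaf 1050392246)) (.leaf 638276818)) (.node (.node (.leaf 949561814) (.leaf 1094621071)) (.leaf 316682197))))))) (.node (.node (.node (.node (.node (.node (.node (.leaf 13902068) (.leaf 932081464)) (.leaf 957394866)) (.node (.node (.leaf 622658143) (.leaf 674107736)) (.leaf 1012372946))) (.node (.node (.node (.leaf 225659935) (.leaf 760435575)) (.leaf 175334660)) (.node (.node (.leaf 996005235)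 (.leaf 1026545007)) (.leaf 1003173278)))) (.node (.node (.node (.node (.leaf 16711727) (.leaf 728402921)) (.leaf 715768832)) (.node (.node (.leaf 718793301) (.leaf 983165421)) (.leaf 747619603))) (.node (.node (.node (.leaf 45318696) (.leaf 418653319)) (.leaf 766087565)) (.node (.node (.leaf 718615063) (.leaf 1068797106)) (.leaf 721570946))))) (.node (.node (.node (.node (.node (.leaf 10723356) (.leaf 948308757)) (.leaf 981177628)) (.node (.node (.leaf 70574272) (.leaf 877121552)) (.leaf 235684424))) (.node (.node (.node (.leaf 67387593) (.leaf 940690924)) (.leaf 288075460)) (.node (.node (.leaf 105029914) (.leaf 1048024265)) (.leaf 609207641)))) (.node (.node (.node (.node (.leaf 165431741) (.leaf 722193648)) (.leaf 890605237)) (.node (.node (.leaf 511612128) (.leaf 1004897908)) (.leaf 1094072260))) (.node (.node (.node (.leaf 656402755) (.leaf 700237875)) (.leaf 1078474595)) (.node (.node (.leaf 965136602) (.leaf 1089868275)) (.leaf 311977850)))))) (.node (.node (.node (.node (.node (.node (.leaf 6651923) (.leaf 341225674)) (.leaf 988124485)) (.node (.node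 (.leaf 814525817) (.leaf 1102944252)) (.leaf 577704845))) (.node (.node (.node (.leaf 247008539) (.leaf 941519096)) (.leaf 895288530)) (.node (.node (.leaf 100656752) (.leaf 1037439593)) (.leaf 837445705)))) (.node (.node (.node (.node (.leaf 792372164) (.leaf 934153210)) (.leaf 842707409)) (.node (.node (.leaf 704424264) (.leaf 994027033)) (.leaf 253051515))) (.node (.node (.node (.leaf 72410308) (.leaf 902098124)) (.leaf 501478595)) (.node (.node (.leaf 885336531) (.leaf 1079249316)) (.leaf 572804283))))) (.node (.node (.node (.node (.node (.leaf 85132712) (.leaf 888615732)) (.leaf 929743382)) (.node (.node (.leaf 781230970) (.leaf 514491827)) (.leaf 876316439))) (.node (.node (.node (.leaf 293179134) (.leaf 702082776)) (.leaf 821964794)) (.node (.node (.leaf 1026037285) (.leaf 1094850505)) (.leaf 593095700)))) (.node (.node (.node (.node (.leaf 858826194) (.leaf 864309655)) (.leaf 1085904785)) (.node (.node (.leaf 851577605) (.leaf 1015629481)) (.leaf 815641483))) (.node (.node (.node (.leaf 64021571) (.leaf 663179768)) (.leaf 766755842)) (.node (.node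 (.leaf 126402900) (.leaf 1099797560)) (.leaf 943778329)))))))) (.node (.node (.node (.node (.node (.node (.node (.node (.leaf 7856254) (.leaf 321635858)) (.leaf 837118666)) (.node (.node (.leaf 87492038) (.leaf 701690470)) (.leaf 225053483))) (.node (.node (.node (.leaf 162785679) (.leaf 720488439)) (.leaf 173778615)) (.node (.node (.leaf 92717870) (.leaf 1023879357)) (.leaf 604754275)))) (.node (.node (.node (.node (.leaf 96691780) (.leaf 728583102)) (.leaf 898470223)) (.node (.node (.leaf 460936219) (.leaf 980472506)) (.leaf 829740090))) (.node (.node (.node (.leaf 585155298) (.leaf 416598614)) (.leaf 700265384)) (.node (.node (.leaf 113025328) (.leaf 1066243844)) (.leaf 1097070551))))) (.node (.node (.node (.node (.node (.leaf 9494554) (.leaf 336318620)) (.leaf 684147716)) (.node (.node (.leaf 69182403) (.leaf 836471835)) (.leaf 420311859))) (.node (.node (.node (.leaf 267079152) (.leaf 866160168)) (.leaf 742114028)) (.node (.node (.leaf 615613346) (.leaf 1045407590)) (.leaf 284205998)))) (.node (.node (.node (.node (.leaf 158460242) (.leaf 1066473241))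 (.leaf 163234621)) (.node (.node (.leaf 504534219) (.leaf 1002311373)) (.leaf 652914182))) (.node (.node (.node (.leaf 117244329) (.leaf 625560414)) (.leaf 807202607)) (.node (.node (.leaf 985888056) (.leaf 1087072781)) (.leaf 309977883)))))) (.node (.node (.node (.node (.node (.node (.leaf 34062933) (.leaf 841722501)) (.leaf 1005827501)) (.node (.node (.leaf 244993282) (.leaf 675506589)) (.leaf 528057774))) (.node (.node (.node (.leaf 745294802) (.leaf 740692404)) (.leaf 974722217)) (.node (.node (.leaf 797100743) (.leaf 1034816595)) (.leaf 276505267)))) (.node (.node (.node (.node (.leaf 128796669) (.leaf 674252129)) (.leaf 158638485)) (.node (.node (.leaf 735760696) (.leaf 991471114)) (.leaf 836085938))) (.node (.node (.node (.leaf 336007320) (.leaf 567774278)) (.leaf 698430290)) (.node (.node (.leaf 919111794) (.leaf 1076696567)) (.leaf 319713279))))) (.node (.node (.node (.node (.node (.leaf 62866487) (.leaf 894979794)) (.leaf 761343298)) (.node (.node (.leaf 699624465) (.leaf 509183968)) (.leaf 240002633))) (.node (.node (.node (.leaf 585329726) (.leaf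 770296322)) (.leaf 894186749)) (.node (.node (.leaf 108765475) (.leaf 1071920955)) (.leaf 289325789)))) (.node (.node (.node (.node (.leaf 25444424) (.leaf 838275243)) (.leaf 885622456)) (.node (.node (.leaf 88957169) (.leaf 1013352176)) (.leaf 1089984425))) (.node (.node (.node (.leaf 371528134) (.leaf 692530156)) (.leaf 1047885479)) (.node (.node (.leaf 1043347083) (.leaf 1097676763)) (.leaf 895004888))))))) (.node (.node (.node (.node (.node (.node (.node (.leaf 20054392) (.leaf 328174601)) (.leaf 135455076)) (.node (.node (.leaf 62931138) (.leaf 636126547)) (.leaf 839517451))) (.node (.node (.node (.leaf 230591581) (.leaf 850086593)) (.leaf 909611817)) (.node (.node (.leaf 95592705) (.leaf 1029411776)) (.leaf 661193502)))) (.node (.node (.node (.node (.leaf 115197765) (.leaf 734645609)) (.leaf 1074992974)) (.node (.node (.leaf 471831630) (.leaf 985861521)) (.leaf 960103767))) (.node (.node (.node (.leaf 45924602) (.leaf 421110928)) (.leaf 917000693)) (.node (.node (.leaf 903596573) (.leaf 1071474946)) (.leaf 299642396))))) (.node (.node (.node (.node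 (.node (.leaf 67028080) (.leaf 1056847581)) (.leaf 147079548)) (.node (.node (.leaf 739093929) (.leaf 540438397)) (.leaf 237004333))) (.node (.node (.node (.leaf 807544628) (.leaf 770952860)) (.leaf 188244444)) (.node (.node (.leaf 106136514) (.leaf 1064728335)) (.leaf 286769875)))) (.node (.node (.node (.node (.leaf 743483018) (.leaf 568305145)) (.leaf 164897191)) (.node (.node (.leaf 516166894) (.leaf 1007555883)) (.leaf 579309809))) (.node (.node (.node (.leaf 738444465) (.leaf 443458787)) (.leaf 583855730)) (.node (.node (.leaf 571501933) (.leaf 1092307560)) (.leaf 313336610)))))) (.node (.node (.node (.node (.node (.node (.leaf 43393793) (.leaf 735267009)) (.leaf 142049649)) (.node (.node (.leaf 814359389) (.leaf 701985695)) (.leaf 980645145))) (.node (.node (.node (.leaf 203074378) (.leaf 946801401)) (.leaf 881070501)) (.node (.node (.leaf 566414530) (.leaf 1096759252)) (.leaf 280134336)))) (.node (.node (.node (.node (.leaf 146491562) (.leaf 767922809)) (.leaf 160702874)) (.node (.node (.leaf 778756963) (.leaf 1028437555)) (.leaf 611157322))) (.node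 (.node (.node (.leaf 165767617) (.leaf 794791413)) (.leaf 207538056)) (.node (.node (.leaf 1046976162) (.leaf 1081888803)) (.leaf 306750227))))) (.node (.node (.node (.node (.node (.leaf 90785271) (.leaf 941412059)) (.leaf 153815232)) (.node (.node (.leaf 902476149) (.leaf 872870064)) (.leaf 243638878))) (.node (.node (.node (.leaf 65447000) (.leaf 828658396)) (.leaf 1043003017)) (.node (.node (.leaf 722823299) (.leaf 1061292869)) (.leaf 694143454)))) (.node (.node (.node (.node (.leaf 195586102) (.leaf 663270484)) (.leaf 787509659)) (.node (.node (.leaf 90874104) (.leaf 1084602249)) (.leaf 715026195))) (.node (.node (.node (.leaf 788590963) (.leaf 695961806)) (.leaf 747171109)) (.node (.node (.leaf 154806542) (.leaf 1102256019)) (.leaf 577121374)))))))))) (.node (.node (.node (.node (.node (.node (.node (.node (.node (.node (.leaf 1802262) (.leaf 320021299)) (.node (.leaf 193915679) (.leaf 1104211455))) (.node (.node (.leaf 684138878) (.leaf 792007076)) (.leaf 735396756))) (.node (.node (.node (.leaf 210602894) (.leaf 962856226)) (.leaf 504293896)) (.node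 (.node (.leaf 575934707) (.leaf 1020383933)) (.leaf 867060012)))) (.node (.node (.node (.node (.leaf 15048745) (.leaf 575786092)) (.leaf 965667082)) (.node (.node (.leaf 76587217) (.leaf 645171293)) (.leaf 744869262))) (.node (.node (.node (.leaf 285453991) (.leaf 834817291)) (.leaf 824691923)) (.node (.node (.leaf 112075052) (.leaf 1063211279)) (.leaf 742048987))))) (.node (.node (.node (.node (.node (.leaf 8298519) (.leaf 781960429)) (.leaf 211626905)) (.node (.node (.leaf 72492229) (.leaf 705204183)) (.leaf 1072437054))) (.node (.node (.node (.leaf 256429466) (.leaf 719360672)) (.leaf 1093392320)) (.node (.node (.leaf 102580501) (.leaf 1042090746)) (.leaf 907669155)))) (.node (.node (.node (.node (.leaf 151185629) (.leaf 780388340)) (.leaf 853676173)) (.node (.node (.leaf 150776026) (.leaf 999205646)) (.leaf 811519030))) (.node (.node (.node (.leaf 346706174) (.leaf 433988801)) (.leaf 209561578)) (.node (.node (.leaf 155003153) (.leaf 1083888755)) (.leaf 949062150)))))) (.node (.node (.node (.node (.node (.node (.leaf 23609792) (.leaf 328879015)) (.leaf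 146393256)) (.node (.node (.leaf 64110827) (.leaf 711649033)) (.leaf 576310344))) (.node (.node (.node (.leaf 65102933) (.leaf 909382742)) (.leaf 177325246)) (.node (.node (.leaf 269151753) (.leaf 1031426974)) (.leaf 281882249)))) (.node (.node (.node (.node (.leaf 18604375) (.leaf 1093121981)) (.leaf 197052320)) (.node (.node (.leaf 687075938) (.leaf 988047303)) (.leaf 766526409))) (.node (.node (.node (.leaf 46702723) (.leaf 1016755695)) (.leaf 765825309)) (.node (.node (.leaf 554371915) (.leaf 1073403098)) (.leaf 858506358))))) (.node (.node (.node (.node (.node (.leaf 11935775) (.leaf 880339681)) (.leaf 787048029)) (.node (.node (.leaf 72417477) (.leaf 502040031)) (.leaf 824584960))) (.node (.node (.node (.leaf 282562189) (.leaf 407704263)) (.leaf 718357826)) (.node (.node (.leaf 849957432) (.leaf 1052772301)) (.leaf 288048026)))) (.node (.node (.node (.node (.leaf 24158277) (.leaf 772165341)) (.leaf 166013306)) (.node (.node (.leaf 749497521) (.leaf 1009765276)) (.leaf 604400690))) (.node (.node (.node (.leaf 792929787) (.leaf 844417722)) (.leaf 217489936))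 (.node (.node (.leaf 918672641) (.leaf 1094047468)) (.leaf 1006106031))))))) (.node (.node (.node (.node (.node (.node (.node (.leaf 2555919) (.leaf 322653226)) (.leaf 1053734602)) (.node (.node (.leaf 181250672) (.leaf 463267102)) (.leaf 1098135518))) (.node (.node (.node (.leaf 697264198) (.leaf 683804077)) (.leaf 243805433)) (.node (.node (.leaf 93766512) (.leaf 1025970973)) (.leaf 271598721)))) (.node (.node (.node (.node (.leaf 108906205) (.leaf 1104246789)) (.leaf 914162578)) (.node (.node (.leaf 463942697) (.leaf 982435830)) (.leaf 865407143))) (.node (.node (.node (.leaf 45064316) (.leaf 698100575)) (.leaf 848602913)) (.node (.node (.leaf 711675437) (.leaf 1068288981)) (.leaf 815870046))))) (.node (.node (.node (.node (.node (.leaf 58885129) (.leaf 803966941)) (.leaf 979842324)) (.node (.node (.leaf 426382171) (.leaf 1085503374)) (.leaf 235226986))) (.node (.node (.node (.leaf 271265311) (.leaf 837691433)) (.leaf 778667243)) (.node (.node (.leaf 811970368) (.leaf 1047291771)) (.leaf 602106064)))) (.node (.node (.node (.node (.leaf 163760544) (.leaf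 365038789)) (.leaf 275017285)) (.node (.node (.leaf 509162711) (.leaf 1004309109)) (.leaf 914469169))) (.node (.node (.node (.leaf 51003857) (.leaf 1031394884)) (.leaf 1040758396)) (.node (.node (.leaf 732064339) (.leaf 1089137637)) (.leaf 888541416)))))) (.node (.node (.node (.node (.node (.node (.leaf 36946570) (.leaf 331255029)) (.leaf 540091157)) (.node (.node (.leaf 409113301) (.leaf 920318477)) (.leaf 952905742))) (.node (.node (.node (.leaf 779141375) (.leaf 783151097)) (.leaf 1042814600)) (.node (.node (.leaf 956656814) (.leaf 1036915312)) (.leaf 693617383)))) (.node (.node (.node (.node (.leaf 135432247) (.leaf 680268876)) (.leaf 1031501381)) (.node (.node (.leaf 749284528) (.leaf 1035007577)) (.leaf 252626820))) (.node (.node (.node (.leaf 338473139) (.leaf 902319310)) (.leaf 807453730)) (.node (.node (.leaf 116564285) (.leaf 1078545955)) (.leaf 859886348))))) (.node (.node (.node (.node (.node (.leaf 83395982) (.leaf 734219954)) (.leaf 152027524)) (.node (.node (.leaf 74842830) (.leaf 1008825790)) (.leaf 746898524))) (.node (.node (.node (.leaf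 585901981) (.leaf 1020589573)) (.leaf 959711756)) (.node (.node (.leaf 879578086) (.leaf 1057952168)) (.leaf 642468115)))) (.node (.node (.node (.node (.leaf 190466779) (.leaf 825853714)) (.leaf 982807846)) (.node (.node (.leaf 141920373) (.leaf 1088583585)) (.leaf 651069243))) (.node (.node (.node (.leaf 60089364) (.leaf 736112948)) (.leaf 600378747)) (.node (.node (.leaf 660198294) (.leaf 1099257343)) (.leaf 850488075)))))))) (.node (.node (.node (.node (.node (.node (.node (.node (.leaf 5627997) (.leaf 321200951)) (.leaf 692859411)) (.node (.node (.leaf 379482630) (.leaf 620562082)) (.leaf 224708847))) (.node (.node (.node (.leaf 740114627) (.leaf 715992794)) (.leaf 973132338)) (.node (.node (.leaf 721865978) (.leaf 1023010512)) (.leaf 855951135)))) (.node (.node (.node (.node (.leaf 533562738) (.leaf 867264669)) (.leaf 228895820)) (.node (.node (.leaf 795175957) (.leaf 1067841313)) (.leaf 709349072))) (.node (.node (.node (.leaf 44540088) (.leaf 950350025)) (.leaf 964433113)) (.node (.node (.leaf 968288381) (.leaf 1065752111)) (.leaf 830280652))))) (.node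 (.node (.node (.node (.node (.leaf 24355271) (.leaf 784779765)) (.leaf 973861950)) (.node (.node (.leaf 654673189) (.leaf 916302676)) (.leaf 849482388))) (.node (.node (.node (.leaf 588146777) (.leaf 1007744440)) (.leaf 950273228)) (.node (.node (.leaf 103564908) (.leaf 1044843886)) (.leaf 1061713659)))) (.node (.node (.node (.node (.leaf 158337359) (.leaf 1073387332)) (.leaf 916221628)) (.node (.node (.leaf 154732813) (.leaf 1001558244)) (.leaf 977990639))) (.node (.node (.node (.leaf 49848460) (.leaf 1081964409)) (.leaf 325701644)) (.node (.node (.leaf 691278558) (.leaf 1092097974)) (.leaf 646686835)))))) (.node (.node (.node (.node (.node (.node (.leaf 29655612) (.leaf 938330729)) (.leaf 526314389)) (.node (.node (.leaf 709764901) (.leaf 1034016339)) (.leaf 821938817))) (.node (.node (.node (.leaf 239455446) (.leaf 391218861)) (.leaf 178405830)) (.node (.node (.leaf 1004230052) (.leaf 1034201653)) (.leaf 275596027)))) (.node (.node (.node (.node (.leaf 125708215) (.leaf 754971402)) (.leaf 606316759)) (.node (.node (.leaf 796307227) (.leaf 990793553))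 (.leaf 691957522))) (.node (.node (.node (.leaf 591800159) (.leaf 738595269)) (.leaf 914019286)) (.node (.node (.leaf 551767153) (.leaf 1076104215)) (.leaf 782676937))))) (.node (.node (.node (.node (.node (.leaf 68691087) (.leaf 839911128)) (.leaf 1069201194)) (.node (.node (.leaf 906849942) (.leaf 1077983072)) (.leaf 647267459))) (.node (.node (.node (.leaf 900770494) (.leaf 767120097)) (.leaf 926697633)) (.node (.node (.leaf 874582642) (.leaf 1055396416)) (.leaf 673600723)))) (.node (.node (.node (.node (.leaf 184961688) (.leaf 945572952)) (.leaf 711209338)) (.node (.node (.leaf 523228421) (.leaf 1012552722)) (.leaf 268447235))) (.node (.node (.node (.leaf 54706330) (.leaf 892725858)) (.leaf 780219396)) (.node (.node (.leaf 131418133) (.leaf 1096602537)) (.leaf 697821587))))))) (.node (.node (.node (.node (.node (.node (.node (.leaf 18350418) (.leaf 1027880496)) (.leaf 930484630)) (.node (.node (.leaf 773514354) (.leaf 1091516339)) (.leaf 904464211))) (.node (.node (.node (.leaf 29417555) (.leaf 386444741)) (.leaf 754340438)) (.node (.node (.leaf 569133078)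 (.leaf 1028721844)) (.leaf 273663601)))) (.node (.node (.node (.node (.leaf 114018087) (.leaf 736087599)) (.leaf 157032849)) (.node (.node (.leaf 470766665) (.leaf 985297164)) (.leaf 1044084367))) (.node (.node (.node (.leaf 320294920) (.leaf 661220920)) (.leaf 896406001)) (.node (.node (.leaf 550505367) (.leaf 1070945045)) (.leaf 863392160))))) (.node (.node (.node (.node (.node (.leaf 64799823) (.leaf 539241601)) (.leaf 825954654)) (.node (.node (.leaf 71435327) (.leaf 771901769)) (.leaf 562448418))) (.node (.node (.node (.leaf 276893276) (.leaf 975695918)) (.leaf 187752923)) (.node (.node (.leaf 1018541562) (.leaf 1050102955)) (.leaf 856090247)))) (.node (.node (.node (.node (.leaf 163260824) (.leaf 739527745)) (.leaf 596781403)) (.node (.node (.leaf 899459354) (.leaf 1007120640)) (.leaf 939148699))) (.node (.node (.node (.leaf 360468863) (.leaf 996963704)) (.leaf 927181084)) (.node (.node (.leaf 215198641) (.leaf 1091636659)) (.leaf 914608781)))))) (.node (.node (.node (.node (.node (.node (.leaf 42025717) (.leaf 579292524)) (.leaf 1039840886)) (.node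 (.node (.leaf 860057467) (.leaf 925166462)) (.leaf 828510968))) (.node (.node (.node (.leaf 880191231) (.leaf 396674361)) (.leaf 246426902)) (.node (.node (.leaf 718671499) (.leaf 1039585318)) (.leaf 853951377)))) (.node (.node (.node (.node (.leaf 535455463) (.leaf 358622124)) (.leaf 605260068)) (.node (.node (.leaf 341602511) (.leaf 996189738)) (.leaf 254101950))) (.node (.node (.node (.leaf 342790357) (.leaf 759387253)) (.leaf 252595555)) (.node (.node (.leaf 789646932) (.leaf 1081282510)) (.leaf 900468330))))) (.node (.node (.node (.node (.node (.leaf 45753142) (.leaf 912158668)) (.leaf 657507467)) (.node (.node (.leaf 617196943) (.leaf 917033952)) (.leaf 243106634))) (.node (.node (.node (.leaf 296783650) (.leaf 850725031)) (.leaf 858687610)) (.node (.node (.leaf 111329583) (.leaf 1060540689)) (.leaf 635556679)))) (.node (.node (.node (.node (.leaf 202017599) (.leaf 753863898)) (.leaf 170140082)) (.node (.node (.leaf 985994553) (.leaf 1017705118)) (.leaf 931565322))) (.node (.node (.node (.leaf 164727221) (.leaf 718656420)) (.leaf 222143004)) (.node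 (.node (.leaf 574205851) (.leaf 1101616394)) (.leaf 1098971107))))))))) (.node (.node (.node (.node (.node (.node (.node (.node (.node (.leaf 4046913) (.leaf 320660277)) (.leaf 754353954)) (.node (.node (.leaf 812771102) (.leaf 933276769)) (.leaf 223920676))) (.node (.node (.node (.leaf 148981685) (.leaf 942999785)) (.leaf 627189378)) (.node (.node (.leaf 537431914) (.leaf 1021694905)) (.leaf 269698692)))) (.node (.node (.node (.node (.leaf 99681896) (.leaf 537880225)) (.leaf 925471548)) (.node (.node (.leaf 779236355) (.leaf 978356305)) (.leaf 245867108))) (.node (.node (.node (.leaf 43794552) (.leaf 978121995)) (.leaf 851159106)) (.node (.node (.leaf 712115505) (.leaf 1064339576)) (.leaf 811267157))))) (.node (.node (.node (.node (.node (.leaf 49824659) (.leaf 334537556)) (.leaf 143927262)) (.node (.node (.leaf 419926831) (.leaf 486139235)) (.leaf 850374983))) (.node (.node (.node (.leaf 258698680) (.leaf 852520090)) (.leaf 183976992)) (.node (.node (.leaf 737480076) (.leaf 1082947454)) (.leaf 1063712519)))) (.node (.node (.node (.node (.leaf 21012538)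 (.leaf 796856939)) (.leaf 751665776)) (.node (.node (.leaf 222473206) (.leaf 1000384071)) (.leaf 689145785))) (.node (.node (.node (.leaf 347975947) (.leaf 435490008)) (.leaf 762425666)) (.node (.node (.leaf 650462677) (.leaf 1085224823)) (.leaf 542271591)))))) (.node (.node (.node (.node (.node (.node (.leaf 4882483) (.leaf 883640953)) (.leaf 136799714)) (.node (.node (.leaf 286174893) (.leaf 762270015)) (.leaf 495940791))) (.node (.node (.node (.leaf 30728279) (.leaf 770879180)) (.leaf 677348000)) (.node (.node (.leaf 1001510292) (.leaf 1032890671)) (.leaf 275219118)))) (.node (.node (.node (.node (.leaf 122914746) (.leaf 353059739)) (.leaf 1076762457)) (.node (.node (.leaf 467432508) (.leaf 989424631)) (.leaf 807933081))) (.node (.node (.node (.leaf 820363750) (.leaf 790892527)) (.leaf 203229211)) (.node (.node (.leaf 643846418) (.leaf 1074817695)) (.leaf 301664784))))) (.node (.node (.node (.node (.node (.leaf 781878093) (.leaf 1058371303)) (.leaf 930976568)) (.node (.node (.leaf 821094172) (.leaf 992441693)) (.leaf 238559826))) (.node (.node (.node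 (.leaf 284708511) (.leaf 863884484)) (.leaf 972910170)) (.node (.node (.leaf 107660743) (.leaf 1054134433)) (.leaf 770913067)))) (.node (.node (.node (.node (.leaf 51676023) (.leaf 1009702339)) (.leaf 1055422164)) (.node (.node (.leaf 88441072) (.leaf 1011274849)) (.leaf 573466798))) (.node (.node (.node (.leaf 367112626) (.leaf 1100929007)) (.leaf 696233716)) (.node (.node (.leaf 897937049) (.leaf 1095281368)) (.leaf 315919392))))))) (.node (.node (.node (.node (.node (.node (.node (.leaf 15810833) (.leaf 323314494)) (.leaf 793415499)) (.node (.node (.leaf 687108054) (.leaf 963578697)) (.leaf 226519057))) (.node (.node (.node (.leaf 593167289) (.leaf 955568152)) (.leaf 793020493)) (.node (.node (.leaf 94569193) (.leaf 1027215331)) (.leaf 873876139)))) (.node (.node (.node (.node (.leaf 101590650) (.leaf 1032287817)) (.leaf 867087521)) (.node (.node (.leaf 630014907) (.leaf 983830667)) (.leaf 1033172558))) (.node (.node (.node (.leaf 316370897) (.leaf 429732716)) (.leaf 201943869)) (.node (.node (.leaf 553798134) (.leaf 1069550599)) (.leaf 794391109)))))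 (.node (.node (.node (.node (.node (.leaf 51536758) (.leaf 877072401)) (.leaf 1040045687)) (.node (.node (.leaf 429118314) (.leaf 491590143)) (.leaf 714616898))) (.node (.node (.node (.leaf 258125234) (.leaf 1004221859)) (.leaf 187466211)) (.node (.node (.leaf 602482902) (.leaf 1048760099)) (.leaf 669487444)))) (.node (.node (.node (.node (.leaf 168233435) (.leaf 366044103)) (.leaf 164308667)) (.node (.node (.leaf 512890086) (.leaf 1005587562)) (.leaf 756836979))) (.node (.node (.node (.leaf 844457479) (.leaf 853813627)) (.leaf 698313740)) (.node (.node (.leaf 654132574) (.leaf 1090391312)) (.leaf 915845776)))))) (.node (.node (.node (.node (.node (.node (.leaf 6766627) (.leaf 331907942)) (.leaf 1062680321)) (.node (.node (.leaf 66732646) (.leaf 1029649978)) (.leaf 1079703403))) (.node (.node (.node (.leaf 248155447) (.leaf 1013085655)) (.leaf 180855243)) (.node (.node (.leaf 107275977) (.leaf 1038207104)) (.leaf 770707787)))) (.node (.node (.node (.node (.leaf 140888164) (.leaf 775877137)) (.leaf 875506827)) (.node (.node (.leaf 792511900) (.leaf 994839036))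 (.leaf 781182184))) (.node (.node (.node (.leaf 331608168) (.leaf 648087342)) (.leaf 527689668)) (.node (.node (.leaf 117399871) (.leaf 1079924573)) (.leaf 1033418319))))) (.node (.node (.node (.node (.node (.leaf 86853057) (.leaf 345837813)) (.leaf 152486444)) (.node (.node (.leaf 446862286) (.leaf 571527070)) (.leaf 574639270))) (.node (.node (.node (.leaf 742106161) (.leaf 412321260)) (.leaf 999822728)) (.node (.node (.leaf 816706507) (.leaf 1059311698)) (.leaf 902820850)))) (.node (.node (.node (.node (.leaf 165685696) (.leaf 872654581)) (.leaf 768618723)) (.node (.node (.leaf 872172246) (.leaf 1016402919)) (.leaf 652719366))) (.node (.node (.node (.leaf 743729596) (.leaf 651889639)) (.leaf 696043943)) (.node (.node (.leaf 137544312) (.leaf 1100450906)) (.leaf 1095366604)))))))) (.node (.node (.node (.node (.node (.node (.node (.node (.leaf 10649767) (.leaf 820923054)) (.leaf 162359691)) (.node (.node (.leaf 387961407) (.leaf 1037629032)) (.leaf 566129256))) (.node (.node (.node (.leaf 222104563) (.leaf 925649230)) (.leaf 944836289)) (.node (.node (.leaf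 92938493) (.leaf 1057035998)) (.leaf 617662133)))) (.node (.node (.node (.node (.leaf 105858739) (.leaf 763480476)) (.leaf 927159464)) (.node (.node (.leaf 462640162) (.leaf 1044870804)) (.leaf 883329137))) (.node (.node (.node (.leaf 310431647) (.leaf 571471075)) (.leaf 580911841)) (.node (.node (.leaf 1035998815) (.leaf 1066962621)) (.leaf 840250294))))) (.node (.node (.node (.node (.node (.leaf 55329762) (.leaf 336307033)) (.leaf 937970399)) (.node (.node (.leaf 71812285) (.leaf 903629980)) (.leaf 912085821))) (.node (.node (.node (.leaf 595640719) (.leaf 897053084)) (.leaf 185606613)) (.node (.node (.leaf 792063074) (.leaf 1046123587)) (.leaf 770935033)))) (.node (.node (.node (.node (.leaf 159770993) (.leaf 787105759)) (.leaf 765848388)) (.node (.node (.leaf 792867238) (.leaf 1002883454)) (.leaf 639210336))) (.node (.node (.node (.leaf 616738741) (.leaf 650801208)) (.leaf 212083208)) (.node (.node (.leaf 760048809) (.leaf 1087720008)) (.leaf 945621539)))))) (.node (.node (.node (.node (.node (.node (.leaf 34218584) (.leaf 850816956)) (.leaf 250867031))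 (.node (.node (.leaf 712582947) (.leaf 794586942)) (.leaf 998094207))) (.node (.node (.node (.leaf 243043572) (.leaf 1081145204)) (.leaf 1057150687)) (.node (.node (.leaf 1004508582) (.leaf 1035454836)) (.leaf 1016067562)))) (.node (.node (.node (.node (.leaf 26534384) (.leaf 355544448)) (.leaf 1075418960)) (.node (.node (.leaf 80257243) (.leaf 992183823)) (.leaf 251620156))) (.node (.node (.node (.leaf 899049753) (.leaf 426452132)) (.leaf 829090476)) (.node (.node (.leaf 971363009) (.leaf 1077325047)) (.leaf 825577358))))) (.node (.node (.node (.node (.node (.leaf 80495973) (.leaf 800916659)) (.leaf 151619811)) (.node (.node (.leaf 793438252) (.leaf 918246592)) (.leaf 940983990))) (.node (.node (.node (.leaf 288911054) (.leaf 828577002)) (.leaf 914797450)) (.node (.node (.leaf 535857074) (.leaf 1056737590)) (.leaf 704169240)))) (.node (.node (.node (.node (.leaf 775463809) (.leaf 824168673)) (.leaf 966511175)) (.node (.node (.leaf 89170162) (.leaf 1013904361)) (.leaf 264970900))) (.node (.node (.node (.leaf 822227109) (.leaf 690350412)) (.leaf 219660823))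 (.node (.node (.leaf 644813898) (.leaf 1097815442)) (.leaf 902116200))))))) (.node (.node (.node (.node (.node (.node (.node (.leaf 21365145) (.leaf 327248082)) (.leaf 1009792452)) (.node (.node (.leaf 576285770) (.leaf 666995730)) (.leaf 227575703))) (.node (.node (.node (.leaf 232377468) (.leaf 566029234)) (.leaf 941893463)) (.node (.node (.leaf 95847499) (.leaf 1030050261)) (.leaf 633907799)))) (.node (.node (.node (.node (.leaf 608519452) (.leaf 735073333)) (.leaf 856689295)) (.node (.node (.leaf 608939431) (.leaf 986581243)) (.leaf 1091188657))) (.node (.node (.node (.leaf 208071547) (.leaf 925510583)) (.leaf 259911107)) (.node (.node (.leaf 836392090) (.leaf 1072074659)) (.leaf 300549156))))) (.node (.node (.node (.node (.node (.leaf 68084868) (.leaf 339190629)) (.leaf 567791427)) (.node (.node (.leaf 743105122) (.leaf 497730952)) (.leaf 780186614))) (.node (.node (.node (.leaf 279465587) (.leaf 1064924944)) (.leaf 900879124)) (.node (.node (.leaf 932693338) (.leaf 1051431211)) (.leaf 936047767)))) (.node (.node (.node (.node (.leaf 100803736) (.leaf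 898435801)) (.leaf 744006347)) (.node (.node (.leaf 539493796) (.leaf 1015952873)) (.leaf 876917699))) (.node (.node (.node (.leaf 675178844) (.leaf 1100969968)) (.leaf 686965804)) (.node (.node (.leaf 1051604669) (.leaf 1092972659)) (.leaf 850947325)))))) (.node (.node (.node (.node (.node (.node (.leaf 44991267) (.leaf 840551689)) (.leaf 982234403)) (.node (.node (.leaf 415871761) (.leaf 660386632)) (.leaf 232655999))) (.node (.node (.node (.leaf 737264948) (.leaf 398127255)) (.leaf 842649466)) (.node (.node (.leaf 549978612) (.leaf 1040602213)) (.leaf 280561415)))) (.node (.node (.node (.node (.leaf 146614445) (.leaf 949913544)) (.leaf 976423020)) (.node (.node (.leaf 717533040) (.leaf 997557810)) (.leaf 254347842))) (.node (.node (.node (.leaf 281734792) (.leaf 764997683)) (.leaf 558302673)) (.node (.node (.leaf 118440268) (.leaf 1082414917)) (.leaf 647671272))))) (.node (.node (.node (.node (.node (.leaf 92407317) (.leaf 577293449)) (.leaf 524617910)) (.node (.node (.leaf 75915471) (.leaf 1022064142)) (.leaf 658322035))) (.node (.node (.node (.leaf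 42992209) (.leaf 1050572471)) (.leaf 891768544)) (.node (.node (.leaf 938864341) (.leaf 1061967098)) (.leaf 959122673)))) (.node (.node (.node (.node (.leaf 205409125) (.leaf 960980622)) (.leaf 685983717)) (.node (.node (.leaf 91201785) (.leaf 1053169350)) (.leaf 1101314034))) (.node (.node (.node (.leaf 58228897) (.leaf 1046615711)) (.leaf 578684958)) (.node (.node (.leaf 616367132) (.leaf 1102958622)) (.leaf 851104142)))))))))))

noncomputable def edgeA4 : Arr ℕ :=
  (.node (.node (.node (.node (.node (.node (.node (.node (.node (.node (.node (.leaf 139265) (.leaf 319868893)) (.node (.leaf 132032538) (.leaf 1103613679))) (.node (.node (.leaf 683650074) (.leaf 707228359)) (.leaf 943164403))) (.node (.node (.node (.leaf 27066880) (.leaf 1030010428)) (.leaf 171967992)) (.node (.node (.leaf 989058379) (.leaf 1019744791)) (.leaf 827182940)))) (.node (.node (.node (.node (.leaf 95372851) (.leaf 347243399)) (.leaf 154255754)) (.node (.node (.leaf 76301322) (.leaf 918947525)) (.leaf 969222490))) (.node (.node (.node (.leaf 63038521) (.leaf 864522656)) (.leaf 1096587220))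 (.node (.node (.leaf 233983125) (.leaf 1062745798)) (.leaf 907248453))))) (.node (.node (.node (.node (.node (.leaf 37102219) (.leaf 992089435)) (.leaf 968477890)) (.node (.node (.leaf 71304371) (.leaf 1060443891)) (.leaf 539104415))) (.node (.node (.node (.leaf 749399217) (.leaf 931924537)) (.leaf 875605031)) (.node (.node (.leaf 184887959) (.leaf 1041467217)) (.leaf 767348485)))) (.node (.node (.node (.node (.leaf 632267990) (.leaf 717639078)) (.leaf 234515613)) (.node (.node (.leaf 126707114) (.leaf 998526417)) (.leaf 254741883))) (.node (.node (.node (.leaf 94700911) (.leaf 888197078)) (.leaf 208833383)) (.node (.node (.leaf 212413343) (.leaf 1083414028)) (.leaf 1039324787)))))) (.node (.node (.node (.node (.node (.node (.leaf 4128806) (.leaf 914064364)) (.leaf 684377091)) (.node (.node (.leaf 909224079) (.leaf 955877427)) (.leaf 324079565))) (.node (.node (.node (.leaf 29835423) (.leaf 961702653)) (.leaf 1085667215)) (.node (.node (.leaf 96322716) (.leaf 1030817647)) (.leaf 708839199)))) (.node (.node (.node (.node (.leaf 75736315) (.leaf 899977618))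 (.leaf 157729171)) (.node (.node (.leaf 79003865) (.leaf 987237744)) (.leaf 752110026))) (.node (.node (.node (.leaf 46547765) (.leaf 640439320)) (.leaf 765432795)) (.node (.node (.leaf 554141657) (.leaf 1072828003)) (.leaf 792980012))))) (.node (.node (.node (.node (.node (.leaf 48882556) (.leaf 1015698920)) (.leaf 148195248)) (.node (.node (.leaf 433484672) (.leaf 500665141)) (.leaf 237683481))) (.node (.node (.node (.leaf 280923776) (.leaf 1061615354)) (.leaf 188548365)) (.node (.node (.leaf 752381063) (.leaf 1052215473)) (.leaf 578000112)))) (.node (.node (.node (.node (.leaf 23806401) (.leaf 371018429)) (.leaf 280219256)) (.node (.node (.leaf 545483701) (.leaf 1009346850)) (.leaf 259460448))) (.node (.node (.node (.leaf 53134273) (.leaf 811118347)) (.leaf 217271130)) (.node (.node (.leaf 747253030) (.leaf 1093570663)) (.leaf 327929917))))))) (.node (.node (.node (.node (.node (.node (.node (.leaf 12271822) (.leaf 896560358)) (.leaf 592891442)) (.node (.node (.leaf 894873816) (.leaf 767732263)) (.leaf 1080891250))) (.node (.node (.node (.leaf 507210756)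 (.leaf 382583814)) (.leaf 709307668)) (.node (.node (.leaf 559475795) (.leaf 1099536358)) (.leaf 596601772)))) (.node (.node (.node (.node (.leaf 63153210) (.leaf 738683234)) (.leaf 155666690)) (.node (.node (.leaf 733753634) (.leaf 981929108)) (.leaf 882824278))) (.node (.node (.node (.leaf 614723054) (.leaf 562341373)) (.leaf 194167279)) (.node (.node (.leaf 849187168) (.leaf 1067848166)) (.leaf 547227816))))) (.node (.node (.node (.node (.node (.leaf 32358603) (.leaf 1070888756)) (.leaf 751889738)) (.node (.node (.leaf 69862386) (.leaf 948212573)) (.leaf 234766939))) (.node (.node (.node (.leaf 270536214) (.leaf 519148790)) (.leaf 828060099)) (.node (.node (.leaf 996439413) (.leaf 1046877578)) (.leaf 949584851)))) (.node (.node (.node (.node (.leaf 162826640) (.leaf 773992561)) (.leaf 257983300)) (.node (.node (.leaf 509170904) (.leaf 1003669076)) (.leaf 666169012))) (.node (.node (.node (.leaf 740852787) (.leaf 687918298)) (.leaf 212551700)) (.node (.node (.leaf 137725814) (.leaf 1088591325)) (.leaf 704926895)))))) (.node (.node (.node (.node (.node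 (.node (.leaf 36373119) (.leaf 778294189)) (.leaf 1040643708)) (.node (.node (.leaf 160261173) (.leaf 1084544905)) (.leaf 933317341))) (.node (.node (.node (.leaf 50979288) (.leaf 393676092)) (.leaf 237907140)) (.node (.node (.leaf 865463295) (.leaf 1036358905)) (.leaf 770641703)))) (.node (.node (.node (.node (.leaf 121874346) (.leaf 952414691)) (.leaf 158990743)) (.node (.node (.leaf 672666320) (.leaf 993185429)) (.leaf 252250501))) (.node (.node (.node (.leaf 790768767) (.leaf 576203850)) (.leaf 574876876)) (.node (.node (.leaf 676065487) (.leaf 1078054431)) (.leaf 1030534719))))) (.node (.node (.node (.node (.node (.leaf 55632868) (.leaf 871272015)) (.leaf 224259086)) (.node (.node (.leaf 102508163) (.leaf 1028822581)) (.leaf 760631526))) (.node (.node (.node (.leaf 580446451) (.leaf 1090467756)) (.leaf 822650618)) (.node (.node (.leaf 185354905) (.leaf 1057443355)) (.leaf 581588187)))) (.node (.node (.node (.node (.leaf 32063609) (.leaf 1054881488)) (.leaf 872698348)) (.node (.node (.leaf 980546841) (.leaf 1014589778)) (.leaf 614304006))) (.node (.node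 (.node (.leaf 374493679) (.leaf 739144565)) (.leaf 600740172)) (.node (.node (.leaf 581488357) (.leaf 1098633976)) (.leaf 910591013)))))))) (.node (.node (.node (.node (.node (.node (.node (.node (.leaf 5570653) (.leaf 1096472531)) (.leaf 550020939)) (.node (.node (.leaf 81036305) (.leaf 635766099)) (.leaf 705810482))) (.node (.node (.node (.leaf 125446116) (.leaf 775832826)) (.leaf 173130450)) (.node (.node (.leaf 92127484) (.leaf 1022569920)) (.leaf 975048172)))) (.node (.node (.node (.node (.leaf 15827095) (.leaf 871240254)) (.leaf 216968127)) (.node (.node (.leaf 856270006) (.leaf 979175670)) (.leaf 757814379))) (.node (.node (.node (.leaf 710781980) (.leaf 950716522)) (.leaf 893400017)) (.node (.node (.leaf 112787759) (.leaf 1065013526)) (.leaf 295305967))))) (.node (.node (.node (.node (.node (.leaf 33309152) (.leaf 335414103)) (.leaf 228863052)) (.node (.node (.leaf 704098012) (.leaf 757066319)) (.leaf 233294196))) (.node (.node (.node (.leaf 37585144) (.leaf 675386435)) (.leaf 318779378)) (.node (.node (.leaf 104933029) (.leaf 1104312325)) (.leaf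 758926647)))) (.node (.node (.node (.node (.leaf 592471728) (.leaf 642541470)) (.leaf 689829000)) (.node (.node (.leaf 207743865) (.leaf 1000998475)) (.leaf 747433255))) (.node (.node (.node (.leaf 333992067) (.leaf 437306577)) (.leaf 210880466)) (.node (.node (.leaf 627041922) (.leaf 1086017699)) (.leaf 309265178)))))) (.node (.node (.node (.node (.node (.node (.leaf 28131866) (.leaf 329813971)) (.leaf 196642224)) (.node (.node (.leaf 707831565) (.leaf 781477426)) (.leaf 795094037))) (.node (.node (.node (.leaf 178842203) (.leaf 709176693)) (.leaf 378958339)) (.node (.node (.leaf 184224398) (.leaf 1105221643)) (.leaf 584017835)))) (.node (.node (.node (.node (.leaf 588333339) (.leaf 353912037)) (.leaf 957591134)) (.node (.node (.leaf 739558585) (.leaf 990187726)) (.leaf 250039633))) (.node (.node (.node (.leaf 49226628) (.leaf 1070266160)) (.leaf 203702776)) (.node (.node (.leaf 1041438337) (.leaf 1075497277)) (.leaf 453293052))))) (.node (.node (.node (.node (.node (.leaf 31940699) (.leaf 342183151)) (.leaf 610993482)) (.node (.node (.leaf 437293969) (.leaf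 556500816)) (.leaf 791876235))) (.node (.node (.node (.leaf 286461618) (.leaf 694260913)) (.leaf 866370891)) (.node (.node (.leaf 812640030) (.leaf 1100060650)) (.leaf 734163172)))) (.node (.node (.node (.node (.leaf 102262400) (.leaf 1024824862)) (.leaf 167592877)) (.node (.node (.leaf 557869048) (.leaf 1012157667)) (.leaf 998552961))) (.node (.node (.node (.leaf 54461017) (.leaf 893356817)) (.leaf 219039960)) (.node (.node (.leaf 151226589) (.leaf 1096233689)) (.leaf 733987709))))))) (.node (.node (.node (.node (.node (.node (.node (.leaf 17236278) (.leaf 673330264)) (.leaf 134940696)) (.node (.node (.leaf 62243562) (.leaf 930097381)) (.leaf 989599053))) (.node (.node (.node (.leaf 209283971) (.leaf 788597890)) (.leaf 176146973)) (.node (.node (.leaf 180185699) (.leaf 1028083690)) (.leaf 870519195)))) (.node (.node (.node (.node (.leaf 801554610) (.leaf 350831506)) (.leaf 506598608)) (.node (.node (.leaf 468759618) (.leaf 984647562)) (.leaf 1081169780))) (.node (.node (.node (.leaf 318623728) (.leaf 420122238)) (.leaf 199739662)) (.node (.node (.leaf 555222418)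 (.leaf 1070420038)) (.leaf 768347221))))) (.node (.node (.node (.node (.node (.leaf 32112850) (.leaf 939296323)) (.leaf 1052243649)) (.node (.node (.leaf 71074703) (.leaf 694285009)) (.leaf 749372033))) (.node (.node (.node (.leaf 275639892) (.leaf 890786951)) (.leaf 815501740)) (.node (.node (.leaf 1000707470) (.leaf 1049612606)) (.leaf 1083586434)))) (.node (.node (.node (.node (.leaf 824222683) (.leaf 968020382)) (.leaf 1083045759)) (.node (.node (.leaf 150735066) (.leaf 1068193571)) (.leaf 1077434205))) (.node (.node (.node (.leaf 52249323) (.leaf 964292361)) (.leaf 1038276205)) (.node (.node (.leaf 122257781) (.leaf 1091130829)) (.leaf 650850255)))))) (.node (.node (.node (.node (.node (.node (.leaf 10510501) (.leaf 773968289)) (.leaf 1063720712)) (.node (.node (.leaf 67331124) (.leaf 698051423)) (.leaf 538168685))) (.node (.node (.node (.leaf 751821080) (.leaf 396366381)) (.leaf 239938776)) (.node (.node (.leaf 237210810) (.leaf 1039067517)) (.leaf 887051246)))) (.node (.node (.node (.node (.leaf 968730679) (.leaf 1105090570)) (.leaf 159778410)) (.node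 (.node (.leaf 81544216) (.leaf 995692807)) (.leaf 253740502))) (.node (.node (.node (.leaf 76801287) (.leaf 933448468)) (.leaf 820539888)) (.node (.node (.leaf 789203595) (.leaf 1080660037)) (.leaf 1053595337))))) (.node (.node (.node (.node (.node (.leaf 14278903) (.leaf 774557684)) (.leaf 644869855)) (.node (.node (.leaf 75366605) (.leaf 883437651)) (.leaf 242780826))) (.node (.node (.node (.leaf 41877690) (.leaf 977883685)) (.leaf 825723798)) (.node (.node (.leaf 303705947) (.leaf 1060132002)) (.leaf 585764795)))) (.node (.node (.node (.node (.leaf 26575345) (.leaf 978990351)) (.leaf 862769938)) (.node (.node (.leaf 563177017) (.leaf 1017164461)) (.leaf 812240539))) (.node (.node (.node (.leaf 586311482) (.leaf 863441365)) (.leaf 221907219)) (.node (.node (.leaf 633958808) (.leaf 1101190604)) (.leaf 804072134))))))))) (.node (.node (.node (.node (.node (.node (.node (.node (.node (.leaf 671753) (.leaf 800125436)) (.node (.leaf 819086367) (.leaf 1104926169))) (.node (.node (.leaf 58933740) (.leaf 883814486)) (.leaf 1012594132))) (.node (.node (.node (.leaf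 547725919) (.leaf 567879860)) (.leaf 172523959)) (.node (.node (.leaf 93464098) (.leaf 1021169743)) (.leaf 284110488)))) (.node (.node (.node (.node (.leaf 24396041) (.leaf 577154144)) (.leaf 694170498)) (.node (.node (.leaf 76906707) (.leaf 1060583156)) (.leaf 1024357915))) (.node (.node (.node (.leaf 117507948) (.leaf 1097422809)) (.leaf 1065809685)) (.node (.node (.leaf 112460078) (.leaf 1063881130)) (.leaf 964252593))))) (.node (.node (.node (.node (.node (.leaf 48235375) (.leaf 1078744933)) (.leaf 553199413)) (.node (.node (.leaf 942335707) (.leaf 750349628)) (.leaf 814117594))) (.node (.node (.node (.leaf 958408361) (.leaf 907792239)) (.leaf 183551103)) (.node (.node (.leaf 102826261) (.leaf 1042910574)) (.leaf 281888419)))) (.node (.node (.node (.node (.leaf 550864712) (.leaf 634292114)) (.leaf 163375514)) (.node (.node (.leaf 143829132) (.leaf 999984615)) (.leaf 255476376))) (.node (.node (.node (.leaf 347984140) (.leaf 948367507)) (.leaf 921768221)) (.node (.node (.leaf 119424889) (.leaf 1084511329)) (.leaf 310259613)))))) (.node (.node (.node (.node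 (.node (.node (.leaf 25805278) (.leaf 705827006)) (.leaf 140625856)) (.node (.node (.leaf 168618463) (.leaf 1045165718)) (.leaf 579022266))) (.node (.node (.node (.leaf 32006410) (.leaf 811036798)) (.leaf 676744787)) (.node (.node (.leaf 246385942) (.leaf 1032312128)) (.leaf 883127293)))) (.node (.node (.node (.node (.leaf 682738661) (.leaf 352650146)) (.leaf 1019524607)) (.node (.node (.leaf 610988701) (.leaf 1053292231)) (.leaf 765897517))) (.node (.node (.node (.leaf 46907525) (.leaf 635061539)) (.leaf 202932794)) (.node (.node (.leaf 549619712) (.leaf 1074138511)) (.leaf 819029800))))) (.node (.node (.node (.node (.node (.leaf 56288233) (.leaf 777995298)) (.leaf 149588043)) (.node (.node (.leaf 108029647) (.leaf 504048706)) (.leaf 543599573))) (.node (.node (.node (.leaf 117098346) (.leaf 742556933)) (.leaf 189384472)) (.node (.node (.leaf 107185330) (.leaf 1053560689)) (.leaf 585336919)))) (.node (.node (.node (.node (.leaf 109160158) (.leaf 754420658)) (.leaf 272838192)) (.node (.node (.leaf 88064469) (.leaf 1010741995)) (.leaf 819670482))) (.node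 (.node (.node (.leaf 761589958) (.leaf 841150990)) (.leaf 904057017)) (.node (.node (.leaf 123863440) (.leaf 1094801086)) (.leaf 315674530))))))) (.node (.node (.node (.node (.node (.node (.node (.leaf 14795010) (.leaf 907513549)) (.leaf 133433272)) (.node (.node (.leaf 623718472) (.leaf 1002403225)) (.leaf 226264998))) (.node (.node (.node (.leaf 225872930) (.leaf 384667183)) (.leaf 175392370)) (.node (.node (.leaf 642124000) (.leaf 1058944746)) (.leaf 873958525)))) (.node (.node (.node (.node (.leaf 98026253) (.leaf 895568618)) (.leaf 714198832)) (.node (.node (.leaf 78071065) (.leaf 983298361)) (.leaf 975541502))) (.node (.node (.node (.leaf 324348219) (.leaf 746826980)) (.leaf 250654038)) (.node (.node (.leaf 923545291) (.leaf 1068996384)) (.leaf 738800218))))) (.node (.node (.node (.node (.node (.leaf 534200582) (.leaf 350073124)) (.leaf 547324656)) (.node (.node (.leaf 546515959) (.leaf 974808819)) (.leaf 1066170135))) (.node (.node (.node (.leaf 273387059) (.leaf 854150772)) (.leaf 961324687)) (.node (.node (.leaf 958382729) (.leaf 1048220357)) (.leaf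 929687784)))) (.node (.node (.node (.node (.leaf 165579200) (.leaf 757386882)) (.leaf 690557516)) (.node (.node (.leaf 583107253) (.leaf 1076557655)) (.leaf 1034139220))) (.node (.node (.node (.leaf 51314878) (.leaf 720907190)) (.leaf 213814098)) (.node (.node (.leaf 147826878) (.leaf 1089918876)) (.leaf 927729403)))))) (.node (.node (.node (.node (.node (.node (.leaf 6684691) (.leaf 336261274)) (.leaf 527584356)) (.node (.node (.leaf 607839547) (.leaf 672912523)) (.leaf 814236792))) (.node (.node (.node (.leaf 247123231) (.leaf 1046312605)) (.leaf 365457831)) (.node (.node (.leaf 100008396) (.leaf 1089075108)) (.leaf 982258979)))) (.node (.node (.node (.node (.leaf 137054287) (.leaf 358510962)) (.leaf 889416528)) (.node (.node (.leaf 935848250) (.leaf 1096841173)) (.leaf 314421186))) (.node (.node (.node (.leaf 785220432) (.leaf 902195926)) (.leaf 206438909)) (.node (.node (.leaf 117014954) (.leaf 1079351013)) (.leaf 823439824))))) (.node (.node (.node (.node (.node (.leaf 85263788) (.leaf 927131932)) (.leaf 930943903)) (.node (.node (.leaf 353440079) (.leaf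 594847510)) (.leaf 241748636))) (.node (.node (.node (.leaf 62046953) (.leaf 413004528)) (.leaf 1063630599)) (.node (.node (.leaf 573002250) (.leaf 1058820410)) (.leaf 619382765)))) (.node (.node (.node (.node (.leaf 191990526) (.leaf 1062090493)) (.leaf 836014622)) (.node (.node (.leaf 797970406) (.leaf 1038038635)) (.leaf 651924460))) (.node (.node (.node (.leaf 56262857) (.leaf 695784628)) (.leaf 220892114)) (.node (.node (.leaf 203876399) (.leaf 1099912959)) (.leaf 785991413)))))))) (.node (.node (.node (.node (.node (.node (.node (.node (.leaf 1998853) (.leaf 1002829212)) (.leaf 150350034)) (.node (.node (.leaf 624651252) (.leaf 1049179822)) (.leaf 311611300))) (.node (.node (.node (.leaf 600269337) (.leaf 762809211)) (.leaf 953930052)) (.node (.node (.leaf 108635862) (.leaf 1023970403)) (.leaf 270779051)))) (.node (.node (.node (.node (.leaf 73810646) (.leaf 737546252)) (.leaf 898909054)) (.node (.node (.leaf 78095657) (.leaf 980551137)) (.leaf 446378956))) (.node (.node (.node (.leaf 237710529) (.leaf 416681205)) (.leaf 207391607)) (.node (.node (.leaf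 761057583) (.leaf 1066504424)) (.leaf 575843541))))) (.node (.node (.node (.node (.node (.leaf 30998600) (.leaf 832401852)) (.leaf 152725742)) (.node (.node (.leaf 69256345) (.leaf 488214948)) (.leaf 398946944))) (.node (.node (.node (.leaf 267193845) (.leaf 782062759)) (.leaf 185378529)) (.node (.node (.leaf 105195178) (.leaf 1045615786)) (.leaf 1006745010)))) (.node (.node (.node (.node (.leaf 51594102) (.leaf 953192607)) (.leaf 163604893)) (.node (.node (.leaf 601711266) (.leaf 1002378281)) (.leaf 751480136))) (.node (.node (.node (.leaf 50070425) (.leaf 665718148)) (.leaf 211716324)) (.node (.node (.leaf 724200042) (.leaf 1087278183)) (.leaf 573081316)))))) (.node (.node (.node (.node (.node (.node (.leaf 33988697) (.leaf 867585144)) (.leaf 605415687)) (.node (.node (.leaf 167995861) (.leaf 675353495)) (.leaf 847238062))) (.node (.node (.node (.leaf 54485969) (.leaf 391926357)) (.leaf 601133114)) (.node (.node (.leaf 547590410) (.leaf 1035011868)) (.leaf 885680602)))) (.node (.node (.node (.node (.leaf 18661707) (.leaf 954994173)) (.leaf 596906599))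 (.node (.node (.leaf 80086300) (.leaf 991758530)) (.leaf 980219159))) (.node (.node (.node (.leaf 331690090) (.leaf 543484884)) (.leaf 975833158)) (.node (.node (.leaf 571558820) (.leaf 1089771432)) (.leaf 303481847))))) (.node (.node (.node (.node (.node (.leaf 78988609) (.leaf 352891210)) (.leaf 692458619)) (.node (.node (.leaf 440243112) (.leaf 645532869)) (.leaf 591718239))) (.node (.node (.node (.leaf 270380563) (.leaf 1096210385)) (.leaf 192129791)) (.node (.node (.leaf 180496999) (.leaf 1056229914)) (.leaf 888033227)))) (.node (.node (.node (.node (.leaf 50954850) (.leaf 822748871)) (.leaf 884917344)) (.node (.node (.leaf 849006158) (.leaf 1104951305)) (.leaf 1033549392))) (.node (.node (.node (.leaf 867905531) (.leaf 696421336)) (.leaf 883020650)) (.node (.node (.leaf 554166081) (.leaf 1097446153)) (.leaf 319778815))))))) (.node (.node (.node (.node (.node (.node (.node (.leaf 20169085) (.leaf 326537246)) (.leaf 696529506)) (.node (.node (.leaf 63013633) (.leaf 831615221)) (.leaf 227216267))) (.node (.node (.node (.leaf 230771810) (.leaf 856740869))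 (.leaf 931951233)) (.node (.node (.leaf 563152369) (.leaf 1029507854)) (.leaf 275557970)))) (.node (.node (.node (.node (.leaf 547848245) (.leaf 983258409)) (.leaf 744072831)) (.node (.node (.leaf 472323152) (.leaf 986074469)) (.leaf 749719063))) (.node (.node (.node (.leaf 46424895) (.leaf 679462269)) (.leaf 868945974)) (.node (.node (.leaf 114755380) (.leaf 1071699383)) (.leaf 384381480))))) (.node (.node (.node (.node (.node (.leaf 67470451) (.leaf 946981833)) (.leaf 227437626)) (.node (.node (.leaf 739583313) (.leaf 496846213)) (.leaf 615665020))) (.node (.node (.node (.leaf 236891320) (.leaf 405833401)) (.leaf 982914343)) (.node (.node (.leaf 405910201) (.leaf 1050888115)) (.leaf 1061779195)))) (.node (.node (.node (.node (.leaf 173279765) (.leaf 859967666)) (.leaf 945112825)) (.node (.node (.leaf 516232431) (.leaf 1007907549)) (.leaf 601270874))) (.node (.node (.node (.leaf 592373719) (.leaf 603598335)) (.leaf 1015215589)) (.node (.node (.leaf 929612165) (.leaf 1102018550)) (.leaf 763612411)))))) (.node (.node (.node (.node (.node (.node (.leaf 31810017)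 (.leaf 332877919)) (.leaf 196593988)) (.node (.node (.leaf 859759727) (.leaf 663646952)) (.leaf 867668319))) (.node (.node (.node (.leaf 251825503) (.leaf 397136488)) (.leaf 851547063)) (.node (.node (.leaf 551110611) (.leaf 1068578598)) (.leaf 675794332)))) (.node (.node (.node (.node (.leaf 146622638) (.leaf 359534443)) (.leaf 160957119)) (.node (.node (.leaf 679912693) (.leaf 997102410)) (.leaf 710855868))) (.node (.node (.node (.leaf 800613042) (.leaf 760539351)) (.leaf 207685009)) (.node (.node (.leaf 119457673) (.leaf 1081921174)) (.leaf 836635171))))) (.node (.node (.node (.node (.node (.leaf 90916345) (.leaf 346277612)) (.leaf 931198004)) (.node (.node (.leaf 113977125) (.leaf 1036383841)) (.leaf 243862184))) (.node (.node (.node (.leaf 86205882) (.leaf 1008596413)) (.leaf 946687547)) (.node (.node (.leaf 945138105) (.leaf 1061418021)) (.leaf 1090082730)))) (.node (.node (.node (.node (.leaf 28353054) (.leaf 816337084)) (.leaf 530150557)) (.node (.node (.leaf 90931449) (.leaf 1018417968)) (.leaf 1016649198))) (.node (.node (.node (.leaf 57869064)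 (.leaf 710051188)) (.leaf 886567966)) (.node (.node (.leaf 615384749) (.leaf 1102433966)) (.leaf 332165231)))))))))) (.node (.node (.node (.node (.node (.node (.node (.node (.node (.node (.leaf 1982489) (.leaf 808693626)) (.node (.leaf 921580666) (.leaf 1104270993))) (.node (.node (.leaf 680907158) (.leaf 856781369)) (.leaf 691128675))) (.node (.node (.node (.leaf 27263479) (.leaf 562950031)) (.leaf 258901500)) (.node (.node (.leaf 990516563) (.leaf 1020446396)) (.leaf 268567235)))) (.node (.node (.node (.node (.leaf 24805522) (.leaf 576573220)) (.leaf 324431822)) (.node (.node (.leaf 742585033) (.leaf 988181829)) (.leaf 763712290))) (.node (.node (.node (.leaf 177318468) (.leaf 894620447)) (.leaf 192430570)) (.node (.node (.leaf 963380516) (.leaf 1063327351)) (.leaf 767340161))))) (.node (.node (.node (.node (.node (.leaf 46891849) (.leaf 809439571)) (.leaf 143132774)) (.node (.node (.leaf 648490918) (.leaf 689755215)) (.leaf 860476431))) (.node (.node (.node (.leaf 256544157) (.leaf 1083832196)) (.leaf 994669931)) (.node (.node (.leaf 832704781) (.leaf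 1042174679)) (.leaf 1091385266)))) (.node (.node (.node (.node (.leaf 929638329) (.leaf 681911303)) (.leaf 252276065)) (.node (.node (.leaf 496833721) (.leaf 999230030)) (.leaf 255217022))) (.node (.node (.node (.leaf 49300326) (.leaf 434128067)) (.leaf 546393319)) (.node (.node (.leaf 121235363) (.leaf 1084025988)) (.leaf 569190215)))))) (.node (.node (.node (.node (.node (.node (.leaf 4472896) (.leaf 1080727409)) (.leaf 503755975)) (.node (.node (.leaf 66561127) (.leaf 812340323)) (.leaf 1046763168))) (.node (.node (.node (.leaf 234392730) (.leaf 966242802)) (.leaf 177374728)) (.node (.node (.leaf 169322979) (.leaf 1031509466)) (.leaf 689237330)))) (.node (.node (.node (.node (.leaf 119129988) (.leaf 352207767)) (.leaf 633278854)) (.node (.node (.leaf 79152411) (.leaf 988157189)) (.leaf 954762724))) (.node (.node (.node (.leaf 907276033) (.leaf 657081654)) (.leaf 1002083735)) (.node (.node (.leaf 573705111) (.leaf 1073449871)) (.leaf 817254654))))) (.node (.node (.node (.node (.node (.leaf 72615111) (.leaf 1076082516)) (.leaf 881251078)) (.node (.node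 (.leaf 72524482) (.leaf 976612716)) (.leaf 643241177))) (.node (.node (.node (.leaf 39912093) (.leaf 1048303273)) (.leaf 188975796)) (.node (.node (.leaf 918934785) (.leaf 1052972519)) (.leaf 1066833691)))) (.node (.node (.node (.node (.leaf 34890343) (.leaf 903448376)) (.leaf 166118859)) (.node (.node (.leaf 519378167) (.leaf 1054324429)) (.leaf 260129424))) (.node (.node (.node (.leaf 97592911) (.leaf 955011418)) (.leaf 220654567)) (.node (.node (.leaf 133851084) (.leaf 1094224575)) (.leaf 314835752))))))) (.node (.node (.node (.node (.node (.node (.node (.leaf 13435115) (.leaf 322732861)) (.leaf 592775541)) (.node (.node (.leaf 910618593) (.leaf 1061394169)) (.leaf 230435930))) (.node (.node (.node (.leaf 28541010) (.leaf 977867505)) (.leaf 174834109)) (.node (.node (.leaf 93881867) (.leaf 1026133206)) (.leaf 402223774)))) (.node (.node (.node (.node (.leaf 94610988) (.leaf 1025037855)) (.leaf 155910543)) (.node (.node (.leaf 77955286) (.leaf 982552544)) (.leaf 247754029))) (.node (.node (.node (.leaf 45121661) (.leaf 418459436)) (.leaf 198492656)) (.node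 (.node (.leaf 113951993) (.leaf 1097889756)) (.leaf 848850782))))) (.node (.node (.node (.node (.node (.leaf 10453105) (.leaf 337309863)) (.leaf 571371959)) (.node (.node (.leaf 302722901) (.leaf 716116676)) (.leaf 763736420))) (.node (.node (.node (.leaf 272043559) (.leaf 818840934)) (.leaf 287248067)) (.node (.node (.leaf 104908433) (.leaf 1047467157)) (.leaf 285297100)))) (.node (.node (.node (.node (.leaf 163842467) (.leaf 808047797)) (.leaf 965275254)) (.node (.node (.leaf 84919684) (.leaf 1004391816)) (.leaf 598887926))) (.node (.node (.node (.leaf 858632244) (.leaf 439452887)) (.leaf 680338574)) (.node (.node (.leaf 212921251) (.leaf 1089194552)) (.leaf 648369118)))))) (.node (.node (.node (.node (.node (.node (.leaf 36676232) (.leaf 845124114)) (.leaf 578227906)) (.node (.node (.leaf 400503436) (.leaf 1054045899)) (.leaf 231484524))) (.node (.node (.node (.leaf 245910798) (.leaf 906874512)) (.leaf 802549941)) (.node (.node (.leaf 99354198) (.leaf 1036996268)) (.leaf 736314390)))) (.node (.node (.node (.node (.leaf 122480564) (.leaf 356975528)) (.leaf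 1078122338)) (.node (.node (.leaf 957706816) (.leaf 993707560)) (.leaf 986101049))) (.node (.node (.node (.leaf 47808648) (.leaf 809570829)) (.leaf 205455923)) (.node (.node (.leaf 928574822) (.leaf 1078661257)) (.leaf 572638920))))) (.node (.node (.node (.node (.node (.leaf 83608976) (.leaf 734253887)) (.leaf 930075697)) (.node (.node (.leaf 354029905) (.leaf 948016348)) (.leaf 1081481078))) (.node (.node (.node (.leaf 585967707) (.leaf 665748786)) (.leaf 821626450)) (.node (.node (.leaf 566520060) (.leaf 1079400297)) (.leaf 581511137)))) (.node (.node (.node (.node (.leaf 190581471) (.leaf 825216820)) (.leaf 727303552)) (.node (.node (.leaf 133736486) (.leaf 1015188409)) (.leaf 942525206))) (.node (.node (.node (.leaf 682762569) (.leaf 948580829)) (.leaf 600412732)) (.node (.node (.leaf 125470598) (.leaf 1099288644)) (.leaf 1086478228)))))))) (.node (.node (.node (.node (.node (.node (.node (.node (.leaf 2154523) (.leaf 652612635)) (.leaf 643797266)) (.node (.node (.leaf 337531048) (.leaf 459474197)) (.leaf 795069521))) (.node (.node (.node (.leaf 543450287)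 (.leaf 1039545972)) (.leaf 173294009)) (.node (.node (.leaf 108750551) (.leaf 1023219213)) (.leaf 720046598)))) (.node (.node (.node (.node (.leaf 102811273) (.leaf 1042069124)) (.leaf 900264724)) (.node (.node (.leaf 459461653) (.leaf 979944927)) (.leaf 821260056))) (.node (.node (.node (.leaf 540222959) (.leaf 900188134)) (.leaf 961433583)) (.node (.node (.leaf 555780048) (.leaf 1065782025)) (.leaf 990836052))))) (.node (.node (.node (.node (.node (.leaf 9224252) (.leaf 1046599327)) (.leaf 151660771)) (.node (.node (.leaf 185805469) (.leaf 1047516837)) (.leaf 233899777))) (.node (.node (.node (.leaf 265047518) (.leaf 959106812)) (.leaf 185019032)) (.node (.node (.leaf 639551570) (.leaf 1044989794)) (.leaf 993154401)))) (.node (.node (.node (.node (.leaf 158468435) (.leaf 643215317)) (.leaf 1013151191)) (.node (.node (.leaf 630632851) (.leaf 1001736751)) (.leaf 256148100))) (.node (.node (.node (.leaf 735456207) (.leaf 663081566)) (.leaf 827888118)) (.node (.node (.leaf 643123855) (.leaf 1086592267)) (.leaf 855558680)))))) (.node (.node (.node (.node (.node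 (.node (.leaf 9412758) (.leaf 938462408)) (.leaf 947474316)) (.node (.node (.leaf 65126687) (.leaf 613296135)) (.leaf 768372529))) (.node (.node (.node (.leaf 787868154) (.leaf 391950937)) (.leaf 399700612)) (.node (.node (.leaf 98272202) (.leaf 1034229156)) (.leaf 753341647)))) (.node (.node (.node (.node (.leaf 18415956) (.leaf 678644299)) (.leaf 597709142)) (.node (.node (.leaf 796455055) (.leaf 1010824650)) (.leaf 250513907))) (.node (.node (.node (.leaf 48120682) (.leaf 931686413)) (.leaf 221653998)) (.node (.node (.leaf 551387482) (.leaf 1076138776)) (.leaf 302695589))))) (.node (.node (.node (.node (.node (.leaf 12501026) (.leaf 894751476)) (.leaf 602229178)) (.node (.node (.leaf 387330618) (.leaf 984790322)) (.leaf 575852313))) (.node (.node (.node (.leaf 40534127) (.leaf 409145998)) (.leaf 190737122)) (.node (.node (.leaf 242568430) (.leaf 1055592042)) (.leaf 848040486)))) (.node (.node (.node (.node (.leaf 88106441) (.leaf 862868465)) (.leaf 167953497)) (.node (.node (.leaf 650405075) (.leaf 1012682996)) (.leaf 811290380))) (.node (.node (.node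 (.leaf 833515501) (.leaf 447661295)) (.leaf 543575241)) (.node (.node (.leaf 144337040) (.leaf 1096815977)) (.leaf 675606933))))))) (.node (.node (.node (.node (.node (.node (.node (.leaf 547873081) (.leaf 325927744)) (.leaf 135266660)) (.node (.node (.leaf 160269409) (.leaf 478770280)) (.leaf 714106660))) (.node (.node (.node (.leaf 229493842) (.leaf 999110020)) (.leaf 893913359)) (.node (.node (.leaf 564105106) (.leaf 1028773089)) (.leaf 273713730)))) (.node (.node (.node (.node (.leaf 114116395) (.leaf 1018607098)) (.leaf 605793976)) (.node (.node (.leaf 622749581) (.leaf 985387319)) (.leaf 748654064))) (.node (.node (.node (.leaf 46572353) (.leaf 653399059)) (.leaf 500708545)) (.node (.node (.leaf 553175177) (.leaf 1071042173)) (.leaf 769476514))))) (.node (.node (.node (.node (.node (.leaf 64349255) (.leaf 802523749)) (.leaf 573396234)) (.node (.node (.leaf 71467203) (.leaf 808038821)) (.leaf 982431012))) (.node (.node (.node (.leaf 583132585) (.leaf 404968053)) (.leaf 752584871)) (.node (.node (.leaf 750841151) (.leaf 1050236059)) (.leaf 1016985072))))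 (.node (.node (.node (.node (.leaf 35865207) (.leaf 367790768)) (.leaf 885408172)) (.node (.node (.leaf 196380706) (.leaf 1007194808)) (.leaf 651265936))) (.node (.node (.node (.leaf 360599938) (.leaf 971092674)) (.leaf 545457601)) (.node (.node (.leaf 202533702) (.leaf 1091867760)) (.leaf 314552259)))))) (.node (.node (.node (.node (.node (.node (.leaf 8773773) (.leaf 846874358)) (.leaf 837518220)) (.node (.node (.leaf 870641232) (.leaf 654969684)) (.leaf 967722131))) (.node (.node (.node (.leaf 250219859) (.leaf 405000885)) (.leaf 579995255)) (.node (.node (.leaf 552173883) (.leaf 1052522178)) (.leaf 279675581)))) (.node (.node (.node (.node (.leaf 122251185) (.leaf 950551676)) (.leaf 592799781)) (.node (.node (.leaf 81970074) (.leaf 996411041)) (.leaf 709153361))) (.node (.node (.node (.leaf 100697712) (.leaf 739120097)) (.leaf 498742461)) (.node (.node (.leaf 803406638) (.leaf 1088944035)) (.leaf 567381888))))) (.node (.node (.node (.node (.node (.leaf 13992032) (.leaf 831960121)) (.leaf 203189067)) (.node (.node (.leaf 679888249) (.leaf 1046140572))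 (.leaf 416731929))) (.node (.node (.node (.leaf 42074563) (.leaf 413356782)) (.leaf 1096259538)) (.node (.node (.leaf 786018281) (.leaf 1060671212)) (.leaf 745336030)))) (.node (.node (.node (.node (.leaf 202197824) (.leaf 692753632)) (.leaf 579129982)) (.node (.node (.leaf 90605020) (.leaf 1096021968)) (.leaf 267207321))) (.node (.node (.node (.leaf 925264206) (.leaf 913239770)) (.leaf 629916572)) (.node (.node (.leaf 128287063) (.leaf 1101797356)) (.leaf 840582520))))))))) (.node (.node (.node (.node (.node (.node (.node (.node (.node (.leaf 3104812) (.leaf 1096988630)) (.leaf 931664725)) (.node (.node (.leaf 59606029) (.leaf 921996192)) (.leaf 525609016))) (.node (.node (.node (.leaf 545235546) (.leaf 809628517)) (.leaf 869665414)) (.node (.node (.leaf 847089658) (.leaf 1023268373)) (.leaf 272272941)))) (.node (.node (.node (.node (.leaf 15614221) (.leaf 832439941)) (.leaf 259190207)) (.node (.node (.leaf 188582593) (.leaf 978595028)) (.leaf 989377868))) (.node (.node (.node (.leaf 98050345) (.leaf 866667219)) (.leaf 892842946)) (.node (.node (.leaf 707806289)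 (.leaf 1095563213)) (.leaf 294503376))))) (.node (.node (.node (.node (.node (.leaf 8781941) (.leaf 844641373)) (.leaf 144197570)) (.node (.node (.leaf 103605908) (.leaf 704663152)) (.leaf 1024521756))) (.node (.node (.node (.leaf 37257866) (.leaf 756395434)) (.leaf 937126319)) (.node (.node (.leaf 960662912) (.leaf 1104459782)) (.leaf 671794530)))) (.node (.node (.node (.node (.leaf 155322647) (.leaf 659572627)) (.leaf 162515336)) (.node (.node (.leaf 749890874) (.leaf 1000526182)) (.leaf 1006245295))) (.node (.node (.node (.leaf 49643660) (.leaf 1003238814)) (.leaf 1048065704)) (.node (.node (.leaf 622724405) (.leaf 1085264244)) (.leaf 308989123)))))) (.node (.node (.node (.node (.node (.node (.leaf 4931599) (.leaf 329499462)) (.leaf 880824996)) (.node (.node (.leaf 175860269) (.leaf 730557695)) (.leaf 228918695))) (.node (.node (.node (.leaf 33636763) (.leaf 695218509)) (.leaf 805962612)) (.node (.node (.leaf 97386925) (.leaf 1032982114)) (.leaf 275251886)))) (.node (.node (.node (.node (.leaf 19980662) (.leaf 695194189)) (.leaf 690220637)) (.node (.node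 (.leaf 79512862) (.leaf 989621297)) (.leaf 294383368))) (.node (.node (.node (.leaf 332353651) (.leaf 737716812)) (.leaf 214838191)) (.node (.node (.leaf 550152012) (.leaf 1084446600)) (.leaf 837757100))))) (.node (.node (.node (.node (.node (.leaf 75351281) (.leaf 869681794)) (.leaf 149930368)) (.node (.node (.leaf 737882394) (.leaf 1062516480)) (.leaf 369897915))) (.node (.node (.node (.leaf 103982743) (.leaf 877186867)) (.leaf 832001062)) (.node (.node (.leaf 794021152) (.leaf 1054299589)) (.leaf 907546665)))) (.node (.node (.node (.node (.leaf 39428205) (.leaf 1068365604)) (.leaf 812029184)) (.node (.node (.leaf 852782239) (.leaf 1091229617)) (.leaf 260556247))) (.node (.node (.node (.leaf 808888067) (.leaf 839249678)) (.leaf 996898168)) (.node (.node (.leaf 506000590) (.leaf 1095522061)) (.leaf 324045889))))))) (.node (.node (.node (.node (.node (.node (.node (.leaf 15991062) (.leaf 667422679)) (.leaf 134694834)) (.node (.node (.leaf 732090539) (.leaf 856339472)) (.leaf 226560831))) (.node (.node (.node (.leaf 227003442) (.leaf 396391025)) (.leaf 175866957))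 (.node (.node (.leaf 279572083) (.leaf 1027396343)) (.leaf 272240141)))) (.node (.node (.node (.node (.leaf 24756426) (.leaf 729384259)) (.leaf 634504349)) (.node (.node (.leaf 628519746) (.leaf 983877102)) (.leaf 247729445))) (.node (.node (.node (.leaf 45465726) (.leaf 419516047)) (.leaf 765873481)) (.node (.node (.leaf 580144864) (.leaf 1069749220)) (.leaf 949965180))))) (.node (.node (.node (.node (.node (.leaf 11124902) (.leaf 339177659)) (.leaf 573214527)) (.node (.node (.leaf 176368178) (.leaf 801927816)) (.leaf 759696302))) (.node (.node (.node (.leaf 274894404) (.leaf 1017140721)) (.leaf 187515354)) (.node (.node (.leaf 615426041) (.leaf 1048939451)) (.leaf 286222900)))) (.node (.node (.node (.node (.leaf 97461837) (.leaf 366152274)) (.leaf 165349820)) (.node (.node (.leaf 85493135) (.leaf 1005832474)) (.leaf 756126811))) (.node (.node (.node (.leaf 167619025) (.leaf 778317921)) (.leaf 214666080)) (.node (.node (.leaf 135145522) (.leaf 1090555826)) (.leaf 1034524246)))))) (.node (.node (.node (.node (.node (.node (.leaf 39403981) (.leaf 783340558))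 (.leaf 141721966)) (.node (.node (.leaf 66815046) (.leaf 666891245)) (.leaf 262982683))) (.node (.node (.node (.leaf 749314332) (.leaf 1036269152)) (.leaf 873169736)) (.node (.node (.leaf 159983987) (.leaf 1038257073)) (.leaf 291016422)))) (.node (.node (.node (.node (.leaf 141428839) (.leaf 819262206)) (.leaf 1078810470)) (.node (.node (.leaf 81151341) (.leaf 995037335)) (.leaf 538193009))) (.node (.node (.node (.leaf 340922567) (.leaf 429868208)) (.leaf 723321406)) (.node (.node (.leaf 117703782) (.leaf 1079973726)) (.leaf 903695516))))) (.node (.node (.node (.node (.node (.leaf 50127085) (.leaf 645909848)) (.leaf 550954616)) (.node (.node (.leaf 447173584) (.leaf 1061836540)) (.leaf 242909999))) (.node (.node (.node (.leaf 294162182) (.leaf 847874692)) (.leaf 910177088)) (.node (.node (.leaf 110527650) (.leaf 1059378446)) (.leaf 584150728)))) (.node (.node (.node (.node (.leaf 59417611) (.leaf 1077163867)) (.leaf 864842203)) (.node (.node (.leaf 358052204) (.leaf 1016468735)) (.leaf 266866139))) (.node (.node (.node (.leaf 65315927) (.leaf 666866797))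 (.leaf 221448075)) (.node (.node (.leaf 647581417) (.leaf 1100486183)) (.leaf 833487829)))))))) (.node (.node (.node (.node (.node (.node (.node (.node (.leaf 2244616) (.leaf 1017918966)) (.leaf 263966158)) (.node (.node (.leaf 172788238) (.leaf 805351394)) (.leaf 225428008))) (.node (.node (.node (.leaf 148113600) (.leaf 974244052)) (.leaf 176179761)) (.node (.node (.leaf 719079615) (.leaf 1095677902)) (.leaf 800682205)))) (.node (.node (.node (.node (.leaf 100737468) (.leaf 921750409)) (.leaf 926813854)) (.node (.node (.leaf 652428576) (.leaf 981256694)) (.leaf 1019188733))) (.node (.node (.node (.leaf 561622535) (.leaf 417252483)) (.leaf 200600375)) (.node (.node (.leaf 773342430) (.leaf 1067159642)) (.leaf 843247618))))) (.node (.node (.node (.node (.node (.leaf 42492664) (.leaf 994088296)) (.leaf 145852550)) (.node (.node (.leaf 634530093) (.leaf 530123257)) (.leaf 234490241))) (.node (.node (.node (.leaf 39969477) (.leaf 610960713)) (.leaf 185779349)) (.node (.node (.leaf 104530658) (.leaf 1046286953)) (.leaf 923453908)))) (.node (.node (.node (.node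 (.leaf 853107636) (.leaf 787122286)) (.leaf 163580313)) (.node (.node (.leaf 552232770) (.leaf 1002982159)) (.leaf 256557701))) (.node (.node (.node (.leaf 53068701) (.leaf 700568716)) (.leaf 212274044)) (.node (.node (.leaf 120637306) (.leaf 1087886988)) (.leaf 310267785)))))) (.node (.node (.node (.node (.node (.node (.leaf 5586961) (.leaf 860302238)) (.leaf 495989943)) (.node (.node (.leaf 176876091) (.leaf 844681357)) (.leaf 1070659378))) (.node (.node (.node (.leaf 54141902) (.leaf 675129692)) (.leaf 180972142)) (.node (.node (.leaf 786942599) (.leaf 1035798836)) (.leaf 695126349)))) (.node (.node (.node (.node (.leaf 29205039) (.leaf 879457010)) (.leaf 766438724)) (.node (.node (.leaf 629306386) (.leaf 992496050)) (.leaf 311930792))) (.node (.node (.node (.leaf 336924836) (.leaf 948278433)) (.leaf 727368592)) (.node (.node (.leaf 591401459) (.leaf 1077382577)) (.leaf 303941331))))) (.node (.node (.node (.node (.node (.leaf 12697635) (.leaf 800656925)) (.leaf 151250897)) (.node (.node (.leaf 810938122) (.leaf 555132720)) (.leaf 785007435))) (.node (.node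 (.node (.leaf 670526971) (.leaf 1007883705)) (.leaf 933334113)) (.node (.node (.leaf 108921559) (.leaf 1056853570)) (.leaf 764513778)))) (.node (.node (.node (.node (.leaf 188287674) (.leaf 948556773)) (.leaf 168314563)) (.node (.node (.leaf 717434736) (.leaf 1088616353)) (.leaf 663213032))) (.node (.node (.node (.leaf 55198183) (.leaf 878505782)) (.leaf 653177431)) (.node (.node (.leaf 583184042) (.leaf 1097979180)) (.leaf 319893505))))))) (.node (.node (.node (.node (.node (.node (.node (.leaf 3784765) (.leaf 327913409)) (.leaf 1014896099)) (.node (.node (.leaf 531263707) (.leaf 868725214)) (.leaf 558854956))) (.node (.node (.node (.leaf 538526592) (.leaf 852192406)) (.leaf 1082644349)) (.node (.node (.leaf 95896564) (.leaf 1030212286)) (.leaf 274402834)))) (.node (.node (.node (.node (.leaf 17449035) (.leaf 1049458352)) (.leaf 1075451729)) (.node (.node (.leaf 728953195) (.leaf 986649715)) (.leaf 1070028590))) (.node (.node (.node (.leaf 322719781) (.leaf 679216508)) (.leaf 986199354)) (.node (.node (.leaf 896783103) (.leaf 1072236816)) (.leaf 859271930)))))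 (.node (.node (.node (.node (.node (.leaf 68715664) (.leaf 1060861686)) (.leaf 917980587)) (.node (.node (.leaf 71778500) (.leaf 498699125)) (.leaf 567267214))) (.node (.node (.node (.leaf 279662197) (.leaf 990049616)) (.leaf 371044801)) (.node (.node (.leaf 271642148) (.leaf 1051682822)) (.leaf 866929360)))) (.node (.node (.node (.node (.leaf 174860837) (.leaf 370525831)) (.leaf 904662443)) (.node (.node (.leaf 86492107) (.leaf 1008571129)) (.leaf 529877604))) (.node (.node (.node (.leaf 795862223) (.leaf 837898255)) (.leaf 260925307)) (.node (.node (.leaf 123240820) (.leaf 1102329848)) (.leaf 313954219)))))) (.node (.node (.node (.node (.node (.node (.leaf 45105957) (.leaf 796840182)) (.leaf 1025734179)) (.node (.node (.leaf 71828643) (.leaf 1075844947)) (.leaf 873999913))) (.node (.node (.node (.leaf 573302882) (.leaf 398233031)) (.leaf 182617454)) (.node (.node (.leaf 235072675) (.leaf 1040815652)) (.leaf 1071068981)))) (.node (.node (.node (.node (.leaf 20185145) (.leaf 631260092)) (.leaf 1039046257)) (.node (.node (.leaf 679490361) (.leaf 1023587863))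 (.leaf 598419768))) (.node (.node (.node (.leaf 734015441) (.leaf 762958742)) (.leaf 263079938)) (.node (.node (.leaf 214198320) (.leaf 1082608189)) (.leaf 981136668))))) (.node (.node (.node (.node (.node (.leaf 92538391) (.leaf 815924664)) (.leaf 511980771)) (.node (.node (.leaf 654746962) (.leaf 520260775)) (.leaf 357364074))) (.node (.node (.node (.leaf 298929970) (.leaf 952103712)) (.leaf 961712705)) (.node (.node (.leaf 873074363) (.leaf 1062064617)) (.leaf 293029004)))) (.node (.node (.node (.node (.leaf 206424937) (.leaf 377229111)) (.leaf 799977584)) (.node (.node (.leaf 562320161) (.leaf 1019211037)) (.leaf 954986841))) (.node (.node (.node (.leaf 58336094) (.leaf 883084873)) (.leaf 723128324)) (.node (.node (.leaf 565233468) (.leaf 1103024771)) (.leaf 797708854)))))))))))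

noncomputable def edgeA5 : Arr ℕ :=
  (.node (.node (.node (.node (.node (.node (.node (.node (.node (.node (.node (.leaf 212994) (.leaf 874721906)) (.node (.leaf 259272127) (.leaf 1103664373))) (.node (.node (.leaf 381391384) (.leaf 707212073)) (.leaf 943194923))) (.node (.node (.node (.leaf 203254604) (.leaf 1028666932)) (.leaf 585805553)) (.node (.node (.leaf 91349242) (.leaf 1019760092)) (.leaf 770141293)))) (.node (.node (.node (.node (.leaf 95422004) (.leaf 347260081)) (.leaf 154273737)) (.node (.node (.leaf 76399338) (.leaf 918875029)) (.leaf 981972257))) (.node (.node (.node (.leaf 62039087) (.leaf 968133982)) (.leaf 826184120)) (.node (.node (.leaf 379466246) (.leaf 1062729051)) (.leaf 907282323))))) (.node (.node (.node (.node (.node (.leaf 8093825) (.leaf 937764826)) (.leaf 968435841)) (.node (.node (.leaf 73090254) (.leaf 1103935491)) (.leaf 539133078))) (.node (.node (.node (.leaf 36429921) (.leaf 1090140074)) (.leaf 182913666)) (.node (.node (.leaf 546433925) (.leaf 1041484911)) (.leaf 280989314)))) (.node (.node (.node (.node (.leaf 150161616)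 (.leaf 717673312)) (.leaf 910651361)) (.node (.node (.leaf 82593154) (.leaf 998477692)) (.leaf 688473365))) (.node (.node (.node (.leaf 94732544) (.leaf 888238270)) (.leaf 208799109)) (.node (.node (.leaf 211938203) (.leaf 1083380401)) (.leaf 1038546542)))))) (.node (.node (.node (.node (.node (.node (.leaf 4087873) (.leaf 703984743)) (.leaf 684413466)) (.node (.node (.leaf 399413890) (.leaf 956025050)) (.leaf 228035454))) (.node (.node (.node (.leaf 67265649) (.leaf 388715074)) (.leaf 972369487)) (.node (.node (.leaf 110651118) (.leaf 1030760198)) (.leaf 708871756)))) (.node (.node (.node (.node (.leaf 17744143) (.leaf 899739021)) (.leaf 621433874)) (.node (.node (.leaf 736579884) (.leaf 987338009)) (.leaf 248794414))) (.node (.node (.node (.leaf 253275497) (.leaf 1015461351)) (.leaf 765600361)) (.node (.node (.leaf 554172756) (.leaf 1072785691)) (.leaf 982414628))))) (.node (.node (.node (.node (.node (.leaf 51847947) (.leaf 974058250)) (.leaf 148178924)) (.node (.node (.leaf 106489535) (.leaf 986133818)) (.leaf 562661093))) (.node (.node (.node (.leaf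 280956545) (.leaf 905406249)) (.leaf 246983962)) (.node (.node (.leaf 787743970) (.leaf 1052316114)) (.leaf 578030680)))) (.node (.node (.node (.node (.leaf 57861113) (.leaf 828239464)) (.leaf 165865922)) (.node (.node (.leaf 836873328) (.leaf 1009298721)) (.leaf 322318368))) (.node (.node (.node (.leaf 73966258) (.leaf 815418033)) (.leaf 217319443)) (.node (.node (.leaf 929704168) (.leaf 1093636237)) (.leaf 314281914))))))) (.node (.node (.node (.node (.node (.node (.node (.leaf 9658522) (.leaf 528460655)) (.leaf 132712456)) (.node (.node (.leaf 970861510) (.leaf 818539054)) (.leaf 315616289))) (.node (.node (.node (.leaf 622511398) (.leaf 691538775)) (.leaf 174596780)) (.node (.node (.leaf 93390024) (.leaf 1025330203)) (.leaf 595956937)))) (.node (.node (.node (.node (.leaf 16466210) (.leaf 733615083)) (.leaf 674383208)) (.node (.node (.leaf 650429909) (.leaf 981945522)) (.leaf 759776927))) (.node (.node (.node (.leaf 312692654) (.leaf 536179205)) (.leaf 194186013)) (.node (.node (.leaf 753011797) (.leaf 1067780279)) (.leaf 369062327))))) (.node (.node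 (.node (.node (.node (.leaf 10158112) (.leaf 1028470323)) (.leaf 590611440)) (.node (.node (.leaf 186706599) (.leaf 1090729902)) (.leaf 436663184))) (.node (.node (.node (.leaf 270601751) (.leaf 1103656961)) (.leaf 780593870)) (.node (.node (.leaf 537833231) (.leaf 1046892534)) (.leaf 949618856)))) (.node (.node (.node (.node (.leaf 162859409) (.leaf 539012224)) (.leaf 958147547)) (.node (.node (.leaf 146860211) (.leaf 1003786729)) (.leaf 1019475455))) (.node (.node (.node (.leaf 50765967) (.leaf 1070315312)) (.leaf 212600846)) (.node (.node (.leaf 137757001) (.leaf 1088525381)) (.leaf 691262174)))))) (.node (.node (.node (.node (.node (.node (.leaf 36405888) (.leaf 849752632)) (.leaf 140067190)) (.node (.node (.leaf 405664440) (.leaf 962360171)) (.leaf 933294813))) (.node (.node (.node (.leaf 773620850) (.leaf 670266159)) (.leaf 179806811)) (.node (.node (.leaf 979105040) (.leaf 1036405313)) (.leaf 890958405)))) (.node (.node (.node (.node (.leaf 133384233) (.leaf 1010685385)) (.leaf 706646914)) (.node (.node (.leaf 80414050) (.leaf 1090418604)) (.leaf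 260582861))) (.node (.node (.node (.leaf 790095420) (.leaf 816820883)) (.leaf 827445987)) (.node (.node (.leaf 592120398) (.leaf 1078220642)) (.leaf 1100511213))))) (.node (.node (.node (.node (.node (.leaf 13107370) (.leaf 782355310)) (.leaf 212790178)) (.node (.node (.leaf 244591870) (.leaf 918767659)) (.leaf 241011938))) (.node (.node (.node (.leaf 579848215) (.leaf 932089594)) (.leaf 879716494)) (.node (.node (.leaf 242117866) (.leaf 1057392948)) (.leaf 289948386)))) (.node (.node (.node (.node (.leaf 32620851) (.leaf 857933216)) (.leaf 768560945)) (.node (.node (.leaf 91031034) (.leaf 1087322009)) (.leaf 266019478))) (.node (.node (.node (.leaf 820396836) (.leaf 449275124)) (.leaf 600769559)) (.node (.node (.leaf 138798471) (.leaf 1098714232)) (.leaf 910623825)))))))) (.node (.node (.node (.node (.node (.node (.node (.node (.leaf 1466385) (.leaf 994342249)) (.leaf 512980198)) (.node (.node (.leaf 117073770) (.leaf 660468550)) (.leaf 888222593))) (.node (.node (.node (.leaf 210987922) (.leaf 380667138)) (.leaf 176048688)) (.node (.node (.leaf 92161547)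 (.leaf 1022552104)) (.leaf 975078583)))) (.node (.node (.node (.node (.leaf 101500538) (.leaf 997963134)) (.leaf 154968460)) (.node (.node (.leaf 856290162) (.leaf 979259304)) (.leaf 764089142))) (.node (.node (.node (.leaf 306024300) (.leaf 950751751)) (.leaf 1097496538)) (.node (.node (.leaf 951969912) (.leaf 1065080452)) (.leaf 295322752))))) (.node (.node (.node (.node (.node (.leaf 8945754) (.leaf 803139764)) (.leaf 144525387)) (.node (.node (.leaf 68772029) (.leaf 757215679)) (.leaf 751922506))) (.node (.node (.node (.leaf 37699825) (.leaf 772116189)) (.leaf 841298055)) (.node (.node (.leaf 103269511) (.leaf 1044293472)) (.leaf 614649327)))) (.node (.node (.node (.node (.leaf 156764465) (.leaf 955921473)) (.leaf 162974098)) (.node (.node (.leaf 550594166) (.leaf 1001016652)) (.leaf 637146224))) (.node (.node (.node (.leaf 852995219) (.leaf 689181786)) (.leaf 210847153)) (.node (.node (.leaf 213139972) (.leaf 1085983646)) (.leaf 980874523)))))) (.node (.node (.node (.node (.node (.node (.leaf 28181019) (.leaf 1052096192)) (.leaf 196634723)) (.node (.node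 (.leaf 853272961) (.leaf 1016739311)) (.leaf 1090598829))) (.node (.node (.node (.leaf 33866188) (.leaf 390860651)) (.leaf 178185375)) (.node (.node (.leaf 181103215) (.leaf 1084585865)) (.leaf 581437547)))) (.node (.node (.node (.node (.leaf 588366102) (.leaf 353996635)) (.leaf 835105543)) (.node (.node (.leaf 751037760) (.leaf 990204756)) (.leaf 250096436))) (.node (.node (.node (.leaf 47170386) (.leaf 869651596)) (.leaf 203720569)) (.node (.node (.leaf 1041651330) (.leaf 1075515469)) (.leaf 898558230))))) (.node (.node (.node (.node (.node (.leaf 31244769) (.leaf 344633571)) (.leaf 657781306)) (.node (.node (.leaf 624110597) (.leaf 878045308)) (.leaf 873415515))) (.node (.node (.node (.leaf 606413204) (.leaf 694293316)) (.leaf 866406634)) (.node (.node (.leaf 245083395) (.leaf 1054910452)) (.leaf 289039066)))) (.node (.node (.node (.node (.leaf 25231826) (.leaf 943657002)) (.leaf 167658513)) (.node (.node (.leaf 88711408) (.leaf 1078015841)) (.leaf 528536810))) (.node (.node (.node (.leaf 54510174) (.leaf 781938485)) (.leaf 681673733)) (.node (.node (.leaf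 211733401) (.leaf 1096184193)) (.leaf 734020780))))))) (.node (.node (.node (.node (.node (.node (.node (.leaf 17269047) (.leaf 639800362)) (.leaf 196051300)) (.node (.node (.leaf 62227219) (.leaf 856732677)) (.leaf 566054606))) (.node (.node (.node (.leaf 228019265) (.leaf 385962355)) (.leaf 176227411)) (.node (.node (.leaf 179128925) (.leaf 1028040438)) (.leaf 971935111)))) (.node (.node (.node (.node (.leaf 534249734) (.leaf 914527260)) (.leaf 156780537)) (.node (.node (.leaf 670559739) (.leaf 984589808)) (.leaf 766218615))) (.node (.node (.node (.leaf 318672881) (.leaf 420024952)) (.leaf 511390942)) (.node (.node (.leaf 720613102) (.leaf 1070468269)) (.leaf 1085650831))))) (.node (.node (.node (.node (.node (.leaf 22651312) (.leaf 939328448)) (.leaf 791482493)) (.node (.node (.leaf 735635354) (.leaf 754233798)) (.leaf 749409301))) (.node (.node (.node (.leaf 273477171) (.leaf 1011250636)) (.leaf 1072273213)) (.node (.node (.leaf 1017533940) (.leaf 1049579718)) (.leaf 907727498)))) (.node (.node (.node (.node (.leaf 169806316) (.leaf 967980296)) (.leaf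 1082857342)) (.node (.node (.leaf 642180649) (.leaf 1006604613)) (.leaf 258141618))) (.node (.node (.node (.leaf 61056036) (.leaf 1035040345)) (.leaf 215156868)) (.node (.node (.leaf 554870574) (.leaf 1091194278)) (.leaf 653210199)))))) (.node (.node (.node (.node (.node (.node (.leaf 6946903) (.leaf 774000473)) (.leaf 1039210098)) (.node (.node (.leaf 591619934) (.leaf 907308801)) (.leaf 231809595))) (.node (.node (.node (.leaf 751837950) (.leaf 396316207)) (.leaf 181676658)) (.node (.node (.leaf 885473708) (.leaf 1039019648)) (.leaf 888583027)))) (.node (.node (.node (.node (.leaf 142657661) (.leaf 834579724)) (.leaf 235170980)) (.node (.node (.leaf 81510809) (.leaf 995657789)) (.leaf 253731453))) (.node (.node (.node (.leaf 48390281) (.leaf 1050277557)) (.leaf 206949234)) (.node (.node (.leaf 118081394) (.leaf 1099380709)) (.leaf 1012987350))))) (.node (.node (.node (.node (.node (.leaf 14360823) (.leaf 345678719)) (.leaf 153149831)) (.node (.node (.leaf 447927255) (.leaf 809691646)) (.leaf 242754140))) (.node (.node (.node (.leaf 296062743) (.leaf 755854760))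 (.leaf 1005188522)) (.node (.node (.leaf 110888674) (.leaf 1060096399)) (.leaf 1059452653)))) (.node (.node (.node (.node (.leaf 198921001) (.leaf 896306638)) (.leaf 838732527)) (.node (.node (.leaf 91104763) (.leaf 1017116136)) (.leaf 905360065))) (.node (.node (.node (.leaf 586540443) (.leaf 862302013)) (.leaf 222006207)) (.node (.node (.leaf 225750048) (.leaf 1101363186)) (.leaf 799049031))))))))) (.node (.node (.node (.node (.node (.node (.node (.node (.node (.leaf 1204238) (.leaf 799853171)) (.node (.leaf 819119197) (.leaf 1104909160))) (.node (.node (.leaf 81814899) (.leaf 456641805)) (.leaf 328126527))) (.node (.node (.node (.leaf 212355999) (.leaf 567842008)) (.leaf 990229841)) (.node (.node (.leaf 91784148) (.leaf 1081948025)) (.leaf 269093406)))) (.node (.node (.node (.node (.leaf 54502353) (.leaf 817025795)) (.leaf 606824805)) (.node (.node (.leaf 775996666) (.leaf 523683298)) (.leaf 245548301))) (.node (.node (.node (.leaf 57745568) (.leaf 820023386)) (.leaf 1096513491)) (.node (.node (.leaf 112493605) (.leaf 1063872625)) (.leaf 810487870)))))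 (.node (.node (.node (.node (.node (.leaf 48350064) (.leaf 938111122)) (.leaf 1008612797)) (.node (.node (.leaf 728363304) (.leaf 485889070)) (.leaf 817311557))) (.node (.node (.node (.leaf 258035121) (.leaf 907749721)) (.leaf 183617105)) (.node (.node (.leaf 743199461) (.leaf 1042978030)) (.leaf 639608469)))) (.node (.node (.node (.node (.leaf 154044669) (.leaf 763048221)) (.leaf 162088436)) (.node (.node (.leaf 83165535) (.leaf 999944820)) (.leaf 679347575))) (.node (.node (.node (.leaf 348016909) (.leaf 1102280696)) (.leaf 209995672)) (.node (.node (.leaf 119408514) (.leaf 1084560780)) (.leaf 540775633)))))) (.node (.node (.node (.node (.node (.node (.leaf 31105234) (.leaf 745057543)) (.leaf 136980558)) (.node (.node (.leaf 885828059) (.leaf 806389295)) (.leaf 576098554))) (.node (.node (.node (.leaf 30507185) (.leaf 839282446)) (.leaf 177676738)) (.node (.node (.leaf 97010761) (.leaf 1032226576)) (.leaf 1000240523)))) (.node (.node (.node (.node (.leaf 119383944) (.leaf 387756605)) (.leaf 606421713)) (.node (.node (.leaf 711143802) (.leaf 1100216299))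 (.leaf 868903737))) (.node (.node (.node (.leaf 784114710) (.leaf 1081833336)) (.leaf 262556774)) (.node (.node (.leaf 549650813) (.leaf 1074156326)) (.leaf 1087862685))))) (.node (.node (.node (.node (.node (.leaf 33087900) (.leaf 778028253)) (.leaf 149537332)) (.node (.node (.leaf 72745976) (.leaf 586067700)) (.leaf 238415050))) (.node (.node (.node (.leaf 281489031) (.leaf 612372040)) (.leaf 189441759)) (.node (.node (.leaf 107234523) (.leaf 1053610098)) (.leaf 585369795)))) (.node (.node (.node (.node (.leaf 24862790) (.leaf 754142777)) (.leaf 800998580)) (.node (.node (.leaf 88015851) (.leaf 1010674158)) (.leaf 814613582))) (.node (.node (.node (.leaf 735310141) (.leaf 841167020)) (.leaf 691177827)) (.node (.node (.leaf 743564934) (.leaf 1094832898)) (.leaf 326553657))))))) (.node (.node (.node (.node (.node (.node (.node (.leaf 2908202) (.leaf 911152304)) (.leaf 583303907)) (.node (.node (.leaf 61366443) (.leaf 995890546)) (.leaf 226232559))) (.node (.node (.node (.leaf 225905699) (.leaf 402174622)) (.leaf 175366588)) (.node (.node (.leaf 642157457)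 (.leaf 1026739138)) (.leaf 272097957)))) (.node (.node (.node (.node (.leaf 107685580) (.leaf 898173663)) (.leaf 714228658)) (.node (.node (.leaf 652366887) (.leaf 983280601)) (.leaf 1102387193))) (.node (.node (.node (.leaf 614477198) (.leaf 905179840)) (.leaf 199019306)) (.node (.node (.leaf 905432561) (.leaf 1069060556)) (.leaf 848168461))))) (.node (.node (.node (.node (.node (.leaf 32530911) (.leaf 761484427)) (.leaf 547359342)) (.node (.node (.leaf 179931746) (.leaf 974842898)) (.leaf 759436460))) (.node (.node (.node (.leaf 273550900) (.leaf 1053652681)) (.leaf 876284269)) (.node (.node (.leaf 1015797225) (.leaf 1048237418)) (.leaf 687559573)))) (.node (.node (.node (.node (.leaf 165710273) (.leaf 1087174552)) (.leaf 1082980223)) (.node (.node (.leaf 511759586) (.leaf 1016935920)) (.leaf 257519018))) (.node (.node (.node (.leaf 51396802) (.leaf 720865073)) (.leaf 213871530)) (.node (.node (.leaf 144517265) (.leaf 1105213451)) (.leaf 893111049)))))) (.node (.node (.node (.node (.node (.node (.leaf 73867545) (.leaf 1101518835)) (.leaf 527575955)) (.node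 (.node (.leaf 602417366) (.leaf 1045509784)) (.leaf 577192508))) (.node (.node (.node (.leaf 765575669) (.leaf 402952869)) (.leaf 180707787)) (.node (.node (.leaf 99844551) (.leaf 1088927651)) (.leaf 807430166)))) (.node (.node (.node (.node (.leaf 195323316) (.leaf 990614867)) (.leaf 159238506)) (.node (.node (.leaf 916433294) (.leaf 994325442)) (.leaf 313126838))) (.node (.node (.node (.leaf 49210244) (.leaf 428844203)) (.leaf 722249202)) (.node (.node (.leaf 965093288) (.leaf 1079367221)) (.leaf 1001256338))))) (.node (.node (.node (.node (.node (.leaf 83764627) (.leaf 345154430)) (.leaf 931139160)) (.node (.node (.leaf 75047116) (.leaf 651342657)) (.leaf 241732036))) (.node (.node (.node (.leaf 293408511) (.leaf 870444621)) (.leaf 838337766)) (.node (.node (.leaf 1026381351) (.leaf 1058786040)) (.leaf 584050603)))) (.node (.node (.node (.node (.leaf 192072447) (.leaf 1104394246)) (.leaf 768601125)) (.node (.node (.leaf 89884138) (.leaf 1016051178)) (.leaf 1019377150))) (.node (.node (.node (.leaf 56181698) (.leaf 695815898)) (.leaf 935127367)) (.node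 (.node (.leaf 641979226) (.leaf 1099895327)) (.leaf 786026661)))))))) (.node (.node (.node (.node (.node (.node (.node (.node (.leaf 2031632) (.leaf 321659704)) (.leaf 935933079)) (.node (.node (.leaf 747269414) (.leaf 641649721)) (.leaf 631309235))) (.node (.node (.node (.leaf 600286662) (.leaf 762843528)) (.leaf 953943708)) (.node (.node (.leaf 94757761) (.leaf 1062549248)) (.leaf 967076923)))) (.node (.node (.node (.node (.leaf 73843355) (.leaf 737578961)) (.leaf 155378061)) (.node (.node (.leaf 77570261) (.leaf 980616938)) (.leaf 246735464))) (.node (.node (.node (.leaf 720104981) (.leaf 1099675623)) (.leaf 193577459)) (.node (.node (.leaf 1022588433) (.leaf 1066455362)) (.leaf 819335941))))) (.node (.node (.node (.node (.node (.leaf 10150049) (.leaf 774385657)) (.leaf 252751204)) (.node (.node (.leaf 69206209) (.leaf 847320219)) (.leaf 777039184))) (.node (.node (.node (.leaf 598519200) (.leaf 401908811)) (.leaf 185271842)) (.node (.node (.leaf 276344407) (.leaf 1045664745)) (.leaf 897881012)))) (.node (.node (.node (.node (.leaf 159369582) (.leaf 1023931929))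 (.leaf 311406499)) (.node (.node (.leaf 155560222) (.leaf 1002344471)) (.leaf 598640870))) (.node (.node (.node (.leaf 175024678) (.leaf 747924780)) (.leaf 211650580)) (.node (.node (.leaf 660744798) (.leaf 1087295949)) (.leaf 570388342)))))) (.node (.node (.node (.node (.node (.node (.leaf 34226777) (.leaf 814846302)) (.leaf 588074633)) (.node (.node (.leaf 65937848) (.leaf 476177732)) (.leaf 1100339180))) (.node (.node (.node (.leaf 34259546) (.leaf 1058387687)) (.leaf 601164810)) (.node (.node (.leaf 571215061) (.leaf 1034987287)) (.leaf 276531644)))) (.node (.node (.node (.node (.leaf 129599488) (.leaf 755339918)) (.leaf 602269909)) (.node (.node (.leaf 608578979) (.leaf 991692528)) (.leaf 540233595))) (.node (.node (.node (.leaf 331182179) (.leaf 426232412)) (.leaf 975867181)) (.node (.node (.leaf 1043519117) (.leaf 1076827246)) (.leaf 534080126))))) (.node (.node (.node (.node (.node (.leaf 79037762) (.leaf 342950981)) (.leaf 150635011)) (.node (.node (.leaf 700294537) (.leaf 1009661379)) (.leaf 240045219))) (.node (.node (.node (.leaf 288558795) (.leaf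 926624468)) (.leaf 895635753)) (.node (.node (.leaf 454259710) (.leaf 1056216556)) (.leaf 888066104)))) (.node (.node (.node (.node (.leaf 812672798) (.leaf 934466451)) (.leaf 884952613)) (.node (.node (.leaf 529977577) (.leaf 1086150546)) (.leaf 710382160))) (.node (.node (.node (.leaf 371675594) (.leaf 448008781)) (.leaf 993867110)) (.node (.node (.leaf 497611963) (.leaf 1097411706)) (.leaf 317288410))))))) (.node (.node (.node (.node (.node (.node (.node (.leaf 20251006) (.leaf 326487998)) (.leaf 688253914)) (.node (.node (.leaf 772850706) (.leaf 831213836)) (.leaf 627255946))) (.node (.node (.node (.leaf 230837347) (.leaf 631862183)) (.leaf 176759231)) (.node (.node (.leaf 563186175) (.leaf 1029459460)) (.leaf 811880090)))) (.node (.node (.node (.node (.leaf 549413200) (.leaf 351363987)) (.leaf 615433901)) (.node (.node (.leaf 612725366) (.leaf 986057518)) (.leaf 749750718))) (.node (.node (.node (.leaf 321851422) (.leaf 624839180)) (.leaf 868863266)) (.node (.node (.leaf 563492046) (.leaf 1071691273)) (.leaf 1071576888))))) (.node (.node (.node (.node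 (.node (.leaf 67503220) (.leaf 959435722)) (.leaf 212167580)) (.node (.node (.leaf 432051063) (.leaf 496864276)) (.leaf 751512904))) (.node (.node (.node (.leaf 39338682) (.leaf 405808218)) (.leaf 445707209)) (.node (.node (.leaf 269618594) (.leaf 1050904837)) (.leaf 578472107)))) (.node (.node (.node (.node (.leaf 23380410) (.leaf 563646305)) (.leaf 945325624)) (.node (.node (.leaf 536111293) (.leaf 1007873391)) (.leaf 324774213))) (.node (.node (.node (.leaf 592997256) (.leaf 443765422)) (.leaf 971302748)) (.node (.node (.leaf 687517293) (.leaf 1092430444)) (.leaf 1054275277)))))) (.node (.node (.node (.node (.node (.node (.leaf 34857575) (.leaf 332861403)) (.leaf 142198687)) (.node (.node (.leaf 870674000) (.leaf 663342500)) (.leaf 1041503873))) (.node (.node (.node (.leaf 45040419) (.leaf 397201061)) (.leaf 424129356)) (.node (.node (.leaf 551143452) (.leaf 1040231107)) (.leaf 886942703)))) (.node (.node (.node (.node (.leaf 146737327) (.leaf 375140852)) (.leaf 800895196)) (.node (.node (.leaf 491476138) (.leaf 997094763)) (.leaf 710889321))) (.node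 (.node (.node (.leaf 800631155) (.leaf 760351073)) (.leaf 207766947)) (.node (.node (.leaf 682656741) (.leaf 1081972537)) (.leaf 838314479))))) (.node (.node (.node (.node (.node (.leaf 89433569) (.leaf 539814984)) (.leaf 657626016)) (.node (.node (.leaf 710307288) (.leaf 865996326)) (.leaf 243811553))) (.node (.node (.node (.leaf 181201520) (.leaf 858131321)) (.leaf 946760931)) (.node (.node (.leaf 111593210) (.leaf 1061367926)) (.leaf 292872935)))) (.node (.node (.node (.node (.leaf 155101458) (.leaf 776891725)) (.leaf 565020476)) (.node (.node (.leaf 90965462) (.leaf 1018369428)) (.leaf 693964519))) (.node (.node (.node (.leaf 177302084) (.leaf 452596244)) (.leaf 886592298)) (.node (.node (.leaf 128500113) (.leaf 1102419535)) (.leaf 774312160)))))))))) (.node (.node (.node (.node (.node (.node (.node (.node (.node (.node (.leaf 2048026) (.leaf 783116999)) (.node (.leaf 681407482) (.leaf 1104227838))) (.node (.node (.leaf 681667551) (.leaf 856797191)) (.leaf 664201620))) (.node (.node (.node (.leaf 170715068) (.leaf 559927198)) (.leaf 1029109302)) (.node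 (.node (.leaf 783323130) (.leaf 1020483019)) (.leaf 787900922)))) (.node (.node (.node (.node (.leaf 15442186) (.leaf 347644808)) (.leaf 616549776)) (.node (.node (.leaf 742615330) (.leaf 643663898)) (.leaf 245337350))) (.node (.node (.node (.leaf 43556983) (.leaf 1103812610)) (.leaf 893662127)) (.node (.node (.leaf 752963365) (.leaf 1063466758)) (.leaf 905924089))))) (.node (.node (.node (.node (.node (.leaf 46924618) (.leaf 809488935)) (.leaf 143165391)) (.node (.node (.leaf 747466023) (.leaf 485717128)) (.leaf 1095382988))) (.node (.node (.node (.leaf 255176068) (.leaf 1008367035)) (.leaf 841617174)) (.node (.node (.leaf 853617028) (.leaf 1042122898)) (.leaf 905497120)))) (.node (.node (.node (.node (.leaf 929654721) (.leaf 645073794)) (.leaf 161695191)) (.node (.node (.leaf 153544949) (.leaf 999327427)) (.leaf 255200641))) (.node (.node (.node (.leaf 346853631) (.leaf 912446079)) (.leaf 1003582880)) (.node (.node (.leaf 119613323) (.leaf 1083979550)) (.leaf 986936639)))))) (.node (.node (.node (.node (.node (.node (.leaf 4464653) (.leaf 935556159)) (.leaf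 136151403)) (.node (.node (.leaf 400380556) (.leaf 686919194)) (.leaf 1034679895))) (.node (.node (.node (.leaf 234425499) (.leaf 1013765595)) (.leaf 177473034)) (.node (.node (.leaf 96723204) (.leaf 1032271433)) (.leaf 274948781)))) (.node (.node (.node (.node (.leaf 17866803) (.leaf 848270280)) (.leaf 324749727)) (.node (.node (.leaf 673541844) (.leaf 988088278)) (.leaf 954674787))) (.node (.node (.node (.leaf 315830219) (.leaf 998307200)) (.leaf 948507191)) (.node (.node (.leaf 792605090) (.leaf 1073532880)) (.leaf 817286218))))) (.node (.node (.node (.node (.node (.leaf 561644317) (.leaf 1084430216)) (.leaf 881283545)) (.node (.node (.leaf 591751007) (.leaf 1048835756)) (.leaf 791825506))) (.node (.node (.node (.leaf 240069849) (.leaf 863769374)) (.leaf 435377036)) (.node (.node (.leaf 786998877) (.leaf 1052986909)) (.leaf 1079867244)))) (.node (.node (.node (.node (.leaf 24232009) (.leaf 713897126)) (.leaf 243690744)) (.node (.node (.leaf 173550102) (.leaf 1010003195)) (.leaf 1093171134))) (.node (.node (.node (.leaf 53486534) (.leaf 1085110156)) (.leaf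 217514520)) (.node (.node (.leaf 133801361) (.leaf 1094242962)) (.leaf 323153963))))))) (.node (.node (.node (.node (.node (.node (.node (.leaf 11182253) (.leaf 904327867)) (.leaf 592806655)) (.node (.node (.leaf 711782134) (.leaf 988788041)) (.leaf 796692726))) (.node (.node (.node (.leaf 28557832) (.leaf 991360343)) (.leaf 174916700)) (.node (.node (.leaf 93865480) (.leaf 1101051888)) (.leaf 384946730)))) (.node (.node (.node (.node (.leaf 63283375) (.leaf 727811219)) (.leaf 155928865)) (.node (.node (.leaf 77972766) (.leaf 982471627)) (.leaf 247407210))) (.node (.node (.node (.leaf 45155106) (.leaf 418418470)) (.leaf 1051645629)) (.node (.node (.leaf 113984973) (.leaf 1068390083)) (.leaf 576507676))))) (.node (.node (.node (.node (.node (.leaf 10436643) (.leaf 352497992)) (.leaf 146317688)) (.node (.node (.leaf 344076511) (.leaf 714149410)) (.leaf 760066128))) (.node (.node (.node (.leaf 272076328) (.leaf 433533824)) (.leaf 186451078)) (.node (.node (.leaf 589801554) (.leaf 1047538979)) (.leaf 606193506)))) (.node (.node (.node (.node (.leaf 163875236)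 (.leaf 991884634)) (.leaf 163914149)) (.node (.node (.leaf 84902220) (.leaf 1004408465)) (.leaf 749776185))) (.node (.node (.node (.leaf 814870617) (.leaf 439473052)) (.leaf 315060167)) (.node (.node (.leaf 224209934) (.leaf 1089247140)) (.leaf 906784406)))))) (.node (.node (.node (.node (.node (.node (.leaf 6307941) (.leaf 774653096)) (.leaf 902829042)) (.node (.node (.leaf 66347191) (.leaf 752437194)) (.leaf 973362381))) (.node (.node (.node (.leaf 765766468) (.leaf 906907150)) (.leaf 802640954)) (.node (.node (.leaf 534455875) (.leaf 1037045340)) (.leaf 784302927)))) (.node (.node (.node (.node (.leaf 83453326) (.leaf 928925284)) (.leaf 997610876)) (.node (.node (.leaf 486839440) (.leaf 1095210955)) (.leaf 259665346))) (.node (.node (.node (.leaf 70165668) (.leaf 774784443)) (.leaf 205506758)) (.node (.node (.leaf 752799524) (.leaf 1078710822)) (.leaf 305259278))))) (.node (.node (.node (.node (.node (.leaf 13246500) (.leaf 734282858)) (.leaf 1047918247)) (.node (.node (.leaf 539346340) (.leaf 948039565)) (.leaf 746932540))) (.node (.node (.node (.leaf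 585984121) (.leaf 411537037)) (.leaf 821660838)) (.node (.node (.leaf 562841706) (.leaf 1102166007)) (.leaf 583100387)))) (.node (.node (.node (.node (.leaf 26100198) (.leaf 373445094)) (.leaf 169493341)) (.node (.node (.leaf 541142929) (.leaf 1015174581)) (.leaf 942555952))) (.node (.node (.node (.leaf 682634065) (.leaf 1078687589)) (.leaf 754501971)) (.node (.node (.leaf 125519772) (.leaf 1099364156)) (.leaf 1058027236)))))))) (.node (.node (.node (.node (.node (.node (.node (.node (.leaf 7307380) (.leaf 744746244)) (.leaf 131336209)) (.node (.node (.leaf 185879187) (.leaf 665603477)) (.leaf 795100936))) (.node (.node (.node (.leaf 543106177) (.leaf 381112854)) (.leaf 173311052)) (.node (.node (.leaf 243100916) (.leaf 1023232177)) (.leaf 720080780)))) (.node (.node (.node (.node (.leaf 102844042) (.leaf 348611468)) (.leaf 262835050)) (.node (.node (.leaf 688450949) (.leaf 979924245)) (.leaf 1037170278))) (.node (.node (.node (.leaf 540257625) (.leaf 900221179)) (.leaf 1046591135)) (.node (.node (.leaf 555812910) (.leaf 1065850425)) (.leaf 840020942)))))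 (.node (.node (.node (.node (.node (.leaf 9289803) (.leaf 335868054)) (.leaf 555542291)) (.node (.node (.leaf 68944743) (.leaf 916457802)) (.leaf 233948024))) (.node (.node (.node (.leaf 598868614) (.leaf 1061238520)) (.leaf 184550629)) (.node (.node (.leaf 639584345) (.leaf 1045009564)) (.leaf 904335397)))) (.node (.node (.node (.node (.leaf 158501204) (.leaf 630031558)) (.leaf 689861779)) (.node (.node (.leaf 83968348) (.leaf 1001706783)) (.leaf 749431985))) (.node (.node (.node (.leaf 733373656) (.leaf 437604923)) (.leaf 792801702)) (.node (.node (.leaf 120227734) (.leaf 1086641543)) (.leaf 855592457)))))) (.node (.node (.node (.node (.node (.node (.leaf 5160985) (.leaf 330359623)) (.leaf 947504122)) (.node (.node (.leaf 65110200) (.leaf 799879177)) (.leaf 973089300))) (.node (.node (.node (.leaf 592276526) (.leaf 391390247)) (.leaf 390967890)) (.node (.node (.leaf 239955160) (.leaf 1034277623)) (.leaf 753370298)))) (.node (.node (.node (.node (.leaf 122202032) (.leaf 669953619)) (.leaf 158523797)) (.node (.node (.leaf 796468084) (.leaf 1033213518)) (.leaf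 250482003))) (.node (.node (.node (.leaf 49111939) (.leaf 876515466)) (.leaf 218016713)) (.node (.node (.leaf 551420239) (.leaf 1076186336)) (.leaf 732595245))))) (.node (.node (.node (.node (.node (.leaf 77546776) (.leaf 1027692078)) (.leaf 907866761)) (.node (.node (.leaf 438768541) (.leaf 508856483)) (.leaf 791254197))) (.node (.node (.node (.leaf 100542062) (.leaf 989582669)) (.leaf 190210532)) (.node (.node (.leaf 397980284) (.leaf 1057232608)) (.leaf 938847538)))) (.node (.node (.node (.node (.leaf 67125522) (.leaf 871584419)) (.leaf 167887942)) (.node (.node (.leaf 650422483) (.leaf 1012764952)) (.leaf 264629718))) (.node (.node (.node (.leaf 832252694) (.leaf 843952496)) (.leaf 543608004)) (.node (.node (.leaf 584183496) (.leaf 1096972246)) (.leaf 323660748))))))) (.node (.node (.node (.node (.node (.node (.node (.leaf 3538998) (.leaf 1082185594)) (.leaf 194807760)) (.node (.node (.leaf 104261275) (.leaf 675401783)) (.leaf 1083815812))) (.node (.node (.node (.leaf 559293003) (.leaf 790801535)) (.leaf 894004672)) (.node (.node (.leaf 535758389) (.leaf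 1028837191)) (.leaf 273794725)))) (.node (.node (.node (.node (.leaf 114149164) (.leaf 926421755)) (.leaf 605857791)) (.node (.node (.leaf 622701557) (.leaf 985322426)) (.leaf 748687031))) (.node (.node (.node (.leaf 320344074) (.leaf 653429057)) (.leaf 978875663)) (.node (.node (.leaf 553206153) (.leaf 1071076796)) (.leaf 781911277))))) (.node (.node (.node (.node (.node (.leaf 11427870) (.leaf 860515461)) (.leaf 861401834)) (.node (.node (.leaf 71484285) (.leaf 791299673)) (.leaf 1064515341))) (.node (.node (.node (.leaf 581749060) (.leaf 616476599)) (.leaf 996111731)) (.node (.node (.leaf 1017247218) (.leaf 1050252531)) (.leaf 690689165)))) (.node (.node (.node (.node (.leaf 23069109) (.leaf 1001035153)) (.leaf 886040427)) (.node (.node (.leaf 85951926) (.leaf 1007260262)) (.leaf 651397177))) (.node (.node (.node (.leaf 655763187) (.leaf 787769025)) (.leaf 545491372)) (.node (.node (.leaf 225192986) (.leaf 1091801109)) (.leaf 312886053)))))) (.node (.node (.node (.node (.node (.node (.leaf 12935390) (.leaf 804425871)) (.leaf 556312401)) (.node (.node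 (.leaf 67526841) (.leaf 654904274)) (.leaf 967757532))) (.node (.node (.node (.leaf 161646981) (.leaf 589982011)) (.leaf 580031715)) (.node (.node (.leaf 586761201) (.leaf 1039701351)) (.leaf 279691983)))) (.node (.node (.node (.node (.leaf 144803989) (.leaf 902386426)) (.leaf 160481959)) (.node (.node (.leaf 82018624) (.leaf 996381518)) (.leaf 254124670))) (.node (.node (.node (.leaf 51757818) (.leaf 1088059294)) (.leaf 644170928)) (.node (.node (.leaf 803442655) (.leaf 1081405175)) (.leaf 567414663))))) (.node (.node (.node (.node (.node (.leaf 14156022) (.leaf 345821317)) (.leaf 208825217)) (.node (.node (.leaf 449663974) (.leaf 958804641)) (.leaf 243204918))) (.node (.node (.node (.leaf 189246152) (.leaf 819851520)) (.leaf 191662838)) (.node (.node (.leaf 346378489) (.leaf 1060612167)) (.leaf 595078658)))) (.node (.node (.node (.node (.leaf 202246977) (.leaf 693274671)) (.leaf 725611757)) (.node (.node (.leaf 896158054) (.leaf 1046083228)) (.leaf 615681209))) (.node (.node (.node (.leaf 684220916) (.leaf 913257347)) (.leaf 222249506)) (.node (.node (.leaf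 558171603) (.leaf 1101862248)) (.leaf 840615139))))))))) (.node (.node (.node (.node (.node (.node (.node (.node (.node (.leaf 4341828) (.leaf 320785653)) (.leaf 931695296)) (.node (.node (.leaf 72295618) (.leaf 974820521)) (.leaf 770084353))) (.node (.node (.node (.leaf 545169560) (.leaf 431083732)) (.leaf 652555304)) (.node (.node (.leaf 840766558) (.leaf 1021841173)) (.leaf 287280835)))) (.node (.node (.node (.node (.leaf 100304492) (.leaf 769124734)) (.leaf 995218798)) (.node (.node (.leaf 77120100) (.leaf 978547209)) (.leaf 1097103319))) (.node (.node (.node (.leaf 301690700) (.leaf 1060910838)) (.leaf 192957198)) (.node (.node (.leaf 117925743) (.leaf 1064529451)) (.leaf 294552306))))) (.node (.node (.node (.node (.node (.leaf 10641574) (.leaf 721849030)) (.leaf 1065572116)) (.node (.node (.leaf 68518928) (.leaf 750873919)) (.leaf 233196686))) (.node (.node (.node (.leaf 46039866) (.leaf 1033893459)) (.leaf 465499183)) (.node (.node (.leaf 960693585) (.leaf 1043548861)) (.leaf 743220873)))) (.node (.node (.node (.node (.leaf 155355416) (.leaf 659681354))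 (.leaf 162505120)) (.node (.node (.leaf 661349401) (.leaf 1000573493)) (.leaf 990754132))) (.node (.node (.node (.leaf 49660099) (.leaf 532672346)) (.leaf 213165969)) (.node (.node (.leaf 119693638) (.leaf 1085330770)) (.leaf 562964023)))))) (.node (.node (.node (.node (.node (.node (.leaf 26690038) (.leaf 773042736)) (.leaf 900068115)) (.node (.node (.leaf 402281120) (.leaf 747564328)) (.leaf 229017594))) (.node (.node (.node (.leaf 76391681) (.leaf 882987882)) (.leaf 805995351)) (.node (.node (.leaf 97428226) (.leaf 1032918494)) (.leaf 870417519)))) (.node (.node (.node (.node (.leaf 123226045) (.leaf 734622008)) (.leaf 666324660)) (.node (.node (.leaf 79496490) (.leaf 989571540)) (.leaf 776864999))) (.node (.node (.node (.leaf 806021709) (.leaf 913510998)) (.leaf 203360228)) (.node (.node (.leaf 550258649) (.leaf 1074907454)) (.leaf 836691906))))) (.node (.node (.node (.node (.node (.leaf 75384050) (.leaf 788279567)) (.leaf 568651679)) (.node (.node (.leaf 624525856) (.leaf 973400231)) (.leaf 238650913))) (.node (.node (.node (.leaf 591511868) (.leaf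 995554672)) (.leaf 380662289)) (.node (.node (.leaf 794054109) (.leaf 1054281664)) (.leaf 1020499461)))) (.node (.node (.node (.node (.leaf 181422705) (.leaf 1014560225)) (.leaf 926869789)) (.node (.node (.leaf 306179949) (.leaf 1011371662)) (.leaf 880142079))) (.node (.node (.node (.leaf 808903714) (.leaf 446760563)) (.leaf 1028257330)) (.node (.node (.leaf 129024344) (.leaf 1095477984)) (.leaf 324029463))))))) (.node (.node (.node (.node (.node (.node (.node (.leaf 16040215) (.leaf 323342245)) (.leaf 229010509)) (.node (.node (.leaf 736666782) (.leaf 668282430)) (.leaf 510031066))) (.node (.node (.node (.leaf 227036211) (.leaf 912470917)) (.leaf 740979308)) (.node (.node (.leaf 187820724) (.leaf 1027363570)) (.leaf 592930849)))) (.node (.node (.node (.node (.leaf 32415947) (.leaf 729418759)) (.leaf 753397333)) (.node (.node (.leaf 421966651) (.leaf 983913486)) (.leaf 758664678))) (.node (.node (.node (.leaf 317165529) (.leaf 716975983)) (.leaf 765904220)) (.node (.node (.leaf 114188597) (.leaf 1069762769)) (.leaf 817508168))))) (.node (.node (.node (.node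 (.node (.leaf 12746973) (.leaf 752822117)) (.leaf 1062041341)) (.node (.node (.leaf 70739046) (.leaf 903793822)) (.leaf 994882924))) (.node (.node (.node (.leaf 750497085) (.leaf 1013618138)) (.leaf 1079514986)) (.node (.node (.leaf 616343548) (.leaf 1049004071)) (.leaf 395948653)))) (.node (.node (.node (.node (.leaf 65168469) (.leaf 366135001)) (.leaf 166947280)) (.node (.node (.leaf 147220665) (.leaf 1005785772)) (.leaf 756159149))) (.node (.node (.node (.leaf 81143149) (.leaf 441699516)) (.leaf 645410035)) (.node (.node (.leaf 125609938) (.leaf 1090574166)) (.leaf 748580148)))))) (.node (.node (.node (.node (.node (.node (.leaf 39781058) (.leaf 332075118)) (.leaf 1019639296)) (.node (.node (.leaf 174934565) (.leaf 636874130)) (.leaf 262450189))) (.node (.node (.node (.leaf 749676851) (.leaf 1014642146)) (.leaf 1050416822)) (.node (.node (.leaf 100344077) (.leaf 1038339117)) (.leaf 291516139)))) (.node (.node (.node (.node (.leaf 195273065) (.leaf 1042757256)) (.leaf 846204189)) (.node (.node (.leaf 240233691) (.leaf 995019116)) (.leaf 571413717))) (.node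 (.node (.node (.leaf 777725163) (.leaf 644007304)) (.leaf 1003419039)) (.node (.node (.leaf 173730328) (.leaf 1080038755)) (.leaf 306186021))))) (.node (.node (.node (.node (.node (.leaf 65733723) (.leaf 574819770)) (.leaf 152586377)) (.node (.node (.leaf 447206353) (.leaf 997406075)) (.leaf 1046918817))) (.node (.node (.node (.leaf 839461944) (.leaf 829378765)) (.leaf 1095784399)) (.node (.node (.leaf 189033157) (.leaf 1059457537)) (.leaf 585189576)))) (.node (.node (.node (.node (.leaf 56239081) (.leaf 1069086505)) (.leaf 169828785)) (.node (.node (.leaf 850569994) (.leaf 1082685309)) (.leaf 266849660))) (.node (.node (.node (.leaf 57074670) (.leaf 664915435)) (.leaf 593003449)) (.node (.node (.leaf 510457051) (.leaf 1100534201)) (.leaf 319909889)))))))) (.node (.node (.node (.node (.node (.node (.node (.node (.leaf 4005952) (.leaf 863081442)) (.leaf 313798587)) (.node (.node (.leaf 173173265) (.leaf 804679795)) (.leaf 693097351))) (.node (.node (.node (.leaf 630539194) (.leaf 974279844)) (.leaf 174179781)) (.node (.node (.leaf 719112503) (.leaf 1024608415))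 (.leaf 753585667)))) (.node (.node (.node (.node (.leaf 105957047) (.leaf 760173691)) (.leaf 926846784)) (.node (.node (.leaf 79881558) (.leaf 981251357)) (.leaf 894323369))) (.node (.node (.node (.leaf 561636514) (.leaf 1054635727)) (.leaf 193775485)) (.node (.node (.leaf 367096242) (.leaf 1067095556)) (.leaf 1070593842))))) (.node (.node (.node (.node (.node (.leaf 9863317) (.leaf 579259832)) (.leaf 145819745)) (.node (.node (.leaf 634563500) (.leaf 530158749)) (.leaf 904123596))) (.node (.node (.node (.leaf 268520965) (.leaf 1055323859)) (.leaf 185747075)) (.node (.node (.leaf 580618436) (.leaf 1046237799)) (.leaf 904548698)))) (.node (.node (.node (.node (.leaf 853124314) (.leaf 363647390)) (.leaf 163570084)) (.node (.node (.leaf 84510110) (.leaf 1002931809)) (.leaf 256575143))) (.node (.node (.node (.leaf 53060360) (.leaf 438801310)) (.leaf 212207546)) (.node (.node (.leaf 120619512) (.leaf 1087919092)) (.leaf 541609885)))))) (.node (.node (.node (.node (.node (.node (.leaf 5603421) (.leaf 805253265)) (.leaf 582725318)) (.node (.node (.leaf 819062568)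 (.leaf 844910595)) (.leaf 577227900))) (.node (.node (.node (.leaf 54567890) (.leaf 649653226)) (.leaf 179110784)) (.node (.node (.leaf 786974855) (.leaf 1035768111)) (.leaf 1005106601)))) (.node (.node (.node (.node (.leaf 83961237) (.leaf 1026160165)) (.leaf 894906584)) (.node (.node (.leaf 629205315) (.leaf 1035581020)) (.leaf 251694158))) (.node (.node (.node (.leaf 47899494) (.leaf 948335497)) (.leaf 624575789)) (.node (.node (.leaf 591536845) (.leaf 1077401069)) (.leaf 303875069))))) (.node (.node (.node (.node (.node (.leaf 12730405) (.leaf 800687784)) (.leaf 550053707)) (.node (.node (.leaf 832565563) (.leaf 579694304)) (.leaf 876155986))) (.node (.node (.node (.leaf 624028179) (.leaf 893291284)) (.leaf 871992388)) (.node (.node (.leaf 108955082) (.leaf 1056787827)) (.leaf 842205830)))) (.node (.node (.node (.node (.leaf 188320443) (.leaf 868429953)) (.leaf 604171978)) (.node (.node (.leaf 617383248) (.leaf 1014019539)) (.leaf 794284612))) (.node (.node (.node (.leaf 857845608) (.leaf 448562422)) (.leaf 634604936)) (.node (.node (.leaf 125143006)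 (.leaf 1098045185)) (.leaf 833234414))))))) (.node (.node (.node (.node (.node (.node (.node (.leaf 3760189) (.leaf 1060091633)) (.leaf 969754152)) (.node (.node (.leaf 531276550) (.leaf 796258075)) (.leaf 227615279))) (.node (.node (.node (.leaf 538700438) (.leaf 387761251)) (.leaf 1038022251)) (.node (.node (.leaf 96003646) (.leaf 1030178893)) (.leaf 274432711)))) (.node (.node (.node (.node (.leaf 17580145) (.leaf 735283090)) (.leaf 1075033934)) (.node (.node (.leaf 728984815) (.leaf 986706615)) (.leaf 750472773))) (.node (.node (.node (.leaf 322752550) (.leaf 853764475)) (.leaf 201868792)) (.node (.node (.leaf 1005991342) (.leaf 1072255937)) (.leaf 862274808))))) (.node (.node (.node (.node (.node (.leaf 726688656) (.leaf 868002514)) (.leaf 536087110)) (.node (.node (.leaf 71853069) (.leaf 644707180)) (.leaf 947529813))) (.node (.node (.node (.leaf 581364602) (.leaf 920653597)) (.leaf 828360537)) (.node (.node (.leaf 885287379) (.leaf 1051634475)) (.leaf 837669619)))) (.node (.node (.node (.node (.leaf 65970907) (.leaf 370516950)) (.leaf 173976090))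 (.node (.node (.leaf 86483180) (.leaf 1008617709)) (.leaf 258974348))) (.node (.node (.node (.leaf 795880405) (.leaf 1039660661)) (.leaf 217557957)) (.node (.node (.leaf 123316158) (.leaf 1093031304)) (.leaf 313912680)))))) (.node (.node (.node (.node (.node (.node (.leaf 45171494) (.leaf 1023260181)) (.leaf 142690430)) (.node (.node (.leaf 67871870) (.leaf 666298701)) (.leaf 851331847))) (.node (.node (.node (.leaf 253594992) (.leaf 1057715938)) (.leaf 182666102)) (.node (.node (.leaf 181807732) (.leaf 1040795828)) (.leaf 704697489)))) (.node (.node (.node (.node (.leaf 20201822) (.leaf 631335961)) (.leaf 911537068)) (.node (.node (.leaf 930424884) (.leaf 997790164)) (.leaf 598314929))) (.node (.node (.node (.leaf 733553968) (.leaf 759895158)) (.leaf 263112979)) (.node (.node (.leaf 194202401) (.leaf 1082660701)) (.leaf 540313081))))) (.node (.node (.node (.node (.node (.leaf 14655528) (.leaf 866429649)) (.leaf 553232181)) (.node (.node (.leaf 915763856) (.leaf 520375457)) (.leaf 244499371))) (.node (.node (.node (.leaf 298962739) (.leaf 414109311)) (.leaf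 1056208601)) (.node (.node (.leaf 646286467) (.leaf 1061998186)) (.leaf 293097103)))) (.node (.node (.node (.node (.leaf 262859029) (.leaf 712486574)) (.leaf 608142671)) (.node (.node (.leaf 950776593) (.leaf 1019161424)) (.leaf 954930117))) (.node (.node (.node (.leaf 58262383) (.leaf 453682437)) (.leaf 723160272)) (.node (.node (.leaf 530762095) (.leaf 1103009501)) (.leaf 319579629)))))))))))

noncomputable def edgeA6 : Arr ℕ :=
  (.node (.node (.node (.node (.node (.node (.node (.node (.node (.node (.node (.leaf 540680) (.leaf 833147907)) (.node (.leaf 1055872727) (.leaf 1103697659))) (.node (.node (.leaf 381506073) (.leaf 1035712093)) (.leaf 943246245))) (.node (.node (.node (.leaf 926279296) (.leaf 378471413)) (.leaf 862472548)) (.node (.node (.leaf 914870045) (.leaf 1019709110)) (.leaf 770247572)))) (.node (.node (.node (.node (.leaf 14778408) (.leaf 947368972)) (.leaf 661443476)) (.node (.node (.leaf 446444492) (.leaf 996808055)) (.leaf 530098681))) (.node (.node (.node (.leaf 682617889) (.leaf 883168231)) (.leaf 928812617)) (.node (.node (.leaf 796601369)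 (.leaf 1062694052)) (.leaf 293880553))))) (.node (.node (.node (.node (.node (.leaf 45957945) (.leaf 870010579)) (.leaf 969462203)) (.node (.node (.leaf 417010459) (.leaf 920899299)) (.leaf 834080887))) (.node (.node (.node (.leaf 255266182) (.leaf 931957264)) (.leaf 1058477799)) (.node (.node (.leaf 1009587651) (.leaf 1041569306)) (.leaf 1004254628)))) (.node (.node (.node (.node (.leaf 20463673) (.leaf 767493219)) (.leaf 853332500)) (.node (.node (.leaf 196757595) (.leaf 998577433)) (.leaf 599353212))) (.node (.node (.node (.leaf 559579701) (.leaf 433685696)) (.leaf 641320393)) (.node (.node (.leaf 527673449) (.leaf 1083455013)) (.leaf 891081429)))))) (.node (.node (.node (.node (.node (.node (.leaf 22839731) (.leaf 704525419)) (.leaf 881692831)) (.node (.node (.leaf 63733937) (.leaf 468206894)) (.leaf 261237603))) (.node (.node (.node (.leaf 589293377) (.leaf 818122567)) (.leaf 972410487)) (.node (.node (.leaf 641813418) (.leaf 1030884013)) (.leaf 992310620)))) (.node (.node (.node (.node (.leaf 117868399) (.leaf 899943573)) (.leaf 616639089)) (.node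 (.node (.leaf 739402023) (.leaf 987402108)) (.leaf 935773545))) (.node (.node (.node (.leaf 326701114) (.leaf 909502430)) (.leaf 882542102)) (.node (.node (.leaf 589267521) (.leaf 1072926578)) (.leaf 864781960))))) (.node (.node (.node (.node (.node (.leaf 70665388) (.leaf 980784410)) (.leaf 758828334)) (.node (.node (.leaf 936946704) (.leaf 969535974)) (.leaf 562710217))) (.node (.node (.node (.leaf 959933864) (.leaf 1022653970)) (.leaf 188514782)) (.node (.node (.leaf 961792439) (.leaf 1052299665)) (.leaf 901548693)))) (.node (.node (.node (.node (.leaf 177523270) (.leaf 828388181)) (.leaf 940484356)) (.node (.node (.leaf 912879982) (.leaf 1009280711)) (.leaf 1063008003))) (.node (.node (.node (.leaf 587351461) (.leaf 777990344)) (.leaf 1099470822)) (.node (.node (.leaf 123535693) (.leaf 1093651145)) (.leaf 973524219))))))) (.node (.node (.node (.node (.node (.node (.node (.leaf 12386515) (.leaf 837940155)) (.leaf 132694367)) (.node (.node (.leaf 883896406) (.leaf 1086723989)) (.leaf 682590977))) (.node (.node (.node (.leaf 961601944) (.leaf 723702627))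 (.leaf 777580982)) (.node (.node (.leaf 564072326) (.leaf 1025395910)) (.leaf 701205882)))) (.node (.node (.node (.node (.leaf 568993470) (.leaf 978793742)) (.leaf 197166505)) (.node (.node (.leaf 753804648) (.leaf 981911013)) (.leaf 934710057))) (.node (.node (.node (.leaf 312840116) (.leaf 417793156)) (.leaf 878326868)) (.node (.node (.leaf 1036670563) (.leaf 1067897832)) (.leaf 642044953))))) (.node (.node (.node (.node (.node (.leaf 58491902) (.leaf 1049679537)) (.leaf 552757083)) (.node (.node (.leaf 923887954) (.leaf 901182404)) (.leaf 795315103))) (.node (.node (.node (.leaf 38436969) (.leaf 976949521)) (.leaf 945550096)) (.node (.node (.leaf 913634438) (.leaf 1046857588)) (.leaf 949685223)))) (.node (.node (.node (.node (.leaf 163072406) (.leaf 565333910)) (.leaf 1063139076)) (.node (.node (.leaf 543203785) (.leaf 1003768738)) (.leaf 882495782))) (.node (.node (.node (.leaf 354832727) (.leaf 931350724)) (.leaf 874251223)) (.node (.node (.leaf 1050203829) (.leaf 1093416896)) (.leaf 964987363)))))) (.node (.node (.node (.node (.node (.node (.leaf 36536966)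 (.leaf 778388418)) (.leaf 195102669)) (.node (.node (.leaf 748760373) (.leaf 1051850430)) (.leaf 933498884))) (.node (.node (.node (.leaf 244698367) (.leaf 803704943)) (.leaf 926077317)) (.node (.node (.leaf 920275243) (.leaf 1036448525)) (.leaf 1084274567)))) (.node (.node (.node (.node (.leaf 719185437) (.leaf 1039201906)) (.leaf 946852319)) (.node (.node (.leaf 726576994) (.leaf 993117882)) (.leaf 919815934))) (.node (.node (.node (.leaf 47710343) (.leaf 910061682)) (.leaf 205079035)) (.node (.node (.leaf 1044600467) (.leaf 1078021989)) (.leaf 891163904))))) (.node (.node (.node (.node (.node (.leaf 82183544) (.leaf 897552196)) (.leaf 795372786)) (.node (.node (.leaf 442635187) (.leaf 950038098)) (.leaf 882380475))) (.node (.node (.node (.leaf 290967270) (.leaf 959008224)) (.leaf 879921158)) (.node (.node (.leaf 537257482) (.leaf 1057507598)) (.leaf 289882846)))) (.node (.node (.node (.node (.leaf 189139655) (.leaf 857969738)) (.leaf 813712839)) (.node (.node (.leaf 264203728) (.leaf 1033926227)) (.leaf 614371014))) (.node (.node (.node (.leaf 55312539)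 (.leaf 1003337119)) (.leaf 940299053)) (.node (.node (.leaf 584265416) (.leaf 1098733299)) (.leaf 910675209)))))))) (.node (.node (.node (.node (.node (.node (.node (.node (.leaf 1433617) (.leaf 892933309)) (.leaf 545735116)) (.node (.node (.leaf 922266043) (.leaf 967231611)) (.leaf 922668667))) (.node (.node (.node (.leaf 762767611) (.leaf 964350897)) (.leaf 952202016)) (.node (.node (.leaf 561033086) (.leaf 1045313175)) (.leaf 975127701)))) (.node (.node (.node (.node (.leaf 101746300) (.leaf 976933537)) (.leaf 1072355134)) (.node (.node (.leaf 457774096) (.leaf 979291687)) (.leaf 764146028))) (.node (.node (.node (.leaf 44204152) (.leaf 950863018)) (.leaf 893375603)) (.node (.node (.leaf 931449338) (.leaf 1065178897)) (.leaf 944952306))))) (.node (.node (.node (.node (.node (.leaf 52396978) (.leaf 846794915)) (.leaf 196921272)) (.node (.node (.leaf 889498448) (.leaf 911388239)) (.leaf 965791115))) (.node (.node (.node (.leaf 260361676) (.leaf 869721605)) (.leaf 913847107)) (.node (.node (.leaf 589709823) (.leaf 1044384466)) (.leaf 614230104)))) (.node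 (.node (.node (.node (.leaf 588211858) (.leaf 1052341953)) (.leaf 1065744148)) (.node (.node (.leaf 715686756) (.leaf 1001125118)) (.leaf 922619935))) (.node (.node (.node (.leaf 350671150) (.leaf 967347029)) (.leaf 642549328)) (.node (.node (.leaf 573802632) (.leaf 1086057035)) (.leaf 878127228)))))) (.node (.node (.node (.node (.node (.node (.leaf 28394015) (.leaf 705799840)) (.leaf 951423590)) (.node (.node (.leaf 707772623) (.leaf 1055815382)) (.leaf 229474868))) (.node (.node (.node (.leaf 542795951) (.leaf 443265974)) (.leaf 973704498)) (.node (.node (.leaf 547668526) (.leaf 1077622622)) (.leaf 275432111)))) (.node (.node (.node (.node (.leaf 18333748) (.leaf 1070937908)) (.leaf 670076478)) (.node (.node (.leaf 79691994) (.leaf 990168580)) (.leaf 787313055))) (.node (.node (.node (.leaf 333926531) (.leaf 936120948)) (.leaf 546800366)) (.node (.node (.leaf 958911634) (.leaf 1075565193)) (.leaf 564742250))))) (.node (.node (.node (.node (.node (.leaf 76449026) (.leaf 764425282)) (.leaf 197298385)) (.node (.node (.leaf 437490579) (.leaf 559811763)) (.leaf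 239026771))) (.node (.node (.node (.leaf 286609078) (.leaf 694371706)) (.leaf 911888726)) (.node (.node (.leaf 539077760) (.leaf 1055000826)) (.leaf 730497893)))) (.node (.node (.node (.node (.leaf 183192199) (.leaf 943670328)) (.leaf 1052063424)) (.node (.node (.leaf 586507722) (.leaf 1012263791)) (.leaf 264325635))) (.node (.node (.node (.leaf 369004983) (.leaf 877400808)) (.leaf 261917732)) (.node (.node (.leaf 828394173) (.leaf 1096151790)) (.leaf 903181230))))))) (.node (.node (.node (.node (.node (.node (.node (.leaf 17400124) (.leaf 999077252)) (.leaf 849233173)) (.node (.node (.leaf 395252330) (.leaf 672051807)) (.leaf 1091614643))) (.node (.node (.node (.leaf 547193983) (.leaf 385942547)) (.leaf 817779910)) (.node (.node (.leaf 692046674) (.leaf 1028150071)) (.leaf 870581367)))) (.node (.node (.node (.node (.leaf 113116954) (.leaf 914600090)) (.leaf 936162360)) (.node (.node (.leaf 860613765) (.leaf 984681064)) (.leaf 940880279))) (.node (.node (.node (.leaf 851962882) (.leaf 997496187)) (.leaf 1075279695)) (.node (.node (.leaf 907014757) (.leaf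 1070500579)) (.leaf 955125245))))) (.node (.node (.node (.node (.node (.leaf 63718465) (.leaf 939361649)) (.leaf 1067931426)) (.node (.node (.leaf 71041218) (.leaf 1100445676)) (.leaf 749457803))) (.node (.node (.node (.leaf 275992149) (.leaf 404505685)) (.leaf 1031050818)) (.node (.node (.leaf 270585366) (.leaf 1049661601)) (.leaf 924069678)))) (.node (.node (.node (.node (.leaf 945236409) (.leaf 968060253)) (.leaf 1083611011)) (.node (.node (.leaf 524788089) (.leaf 1006586649)) (.leaf 956454123))) (.node (.node (.node (.leaf 710618486) (.leaf 964342289)) (.leaf 594366007)) (.node (.node (.leaf 615042455) (.leaf 1091261676)) (.leaf 327567325)))))) (.node (.node (.node (.node (.node (.node (.leaf 6914068) (.leaf 774062987)) (.leaf 883231123)) (.node (.node (.leaf 587900883) (.leaf 936773949)) (.leaf 231819240))) (.node (.node (.node (.leaf 35291228) (.leaf 1081210740)) (.leaf 616646977)) (.node (.node (.leaf 1007441335) (.leaf 1039004875)) (.leaf 1097529306)))) (.node (.node (.node (.node (.leaf 142788738) (.leaf 1090926511)) (.leaf 961204296)) (.node (.node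 (.leaf 939389105) (.leaf 995742019)) (.leaf 253822459))) (.node (.node (.node (.leaf 740296022) (.leaf 430310579)) (.leaf 946131406)) (.node (.node (.leaf 1013249496) (.leaf 1080641925)) (.leaf 942205182))))) (.node (.node (.node (.node (.node (.leaf 88851926) (.leaf 798606621)) (.leaf 1017689588)) (.node (.node (.leaf 897787367) (.leaf 809600748)) (.leaf 795804604))) (.node (.node (.node (.leaf 544563529) (.leaf 413041779)) (.leaf 919006164)) (.node (.node (.leaf 926174151) (.leaf 1060058865)) (.leaf 878194216)))) (.node (.node (.node (.node (.leaf 199248685) (.leaf 896371045)) (.leaf 919802639)) (.node (.node (.leaf 90161398) (.leaf 1017097860)) (.leaf 1033041485))) (.node (.node (.node (.leaf 57295007) (.leaf 862128103)) (.leaf 795985125)) (.node (.node (.leaf 261654428) (.leaf 1101240264)) (.leaf 851750123))))))))) (.node (.node (.node (.node (.node (.node (.node (.node (.node (.leaf 3276850) (.leaf 799920359)) (.node (.leaf 819155198) (.leaf 1104975881))) (.node (.node (.leaf 383390246) (.leaf 847990621)) (.leaf 875432300))) (.node (.node (.node (.leaf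 212962212) (.leaf 1099020259)) (.leaf 1086879638)) (.node (.node (.leaf 537136974) (.leaf 1021150911)) (.leaf 924223328)))) (.node (.node (.node (.node (.leaf 98600537) (.leaf 908945167)) (.leaf 946440951)) (.node (.node (.leaf 370782654) (.leaf 523732473)) (.leaf 910700513))) (.node (.node (.node (.leaf 532606157) (.leaf 820048557)) (.leaf 192758250)) (.node (.node (.leaf 832663867) (.leaf 1075361616)) (.leaf 1083881348))))) (.node (.node (.node (.node (.node (.leaf 48563060) (.leaf 851518990)) (.leaf 198363115)) (.node (.node (.leaf 882271822) (.leaf 997176697)) (.leaf 1001969046))) (.node (.node (.node (.leaf 258264500) (.leaf 1075607377)) (.leaf 1054725839)) (.node (.node (.leaf 798189033) (.leaf 1043065494)) (.leaf 654017811)))) (.node (.node (.node (.node (.leaf 195838293) (.leaf 972203643)) (.leaf 913296344)) (.node (.node (.leaf 552347458) (.leaf 1000041689)) (.leaf 596018580))) (.node (.node (.node (.leaf 849619564) (.leaf 948482890)) (.leaf 880636062)) (.node (.node (.leaf 827771580) (.leaf 1084656168)) (.leaf 567733331)))))) (.node (.node (.node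 (.node (.node (.node (.leaf 25936354) (.leaf 936997542)) (.leaf 619212272)) (.node (.node (.leaf 542600261) (.leaf 1048139432)) (.leaf 1017026032))) (.node (.node (.node (.leaf 235949228) (.leaf 389973796)) (.leaf 913778393)) (.node (.node (.leaf 543719955) (.leaf 1032375941)) (.leaf 929139457)))) (.node (.node (.node (.node (.leaf 544539377) (.leaf 1028003376)) (.leaf 1023784472)) (.node (.node (.leaf 477926500) (.leaf 988828935)) (.leaf 881994867))) (.node (.node (.node (.leaf 330960992) (.leaf 882526500)) (.leaf 202916342)) (.node (.node (.leaf 585658027) (.leaf 1074121010)) (.leaf 301335299))))) (.node (.node (.node (.node (.node (.leaf 74351837) (.leaf 341132141)) (.leaf 584565428)) (.node (.node (.leaf 720186901) (.leaf 503973271)) (.leaf 827540587))) (.node (.node (.node (.leaf 283823766) (.leaf 934669763)) (.leaf 1093613505)) (.node (.node (.leaf 562703553) (.leaf 1053684058)) (.leaf 614026661)))) (.node (.node (.node (.node (.leaf 543180193) (.leaf 811828291)) (.leaf 753284117)) (.node (.node (.leaf 641346433) (.leaf 1047631525)) (.leaf 1066915611)))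 (.node (.node (.node (.leaf 53657751) (.leaf 982783270)) (.leaf 689475499)) (.node (.node (.leaf 123846990) (.leaf 1094768355)) (.leaf 315658185))))))) (.node (.node (.node (.node (.node (.node (.node (.leaf 2998299) (.leaf 911208262)) (.leaf 583323189)) (.node (.node (.leaf 678839675) (.leaf 963908477)) (.leaf 261737343))) (.node (.node (.node (.leaf 28819538) (.leaf 916885460)) (.leaf 944376381)) (.node (.node (.leaf 642239138) (.leaf 1026672366)) (.leaf 866043239)))) (.node (.node (.node (.node (.leaf 111396598) (.leaf 895545975)) (.leaf 714310890)) (.node (.node (.leaf 798782309) (.leaf 1097005014)) (.leaf 1092949948))) (.node (.node (.node (.leaf 324232582) (.leaf 902443381)) (.leaf 929361185)) (.node (.node (.leaf 927041820) (.leaf 1069093510)) (.leaf 297468662))))) (.node (.node (.node (.node (.node (.leaf 60900386) (.leaf 337625951)) (.leaf 146473336)) (.node (.node (.leaf 792687010) (.leaf 1025898020)) (.leaf 952545304))) (.node (.node (.node (.leaf 273813046) (.leaf 908493933)) (.leaf 187236824)) (.node (.node (.leaf 958417799) (.leaf 1048184715))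 (.leaf 285672142)))) (.node (.node (.node (.node (.leaf 166201798) (.leaf 767364524)) (.leaf 890340247)) (.node (.node (.leaf 197159201) (.leaf 1005088194)) (.leaf 959041200))) (.node (.node (.node (.leaf 357142889) (.leaf 1007302069)) (.leaf 655535782)) (.node (.node (.leaf 613731892) (.leaf 1089950447)) (.leaf 312034079)))))) (.node (.node (.node (.node (.node (.node (.leaf 38421153) (.leaf 914641266)) (.leaf 527648641)) (.node (.node (.leaf 843100604) (.leaf 694416168)) (.leaf 1093154750))) (.node (.node (.node (.leaf 247352612) (.leaf 1092417464)) (.leaf 723872718)) (.node (.node (.leaf 953119129) (.leaf 1037709364)) (.leaf 828549038)))) (.node (.node (.node (.node (.leaf 137988178) (.leaf 357155753)) (.leaf 994702699)) (.node (.node (.leaf 935800129) (.leaf 994366543)) (.leaf 253231739))) (.node (.node (.node (.leaf 339710143) (.leaf 902164391)) (.leaf 262794194)) (.node (.node (.leaf 1045763738) (.leaf 1079331192)) (.leaf 305414927))))) (.node (.node (.node (.node (.node (.leaf 85640624) (.leaf 897576123)) (.leaf 931156885)) (.node (.node (.leaf 713533652)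 (.leaf 515032501)) (.leaf 940379369))) (.node (.node (.node (.leaf 293867265) (.leaf 923700940)) (.leaf 890087507)) (.node (.node (.leaf 932368023) (.leaf 1058861286)) (.leaf 687968827)))) (.node (.node (.node (.node (.leaf 192252674) (.leaf 825469582)) (.leaf 836003794)) (.node (.node (.leaf 798099081) (.leaf 1015876116)) (.leaf 864104935))) (.node (.node (.node (.leaf 376066553) (.leaf 861663124)) (.leaf 724076119)) (.node (.node (.leaf 915141626) (.leaf 1099960712)) (.leaf 318210863)))))))) (.node (.node (.node (.node (.node (.node (.node (.node (.leaf 5316694) (.leaf 947693835)) (.leaf 131891550)) (.node (.node (.leaf 687894250) (.leaf 642010913)) (.leaf 796059393))) (.node (.node (.node (.leaf 220548070) (.leaf 381518849)) (.leaf 173900217)) (.node (.node (.leaf 535906490) (.leaf 1024051093)) (.leaf 952019064)))) (.node (.node (.node (.node (.leaf 104498845) (.leaf 348811522)) (.leaf 898991155)) (.node (.node (.leaf 461247517) (.leaf 998593921)) (.leaf 784773268))) (.node (.node (.node (.leaf 565536308) (.leaf 892962263)) (.leaf 1006564785)) (.node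 (.node (.leaf 878948588) (.leaf 1066387614)) (.leaf 948720082))))) (.node (.node (.node (.node (.node (.leaf 54838230) (.leaf 989312332)) (.leaf 863235892)) (.node (.node (.leaf 732900355) (.leaf 808011762)) (.leaf 234193476))) (.node (.node (.node (.leaf 603466935) (.leaf 808209040)) (.leaf 564440979)) (.node (.node (.leaf 632636630) (.leaf 1045729890)) (.leaf 284377802)))) (.node (.node (.node (.node (.leaf 159549807) (.leaf 953149033)) (.leaf 163283363)) (.node (.node (.leaf 84246758) (.leaf 1002427684)) (.leaf 256410244))) (.node (.node (.node (.leaf 352964939) (.leaf 665544889)) (.leaf 262301918)) (.node (.node (.leaf 120439111) (.leaf 1087261198)) (.leaf 573165455)))))) (.node (.node (.node (.node (.node (.node (.leaf 34407007) (.leaf 957197043)) (.leaf 139575658)) (.node (.node (.leaf 405361334) (.leaf 869780551)) (.leaf 903187468))) (.node (.node (.node (.leaf 546677259) (.leaf 870068346)) (.leaf 601213529)) (.node (.node (.leaf 98615561) (.leaf 1036301920)) (.leaf 763792645)))) (.node (.node (.node (.node (.leaf 588326572) (.leaf 355091362)) (.leaf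 907921044)) (.node (.node (.leaf 842524982) (.leaf 1048499882)) (.leaf 250921591))) (.node (.node (.node (.leaf 336269467) (.leaf 723978124)) (.leaf 975914828)) (.node (.node (.leaf 827819846) (.leaf 1076865560)) (.leaf 562783741))))) (.node (.node (.node (.node (.node (.leaf 79250759) (.leaf 943878357)) (.leaf 547111880)) (.node (.node (.leaf 73580743) (.leaf 525830990)) (.leaf 1000019337))) (.node (.node (.node (.leaf 923642334) (.leaf 409437286)) (.leaf 919243326)) (.node (.node (.leaf 913680969) (.leaf 1056298506)) (.leaf 289440476)))) (.node (.node (.node (.node (.leaf 534177314) (.leaf 919941808)) (.leaf 912887040)) (.node (.node (.leaf 819807139) (.leaf 1013453740)) (.leaf 710444283))) (.node (.node (.node (.leaf 868232312) (.leaf 959532320)) (.leaf 895798445)) (.node (.node (.leaf 1052939973) (.leaf 1097395570)) (.leaf 802236765))))))) (.node (.node (.node (.node (.node (.node (.node (.leaf 20447617) (.leaf 326602809)) (.leaf 1059018475)) (.node (.node (.leaf 853929637) (.leaf 1031321156)) (.leaf 806505685))) (.node (.node (.node (.leaf 230968422)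 (.leaf 803342820)) (.leaf 1089329062)) (.node (.node (.leaf 563221770) (.leaf 1029556951)) (.leaf 812435205)))) (.node (.node (.node (.node (.leaf 115427146) (.leaf 1099184100)) (.leaf 196322715)) (.node (.node (.leaf 800301899) (.leaf 1041225343)) (.leaf 749799579))) (.node (.node (.node (.leaf 45973633) (.leaf 876048483)) (.leaf 200884723)) (.node (.node (.leaf 759098679) (.leaf 1071773496)) (.leaf 972599097))))) (.node (.node (.node (.node (.node (.leaf 11534366) (.leaf 946942928)) (.leaf 665555865)) (.node (.node (.leaf 788787206) (.leaf 496954467)) (.leaf 237060684))) (.node (.node (.node (.leaf 585082983) (.leaf 1011176907)) (.leaf 841247136)) (.node (.node (.leaf 1020270084) (.leaf 1050971863)) (.leaf 860941770)))) (.node (.node (.node (.node (.leaf 173885977) (.leaf 932212474)) (.leaf 945209777)) (.node (.node (.leaf 536014443) (.leaf 1007840083)) (.leaf 258720395))) (.node (.node (.node (.leaf 361992590) (.leaf 972573264)) (.leaf 216056334)) (.node (.node (.leaf 122880332) (.leaf 1092488220)) (.leaf 681264202)))))) (.node (.node (.node (.node (.node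 (.node (.leaf 709100204) (.leaf 875784776)) (.leaf 196986258)) (.node (.node (.leaf 923692542) (.leaf 920587509)) (.leaf 1016346092))) (.node (.node (.node (.leaf 820292330) (.leaf 908037415)) (.leaf 802714462)) (.node (.node (.leaf 101482768) (.leaf 1040283257)) (.leaf 1076295509)))) (.node (.node (.node (.node (.leaf 524764593) (.leaf 359597326)) (.leaf 922455808)) (.node (.node (.leaf 861728701) (.leaf 997151881)) (.leaf 254247550))) (.node (.node (.node (.leaf 343658717) (.leaf 913427160)) (.leaf 327477639)) (.node (.node (.leaf 261253135) (.leaf 1082054521)) (.leaf 890095727))))) (.node (.node (.node (.node (.node (.leaf 14467111) (.leaf 828705443)) (.leaf 153928072)) (.node (.node (.leaf 75595982) (.leaf 519570886)) (.leaf 962537934))) (.node (.node (.node (.leaf 732573068) (.leaf 858214027)) (.leaf 191857128)) (.node (.node (.leaf 919989787) (.leaf 1061449428)) (.leaf 962563286)))) (.node (.node (.node (.node (.leaf 260794234) (.leaf 376079337)) (.leaf 529345793)) (.node (.node (.leaf 523728137) (.leaf 1018392075)) (.leaf 905989574))) (.node (.node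 (.node (.leaf 379359749) (.leaf 452577975)) (.leaf 896477684)) (.node (.node (.leaf 128483671) (.leaf 1102484486)) (.leaf 803762608)))))))))) (.node (.node (.node (.node (.node (.node (.node (.node (.node (.node (.leaf 376832) (.leaf 809233880)) (.node (.leaf 642058016) (.leaf 1104319087))) (.node (.node (.leaf 792834470) (.leaf 992114011)) (.leaf 924775314))) (.node (.node (.node (.leaf 210996115) (.leaf 379372537)) (.leaf 928829000)) (.node (.node (.leaf 869773969) (.leaf 1020530498)) (.leaf 653701940)))) (.node (.node (.node (.node (.leaf 97125963) (.leaf 934506053)) (.leaf 197429293)) (.node (.node (.leaf 898231038) (.leaf 947604479)) (.leaf 763817561))) (.node (.node (.node (.leaf 570190342) (.leaf 901205052)) (.leaf 893429629)) (.node (.node (.leaf 812420665) (.leaf 1063382703)) (.leaf 294142700))))) (.node (.node (.node (.node (.node (.leaf 47088464) (.leaf 992531805)) (.leaf 194987442)) (.node (.node (.leaf 680190270) (.leaf 861784093)) (.leaf 860587313))) (.node (.node (.node (.leaf 256937376) (.leaf 710045044)) (.leaf 841682192)) (.node (.node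 (.leaf 102613267) (.leaf 1042224524)) (.leaf 1032402505)))) (.node (.node (.node (.node (.leaf 152357099) (.leaf 926059105)) (.leaf 1080629105)) (.node (.node (.leaf 538471869) (.leaf 999355730)) (.leaf 701794311))) (.node (.node (.node (.leaf 791130239) (.leaf 1081096051)) (.leaf 209601026)) (.node (.node (.leaf 260833783) (.leaf 1083962517)) (.leaf 565701890)))))) (.node (.node (.node (.node (.node (.node (.leaf 4587546) (.leaf 895677004)) (.leaf 724756938)) (.node (.node (.leaf 400577165) (.leaf 812394269)) (.leaf 542573641))) (.node (.node (.node (.leaf 852927860) (.leaf 906446276)) (.leaf 918308267)) (.node (.node (.leaf 999724424) (.leaf 1031606075)) (.leaf 934482181)))) (.node (.node (.node (.node (.leaf 119474058) (.leaf 1095759822)) (.leaf 324848012)) (.node (.node (.leaf 860728459) (.leaf 988071420)) (.leaf 1100625901))) (.node (.node (.node (.leaf 329404491) (.leaf 924955628)) (.leaf 948438587)) (.node (.node (.leaf 573687672) (.leaf 1073548076)) (.leaf 872778838))))) (.node (.node (.node (.node (.node (.leaf 72926412) (.leaf 340869996)) (.leaf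 1005712812)) (.node (.node (.leaf 593502587) (.leaf 976652504)) (.leaf 237929040))) (.node (.node (.node (.leaf 282922640) (.leaf 863833018)) (.leaf 918238428)) (.node (.node (.leaf 825446598) (.leaf 1052952537)) (.leaf 911469653)))) (.node (.node (.node (.node (.leaf 178424405) (.leaf 831138151)) (.leaf 937470963)) (.node (.node (.leaf 519525624) (.leaf 1010020911)) (.leaf 1079900012))) (.node (.node (.node (.leaf 545941398) (.leaf 955091492)) (.leaf 261195672)) (.node (.node (.leaf 198379461) (.leaf 1094292733)) (.leaf 1082226554))))))) (.node (.node (.node (.node (.node (.node (.node (.leaf 2605063) (.leaf 932251987)) (.leaf 133251424)) (.node (.node (.leaf 61194410) (.leaf 802852959)) (.leaf 796705692))) (.node (.node (.node (.leaf 224594963) (.leaf 977775060)) (.leaf 963642660)) (.node (.node (.leaf 535103077) (.leaf 1083324289)) (.leaf 884851906)))) (.node (.node (.node (.node (.leaf 109463264) (.leaf 844305365)) (.leaf 602754608)) (.node (.node (.leaf 739813068) (.leaf 982594077)) (.leaf 854651699))) (.node (.node (.node (.leaf 313094070) (.leaf 1105139723))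 (.leaf 946637133)) (.node (.node (.leaf 941535660) (.leaf 1068422924)) (.leaf 848930365))))) (.node (.node (.node (.node (.node (.leaf 10534955) (.leaf 726123668)) (.leaf 880519115)) (.node (.node (.leaf 732652860) (.leaf 1072330557)) (.leaf 936702142))) (.node (.node (.node (.leaf 946367222) (.leaf 940180798)) (.leaf 965807498)) (.node (.node (.leaf 976228963) (.leaf 1047614921)) (.leaf 853902393)))) (.node (.node (.node (.node (.leaf 164071850) (.leaf 881116760)) (.leaf 965381552)) (.node (.node (.leaf 587375553) (.leaf 1004373594)) (.leaf 614010569))) (.node (.node (.node (.leaf 51036303) (.leaf 641853726)) (.leaf 943270913)) (.node (.node (.leaf 792888260) (.leaf 1089304174)) (.leaf 887227531)))))) (.node (.node (.node (.node (.node (.node (.leaf 6324322) (.leaf 802738605)) (.leaf 527099891)) (.node (.node (.leaf 409277143) (.leaf 791537647)) (.leaf 827264860))) (.node (.node (.node (.leaf 246091027) (.leaf 906987313)) (.leaf 802653488)) (.node (.node (.leaf 535119397) (.leaf 1036965037)) (.leaf 277693111)))) (.node (.node (.node (.node (.leaf 135628861)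 (.leaf 933882004)) (.leaf 896422385)) (.node (.node (.leaf 699412402) (.leaf 1000224139)) (.leaf 928498568))) (.node (.node (.node (.leaf 730525393) (.leaf 798754089)) (.leaf 205572384)) (.node (.node (.leaf 869173556) (.leaf 1078775902)) (.leaf 1078048609))))) (.node (.node (.node (.node (.node (.leaf 596116131) (.leaf 984233262)) (.leaf 1010570696)) (.node (.node (.leaf 796011505) (.leaf 948119063)) (.leaf 896502642))) (.node (.node (.node (.leaf 292507380) (.leaf 802244074)) (.leaf 821756859)) (.node (.node (.leaf 564265752) (.leaf 1058132667)) (.leaf 621839638)))) (.node (.node (.node (.node (.leaf 190827236) (.leaf 1023170068)) (.leaf 790169019)) (.node (.node (.leaf 981898529) (.leaf 1015255966)) (.leaf 942592605))) (.node (.node (.node (.leaf 375378422) (.leaf 960533527)) (.leaf 998053246)) (.node (.node (.leaf 780887536) (.leaf 1099434970)) (.leaf 959206131)))))))) (.node (.node (.node (.node (.node (.node (.node (.node (.leaf 1769476) (.leaf 937018679)) (.leaf 901065467)) (.node (.node (.leaf 830990688) (.leaf 753248713)) (.leaf 795132910))) (.node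 (.node (.node (.leaf 28016720) (.leaf 852880543)) (.leaf 908817491)) (.node (.node (.leaf 933967059) (.leaf 1023198930)) (.leaf 720159945)))) (.node (.node (.node (.node (.leaf 102975119) (.leaf 939019691)) (.leaf 155255180)) (.node (.node (.leaf 849258545) (.leaf 987837763)) (.leaf 246202983))) (.node (.node (.node (.leaf 307859325) (.leaf 900319127)) (.leaf 961514535)) (.node (.node (.leaf 620327536) (.leaf 1065863570)) (.leaf 295846640))))) (.node (.node (.node (.node (.node (.leaf 9330716) (.leaf 851874618)) (.leaf 931370036)) (.node (.node (.leaf 975154705) (.leaf 1084045189)) (.leaf 899969345))) (.node (.node (.node (.leaf 597188990) (.leaf 413291252)) (.leaf 901533377)) (.node (.node (.leaf 639634360) (.leaf 1045057610)) (.leaf 932221410)))) (.node (.node (.node (.node (.leaf 158599511) (.leaf 791802520)) (.leaf 882585134)) (.node (.node (.leaf 261031838) (.leaf 1001804542)) (.leaf 599262672))) (.node (.node (.node (.leaf 735521030) (.leaf 931219689)) (.leaf 211255814)) (.node (.node (.leaf 1024071193) (.leaf 1086706721)) (.leaf 1031255619)))))) (.node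 (.node (.node (.node (.node (.node (.leaf 13017310) (.leaf 938512548)) (.leaf 947539851)) (.node (.node (.leaf 404492977) (.leaf 613361891)) (.leaf 911478469))) (.node (.node (.node (.leaf 240176346) (.leaf 915665019)) (.leaf 178438597)) (.node (.node (.leaf 594209837) (.leaf 1034375692)) (.leaf 276005553)))) (.node (.node (.node (.node (.leaf 195862921) (.leaf 913691752)) (.leaf 757027874)) (.node (.node (.leaf 804660556) (.leaf 991047027)) (.leaf 880035581))) (.node (.node (.node (.leaf 805548010) (.leaf 828428737)) (.leaf 967340945)) (.node (.node (.leaf 551473102) (.leaf 1076268665)) (.leaf 973942941))))) (.node (.node (.node (.node (.node (.leaf 77792543) (.leaf 943845593)) (.leaf 922865619)) (.node (.node (.leaf 438997922) (.leaf 526666636)) (.leaf 791473209))) (.node (.node (.node (.leaf 586442828) (.leaf 855535489)) (.leaf 898297170)) (.node (.node (.leaf 982152482) (.leaf 1055650450)) (.leaf 289145562)))) (.node (.node (.node (.node (.leaf 185535131) (.leaf 890114959)) (.leaf 953864685)) (.node (.node (.leaf 88834288) (.leaf 1012781354)) (.leaf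 1102755835))) (.node (.node (.node (.leaf 833455597) (.leaf 844206373)) (.leaf 876703882)) (.node (.node (.leaf 615154324) (.leaf 1096865126)) (.leaf 693423958))))))) (.node (.node (.node (.node (.node (.node (.node (.leaf 18776411) (.leaf 327086139)) (.leaf 146098336)) (.node (.node (.leaf 951396432) (.leaf 889367122)) (.leaf 977130207))) (.node (.node (.node (.leaf 559604609) (.leaf 959852758)) (.leaf 893961480)) (.node (.node (.leaf 537593362) (.leaf 1028918698)) (.leaf 583346217)))) (.node (.node (.node (.node (.leaf 114329394) (.leaf 1012905430)) (.leaf 685622567)) (.node (.node (.leaf 470881355) (.leaf 985466732)) (.leaf 748733537))) (.node (.node (.node (.leaf 45662335) (.leaf 653591695)) (.leaf 947048916)) (.node (.node (.leaf 910430528) (.leaf 1071010549)) (.leaf 878531543))))) (.node (.node (.node (.node (.node (.leaf 65209430) (.leaf 847982412)) (.leaf 573435071)) (.node (.node (.leaf 790291944) (.leaf 881144227)) (.leaf 861570293))) (.node (.node (.node (.leaf 39223403) (.leaf 404931671)) (.leaf 752635084)) (.node (.node (.leaf 1019581952) (.leaf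 1050216353)) (.leaf 928148996)))) (.node (.node (.node (.node (.leaf 171772415) (.leaf 972469165)) (.leaf 922219050)) (.node (.node (.leaf 515020009) (.leaf 1007276969)) (.leaf 258310794))) (.node (.node (.node (.leaf 360829316) (.leaf 1104697351)) (.leaf 940470855)) (.node (.node (.leaf 796611308) (.leaf 1091916328)) (.leaf 312918846)))))) (.node (.node (.node (.node (.node (.node (.leaf 7503901) (.leaf 846934162)) (.leaf 938954350)) (.node (.node (.leaf 413750008) (.leaf 921634706)) (.leaf 967823659))) (.node (.node (.node (.leaf 250350932) (.leaf 936006628)) (.leaf 182010317)) (.node (.node (.leaf 551321971) (.leaf 1039627893)) (.leaf 614755822)))) (.node (.node (.node (.node (.leaf 194635927) (.leaf 902419241)) (.leaf 603112066)) (.node (.node (.leaf 776842572) (.leaf 996463098)) (.leaf 709247723))) (.node (.node (.node (.leaf 342970586) (.leaf 904719699)) (.leaf 934694471)) (.node (.node (.leaf 118161730) (.leaf 1081420326)) (.leaf 567494179))))) (.node (.node (.node (.node (.node (.leaf 90015215) (.leaf 782504618)) (.leaf 525895780)) (.node (.node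 (.leaf 861596853) (.leaf 958811774)) (.leaf 920605817))) (.node (.node (.node (.leaf 297078567) (.leaf 1071036213)) (.leaf 986486075)) (.node (.node (.leaf 726992255) (.leaf 1060738778)) (.leaf 292733670)))) (.node (.node (.node (.node (.leaf 26673228) (.leaf 1054766800)) (.leaf 956509827)) (.node (.node (.leaf 947089875) (.leaf 1088493472)) (.leaf 616181218))) (.node (.node (.node (.leaf 378458625) (.leaf 913323179)) (.leaf 262212597)) (.node (.node (.leaf 599231867) (.leaf 1101876492)) (.leaf 840715405))))))))) (.node (.node (.node (.node (.node (.node (.node (.node (.node (.leaf 1064962) (.leaf 889930717)) (.leaf 931742639)) (.node (.node (.leaf 912419287) (.leaf 922045360)) (.leaf 223953442))) (.node (.node (.node (.leaf 27656271) (.leaf 379962363)) (.leaf 983397674)) (.node (.node (.leaf 915345636) (.leaf 1021826394)) (.leaf 951494692)))) (.node (.node (.node (.node (.leaf 100566639) (.leaf 832777974)) (.leaf 957483048)) (.node (.node (.leaf 802042504) (.leaf 978644164)) (.leaf 833832082))) (.node (.node (.node (.leaf 729310504) (.leaf 1036465761))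 (.leaf 892923211)) (.node (.node (.leaf 381227543) (.leaf 1064547032)) (.leaf 692012935))))) (.node (.node (.node (.node (.node (.leaf 8814733) (.leaf 845034002)) (.leaf 889694320)) (.node (.node (.leaf 420205362) (.leaf 1063679751)) (.leaf 840740853))) (.node (.node (.node (.leaf 259329472) (.leaf 400589893)) (.leaf 624315021)) (.node (.node (.leaf 960762007) (.leaf 1043613716)) (.leaf 671843612)))) (.node (.node (.node (.node (.leaf 155486493) (.leaf 936726486)) (.leaf 162612006)) (.node (.node (.leaf 83378404) (.leaf 1021965838)) (.leaf 899810230))) (.node (.node (.node (.leaf 348885275) (.leaf 565743495)) (.leaf 985232692)) (.node (.node (.leaf 263031870) (.leaf 1085345405)) (.leaf 565571488)))))) (.node (.node (.node (.node (.node (.node (.leaf 26935805) (.leaf 922486013)) (.leaf 646178679)) (.node (.node (.leaf 755625630) (.leaf 939632426)) (.leaf 1000764814))) (.node (.node (.node (.leaf 237325500) (.leaf 861916238)) (.leaf 177816002)) (.node (.node (.leaf 1002182040) (.leaf 1033055729)) (.leaf 911575296)))) (.node (.node (.node (.node (.leaf 123520961)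 (.leaf 928664334)) (.leaf 946670373)) (.node (.node (.leaf 799322084) (.leaf 989556892)) (.leaf 776965590))) (.node (.node (.node (.leaf 332664950) (.leaf 424182936)) (.leaf 568141544)) (.node (.node (.leaf 854950528) (.leaf 1074956642)) (.leaf 972222959))))) (.node (.node (.node (.node (.node (.leaf 75547896) (.leaf 341492590)) (.leaf 584762414)) (.node (.node (.leaf 798289026) (.leaf 973441647)) (.leaf 532579081))) (.node (.node (.node (.leaf 929933546) (.leaf 947095255)) (.leaf 451294195)) (.node (.node (.leaf 964743954) (.leaf 1054339026)) (.leaf 958985123)))) (.node (.node (.node (.node (.leaf 181996149) (.leaf 999691655)) (.leaf 924020383)) (.node (.node (.leaf 88473838) (.leaf 1011478264)) (.leaf 1017976310))) (.node (.node (.node (.leaf 903785527) (.leaf 446711020)) (.leaf 218415634)) (.node (.node (.leaf 195086433) (.leaf 1095571181)) (.leaf 526566816))))))) (.node (.node (.node (.node (.node (.node (.node (.leaf 16220444) (.leaf 936889606)) (.leaf 197470469)) (.node (.node (.leaf 61538475) (.leaf 834333789)) (.leaf 594241109))) (.node (.node (.node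 (.leaf 227167288) (.leaf 766962128)) (.leaf 1050506934)) (.node (.node (.leaf 561562396) (.leaf 1027461580)) (.leaf 698684243)))) (.node (.node (.node (.node (.leaf 112183046) (.leaf 844875312)) (.leaf 197387682)) (.node (.node (.leaf 804712563) (.leaf 983977024)) (.leaf 758761432))) (.node (.node (.node (.leaf 798991715) (.leaf 972491745)) (.leaf 199262705)) (.node (.node (.leaf 571811984) (.leaf 1069729987)) (.leaf 298566394))))) (.node (.node (.node (.node (.node (.leaf 17621309) (.leaf 882328470)) (.leaf 914992340)) (.node (.node (.leaf 815082951) (.leaf 1036990053)) (.leaf 958090201))) (.node (.node (.node (.leaf 275123786) (.leaf 820056841)) (.leaf 1030878785)) (.node (.node (.leaf 105480475) (.leaf 1049056812)) (.leaf 717893084)))) (.node (.node (.node (.node (.leaf 752297651) (.leaf 834048101)) (.leaf 937234392)) (.node (.node (.leaf 594357847) (.leaf 1061500666)) (.leaf 756171844))) (.node (.node (.node (.leaf 886123706) (.leaf 972485045)) (.leaf 881029853)) (.node (.node (.leaf 956068928) (.leaf 1090538050)) (.leaf 617285229)))))) (.node (.node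 (.node (.node (.node (.node (.leaf 40010439) (.leaf 848103018)) (.leaf 883225636)) (.node (.node (.leaf 908522153) (.leaf 970680540)) (.leaf 262966381))) (.node (.node (.node (.leaf 750280931) (.leaf 1092712379)) (.leaf 873256099)) (.node (.node (.leaf 617312173) (.leaf 1038357654)) (.leaf 278790842)))) (.node (.node (.node (.node (.leaf 19644471) (.leaf 819310374)) (.leaf 875318280)) (.node (.node (.leaf 906753085) (.leaf 995086607)) (.leaf 545129426))) (.node (.node (.node (.leaf 341119177) (.leaf 838103514)) (.leaf 995276142)) (.node (.node (.leaf 932556989) (.leaf 1080069239)) (.leaf 1008137658))))) (.node (.node (.node (.node (.node (.leaf 87918024) (.leaf 920146631)) (.leaf 594405215)) (.node (.node (.leaf 447321043) (.leaf 1016534509)) (.leaf 803293503))) (.node (.node (.node (.leaf 294457100) (.leaf 412779634)) (.leaf 1039423091)) (.node (.node (.leaf 530956866) (.leaf 1095595981)) (.leaf 647612014)))) (.node (.node (.node (.node (.leaf 193268503) (.leaf 953887189)) (.leaf 865479971)) (.node (.node (.leaf 833479637) (.leaf 1016517869)) (.leaf 910485111)))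 (.node (.node (.node (.leaf 586688319) (.leaf 920037116)) (.leaf 945048092)) (.node (.node (.leaf 747728170) (.leaf 1100598597)) (.leaf 851816618)))))))) (.node (.node (.node (.node (.node (.node (.node (.node (.leaf 7463029) (.leaf 321831736)) (.leaf 896496773)) (.node (.node (.leaf 818115135) (.leaf 461260057)) (.leaf 972893786))) (.node (.node (.node (.leaf 222481399) (.leaf 982603045)) (.leaf 1057699554)) (.node (.node (.leaf 719159649) (.leaf 1024674202)) (.leaf 271139490)))) (.node (.node (.node (.node (.leaf 106350268) (.leaf 921711738)) (.leaf 155500941)) (.node (.node (.leaf 798634225) (.leaf 981288682)) (.leaf 846344048))) (.node (.node (.node (.leaf 44826746) (.leaf 723670202)) (.leaf 572796776)) (.node (.node (.leaf 812405829) (.leaf 1067231802)) (.leaf 914679297))))) (.node (.node (.node (.node (.node (.leaf 13582571) (.leaf 973950805)) (.leaf 854757686)) (.node (.node (.leaf 634741424) (.leaf 489178478)) (.leaf 904088239))) (.node (.node (.node (.leaf 268733958) (.leaf 863047694)) (.leaf 803598338)) (.node (.node (.leaf 104513817) (.leaf 1046328535))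 (.leaf 964891691)))) (.node (.node (.node (.node (.leaf 161548676) (.leaf 1014937059)) (.leaf 320475146)) (.node (.node (.leaf 506500304) (.leaf 1003015392)) (.leaf 753299111))) (.node (.node (.node (.leaf 533742770) (.leaf 700663219)) (.leaf 525297827)) (.node (.node (.leaf 769699179) (.leaf 1097775067)) (.leaf 559844434)))))) (.node (.node (.node (.node (.node (.node (.leaf 6152292) (.leaf 804901688)) (.leaf 703681108)) (.node (.node (.leaf 66142390) (.leaf 476972358)) (.leaf 805106733))) (.node (.node (.node (.leaf 549350299) (.leaf 942616037)) (.leaf 643158419)) (.node (.node (.leaf 881218762) (.leaf 1035842561)) (.leaf 928206378)))) (.node (.node (.node (.node (.leaf 131483670) (.leaf 355697572)) (.leaf 802263001)) (.node (.node (.leaf 629486278) (.leaf 992555141)) (.leaf 968036785))) (.node (.node (.node (.leaf 726311101) (.leaf 948841034)) (.leaf 851914995)) (.node (.node (.leaf 1043216010) (.leaf 1077365076)) (.leaf 848008201))))) (.node (.node (.node (.node (.node (.leaf 12836980) (.leaf 343671673)) (.leaf 262375323)) (.node (.node (.leaf 74367177)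 (.leaf 613666355)) (.leaf 240681558))) (.node (.node (.node (.leaf 289672926) (.leaf 880987053)) (.leaf 872073086)) (.node (.node (.leaf 747842859) (.leaf 1056920519)) (.leaf 1047991975)))) (.node (.node (.node (.node (.leaf 828465629) (.leaf 938150814)) (.leaf 1014478304)) (.node (.node (.leaf 685782103) (.leaf 1014066326)) (.leaf 959524317))) (.node (.node (.node (.leaf 889958413) (.leaf 878545388)) (.leaf 634670559)) (.node (.node (.leaf 327552945) (.leaf 1098058716)) (.leaf 803727658))))))) (.node (.node (.node (.node (.node (.node (.node (.leaf 21725600) (.leaf 972509516)) (.leaf 135643493)) (.node (.node (.leaf 63488175) (.leaf 906724717)) (.leaf 955601347))) (.node (.node (.node (.leaf 795436932) (.leaf 755198531)) (.leaf 944392745)) (.node (.node (.leaf 848973605) (.leaf 1030272123)) (.leaf 613764140)))) (.node (.node (.node (.node (.leaf 17596589) (.leaf 1062532864)) (.leaf 936473713)) (.node (.node (.leaf 78872792) (.leaf 986629623)) (.leaf 934653287))) (.node (.node (.node (.leaf 322981930) (.leaf 761515875)) (.leaf 1013208535)) (.node (.node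 (.leaf 974173280) (.leaf 1072305317)) (.leaf 952463468))))) (.node (.node (.node (.node (.node (.leaf 726287197) (.leaf 932562797)) (.leaf 147702140)) (.node (.node (.leaf 907209302) (.leaf 893128721)) (.leaf 567349074))) (.node (.node (.node (.leaf 39583852) (.leaf 920700010)) (.leaf 828418001)) (.node (.node (.leaf 940012023) (.leaf 1051618716)) (.leaf 991221078)))) (.node (.node (.node (.node (.leaf 175917614) (.leaf 807039490)) (.leaf 771064510)) (.node (.node (.leaf 517100786) (.leaf 1073264451)) (.leaf 538445189))) (.node (.node (.node (.leaf 52773011) (.leaf 1099757544)) (.leaf 1097930716)) (.node (.node (.leaf 688819382) (.leaf 1093078688)) (.leaf 861701497)))))) (.node (.node (.node (.node (.node (.node (.leaf 7782422) (.leaf 836142003)) (.leaf 995439983)) (.node (.node (.leaf 544825876) (.leaf 946588482)) (.leaf 947121362))) (.node (.node (.node (.leaf 36290656) (.leaf 973247559)) (.leaf 530485072)) (.node (.node (.leaf 660550470) (.leaf 1040863632)) (.leaf 1085372301)))) (.node (.node (.node (.node (.leaf 147966143) (.leaf 1100167146)) (.leaf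 923939570)) (.node (.node (.leaf 714846592) (.leaf 997813804)) (.leaf 598363614))) (.node (.node (.node (.leaf 48922762) (.leaf 963933225)) (.leaf 208323072)) (.node (.node (.leaf 893438725) (.leaf 1082766759)) (.leaf 307872533))))) (.node (.node (.node (.node (.node (.leaf 92866075) (.leaf 1013790171)) (.leaf 197191939)) (.node (.node (.leaf 922513485) (.leaf 1094318021)) (.leaf 1019229693))) (.node (.node (.node (.leaf 299142966) (.leaf 1094170564)) (.leaf 961784216)) (.node (.node (.leaf 879955285) (.leaf 1062130918)) (.leaf 922921795)))) (.node (.node (.node (.node (.leaf 26951757) (.leaf 711001098)) (.leaf 1074779980)) (.node (.node (.leaf 562630489) (.leaf 1019145469)) (.leaf 955109169))) (.node (.node (.node (.leaf 380129806) (.leaf 928884422)) (.leaf 933530648)) (.node (.node (.leaf 564717392) (.leaf 1103074314)) (.leaf 802719788)))))))))))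

noncomputable def edgeA7 : Arr ℕ :=
  (.node (.node (.node (.node (.node (.node (.node (.node (.node (.node (.node (.leaf 483334) (.leaf 1024292379)) (.node (.leaf 145467546) (.leaf 1103598990))) (.node (.node (.leaf 683434483) (.leaf 1074263881)) (.leaf 943279378))) (.node (.node (.node (.leaf 207563640) (.leaf 879634170)) (.leaf 171958709)) (.node (.node (.leaf 780552865) (.leaf 1019906088)) (.leaf 770289561)))) (.node (.node (.node (.node (.leaf 563144112) (.leaf 730419258)) (.leaf 761892656)) (.node (.node (.leaf 559279186) (.leaf 918832874)) (.leaf 317206489))) (.node (.node (.node (.leaf 237030584) (.leaf 1064367884)) (.leaf 858556492)) (.node (.node (.leaf 111796523) (.leaf 1062654424)) (.leaf 907334261))))) (.node (.node (.node (.node (.node (.leaf 46007098) (.leaf 333865808)) (.leaf 969485045)) (.node (.node (.leaf 71336817) (.leaf 921039584)) (.leaf 232718911))) (.node (.node (.node (.leaf 750546237) (.leaf 931842059)) (.leaf 1093130174)) (.node (.node (.leaf 319672318) (.leaf 1041450941)) (.leaf 717272318)))) (.node (.node (.node (.node (.leaf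 150374612) (.leaf 799944713)) (.leaf 853896826)) (.node (.node (.leaf 259313087) (.leaf 998614854)) (.leaf 1076492119))) (.node (.node (.node (.leaf 345567469) (.leaf 888162495)) (.leaf 208906232)) (.node (.node (.leaf 687215706) (.leaf 1083395727)) (.leaf 646605294)))))) (.node (.node (.node (.node (.node (.node (.leaf 22045090) (.leaf 884565187)) (.leaf 208521307)) (.node (.node (.leaf 771158604) (.leaf 955975289)) (.leaf 916902706))) (.node (.node (.node (.leaf 233524370) (.leaf 1022506513)) (.leaf 972312682)) (.node (.node (.leaf 96986696) (.leaf 1030902215)) (.leaf 754323044)))) (.node (.node (.node (.node (.leaf 103130768) (.leaf 868389341)) (.leaf 325316534)) (.node (.node (.leaf 618129051) (.leaf 987441826)) (.leaf 752190102))) (.node (.node (.node (.leaf 744219241) (.leaf 674121326)) (.leaf 765513286)) (.node (.node (.leaf 554243294) (.leaf 1072892680)) (.leaf 571107429))))) (.node (.node (.node (.node (.node (.leaf 70714541) (.leaf 1078572900)) (.leaf 642724241)) (.node (.node (.leaf 595618088) (.leaf 500763418)) (.leaf 237666900))) (.node (.node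 (.node (.leaf 39764194) (.leaf 905285142)) (.leaf 850193106)) (.node (.node (.leaf 570254894) (.leaf 1052201596)) (.leaf 578044700)))) (.node (.node (.node (.node (.leaf 23748676) (.leaf 371000398)) (.leaf 300461884)) (.node (.node (.leaf 88049097) (.leaf 1009239808)) (.leaf 259739074))) (.node (.node (.node (.leaf 53092501) (.leaf 1021589003)) (.leaf 217375525)) (.node (.node (.leaf 1052038848) (.leaf 1093684292)) (.leaf 749022479))))))) (.node (.node (.node (.node (.node (.node (.node (.leaf 11624636) (.leaf 642584287)) (.leaf 702960770)) (.node (.node (.leaf 60883115) (.leaf 702066390)) (.leaf 1035220570))) (.node (.node (.node (.leaf 28450897) (.leaf 691557583)) (.leaf 739099832)) (.node (.node (.leaf 994973037) (.leaf 1025287908)) (.leaf 696308313)))) (.node (.node (.node (.node (.leaf 107382474) (.leaf 733693170)) (.leaf 974352925)) (.node (.node (.leaf 77848789) (.leaf 982011470)) (.leaf 1033844306))) (.node (.node (.node (.leaf 712746768) (.leaf 1043789454)) (.leaf 194233778)) (.node (.node (.leaf 753028335) (.leaf 1067799318)) (.leaf 568283659)))))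 (.node (.node (.node (.node (.node (.leaf 57385971) (.leaf 880414399)) (.leaf 760497337)) (.node (.node (.leaf 69787839) (.leaf 489891184)) (.leaf 875530604))) (.node (.node (.node (.leaf 270831130) (.leaf 402482253)) (.leaf 780535320)) (.node (.node (.leaf 1014838755) (.leaf 1046959206)) (.leaf 969888722)))) (.node (.node (.node (.node (.leaf 36627079) (.leaf 851381002)) (.leaf 163799460)) (.node (.node (.leaf 84746471) (.leaf 1003836142)) (.leaf 718644828))) (.node (.node (.node (.leaf 50791001) (.leaf 703238726)) (.leaf 212658083)) (.node (.node (.leaf 139380803) (.leaf 1088540038)) (.leaf 635220809)))))) (.node (.node (.node (.node (.node (.node (.leaf 36364926) (.leaf 331023312)) (.leaf 1022129679)) (.node (.node (.leaf 566258740) (.leaf 904614503)) (.leaf 933228732))) (.node (.node (.node (.leaf 34488410) (.leaf 670289402)) (.leaf 995652977)) (.node (.node (.leaf 920300156) (.leaf 1036472405)) (.leaf 1095972816)))) (.node (.node (.node (.node (.leaf 134383658) (.leaf 1028585012)) (.leaf 760321105)) (.node (.node (.leaf 910094450) (.leaf 993170404))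 (.leaf 252185378))) (.node (.node (.node (.leaf 793669774) (.leaf 816793203)) (.leaf 574744145)) (.node (.node (.leaf 606234928) (.leaf 1090123690)) (.leaf 304792338))))) (.node (.node (.node (.node (.node (.leaf 81847667) (.leaf 344302459)) (.leaf 1045845658)) (.node (.node (.leaf 74571978) (.leaf 918742979)) (.leaf 1076180821))) (.node (.node (.node (.leaf 580904324) (.leaf 410903658)) (.leaf 1025275424)) (.node (.node (.leaf 109568293) (.leaf 1057549688)) (.leaf 581652324)))) (.node (.node (.node (.node (.leaf 189205192) (.leaf 373195898)) (.leaf 768553169)) (.node (.node (.leaf 89391465) (.leaf 1101912053)) (.leaf 614400838))) (.node (.node (.node (.leaf 820749088) (.leaf 856073997)) (.leaf 600851467)) (.node (.node (.leaf 692990352) (.leaf 1098780105)) (.leaf 910708482)))))))) (.node (.node (.node (.node (.node (.node (.node (.node (.leaf 5718112) (.leaf 877046946)) (.leaf 131442607)) (.node (.node (.leaf 59859110) (.leaf 660623378)) (.leaf 747646248))) (.node (.node (.node (.leaf 217959369) (.leaf 1063040771)) (.leaf 794399298)) (.node (.node (.leaf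 993629541) (.leaf 1022480975)) (.leaf 975160669)))) (.node (.node (.node (.node (.leaf 101795453) (.leaf 348341132)) (.leaf 215919544)) (.node (.node (.leaf 778135062) (.leaf 1038251629)) (.leaf 764103613))) (.node (.node (.node (.leaf 306351983) (.leaf 950896724)) (.leaf 892793675)) (.node (.node (.leaf 563597153) (.leaf 1065003142)) (.leaf 571395285))))) (.node (.node (.node (.node (.node (.leaf 51110822) (.leaf 849913738)) (.leaf 144442755)) (.node (.node (.leaf 421942075) (.leaf 487232658)) (.leaf 997586300))) (.node (.node (.node (.leaf 260459981) (.leaf 400909382)) (.leaf 184328659)) (.node (.node (.leaf 712828492) (.leaf 1044435453)) (.leaf 734769465)))) (.node (.node (.node (.node (.leaf 598000740) (.leaf 642616122)) (.leaf 1044551314)) (.node (.node (.leaf 541224849) (.leaf 1001133055)) (.leaf 256041603))) (.node (.node (.node (.leaf 735601365) (.leaf 689031462)) (.leaf 210921427)) (.node (.node (.leaf 119980842) (.leaf 1086002335)) (.leaf 871549423)))))) (.node (.node (.node (.node (.node (.node (.leaf 28426784) (.leaf 329910195)) (.leaf 538250332))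 (.node (.node (.leaf 676030708) (.leaf 812094169)) (.leaf 1089042340))) (.node (.node (.node (.leaf 238128327) (.leaf 711373980)) (.leaf 578956422)) (.node (.node (.leaf 830744937) (.leaf 1033652657)) (.leaf 836547516)))) (.node (.node (.node (.node (.leaf 590309099) (.leaf 354010014)) (.leaf 1044313745)) (.node (.node (.leaf 704720509) (.leaf 990336028)) (.leaf 250012276))) (.node (.node (.node (.leaf 334008452) (.leaf 1056503515)) (.leaf 203819008)) (.node (.node (.leaf 115859770) (.leaf 1075466851)) (.leaf 803514229))))) (.node (.node (.node (.node (.node (.leaf 76498179) (.leaf 342290438)) (.leaf 602194347)) (.node (.node (.leaf 73367764) (.leaf 978531597)) (.leaf 815434424))) (.node (.node (.node (.leaf 40427630) (.leaf 408888419)) (.leaf 866489419)) (.node (.node (.leaf 108126498) (.leaf 1055036989)) (.leaf 407794377)))) (.node (.node (.node (.node (.leaf 183224968) (.leaf 989263179)) (.leaf 167575982)) (.node (.node (.leaf 522441986) (.leaf 1012192291)) (.leaf 571590489))) (.node (.node (.node (.leaf 243297526) (.leaf 782200989)) (.leaf 741459130))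 (.node (.node (.leaf 193809181) (.leaf 1096109836)) (.leaf 696173809))))))) (.node (.node (.node (.node (.node (.node (.node (.leaf 16425248) (.leaf 325657407)) (.leaf 515896556)) (.node (.node (.leaf 64357447) (.leaf 637996426)) (.leaf 904384911))) (.node (.node (.node (.leaf 228150338) (.leaf 788661498)) (.leaf 924356155)) (.node (.node (.leaf 899519158) (.leaf 1028182474)) (.leaf 1067284254)))) (.node (.node (.node (.node (.leaf 97805904) (.leaf 1004942760)) (.leaf 980055318)) (.node (.node (.leaf 469619780) (.leaf 984713701)) (.leaf 247898731))) (.node (.node (.node (.leaf 739328874) (.leaf 606882051)) (.leaf 558679500)) (.node (.node (.leaf 563499449) (.leaf 1070534584)) (.leaf 298896584))))) (.node (.node (.node (.node (.node (.leaf 50750368) (.leaf 939395620)) (.leaf 529313623)) (.node (.node (.leaf 430166895) (.leaf 694487583)) (.leaf 1005073833))) (.node (.node (.node (.leaf 39067817) (.leaf 905941994)) (.leaf 815450717)) (.node (.node (.leaf 105809232) (.leaf 1049700806)) (.leaf 1044764307)))) (.node (.node (.node (.node (.leaf 169093601) (.leaf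 967903288)) (.leaf 164487590)) (.node (.node (.leaf 216288136) (.leaf 1006636252)) (.leaf 258050484))) (.node (.node (.node (.leaf 67282033) (.leaf 964391314)) (.leaf 215081484)) (.node (.node (.leaf 149111333) (.leaf 1091210709)) (.leaf 1064302347)))))) (.node (.node (.node (.node (.node (.node (.leaf 41386728) (.leaf 332276556)) (.leaf 945836617)) (.node (.node (.leaf 93791780) (.leaf 1055823574)) (.leaf 538215919))) (.node (.node (.node (.leaf 752033985) (.leaf 905833022)) (.leaf 181494910)) (.node (.node (.leaf 100892942) (.leaf 1038962344)) (.leaf 887131430)))) (.node (.node (.node (.node (.leaf 89728487) (.leaf 976532677)) (.leaf 159713009)) (.node (.node (.leaf 166455752) (.leaf 1098094557)) (.leaf 524354983))) (.node (.node (.node (.leaf 51692100) (.leaf 847334244)) (.leaf 206882848)) (.node (.node (.leaf 789251658) (.leaf 1091065776)) (.leaf 717079686))))) (.node (.node (.node (.node (.node (.leaf 88884695) (.leaf 425505621)) (.leaf 153208208)) (.node (.node (.leaf 663155671) (.leaf 809502231)) (.leaf 242869737))) (.node (.node (.node (.leaf 281538183)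 (.leaf 755717367)) (.leaf 355971425)) (.node (.node (.leaf 166062532) (.leaf 1060115254)) (.leaf 585846816)))) (.node (.node (.node (.node (.leaf 26558564) (.leaf 896320988)) (.leaf 877111987)) (.node (.node (.leaf 587032175) (.leaf 1017057622)) (.leaf 267117208))) (.node (.node (.node (.leaf 586870658) (.leaf 978334988)) (.leaf 221891356)) (.node (.node (.leaf 962884100) (.leaf 1101271856)) (.leaf 1089443750))))))))) (.node (.node (.node (.node (.node (.node (.node (.node (.node (.leaf 598017) (.leaf 320316212)) (.node (.leaf 590990835) (.leaf 1104990810))) (.node (.node (.leaf 545582005) (.leaf 928034486)) (.leaf 886452352))) (.node (.node (.node (.leaf 212994981) (.leaf 859849845)) (.leaf 300289851)) (.node (.node (.leaf 600878049) (.leaf 1021258573)) (.leaf 269109957)))) (.node (.node (.node (.node (.leaf 15343658) (.leaf 1066268440)) (.leaf 694013689)) (.node (.node (.leaf 776660500) (.leaf 1058182885)) (.leaf 848694052))) (.node (.node (.node (.leaf 59597837) (.leaf 820007041)) (.leaf 927646535)) (.node (.node (.leaf 711733926) (.leaf 1063965034))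 (.leaf 575374295))))) (.node (.node (.node (.node (.node (.leaf 48595829) (.leaf 334390099)) (.leaf 786572895)) (.node (.node (.leaf 339701950) (.leaf 1094571975)) (.leaf 780043909))) (.node (.node (.node (.leaf 36913573) (.leaf 400155714)) (.leaf 834851590)) (.node (.node (.leaf 743297830) (.leaf 1042884436)) (.leaf 852896927)))) (.node (.node (.node (.node (.leaf 154175742) (.leaf 654266298)) (.leaf 1058338534)) (.node (.node (.leaf 83181797) (.leaf 999919954)) (.leaf 699454608))) (.node (.node (.node (.leaf 49537163) (.leaf 881111141)) (.leaf 637244520)) (.node (.node (.leaf 147761342) (.leaf 1084500428)) (.leaf 540739763)))))) (.node (.node (.node (.node (.node (.node (.leaf 25125327) (.leaf 856675341)) (.leaf 527174547)) (.node (.node (.leaf 269004296) (.leaf 806244499)) (.leaf 1100232683))) (.node (.node (.node (.leaf 159525230) (.leaf 1077065563)) (.leaf 676825170)) (.node (.node (.leaf 97026309) (.leaf 1032245917)) (.leaf 958042622)))) (.node (.node (.node (.node (.leaf 121440166) (.leaf 941847679)) (.leaf 618353760)) (.node (.node (.leaf 610919525)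 (.leaf 988792390)) (.leaf 751764515))) (.node (.node (.node (.leaf 178268754) (.leaf 635245336)) (.leaf 567240231)) (.node (.node (.leaf 585106144) (.leaf 1074235941)) (.leaf 818926213))))) (.node (.node (.node (.node (.node (.leaf 62645300) (.leaf 868446338)) (.leaf 149661756)) (.node (.node (.leaf 530066447) (.leaf 693335153)) (.leaf 802164710))) (.node (.node (.node (.leaf 280489596) (.leaf 407766113)) (.leaf 189374945)) (.node (.node (.leaf 353988945) (.leaf 1053550555)) (.leaf 288531160)))) (.node (.node (.node (.node (.leaf 57902073) (.leaf 754462024)) (.leaf 166544927)) (.node (.node (.leaf 87957741) (.leaf 1010617054)) (.leaf 828630513))) (.node (.node (.node (.leaf 366907824) (.leaf 782109547)) (.leaf 621364498)) (.node (.node (.leaf 715829780) (.leaf 1094865168)) (.leaf 1011971536))))))) (.node (.node (.node (.node (.node (.node (.node (.leaf 14991619) (.leaf 757183628)) (.leaf 987542850)) (.node (.node (.leaf 868790750) (.leaf 1079621482)) (.leaf 226330769))) (.node (.node (.node (.leaf 226118695) (.leaf 1001878934)) (.leaf 175489614)) (.node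 (.node (.leaf 642273191) (.leaf 1026779086)) (.leaf 866079801)))) (.node (.node (.node (.node (.leaf 16744496) (.leaf 848390784)) (.leaf 606539220)) (.node (.node (.leaf 637315994) (.leaf 983224866)) (.leaf 975529807))) (.node (.node (.node (.leaf 316248015) (.leaf 674197012)) (.leaf 978859279)) (.node (.node (.leaf 993211745) (.leaf 1102297080)) (.leaf 877154069))))) (.node (.node (.node (.node (.node (.leaf 60302360) (.leaf 912166586)) (.leaf 898648344)) (.node (.node (.leaf 427799395) (.leaf 974876857)) (.leaf 235799114))) (.node (.node (.node (.leaf 537454092) (.leaf 704646739)) (.leaf 894283958)) (.node (.node (.leaf 958452611) (.leaf 1048348925)) (.leaf 1099347941)))) (.node (.node (.node (.node (.leaf 166234567) (.leaf 676424357)) (.leaf 1083299713)) (.node (.node (.leaf 85156072) (.leaf 1031804486)) (.leaf 257452578))) (.node (.node (.node (.leaf 176392754) (.leaf 720889306)) (.leaf 689509464)) (.node (.node (.leaf 208219004) (.leaf 1089998548)) (.leaf 995906930)))))) (.node (.node (.node (.node (.node (.node (.leaf 38453922) (.leaf 1060968182))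 (.leaf 1030075964)) (.node (.node (.leaf 767144660) (.leaf 1030780481)) (.leaf 577245551))) (.node (.node (.node (.leaf 744580438) (.leaf 818795507)) (.leaf 345174249)) (.node (.node (.leaf 99861256) (.leaf 1037651756)) (.leaf 945083034)))) (.node (.node (.node (.node (.leaf 138020947) (.leaf 851062901)) (.leaf 830718836)) (.node (.node (.leaf 916009505) (.leaf 994284497)) (.leaf 759329652))) (.node (.node (.node (.leaf 830826858) (.leaf 902213387)) (.leaf 778831119)) (.node (.node (.leaf 1045878427) (.leaf 1079431836)) (.leaf 817450822))))) (.node (.node (.node (.node (.node (.leaf 85706161) (.leaf 782566633)) (.leaf 931091195)) (.node (.node (.leaf 445223874) (.leaf 911608189)) (.leaf 241656410))) (.node (.node (.node (.leaf 41410673) (.leaf 827074376)) (.leaf 1063302917)) (.node (.node (.leaf 110141734) (.leaf 1058804145)) (.leaf 897094134)))) (.node (.node (.node (.node (.leaf 824599123) (.leaf 825402997)) (.leaf 873901612)) (.node (.node (.leaf 857573696) (.leaf 1015927336)) (.leaf 588810104))) (.node (.node (.node (.leaf 56213783) (.leaf 761959421))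 (.leaf 664267156)) (.node (.node (.leaf 126435669) (.leaf 1099992531)) (.leaf 788859670)))))))) (.node (.node (.node (.node (.node (.node (.node (.node (.leaf 8896655) (.leaf 778798456)) (.leaf 661390733)) (.node (.node (.leaf 624361987) (.leaf 641411283)) (.leaf 764752752))) (.node (.node (.node (.leaf 600170660) (.leaf 762900837)) (.leaf 988558663)) (.node (.node (.leaf 984036653) (.leaf 1023955156)) (.leaf 620235608)))) (.node (.node (.node (.node (.leaf 104580766) (.leaf 737626519)) (.leaf 899026972)) (.node (.node (.leaf 622765965) (.leaf 980504145)) (.leaf 830173842))) (.node (.node (.node (.leaf 98240084) (.leaf 416670847)) (.leaf 225594398)) (.node (.node (.leaf 658123312) (.leaf 1066560571)) (.leaf 866153721))))) (.node (.node (.node (.node (.node (.leaf 53797835) (.leaf 994309481)) (.leaf 145285493)) (.node (.node (.leaf 69312775) (.leaf 546319256)) (.leaf 847135707))) (.node (.node (.node (.leaf 267619833) (.leaf 808367141)) (.leaf 185303813)) (.node (.node (.leaf 104138101) (.leaf 1045604199)) (.leaf 897913467)))) (.node (.node (.node (.node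 (.leaf 159582576) (.leaf 363357117)) (.leaf 657126213)) (.node (.node (.leaf 504763596) (.leaf 1002459125)) (.leaf 1103509504))) (.node (.node (.node (.leaf 50028685) (.leaf 878833011)) (.leaf 211773360)) (.node (.node (.leaf 316854232) (.leaf 1087359850)) (.leaf 827084589)))))) (.node (.node (.node (.node (.node (.node (.leaf 5480464) (.leaf 826658684)) (.leaf 588123522)) (.node (.node (.leaf 709373204) (.leaf 878407478)) (.leaf 850022545))) (.node (.node (.node (.leaf 109733602) (.leaf 907357953)) (.leaf 623559990)) (.node (.node (.leaf 847809156) (.leaf 1035062405)) (.leaf 612004934)))) (.node (.node (.node (.node (.leaf 129976321) (.leaf 755418376)) (.leaf 158679446)) (.node (.node (.leaf 482972792) (.leaf 991710243)) (.leaf 523834584))) (.node (.node (.node (.leaf 47374470) (.leaf 982545701)) (.leaf 975946255)) (.node (.node (.leaf 116220219) (.leaf 1076841655)) (.leaf 934523795))))) (.node (.node (.node (.node (.node (.leaf 609936027) (.leaf 960800397)) (.leaf 888525683)) (.node (.node (.leaf 700342621) (.leaf 964416461)) (.leaf 240157617))) (.node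 (.node (.node (.leaf 605045409) (.leaf 924552245)) (.leaf 898452200)) (.node (.node (.leaf 1024144922) (.leaf 1056331355)) (.leaf 888114080)))) (.node (.node (.node (.node (.leaf 25477193) (.leaf 989041994)) (.leaf 921457790)) (.node (.node (.leaf 782250539) (.leaf 1013405079)) (.leaf 1017411059))) (.node (.node (.node (.leaf 822109701) (.leaf 696349275)) (.leaf 666726410)) (.node (.node (.leaf 153659638) (.leaf 1097356124)) (.leaf 767971652))))))) (.node (.node (.node (.node (.node (.node (.node (.leaf 20496770) (.leaf 741262519)) (.leaf 601336410)) (.node (.node (.leaf 800801657) (.leaf 636159317)) (.leaf 315076551))) (.node (.node (.node (.leaf 539280591) (.leaf 624405387)) (.leaf 999380357)) (.node (.node (.leaf 563251405) (.leaf 1029597833)) (.leaf 924308532)))) (.node (.node (.node (.node (.leaf 101779068) (.leaf 734743541)) (.leaf 1008432572)) (.node (.node (.leaf 912536453) (.leaf 986412347)) (.leaf 749832632))) (.node (.node (.node (.leaf 636906898) (.leaf 623422452)) (.leaf 888621917)) (.node (.node (.leaf 563446739) (.leaf 1071655173)) (.leaf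 618710058))))) (.node (.node (.node (.node (.node (.leaf 67617913) (.leaf 338821988)) (.leaf 199838513)) (.node (.node (.leaf 432362360) (.leaf 644846446)) (.leaf 615909010))) (.node (.node (.node (.leaf 278302315) (.leaf 744451739)) (.leaf 775537536)) (.node (.node (.leaf 277376610) (.leaf 1050872825)) (.leaf 286819028)))) (.node (.node (.node (.node (.leaf 173918746) (.leaf 1069397803)) (.leaf 945342008)) (.node (.node (.leaf 86057194) (.leaf 1007798904)) (.leaf 507292676))) (.node (.node (.node (.leaf 591365953) (.leaf 443796862)) (.leaf 1036203616)) (.node (.node (.leaf 687532306) (.leaf 1092522445)) (.leaf 765963053)))))) (.node (.node (.node (.node (.node (.node (.leaf 43426562) (.leaf 342470866)) (.leaf 251473243)) (.node (.node (.leaf 415716110) (.leaf 718868096)) (.leaf 863733869))) (.node (.node (.node (.leaf 252022112) (.leaf 718483908)) (.leaf 1023358486)) (.node (.node (.leaf 551208862) (.leaf 1040197437)) (.leaf 280281793)))) (.node (.node (.node (.node (.leaf 20078648) (.leaf 753854222)) (.leaf 160924059)) (.node (.node (.leaf 490304675) (.leaf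 997422459)) (.leaf 816606349))) (.node (.node (.node (.leaf 800793778) (.leaf 920949889)) (.leaf 968247422)) (.node (.node (.leaf 205728614) (.leaf 1081986318)) (.leaf 836462357))))) (.node (.node (.node (.node (.node (.leaf 793199980) (.leaf 808348336)) (.leaf 1069578028)) (.node (.node (.leaf 709813573) (.leaf 865932347)) (.leaf 243828377))) (.node (.node (.node (.leaf 241691881) (.leaf 858231306)) (.leaf 946712295)) (.node (.node (.leaf 1010644425) (.leaf 1061325226)) (.leaf 1042650759)))) (.node (.node (.node (.node (.leaf 204311381) (.leaf 816383135)) (.leaf 1040791165)) (.node (.node (.leaf 984986931) (.leaf 1018318649)) (.leaf 395824690))) (.node (.node (.node (.leaf 962062430) (.leaf 741044844)) (.leaf 222814750)) (.node (.node (.leaf 1055053522) (.leaf 1102516582)) (.leaf 774418757)))))))))) (.node (.node (.node (.node (.node (.node (.node (.node (.node (.node (.leaf 2277406) (.leaf 768578440)) (.node (.leaf 130294106) (.leaf 1104351566))) (.node (.node (.leaf 681734080) (.leaf 856942817)) (.leaf 1004459429))) (.node (.node (.node (.leaf 149030987)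 (.leaf 538117557)) (.leaf 172401078)) (.node (.node (.leaf 990713172) (.leaf 1020416742)) (.leaf 268649449)))) (.node (.node (.node (.node (.leaf 96560706) (.leaf 845942880)) (.leaf 617005587)) (.node (.node (.leaf 742810326) (.leaf 643581833)) (.leaf 882143429))) (.node (.node (.node (.leaf 62121008) (.leaf 1090754478)) (.leaf 891644687)) (.node (.node (.leaf 848638928) (.leaf 1063261412)) (.leaf 1001502099))))) (.node (.node (.node (.node (.node (.leaf 8536088) (.leaf 334144338)) (.leaf 576836539)) (.node (.node (.leaf 72606918) (.leaf 755887528)) (.leaf 1066612506))) (.node (.node (.node (.leaf 257002913) (.leaf 863186973)) (.leaf 841696528)) (.node (.node (.leaf 832340452) (.leaf 1042289988)) (.leaf 905365537)))) (.node (.node (.node (.node (.leaf 929548350) (.leaf 645023187)) (.leaf 896215398)) (.node (.node (.leaf 193571609) (.leaf 1072748352)) (.leaf 719062234))) (.node (.node (.node (.leaf 769081960) (.leaf 912510561)) (.leaf 803778671)) (.node (.node (.leaf 119226863) (.leaf 1083922089)) (.leaf 1072805697)))))) (.node (.node (.node (.node (.node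 (.node (.leaf 24134083) (.leaf 702628904)) (.leaf 1060476660)) (.node (.node (.leaf 400609934) (.leaf 756879397)) (.leaf 964522749))) (.node (.node (.node (.leaf 233729171) (.leaf 794348796)) (.leaf 797176754)) (.node (.node (.leaf 96764829) (.leaf 1031460359)) (.leaf 613061730)))) (.node (.node (.node (.node (.leaf 119539595) (.leaf 1092450233)) (.leaf 630075797)) (.node (.node (.leaf 476730459) (.leaf 988211403)) (.leaf 954618750))) (.node (.node (.node (.leaf 593733298) (.leaf 422995091)) (.leaf 948587557)) (.node (.node (.leaf 787165597) (.leaf 1073433503)) (.leaf 872575467))))) (.node (.node (.node (.node (.node (.leaf 11976736) (.leaf 882117599)) (.leaf 881361742)) (.node (.node (.leaf 72450246) (.leaf 976490670)) (.leaf 791974829))) (.node (.node (.node (.leaf 96494798) (.leaf 863864658)) (.leaf 188965344)) (.node (.node (.leaf 987854147) (.leaf 1053050873)) (.leaf 854004969)))) (.node (.node (.node (.node (.leaf 178006608) (.leaf 718809430)) (.leaf 166167021)) (.node (.node (.leaf 265547232) (.leaf 1009980379)) (.leaf 847463880))) (.node (.node (.node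 (.leaf 273526323) (.leaf 954863063)) (.leaf 934343614)) (.node (.node (.leaf 566707945) (.leaf 1094193407)) (.leaf 762917401))))))) (.node (.node (.node (.node (.node (.node (.node (.leaf 13598956) (.leaf 904303790)) (.leaf 981619999)) (.node (.node (.leaf 712910702) (.leaf 872403434)) (.leaf 645951320))) (.node (.node (.node (.leaf 684049416) (.leaf 977793721)) (.leaf 1056192217)) (.node (.node (.leaf 576433186) (.leaf 1026099141)) (.leaf 855370299)))) (.node (.node (.node (.node (.leaf 81126765) (.leaf 1092335544)) (.leaf 910757857)) (.node (.node (.leaf 654664957) (.leaf 982502767)) (.leaf 747146897))) (.node (.node (.node (.leaf 748864108) (.leaf 744533662)) (.leaf 198559876)) (.node (.node (.leaf 709738946) (.leaf 1068461830)) (.leaf 848729094))))) (.node (.node (.node (.node (.node (.leaf 59507724) (.leaf 868519191)) (.leaf 578440891)) (.node (.node (.leaf 426513246) (.leaf 716163380)) (.leaf 765406016))) (.node (.node (.node (.leaf 271330848) (.leaf 402869667)) (.leaf 672236881)) (.node (.node (.leaf 716850637) (.leaf 1047455617)) (.leaf 800075888))))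 (.node (.node (.node (.node (.leaf 22298687) (.leaf 876393353)) (.leaf 903358720)) (.node (.node (.leaf 227601468) (.leaf 1004475170)) (.leaf 598953574))) (.node (.node (.node (.leaf 825896402) (.leaf 625676892)) (.leaf 649343981)) (.node (.node (.leaf 641864596) (.leaf 1089163567)) (.leaf 311675823)))))) (.node (.node (.node (.node (.node (.node (.leaf 37241485) (.leaf 1007826361)) (.leaf 140976492)) (.node (.node (.leaf 286060204) (.leaf 752456408)) (.leaf 1074689868))) (.node (.node (.node (.leaf 240757982) (.leaf 907023471)) (.leaf 180396490)) (.node (.node (.leaf 855699349) (.leaf 1037095170)) (.leaf 824650499)))) (.node (.node (.node (.node (.leaf 19251551) (.leaf 719818136)) (.leaf 923112095)) (.node (.node (.leaf 486954129) (.leaf 993692642)) (.leaf 1059370733))) (.node (.node (.node (.leaf 339136699) (.leaf 872131293)) (.leaf 312274858)) (.node (.node (.leaf 752938085) (.leaf 1078727500)) (.leaf 1103386623))))) (.node (.node (.node (.node (.node (.leaf 83920277) (.leaf 802075272)) (.leaf 152142213)) (.node (.node (.leaf 74883275) (.leaf 986830142))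 (.leaf 746999881))) (.node (.node (.node (.leaf 41295984) (.leaf 908587748)) (.leaf 1045370519)) (.node (.node (.leaf 562972744) (.leaf 1058198231)) (.leaf 581044244)))) (.node (.node (.node (.node (.leaf 190860005) (.leaf 1029060150)) (.leaf 780413094)) (.node (.node (.leaf 825356084) (.leaf 1015295448)) (.leaf 942625408))) (.node (.node (.node (.leaf 682701189) (.leaf 1068168995)) (.leaf 1084168070)) (.node (.node (.leaf 1054201549) (.leaf 1099279290)) (.leaf 317982209)))))))) (.node (.node (.node (.node (.node (.node (.node (.node (.leaf 7520374) (.leaf 649564552)) (.leaf 558974128)) (.node (.node (.leaf 386322996) (.leaf 753837830)) (.leaf 977760805))) (.node (.node (.node (.leaf 543761325) (.leaf 1042462342)) (.leaf 1001698709)) (.node (.node (.leaf 722430825) (.leaf 1023314943)) (.leaf 891792124)))) (.node (.node (.node (.node (.leaf 102164095) (.leaf 944084197)) (.leaf 782158444)) (.node (.node (.leaf 711274347) (.leaf 980020549)) (.leaf 788295894))) (.node (.node (.node (.leaf 301133633) (.leaf 900362125)) (.leaf 1097283544)) (.node (.node (.leaf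 836513613) (.leaf 1074526027)) (.leaf 576680570))))) (.node (.node (.node (.node (.node (.leaf 52954048) (.leaf 1013429721)) (.leaf 152070372)) (.node (.node (.leaf 600730595) (.leaf 916343692)) (.leaf 233964099))) (.node (.node (.node (.leaf 597109043) (.leaf 817179879)) (.leaf 184534118)) (.node (.node (.leaf 1013724635) (.leaf 1044958597)) (.leaf 743796247)))) (.node (.node (.node (.node (.leaf 21274683) (.leaf 762261795)) (.leaf 760796076)) (.node (.node (.leaf 119285637) (.leaf 1001721305)) (.leaf 715797074))) (.node (.node (.node (.leaf 734946345) (.leaf 660916121)) (.leaf 951701987)) (.node (.node (.leaf 707422539) (.leaf 1086581234)) (.leaf 855673359)))))) (.node (.node (.node (.node (.node (.node (.leaf 29770305) (.leaf 982856999)) (.leaf 947572310)) (.node (.node (.leaf 271773220) (.leaf 474072383)) (.leaf 1098840034))) (.node (.node (.node (.leaf 34456160) (.leaf 667300925)) (.leaf 754125361)) (.node (.node (.leaf 98707034) (.leaf 1034217233)) (.leaf 753422943)))) (.node (.node (.node (.node (.leaf 125331427) (.leaf 703747213)) (.leaf 908055178))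 (.node (.node (.leaf 796394372) (.leaf 991022711)) (.leaf 250497830))) (.node (.node (.node (.leaf 817360709) (.leaf 425485470)) (.leaf 1075623761)) (.node (.node (.leaf 551503803) (.leaf 1076204944)) (.leaf 783478766))))) (.node (.node (.node (.node (.node (.leaf 77825312) (.leaf 829639521)) (.leaf 150397313)) (.node (.node (.leaf 427709282) (.leaf 879863549)) (.leaf 943599707))) (.node (.node (.node (.leaf 853077144) (.leaf 716190885)) (.leaf 988656968)) (.node (.node (.leaf 1001158033) (.leaf 1055575718)) (.leaf 845219307)))) (.node (.node (.node (.node (.leaf 116664164) (.leaf 871598186)) (.leaf 718416580)) (.node (.node (.leaf 523425031) (.leaf 1012854022)) (.leaf 264544935))) (.node (.node (.node (.leaf 54821019) (.leaf 843713679)) (.leaf 939665194)) (.node (.node (.leaf 1026405927) (.leaf 1096896535)) (.leaf 1083176832))))))) (.node (.node (.node (.node (.node (.node (.node (.leaf 18809180) (.leaf 697898020)) (.leaf 564375443)) (.node (.node (.leaf 395874925) (.leaf 719663694)) (.leaf 854553499))) (.node (.node (.node (.leaf 229256271) (.leaf 850422534))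 (.leaf 176628158)) (.node (.node (.leaf 997676413) (.leaf 1028761336)) (.leaf 605546784)))) (.node (.node (.node (.node (.leaf 106915525) (.leaf 1035646556)) (.leaf 605816480)) (.node (.node (.leaf 733348750) (.leaf 985352299)) (.leaf 771820974))) (.node (.node (.node (.leaf 330115390) (.leaf 653460758)) (.leaf 820757473)) (.node (.node (.leaf 945943414) (.leaf 1071132893)) (.leaf 769524795))))) (.node (.node (.node (.node (.node (.leaf 54191054) (.leaf 802587817)) (.leaf 146940281)) (.node (.node (.leaf 738716063) (.leaf 791220594)) (.leaf 540181923))) (.node (.node (.node (.leaf 584442590) (.leaf 616671131)) (.leaf 752755291)) (.node (.node (.leaf 1018770939) (.leaf 1050315439)) (.leaf 1053636297)))) (.node (.node (.node (.node (.leaf 171821568) (.leaf 939708882)) (.leaf 164799613)) (.node (.node (.leaf 525713979) (.leaf 1007178659)) (.leaf 651415494))) (.node (.node (.node (.leaf 738886838) (.leaf 949088132)) (.leaf 215458317)) (.node (.node (.leaf 122495307) (.leaf 1091816335)) (.leaf 616712650)))))) (.node (.node (.node (.node (.node (.node (.leaf 42599161)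 (.leaf 847522495)) (.leaf 141910382)) (.node (.node (.leaf 413864697) (.leaf 482633048)) (.leaf 967856559))) (.node (.node (.node (.leaf 199535407) (.leaf 956609600)) (.leaf 580095888)) (.node (.node (.leaf 1005344170) (.leaf 1039714491)) (.leaf 630588346)))) (.node (.node (.node (.node (.leaf 145229976) (.leaf 902451059)) (.leaf 1079187304)) (.node (.node (.leaf 939421873) (.leaf 996396072)) (.leaf 260058564))) (.node (.node (.node (.leaf 61645870) (.leaf 739233140)) (.leaf 217229463)) (.node (.node (.leaf 810615769) (.leaf 1081365066)) (.leaf 567527568))))) (.node (.node (.node (.node (.node (.leaf 14213366) (.leaf 345809791)) (.leaf 209136514)) (.node (.node (.leaf 855945918) (.leaf 958788305)) (.leaf 243147356))) (.node (.node (.node (.leaf 70968495) (.leaf 819430831)) (.leaf 946261546)) (.node (.node (.leaf 788828721) (.leaf 1060770579)) (.leaf 1048155816)))) (.node (.node (.node (.node (.leaf 765732927) (.leaf 682716179)) (.leaf 579175178)) (.node (.node (.leaf 90595575) (.leaf 1017718449)) (.leaf 926722772))) (.node (.node (.node (.leaf 684173555)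 (.leaf 913175644)) (.leaf 506997752)) (.node (.node (.leaf 208792449) (.leaf 1101778746)) (.leaf 318989105))))))))) (.node (.node (.node (.node (.node (.node (.node (.node (.node (.leaf 4603974) (.leaf 320827158)) (.leaf 931775872)) (.node (.node (.leaf 59580581) (.leaf 457426193)) (.leaf 551069304))) (.node (.node (.node (.leaf 600244761) (.leaf 1011627470)) (.leaf 757466070)) (.node (.node (.leaf 91988219) (.leaf 1021875568)) (.leaf 689910931)))) (.node (.node (.node (.node (.leaf 15573035) (.leaf 1065899797)) (.leaf 154765175)) (.node (.node (.leaf 456561671) (.leaf 978504773)) (.leaf 779404239))) (.node (.node (.node (.leaf 43827321) (.leaf 1061009143)) (.leaf 892679124)) (.node (.node (.leaf 936187030) (.leaf 1064489675)) (.leaf 1037227622))))) (.node (.node (.node (.node (.node (.leaf 49939352) (.leaf 334783317)) (.leaf 570929046)) (.node (.node (.leaf 68584124) (.leaf 690022053)) (.leaf 990426450))) (.node (.node (.node (.leaf 259378625) (.leaf 818890425)) (.leaf 184157217)) (.node (.node (.leaf 1012880854) (.leaf 1043680144)) (.leaf 1080219502))))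 (.node (.node (.node (.node (.leaf 154937616) (.leaf 361767864)) (.leaf 758869293)) (.node (.node (.leaf 935654463) (.leaf 1000590651)) (.leaf 1068955432))) (.node (.node (.node (.leaf 348983580) (.leaf 797124171)) (.leaf 626938780)) (.node (.node (.leaf 326185015) (.leaf 1085245926)) (.leaf 891563668)))))) (.node (.node (.node (.node (.node (.node (.leaf 26968574) (.leaf 916526229)) (.leaf 136913256)) (.node (.node (.leaf 256626077) (.leaf 625832761)) (.leaf 1065596692))) (.node (.node (.node (.leaf 109094622) (.leaf 1051063994)) (.leaf 1087346585)) (.node (.node (.leaf 97444593) (.leaf 1032931719)) (.leaf 1086666645)))) (.node (.node (.node (.node (.leaf 123553730) (.leaf 353223580)) (.leaf 702712761)) (.node (.node (.leaf 628008868) (.leaf 1055954647)) (.leaf 892480269))) (.node (.node (.node (.leaf 774882129) (.leaf 812050084)) (.leaf 660214679)) (.node (.node (.leaf 550340832) (.leaf 1074926950)) (.leaf 836652143))))) (.node (.node (.node (.node (.node (.leaf 68330633) (.leaf 829573733)) (.leaf 945729100)) (.node (.node (.leaf 73007309) (.leaf 992228700))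 (.leaf 1093998531))) (.node (.node (.node (.leaf 284970658) (.leaf 877176333)) (.leaf 830851686)) (.node (.node (.leaf 794117206) (.leaf 1084389256)) (.leaf 907497104)))) (.node (.node (.node (.node (.leaf 25412055) (.leaf 899560036)) (.leaf 1084692362)) (.node (.node (.leaf 521131263) (.leaf 1011402532)) (.leaf 260615510))) (.node (.node (.node (.leaf 367276467) (.leaf 793685224)) (.leaf 1092655034)) (.node (.node (.leaf 1052489410) (.leaf 1095603611)) (.leaf 316017697))))))) (.node (.node (.node (.node (.node (.node (.node (.leaf 16253213) (.leaf 751381831)) (.leaf 984937778)) (.node (.node (.leaf 781444470) (.leaf 679576957)) (.leaf 226699218))) (.node (.node (.node (.leaf 226421803) (.leaf 613078095)) (.leaf 743646854)) (.node (.node (.leaf 95101708) (.leaf 1027534937)) (.leaf 1012184529)))) (.node (.node (.node (.node (.leaf 86582717) (.leaf 742868229)) (.leaf 656868659)) (.node (.node (.leaf 78242006) (.leaf 984009447)) (.leaf 758853355))) (.node (.node (.node (.leaf 820193999) (.leaf 632669398)) (.leaf 765940879)) (.node (.node (.leaf 866511569) (.leaf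 1069844789)) (.leaf 827049898))))) (.node (.node (.node (.node (.node (.leaf 61916207) (.leaf 840503665)) (.leaf 819458805)) (.node (.node (.leaf 559426623) (.leaf 712856184)) (.leaf 759951417))) (.node (.node (.node (.leaf 38854762) (.leaf 404186195)) (.leaf 927673097)) (.node (.node (.leaf 754487981) (.leaf 1048924927)) (.leaf 732999980)))) (.node (.node (.node (.node (.leaf 168495583) (.leaf 1078966118)) (.leaf 1083463554)) (.node (.node (.leaf 126961629) (.leaf 1029813819)) (.leaf 913385743))) (.node (.node (.node (.leaf 52093072) (.leaf 780192724)) (.leaf 691235171)) (.node (.node (.leaf 498988222) (.leaf 1090637328)) (.leaf 312640289)))))) (.node (.node (.node (.node (.node (.node (.leaf 40043208) (.leaf 774177687)) (.leaf 583434979)) (.node (.node (.leaf 411521765) (.leaf 719614552)) (.leaf 953619562))) (.node (.node (.node (.leaf 177916495) (.leaf 1037940330)) (.leaf 873287817)) (.node (.node (.leaf 100418494) (.leaf 1038404480)) (.leaf 668338594)))) (.node (.node (.node (.node (.leaf 141592681) (.leaf 357622698)) (.leaf 1061959420)) (.node (.node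 (.leaf 81060062) (.leaf 1104902153)) (.leaf 253477501))) (.node (.node (.node (.leaf 48193672) (.leaf 644073621)) (.leaf 206676477)) (.node (.node (.leaf 117670208) (.leaf 1079955109)) (.leaf 869626062))))) (.node (.node (.node (.node (.node (.leaf 13623333) (.leaf 792104145)) (.leaf 566390674)) (.node (.node (.leaf 75260108) (.leaf 873310829)) (.leaf 840527857))) (.node (.node (.node (.leaf 41615475) (.leaf 1056724700)) (.leaf 910193704)) (.node (.node (.leaf 110510376) (.leaf 1059490305)) (.leaf 585273783)))) (.node (.node (.node (.node (.leaf 178891355) (.leaf 838683849)) (.leaf 849356547)) (.node (.node (.leaf 850300044) (.leaf 1016566043)) (.leaf 282668686))) (.node (.node (.node (.leaf 56951647) (.leaf 706604723)) (.leaf 229289040)) (.node (.node (.leaf 1054742224) (.leaf 1100552170)) (.leaf 1088296863)))))))) (.node (.node (.node (.node (.node (.node (.node (.node (.leaf 11239598) (.leaf 863159711)) (.leaf 132334199)) (.node (.node (.leaf 609584440) (.leaf 808086890)) (.leaf 1099732968))) (.node (.node (.node (.leaf 550250316) (.leaf 974328279)) (.leaf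 174221713)) (.node (.node (.leaf 719193094) (.leaf 1024583388)) (.leaf 753682272)))) (.node (.node (.node (.node (.leaf 16679207) (.leaf 349004685)) (.leaf 926929492)) (.node (.node (.leaf 654373238) (.leaf 1084331911)) (.leaf 1024783902))) (.node (.node (.node (.leaf 561850993) (.leaf 944326802)) (.leaf 226659373)) (.node (.node (.leaf 113353010) (.leaf 1067110564)) (.leaf 296510195))))) (.node (.node (.node (.node (.node (.leaf 55788518) (.leaf 336347994)) (.leaf 569544564)) (.node (.node (.leaf 634807444) (.leaf 1043543693)) (.leaf 904211504))) (.node (.node (.node (.leaf 87680130) (.leaf 402105420)) (.leaf 185763498)) (.node (.node (.leaf 825641714) (.leaf 1046254215)) (.leaf 890647376)))) (.node (.node (.node (.node (.leaf 159902066) (.leaf 998471041)) (.leaf 691491964)) (.node (.node (.leaf 554673862) (.leaf 1003065323)) (.leaf 957532623))) (.node (.node (.node (.leaf 50487438) (.leaf 700699728)) (.leaf 511931618)) (.node (.node (.leaf 683049991) (.leaf 1099134948)) (.leaf 945262185)))))) (.node (.node (.node (.node (.node (.node (.leaf 13934837) (.leaf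 850586727)) (.leaf 200796984)) (.node (.node (.leaf 406983360) (.leaf 845098219)) (.leaf 932745405))) (.node (.node (.node (.leaf 108259026) (.leaf 652104669)) (.leaf 941306103)) (.node (.node (.leaf 857395713) (.leaf 1090623405)) (.leaf 276980404)))) (.node (.node (.node (.node (.leaf 18882613) (.leaf 879338977)) (.leaf 638650974)) (.node (.node (.leaf 655322019) (.leaf 992415320)) (.leaf 251766768))) (.node (.node (.node (.leaf 89843178) (.leaf 948192982)) (.leaf 204759546)) (.node (.node (.leaf 989541709) (.leaf 1077465671)) (.leaf 303893106))))) (.node (.node (.node (.node (.node (.leaf 80610666) (.leaf 1091352498)) (.leaf 644100973)) (.node (.node (.leaf 832144382) (.leaf 981234973)) (.leaf 839043568))) (.node (.node (.node (.leaf 288976591) (.leaf 881059699)) (.leaf 872108283)) (.node (.node (.leaf 237169850) (.leaf 1056819212)) (.leaf 772156418)))) (.node (.node (.node (.node (.leaf 182413946) (.leaf 372876252)) (.leaf 750994030)) (.node (.node (.leaf 707576110) (.leaf 1013966490)) (.leaf 385528365))) (.node (.node (.node (.leaf 55181497) (.leaf 648836058))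 (.leaf 219693592)) (.node (.node (.leaf 648105712) (.leaf 1097962505)) (.leaf 840815558))))))) (.node (.node (.node (.node (.node (.node (.node (.leaf 5873762) (.leaf 737502860)) (.leaf 1059854064)) (.node (.node (.leaf 531539417) (.leaf 667273530)) (.leaf 227691301))) (.node (.node (.node (.leaf 29679700) (.leaf 1037080165)) (.leaf 909865958)) (.node (.node (.leaf 885965228) (.leaf 1030197559)) (.leaf 704368705)))) (.node (.node (.node (.node (.leaf 59941907) (.leaf 735335424)) (.leaf 157622674)) (.node (.node (.leaf 729180047) (.leaf 986728200)) (.leaf 1039464052))) (.node (.node (.node (.leaf 46285239) (.leaf 674174091)) (.leaf 201926136)) (.node (.node (.leaf 114925879) (.leaf 1072205972)) (.leaf 539682918))))) (.node (.node (.node (.node (.node (.leaf 68150405) (.leaf 932728824)) (.leaf 946523747)) (.node (.node (.leaf 71795140) (.leaf 498824374)) (.leaf 927492379))) (.node (.node (.node (.leaf 583871393) (.leaf 989402444)) (.leaf 826372331)) (.node (.node (.leaf 110667502) (.leaf 1051576296)) (.leaf 867009647)))) (.node (.node (.node (.node (.leaf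 175966767) (.leaf 1095808975)) (.leaf 739259253)) (.node (.node (.leaf 86541001) (.leaf 1008694706)) (.leaf 815321839))) (.node (.node (.node (.leaf 963095464) (.leaf 1041806978)) (.leaf 655508804)) (.node (.node (.leaf 558797320) (.leaf 1092996210)) (.leaf 313844516)))))) (.node (.node (.node (.node (.node (.node (.leaf 45351721) (.leaf 333652815)) (.leaf 1064425229)) (.node (.node (.leaf 67757053) (.leaf 1046410910)) (.leaf 850334730))) (.node (.node (.node (.leaf 858794742) (.leaf 398222396)) (.leaf 182716966)) (.node (.node (.leaf 101843614) (.leaf 1046705824)) (.leaf 280675703)))) (.node (.node (.node (.node (.leaf 130836494) (.leaf 737947930)) (.leaf 852078275)) (.node (.node (.leaf 679570397) (.leaf 1083946885)) (.leaf 667341936))) (.node (.node (.node (.leaf 345018598) (.leaf 762942695)) (.leaf 263202844)) (.node (.node (.leaf 118464835) (.leaf 1082599843)) (.leaf 877825579))))) (.node (.node (.node (.node (.node (.leaf 551928278) (.leaf 816040909)) (.leaf 564160053)) (.node (.node (.leaf 599976803) (.leaf 520245511)) (.leaf 319516668))) (.node (.node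 (.node (.leaf 808659634) (.leaf 859194782)) (.leaf 961680353)) (.node (.node (.leaf 946252931) (.leaf 1062013025)) (.leaf 703382880)))) (.node (.node (.node (.node (.leaf 781649135) (.leaf 377218031)) (.leaf 1076451158)) (.node (.node (.leaf 134441003) (.leaf 1019106785)) (.leaf 1031960135))) (.node (.node (.node (.leaf 58278050) (.leaf 1014003165)) (.leaf 961406607)) (.node (.node (.leaf 1055528661) (.leaf 1103106977)) (.leaf 1063859976)))))))))))

noncomputable def edgeA8 : Arr ℕ :=
  (.node (.node (.node (.node (.node (.node (.node (.node (.node (.node (.node (.leaf 229378) (.leaf 843222813)) (.node (.leaf 263097213) (.leaf 1103777212))) (.node (.node (.leaf 58704035) (.leaf 775910390)) (.leaf 670159918))) (.node (.node (.node (.leaf 27164750) (.leaf 408618712)) (.leaf 172147126)) (.node (.node (.leaf 91407851) (.leaf 1040578171)) (.leaf 663029026)))) (.node (.node (.node (.node (.leaf 14811177) (.leaf 733857090)) (.leaf 155691297)) (.node (.node (.leaf 188066487) (.leaf 644517618)) (.leaf 293318398))) (.node (.node (.node (.leaf 43475124) (.leaf 414683867))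 (.leaf 927960758)) (.node (.node (.leaf 677431090) (.leaf 1062876920)) (.leaf 1036818020))))) (.node (.node (.node (.node (.node (.leaf 8126592) (.leaf 785433543)) (.leaf 969249402)) (.node (.node (.leaf 113682208) (.leaf 743892619)) (.leaf 788623921))) (.node (.node (.node (.leaf 38068886) (.leaf 903883139)) (.leaf 869568717)) (.node (.node (.leaf 627017617) (.leaf 1041682328)) (.leaf 757371305)))) (.node (.node (.node (.node (.leaf 549906044) (.leaf 360612789)) (.leaf 903867550)) (.node (.node (.leaf 83355020) (.leaf 998655546)) (.leaf 255051431))) (.node (.node (.node (.leaf 932932943) (.leaf 694192393)) (.leaf 683107332)) (.node (.node (.leaf 118818679) (.leaf 1083559601)) (.leaf 927756767)))))) (.node (.node (.node (.node (.node (.node (.leaf 4177986) (.leaf 686713899)) (.leaf 1060165362)) (.node (.node (.leaf 400003719) (.leaf 468731185)) (.leaf 504026313))) (.node (.node (.node (.leaf 51651138) (.leaf 818065983)) (.leaf 273747509)) (.node (.node (.leaf 168995296) (.leaf 1030968896)) (.leaf 1056880349)))) (.node (.node (.node (.node (.leaf 118015856)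 (.leaf 352011158)) (.leaf 157878559)) (.node (.node (.leaf 733884674) (.leaf 987581527)) (.leaf 761234648))) (.node (.node (.node (.leaf 326946875) (.leaf 628491565)) (.leaf 765611682)) (.node (.node (.leaf 552207773) (.leaf 1072958294)) (.leaf 301171459))))) (.node (.node (.node (.node (.node (.leaf 51831563) (.leaf 733112760)) (.leaf 991786329)) (.node (.node (.leaf 293465855) (.leaf 500812878)) (.leaf 968501377))) (.node (.node (.node (.leaf 72533189) (.leaf 971068341)) (.leaf 188712196)) (.node (.node (.leaf 106660948) (.leaf 1052497525)) (.leaf 578193509)))) (.node (.node (.node (.node (.leaf 177621575) (.leaf 828298063)) (.leaf 165807136)) (.node (.node (.leaf 86999496) (.leaf 1009530279)) (.leaf 259590963))) (.node (.node (.node (.leaf 53215822) (.leaf 892873485)) (.leaf 231017574)) (.node (.node (.leaf 144222349) (.leaf 1093716699)) (.leaf 314363241))))))) (.node (.node (.node (.node (.node (.node (.node (.leaf 12484821) (.leaf 1099159524)) (.leaf 196412853)) (.node (.node (.leaf 778023113) (.leaf 608923047)) (.leaf 225886761))) (.node (.node (.node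 (.leaf 206129038) (.leaf 1051088570)) (.leaf 663507938)) (.node (.node (.leaf 93439497) (.leaf 1025459943)) (.leaf 713027438)))) (.node (.node (.node (.node (.leaf 93685283) (.leaf 733725985)) (.leaf 1009325505)) (.node (.node (.leaf 663055874) (.leaf 982058470)) (.leaf 759712779))) (.node (.node (.node (.leaf 45228839) (.leaf 763743493)) (.leaf 896092518)) (.node (.node (.leaf 1014724066) (.leaf 1067963955)) (.leaf 1098217438))))) (.node (.node (.node (.node (.node (.leaf 32080452) (.leaf 835072775)) (.leaf 590695678)) (.node (.node (.leaf 110552813) (.leaf 1060157169)) (.leaf 1003533728))) (.node (.node (.node (.leaf 601687449) (.leaf 957780902)) (.leaf 793085292)) (.node (.node (.leaf 104710426) (.leaf 1047038283)) (.leaf 765635394)))) (.node (.node (.node (.node (.leaf 21921919) (.leaf 364954564)) (.leaf 1082398588)) (.node (.node (.leaf 133153131) (.leaf 1041413760)) (.leaf 299618104))) (.node (.node (.node (.leaf 352678217) (.leaf 700745935)) (.leaf 220081119)) (.node (.node (.leaf 769503029) (.leaf 1088657216)) (.leaf 315699145)))))) (.node (.node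 (.node (.node (.node (.node (.leaf 5857378) (.leaf 797233719)) (.leaf 573276797)) (.node (.node (.leaf 408261323) (.leaf 756624812)) (.leaf 230785593))) (.node (.node (.node (.leaf 50938329) (.leaf 696502329)) (.leaf 365949354)) (.node (.node (.leaf 824087008) (.leaf 1036554396)) (.leaf 1033000525)))) (.node (.node (.node (.node (.leaf 82830726) (.leaf 993260898)) (.leaf 738660641)) (.node (.node (.leaf 671821453) (.leaf 993235298)) (.leaf 252381990))) (.node (.node (.node (.leaf 70558887) (.leaf 1056569051)) (.leaf 208677760)) (.node (.node (.leaf 1044944533) (.leaf 1078167909)) (.leaf 839758799))))) (.node (.node (.node (.node (.node (.leaf 82347386) (.leaf 344476912)) (.leaf 548381142)) (.node (.node (.leaf 442913716) (.leaf 511789255)) (.leaf 1081800568))) (.node (.node (.node (.leaf 104564381) (.leaf 972795482)) (.leaf 190712533)) (.node (.node (.leaf 812975119) (.leaf 1057642042)) (.leaf 643483915)))) (.node (.node (.node (.node (.leaf 189565643) (.leaf 1057879779)) (.leaf 169149288)) (.node (.node (.leaf 89457075) (.leaf 1014695714)) (.leaf 266096023)))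 (.node (.node (.node (.leaf 55394527) (.leaf 663472674)) (.leaf 1072617279)) (.node (.node (.leaf 197970027) (.leaf 1098921019)) (.leaf 805327901)))))))) (.node (.node (.node (.node (.node (.node (.node (.node (.leaf 1490962) (.leaf 320979767)) (.leaf 227798078)) (.node (.node (.leaf 772826086) (.leaf 629278045)) (.leaf 224562066))) (.node (.node (.node (.leaf 27869512) (.leaf 845156453)) (.leaf 414290688)) (.node (.node (.leaf 531359440) (.leaf 1022758388)) (.leaf 274427453)))) (.node (.node (.node (.node (.leaf 33931538) (.leaf 643188757)) (.leaf 155058716)) (.node (.node (.leaf 77299924) (.leaf 1058272998)) (.leaf 758223051))) (.node (.node (.node (.leaf 567050534) (.leaf 862603761)) (.leaf 893504266)) (.node (.node (.leaf 554435979) (.leaf 1065227795)) (.leaf 691800999))))) (.node (.node (.node (.node (.node (.leaf 24822021) (.leaf 1100273643)) (.leaf 144639998)) (.node (.node (.leaf 678544766) (.leaf 992875871)) (.leaf 233587768))) (.node (.node (.node (.leaf 263998927) (.leaf 827509436)) (.leaf 302255952)) (.node (.node (.leaf 105293483) (.leaf 1044517510))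 (.leaf 771478004)))) (.node (.node (.node (.node (.leaf 122062764) (.leaf 900002113)) (.leaf 612354340)) (.node (.node (.leaf 555247409) (.leaf 1001198303)) (.leaf 1012053456))) (.node (.node (.node (.leaf 350818609) (.leaf 1088001950)) (.leaf 224586770)) (.node (.node (.leaf 635146633) (.leaf 1086114283)) (.leaf 564127285)))))) (.node (.node (.node (.node (.node (.node (.leaf 28525093) (.leaf 705532251)) (.leaf 639575701)) (.node (.node (.leaf 66774124) (.leaf 876106588)) (.leaf 229507637))) (.node (.node (.node (.leaf 235400358) (.leaf 714395011)) (.leaf 366203309)) (.node (.node (.leaf 821652197) (.leaf 1033733903)) (.leaf 275533369)))) (.node (.node (.node (.node (.leaf 125061084) (.leaf 1069635372)) (.leaf 1014601185)) (.node (.node (.leaf 654722301) (.leaf 990473675)) (.leaf 691097157))) (.node (.node (.node (.leaf 47686496) (.leaf 747760939)) (.leaf 213805993)) (.node (.node (.leaf 951937144) (.leaf 1075662080)) (.leaf 435753870))))) (.node (.node (.node (.node (.node (.leaf 32137393) (.leaf 1059690223)) (.leaf 150325273)) (.node (.node (.leaf 73416903)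 (.leaf 603008504)) (.leaf 645785340))) (.node (.node (.node (.leaf 173156881) (.leaf 958304016)) (.leaf 1094883274)) (.node (.node (.leaf 243363062) (.leaf 1055117048)) (.leaf 960476183)))) (.node (.node (.node (.node (.leaf 166365639) (.leaf 948703630)) (.leaf 403206823)) (.node (.node (.leaf 587148940) (.leaf 1012306884)) (.leaf 819645897))) (.node (.node (.node (.leaf 54575710) (.leaf 1049941683)) (.leaf 220916713)) (.node (.node (.leaf 210873233) (.leaf 1096305397)) (.leaf 316392234))))))) (.node (.node (.node (.node (.node (.node (.node (.leaf 12886238) (.leaf 705727505)) (.leaf 135120813)) (.node (.node (.leaf 62374926) (.leaf 923243167)) (.leaf 227017261))) (.node (.node (.node (.leaf 228183107) (.leaf 797798363)) (.leaf 176325805)) (.node (.node (.leaf 781456465) (.leaf 1028230235)) (.leaf 592914465)))) (.node (.node (.node (.node (.leaf 34726502) (.leaf 761697348)) (.leaf 715223219)) (.node (.node (.leaf 665776869) (.leaf 984765653)) (.leaf 1077884768))) (.node (.node (.node (.leaf 319049718) (.leaf 916737991)) (.leaf 199871258)) (.node (.node (.leaf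 677455618) (.leaf 1070632029)) (.leaf 298943229))))) (.node (.node (.node (.node (.node (.leaf 801579313) (.leaf 859992505)) (.leaf 526756858)) (.node (.node (.leaf 107177673) (.leaf 696815174)) (.leaf 236389126))) (.node (.node (.node (.leaf 800588665) (.leaf 1071986491)) (.leaf 808520168)) (.node (.node (.leaf 752058991) (.leaf 1049742782)) (.leaf 286474961)))) (.node (.node (.node (.node (.leaf 22724850) (.leaf 598158291)) (.leaf 992482653)) (.node (.node (.leaf 555509523) (.leaf 1006718617)) (.leaf 904578899))) (.node (.node (.node (.leaf 709979508) (.leaf 797314323)) (.leaf 754479561)) (.node (.node (.leaf 134735917) (.leaf 1091358341)) (.leaf 1090607021)))))) (.node (.node (.node (.node (.node (.node (.leaf 7012466) (.leaf 909923044)) (.leaf 787263903)) (.node (.node (.leaf 773596708) (.leaf 1015068132)) (.leaf 1034851928))) (.node (.node (.node (.leaf 35323999) (.leaf 874665202)) (.leaf 181568168)) (.node (.node (.leaf 175450665) (.leaf 1039128119)) (.leaf 583731292)))) (.node (.node (.node (.node (.leaf 19775544) (.leaf 358486377)) (.leaf 911797618))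 (.node (.node (.leaf 533382403) (.leaf 995985708)) (.leaf 911772018))) (.node (.node (.node (.leaf 240626908) (.leaf 737970074)) (.leaf 643289964)) (.node (.node (.leaf 789300999) (.leaf 1080806433)) (.leaf 941984302))))) (.node (.node (.node (.node (.node (.leaf 22749618) (.leaf 843804675)) (.leaf 153856248)) (.node (.node (.leaf 448353242) (.leaf 874705522)) (.leaf 243444983))) (.node (.node (.node (.leaf 41910739) (.leaf 879464797)) (.leaf 1054176972)) (.node (.node (.leaf 183331464) (.leaf 1060194370)) (.leaf 644510978)))) (.node (.node (.node (.node (.leaf 199428911) (.leaf 966218309)) (.leaf 528520426)) (.node (.node (.leaf 780846187) (.leaf 1017268556)) (.leaf 772181725))) (.node (.node (.node (.leaf 69878945) (.leaf 944818716)) (.leaf 574565612)) (.node (.node (.leaf 206045719) (.leaf 1101337476)) (.leaf 318786193))))))))) (.node (.node (.node (.node (.node (.node (.node (.node (.node (.leaf 3440692) (.leaf 323481647)) (.node (.leaf 591024638) (.leaf 1105039729))) (.node (.node (.leaf 76358913) (.leaf 456688910)) (.leaf 311422883))) (.node (.node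 (.node (.leaf 202713927) (.leaf 573023977)) (.leaf 668896987)) (.node (.node (.leaf 92857882) (.leaf 1021316232)) (.leaf 912370135)))) (.node (.node (.node (.node (.leaf 32047689) (.leaf 547612249)) (.leaf 965546598)) (.node (.node (.leaf 901968742) (.leaf 573376693)) (.leaf 1093982147))) (.node (.node (.node (.leaf 532278451) (.leaf 754879043)) (.leaf 893528850)) (.node (.node (.leaf 712946892) (.leaf 1064031744)) (.leaf 810910941))))) (.node (.node (.node (.node (.node (.leaf 11788480) (.leaf 876579596)) (.leaf 143556979)) (.node (.node (.leaf 68354236) (.leaf 764571358)) (.leaf 908968630))) (.node (.node (.node (.leaf 37282445) (.leaf 1084143494)) (.leaf 627215230)) (.node (.node (.leaf 743327168) (.leaf 1043105943)) (.leaf 282134243)))) (.node (.node (.node (.node (.leaf 154241281) (.leaf 593652607)) (.leaf 162120484)) (.node (.node (.leaf 123430847) (.leaf 1046927009)) (.leaf 267005423))) (.node (.node (.node (.leaf 99910784) (.leaf 435160604)) (.leaf 1009669571)) (.node (.node (.leaf 984642865) (.leaf 1084756014)) (.leaf 541659030)))))) (.node (.node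 (.node (.node (.node (.node (.leaf 26034660) (.leaf 887908790)) (.leaf 136413544)) (.node (.node (.leaf 178039376) (.leaf 645420218)) (.leaf 576181089))) (.node (.node (.node (.leaf 236162222) (.leaf 1042527879)) (.leaf 696634764)) (.node (.node (.leaf 534562250) (.leaf 1032455948)) (.leaf 898093331)))) (.node (.node (.node (.node (.leaf 138699140) (.leaf 352850137)) (.leaf 868887358)) (.node (.node (.leaf 611018961) (.leaf 988877064)) (.leaf 751863969))) (.node (.node (.node (.leaf 331108451) (.leaf 997127545)) (.leaf 580800232)) (.node (.node (.leaf 555018031) (.leaf 1074288070)) (.leaf 302001999))))) (.node (.node (.node (.node (.node (.leaf 24772909) (.leaf 348197134)) (.leaf 203598671)) (.node (.node (.leaf 435327884) (.leaf 881545759)) (.leaf 238453340))) (.node (.node (.node (.leaf 283905687) (.leaf 863973268)) (.leaf 1053808330)) (.node (.node (.leaf 800949428) (.leaf 1053829834)) (.leaf 604115576)))) (.node (.node (.node (.node (.leaf 54387663) (.leaf 1076934490)) (.leaf 752135489)) (.node (.node (.leaf 534586954) (.leaf 1010799957)) (.leaf 876956380)))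 (.node (.node (.node (.leaf 98313813) (.leaf 959337562)) (.leaf 593576888)) (.node (.node (.leaf 140961892) (.leaf 1094929106)) (.leaf 616122964))))))) (.node (.node (.node (.node (.node (.node (.node (.leaf 2883600) (.leaf 1057994468)) (.leaf 917680812)) (.node (.node (.leaf 61423832) (.leaf 913954036)) (.leaf 593200059))) (.node (.node (.node (.leaf 28869004) (.leaf 411742951)) (.leaf 740946540)) (.node (.node (.leaf 94241024) (.leaf 1026927352)) (.leaf 877529199)))) (.node (.node (.node (.node (.leaf 111527672) (.leaf 730761566)) (.leaf 608331064)) (.node (.node (.leaf 460829722) (.leaf 983404663)) (.leaf 247661163))) (.node (.node (.node (.leaf 316379090) (.leaf 1075394384)) (.leaf 252939623)) (.node (.node (.leaf 939542879) (.leaf 1075197775)) (.leaf 713733286))))) (.node (.node (.node (.node (.node (.leaf 24527148) (.leaf 337675428)) (.leaf 864989902)) (.node (.node (.leaf 538979456) (.leaf 1045649049)) (.leaf 381088278))) (.node (.node (.node (.leaf 38765211) (.leaf 708085510)) (.leaf 829133744)) (.node (.node (.leaf 105203353) (.leaf 1048431546))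 (.leaf 583157725)))) (.node (.node (.node (.node (.leaf 117041001) (.leaf 365873762)) (.leaf 1063958281)) (.node (.node (.leaf 126682497) (.leaf 1005244838)) (.leaf 756355725))) (.node (.node (.node (.leaf 51921787) (.leaf 440435930)) (.leaf 315002822)) (.node (.node (.leaf 121848161) (.leaf 1090031353)) (.leaf 312133900)))))) (.node (.node (.node (.node (.node (.node (.leaf 38568614) (.leaf 331662169)) (.leaf 950743825)) (.node (.node (.leaf 609641818) (.leaf 953668843)) (.leaf 1092908988))) (.node (.node (.node (.leaf 35127388) (.leaf 1102731259)) (.leaf 724174745)) (.node (.node (.leaf 159803761) (.leaf 1037813543)) (.leaf 1055635157)))) (.node (.node (.node (.node (.leaf 19497192) (.leaf 357321981)) (.leaf 830767960)) (.node (.node (.leaf 80658700) (.leaf 1004082595)) (.leaf 253395580))) (.node (.node (.node (.leaf 48087893) (.leaf 883059673)) (.leaf 206488095)) (.node (.node (.leaf 117088969) (.leaf 1079478654)) (.leaf 305465092))))) (.node (.node (.node (.node (.node (.leaf 85837236) (.leaf 1041053310)) (.leaf 929813051)) (.node (.node (.leaf 445387718)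 (.leaf 528574962)) (.leaf 242158238))) (.node (.node (.node (.leaf 62268465) (.leaf 981423390)) (.leaf 895586601)) (.node (.node (.leaf 918882820) (.leaf 1058919977)) (.leaf 647727304)))) (.node (.node (.node (.node (.leaf 192416517) (.leaf 823355884)) (.leaf 779693198)) (.node (.node (.leaf 982619430) (.leaf 1015977364)) (.leaf 659256312))) (.node (.node (.node (.leaf 789767024) (.leaf 748547380)) (.leaf 649610564)) (.node (.node (.leaf 171100135) (.leaf 1100027601)) (.leaf 1028142641)))))))) (.node (.node (.node (.node (.node (.node (.node (.node (.leaf 9044116) (.leaf 321720334)) (.leaf 132007937)) (.node (.node (.leaf 87401926) (.leaf 460801322)) (.leaf 683623425))) (.node (.node (.node (.leaf 28147793) (.leaf 682829851)) (.leaf 1056274137)) (.node (.node (.leaf 92816906) (.leaf 1024185734)) (.leaf 604999270)))) (.node (.node (.node (.node (.leaf 104695458) (.leaf 737854669)) (.leaf 1005860269)) (.node (.node (.leaf 671958372) (.leaf 1014396384)) (.leaf 991515992))) (.node (.node (.node (.leaf 309251985) (.leaf 737101108)) (.leaf 199895858)) (.node (.node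 (.leaf 1035245147) (.leaf 1066619436)) (.leaf 845449859))))) (.node (.node (.node (.node (.node (.leaf 30957844) (.leaf 336220265)) (.leaf 145515051)) (.node (.node (.leaf 71623864) (.leaf 836274351)) (.leaf 234406469))) (.node (.node (.node (.leaf 603161264) (.leaf 791924390)) (.leaf 242806001)) (.node (.node (.leaf 590882824) (.leaf 1045794752)) (.leaf 284476107)))) (.node (.node (.node (.node (.leaf 51659162) (.leaf 543992755)) (.leaf 163350921)) (.node (.node (.leaf 134088683) (.leaf 1028683316)) (.leaf 1033131598))) (.node (.node (.node (.leaf 81995125) (.leaf 438113172)) (.leaf 211798932)) (.node (.node (.leaf 737997682) (.leaf 1101658100)) (.leaf 770494048)))))) (.node (.node (.node (.node (.node (.node (.leaf 33448520) (.leaf 1067185949)) (.leaf 139609486)) (.node (.node (.leaf 601377764) (.leaf 959321034)) (.leaf 230444069))) (.node (.node (.node (.leaf 545210893) (.leaf 738774825)) (.leaf 601247161)) (.node (.node (.leaf 98714071) (.leaf 1035093838)) (.leaf 972772066)))) (.node (.node (.node (.node (.leaf 551413589) (.leaf 955036613)) (.leaf 969182465))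 (.node (.node (.leaf 609617002) (.leaf 991921711)) (.leaf 251036280))) (.node (.node (.node (.leaf 94897520) (.leaf 641680844)) (.leaf 217295809)) (.node (.node (.leaf 1008973247) (.leaf 1076908490)) (.leaf 532615804))))) (.node (.node (.node (.node (.node (.leaf 79398220) (.leaf 818679502)) (.leaf 150701489)) (.node (.node (.leaf 440423338) (.leaf 510002598)) (.leaf 687911841))) (.node (.node (.node (.leaf 623062023) (.leaf 814091401)) (.leaf 997627260)) (.node (.node (.leaf 334852238) (.leaf 1056364104)) (.leaf 913183733)))) (.node (.node (.node (.node (.leaf 187501229) (.leaf 946049910)) (.leaf 885657177)) (.node (.node (.leaf 171174391) (.leaf 1031534149)) (.leaf 596650214))) (.node (.node (.node (.leaf 55099547) (.leaf 448365810)) (.leaf 688194595)) (.node (.node (.leaf 937709664) (.leaf 1097535016)) (.leaf 317796323))))))) (.node (.node (.node (.node (.node (.node (.node (.leaf 20595078) (.leaf 601156185)) (.leaf 207154036)) (.node (.node (.leaf 63160609) (.leaf 1097136087)) (.leaf 227412153))) (.node (.node (.node (.leaf 202967881) (.leaf 387302613))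 (.leaf 1089476519)) (.node (.node (.leaf 998643074) (.leaf 1057683170)) (.leaf 611472471)))) (.node (.node (.node (.node (.leaf 548069720) (.leaf 1058846441)) (.leaf 935822697)) (.node (.node (.leaf 78726187) (.leaf 986172221)) (.leaf 749864333))) (.node (.node (.node (.leaf 46072611) (.leaf 670683963)) (.leaf 201048564)) (.node (.node (.leaf 586286065) (.leaf 1071860748)) (.leaf 955289280))))) (.node (.node (.node (.node (.node (.leaf 41870065) (.leaf 715346840)) (.leaf 147554684)) (.node (.node (.leaf 432624506) (.leaf 645264458)) (.leaf 237094513))) (.node (.node (.node (.leaf 56672968) (.leaf 985625910)) (.leaf 188301789)) (.node (.node (.leaf 269536779) (.leaf 1051071010)) (.leaf 1103984643)))) (.node (.node (.node (.node (.leaf 66118748) (.leaf 369625723)) (.leaf 602253525)) (.node (.node (.leaf 86180601) (.leaf 1007994484)) (.leaf 579226697))) (.node (.node (.node (.leaf 362074512) (.leaf 981742880)) (.leaf 1048458922)) (.node (.node (.leaf 497783996) (.leaf 1092588304)) (.leaf 796111214)))))) (.node (.node (.node (.node (.node (.node (.leaf 44647190)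 (.leaf 576040007)) (.leaf 552658779)) (.node (.node (.leaf 881912947) (.leaf 921552901)) (.leaf 892097375))) (.node (.node (.node (.leaf 36061818) (.leaf 969271426)) (.leaf 810304739)) (.node (.node (.leaf 234679456) (.leaf 1040414048)) (.leaf 403108518)))) (.node (.node (.node (.node (.leaf 127894936) (.leaf 711083272)) (.leaf 161104576)) (.node (.node (.leaf 82362594) (.leaf 997213744)) (.leaf 256748958))) (.node (.node (.node (.leaf 48743254) (.leaf 432637114)) (.leaf 207882211)) (.node (.node (.leaf 120661917) (.leaf 1082085395)) (.leaf 808456197))))) (.node (.node (.node (.node (.node (.leaf 91260415) (.leaf 346476766)) (.leaf 527385095)) (.node (.node (.leaf 775860753) (.leaf 519865800)) (.leaf 934015336))) (.node (.node (.node (.leaf 42763002) (.leaf 859246397)) (.leaf 858833691)) (.node (.node (.leaf 822676193) (.leaf 1061589697)) (.leaf 932024360)))) (.node (.node (.node (.node (.leaf 29270576) (.leaf 914359988)) (.leaf 787841621)) (.node (.node (.leaf 90998262) (.leaf 1018581301)) (.leaf 670323832))) (.node (.node (.node (.leaf 379589127) (.leaf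 681363439)) (.leaf 526764210)) (.node (.node (.leaf 568618911) (.leaf 1102581791)) (.leaf 843515405)))))))))) (.node (.node (.node (.node (.node (.node (.node (.node (.node (.node (.leaf 450566) (.leaf 426603358)) (.node (.leaf 1051662013) (.leaf 1104434829))) (.node (.node (.leaf 382571041) (.leaf 779857040)) (.leaf 622367328))) (.node (.node (.node (.leaf 202845000) (.leaf 379520715)) (.leaf 720072213)) (.node (.node (.leaf 869812747) (.leaf 1020646799)) (.leaf 274296380)))) (.node (.node (.node (.node (.leaf 534225065) (.leaf 1029002806)) (.leaf 614329825)) (.node (.node (.leaf 380482064) (.leaf 886354048)) (.leaf 1049335471))) (.node (.node (.node (.leaf 236416178) (.leaf 881273029)) (.leaf 871786608)) (.node (.node (.leaf 708113066) (.leaf 1063490204)) (.leaf 294191853))))) (.node (.node (.node (.node (.node (.leaf 8568856) (.leaf 577006686)) (.leaf 145893533)) (.node (.node (.leaf 68174832) (.leaf 1090844591)) (.leaf 232964671))) (.node (.node (.node (.leaf 679970167) (.leaf 1044543122)) (.leaf 869493261)) (.node (.node (.leaf 743509532) (.leaf 1042336088))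 (.leaf 543812566)))) (.node (.node (.node (.node (.leaf 20611130) (.leaf 633317701)) (.leaf 161776416)) (.node (.node (.leaf 82837858) (.leaf 1024210458)) (.leaf 603752279))) (.node (.node (.node (.leaf 789587828) (.leaf 885533144)) (.leaf 209684632)) (.node (.node (.leaf 125511653) (.leaf 1084117642)) (.leaf 565128659)))))) (.node (.node (.node (.node (.node (.node (.leaf 24314311) (.leaf 1070438193)) (.leaf 975858521)) (.node (.node (.leaf 66839661) (.leaf 663360596)) (.leaf 996652406))) (.node (.node (.node (.leaf 30327048) (.leaf 388973707)) (.leaf 986985791)) (.node (.node (.leaf 96797523) (.leaf 1031689380)) (.leaf 696726706)))) (.node (.node (.node (.node (.leaf 17940560) (.leaf 820876043)) (.leaf 967044155)) (.node (.node (.leaf 735555867) (.leaf 988286803)) (.leaf 249086576))) (.node (.node (.node (.leaf 329486413) (.leaf 660423959)) (.leaf 202540981)) (.node (.node (.leaf 572172424) (.leaf 1073705699)) (.leaf 1027610158))))) (.node (.node (.node (.node (.node (.leaf 73024718) (.leaf 761562057)) (.leaf 148701567)) (.node (.node (.leaf 434639751)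 (.leaf 570027847)) (.leaf 436597648))) (.node (.node (.node (.leaf 590473376) (.leaf 615646895)) (.leaf 804048881)) (.node (.node (.leaf 106955040) (.leaf 1062704897)) (.leaf 288195288)))) (.node (.node (.node (.node (.leaf 178555479) (.leaf 754176830)) (.leaf 937313067)) (.node (.node (.leaf 87376922) (.leaf 1074370378)) (.leaf 997365115))) (.node (.node (.node (.leaf 97764944) (.leaf 445400298)) (.leaf 970804627)) (.node (.node (.leaf 918490078) (.leaf 1094405483)) (.leaf 314993578))))))) (.node (.node (.node (.node (.node (.node (.node (.leaf 4153409) (.leaf 1004631462)) (.leaf 133711333)) (.node (.node (.leaf 749055151) (.leaf 838994637)) (.leaf 529077486))) (.node (.node (.node (.leaf 28639740) (.leaf 848080597)) (.leaf 174983624)) (.node (.node (.leaf 94028859) (.leaf 1026280182)) (.leaf 973056532)))) (.node (.node (.node (.node (.leaf 567075602) (.leaf 728027184)) (.leaf 715162468)) (.node (.node (.leaf 622325824) (.leaf 982664682)) (.leaf 747227073))) (.node (.node (.node (.leaf 314175423) (.leaf 854741302)) (.leaf 252439906)) (.node (.node (.leaf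 1037424232) (.leaf 1068537465)) (.leaf 296879556))))) (.node (.node (.node (.node (.node (.leaf 11149485) (.leaf 724669582)) (.leaf 547455732)) (.node (.node (.leaf 70239252) (.leaf 713707306)) (.leaf 235373138))) (.node (.node (.node (.leaf 38584426) (.leaf 403066490)) (.leaf 886007659)) (.node (.node (.leaf 751250759) (.leaf 1047726067)) (.leaf 793481882)))) (.node (.node (.node (.node (.leaf 22331455) (.leaf 1005270442)) (.leaf 163973523)) (.node (.node (.leaf 509990106) (.leaf 1004605478)) (.leaf 717664641))) (.node (.node (.node (.leaf 591587166) (.leaf 957805218)) (.leaf 213477270)) (.node (.node (.leaf 226290729) (.leaf 1089360744)) (.leaf 648463493)))))) (.node (.node (.node (.node (.node (.node (.leaf 6406246) (.leaf 331419740)) (.leaf 143157381)) (.node (.node (.leaf 117688173) (.leaf 932498187)) (.leaf 231033794))) (.node (.node (.node (.leaf 34701618) (.leaf 965568778)) (.leaf 531703316)) (.node (.node (.leaf 561704864) (.leaf 1092794299)) (.leaf 605023770)))) (.node (.node (.node (.node (.leaf 683852808) (.leaf 1000609165)) (.leaf 896125730))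 (.node (.node (.leaf 818868901) (.leaf 993889971)) (.leaf 928548709))) (.node (.node (.node (.leaf 49292165) (.leaf 901940490)) (.leaf 205736003)) (.node (.node (.leaf 167273171) (.leaf 1078856045)) (.leaf 857663808))))) (.node (.node (.node (.node (.node (.leaf 13303863) (.leaf 760605921)) (.leaf 596626906)) (.node (.node (.leaf 444060603) (.leaf 512953404)) (.leaf 896536609))) (.node (.node (.node (.leaf 586178788) (.leaf 764202256)) (.leaf 984282415)) (.node (.node (.leaf 568878782) (.leaf 1058247954)) (.leaf 291032685)))) (.node (.node (.node (.node (.leaf 190909159) (.leaf 1067874081)) (.leaf 830449974)) (.node (.node (.leaf 982029602) (.leaf 1015337764)) (.leaf 266355351))) (.node (.node (.node (.leaf 772801554) (.leaf 665039747)) (.leaf 817015231)) (.node (.node (.leaf 900174613) (.leaf 1099503137)) (.leaf 797951465)))))))) (.node (.node (.node (.node (.node (.node (.node (.node (.leaf 1851414) (.leaf 843551755)) (.leaf 1057183456)) (.node (.node (.leaf 736341605) (.leaf 1011856847)) (.leaf 630755719))) (.node (.node (.node (.leaf 930244839) (.leaf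 381062314)) (.leaf 285216420)) (.node (.node (.leaf 856118127) (.leaf 1023396904)) (.leaf 270549665)))) (.node (.node (.node (.node (.leaf 16007213) (.leaf 1065064209)) (.leaf 898499335)) (.node (.node (.leaf 633603215) (.leaf 1008489916)) (.leaf 246318665))) (.node (.node (.node (.leaf 44662906) (.leaf 900630475)) (.leaf 942550501)) (.node (.node (.leaf 594793705) (.leaf 1065963806)) (.leaf 1013282264))))) (.node (.node (.node (.node (.node (.leaf 9388117) (.leaf 875366764)) (.leaf 145033348)) (.node (.node (.leaf 69723295) (.leaf 1038661231)) (.leaf 852169277))) (.node (.node (.node (.leaf 38044290) (.leaf 1066325784)) (.leaf 184697587)) (.node (.node (.leaf 103710999) (.leaf 1045140553)) (.leaf 1082005369)))) (.node (.node (.node (.node (.leaf 158796123) (.leaf 680928261)) (.leaf 882658888)) (.node (.node (.leaf 526157235) (.leaf 1001886846)) (.leaf 701928350))) (.node (.node (.node (.leaf 351998274) (.leaf 762983293)) (.leaf 825830129)) (.node (.node (.leaf 213453734) (.leaf 1086771207)) (.leaf 541675402)))))) (.node (.node (.node (.node (.node (.node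 (.leaf 10035358) (.leaf 883790857)) (.leaf 138266555)) (.node (.node (.leaf 404591283) (.leaf 882748705)) (.leaf 575524996))) (.node (.node (.node (.leaf 101934718) (.leaf 610365028)) (.leaf 658993187)) (.node (.node (.leaf 99427941) (.leaf 1034457005)) (.leaf 581888084)))) (.node (.node (.node (.node (.leaf 170567550) (.leaf 597731669)) (.leaf 597856928)) (.node (.node (.leaf 79855835) (.leaf 1044166288)) (.leaf 250612521))) (.node (.node (.node (.leaf 48767866) (.leaf 985265460)) (.leaf 1073026882)) (.node (.node (.leaf 552356035) (.leaf 1076334511)) (.leaf 1027257900))))) (.node (.node (.node (.node (.node (.leaf 77940005) (.leaf 843747463)) (.leaf 799392564)) (.node (.node (.leaf 632242561) (.leaf 509028423)) (.leaf 1026176549))) (.node (.node (.node (.leaf 73834777) (.leaf 536939134)) (.leaf 902173545)) (.node (.node (.leaf 108594713) (.leaf 1055690943)) (.leaf 604901011)))) (.node (.node (.node (.node (.leaf 548358370) (.leaf 865348900)) (.leaf 949422175)) (.node (.node (.leaf 253799793) (.leaf 1012961559)) (.leaf 709382007))) (.node (.node (.node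 (.leaf 709603023) (.leaf 913871683)) (.leaf 543788678)) (.node (.node (.leaf 124600715) (.leaf 1096945677)) (.leaf 888255361))))))) (.node (.node (.node (.node (.node (.node (.node (.leaf 18956638) (.leaf 869157689)) (.leaf 585559723)) (.node (.node (.leaf 62800563) (.leaf 843156095)) (.leaf 909699647))) (.node (.node (.node (.leaf 29524052) (.leaf 797782013)) (.leaf 960849550)) (.node (.node (.leaf 489378974) (.leaf 1028968710)) (.leaf 582797459)))) (.node (.node (.node (.node (.leaf 17252401) (.leaf 854790950)) (.leaf 830425574)) (.node (.node (.leaf 657109829) (.leaf 985567930)) (.leaf 1018066423))) (.node (.node (.node (.leaf 889782763) (.leaf 758198476)) (.leaf 544672951)) (.node (.node (.leaf 1023768088) (.leaf 1071265116)) (.leaf 878416861))))) (.node (.node (.node (.node (.node (.leaf 60580892) (.leaf 1078359907)) (.leaf 1043830414)) (.node (.node (.leaf 856245521) (.leaf 495585312)) (.leaf 236634879))) (.node (.node (.node (.leaf 908995722) (.leaf 899270936)) (.leaf 187941340)) (.node (.node (.leaf 941100366) (.leaf 1050430464)) (.leaf 928008962))))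 (.node (.node (.node (.node (.leaf 172132866) (.leaf 941265143)) (.leaf 887885898)) (.node (.node (.leaf 140855395) (.leaf 1088206751)) (.leaf 258428252))) (.node (.node (.node (.leaf 52609171) (.leaf 777892040)) (.leaf 720753577)) (.node (.node (.leaf 794939316) (.leaf 1091983032)) (.leaf 314109886)))))) (.node (.node (.node (.node (.node (.node (.leaf 43172606) (.leaf 845852864)) (.leaf 527953003)) (.node (.node (.leaf 414028540) (.leaf 928958052)) (.leaf 232194620))) (.node (.node (.node (.leaf 35701366) (.leaf 612668519)) (.leaf 741863171)) (.node (.node (.leaf 101302544) (.leaf 1091041200)) (.leaf 965249445)))) (.node (.node (.node (.node (.leaf 19923277) (.leaf 654331984)) (.leaf 160515692)) (.node (.node (.leaf 776515580) (.leaf 996625478)) (.leaf 264678871))) (.node (.node (.node (.leaf 51610009) (.leaf 946074074)) (.leaf 934810700)) (.node (.node (.leaf 137750433) (.leaf 1081445605)) (.leaf 1025160736))))) (.node (.node (.node (.node (.node (.leaf 14172406) (.leaf 796815485)) (.leaf 979203345)) (.node (.node (.leaf 449991659) (.leaf 519131809))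 (.leaf 243369682))) (.node (.node (.node (.leaf 50103030) (.leaf 1080366959)) (.leaf 1026307622)) (.node (.node (.leaf 829542517) (.leaf 1060835517)) (.leaf 1031353924)))) (.node (.node (.node (.node (.leaf 126132780) (.leaf 827878293)) (.leaf 981284125)) (.node (.node (.leaf 91022842) (.leaf 1017892893)) (.leaf 598912421))) (.node (.node (.node (.leaf 57672452) (.leaf 775885826)) (.leaf 222333928)) (.node (.node (.leaf 129106299) (.leaf 1101993913)) (.leaf 319062834))))))))) (.node (.node (.node (.node (.node (.node (.node (.node (.node (.leaf 1179662) (.leaf 321744922)) (.leaf 130761052)) (.node (.node (.leaf 62399538) (.leaf 783356013)) (.leaf 224217313))) (.node (.node (.node (.leaf 558433748) (.leaf 841126857)) (.leaf 172753949)) (.node (.node (.leaf 295137039) (.leaf 1021905672)) (.leaf 1017624052)))) (.node (.node (.node (.node (.leaf 32309472) (.leaf 348180682)) (.leaf 199797553)) (.node (.node (.leaf 456676362) (.leaf 1059395309)) (.leaf 245924453))) (.node (.node (.node (.leaf 786802275) (.leaf 860163963)) (.leaf 1029535289)) (.node (.node (.leaf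 1033262671) (.leaf 1064604627)) (.leaf 839226317))))) (.node (.node (.node (.node (.node (.leaf 8847428) (.leaf 334825178)) (.leaf 1052849860)) (.node (.node (.leaf 680315813) (.leaf 724693158)) (.leaf 779667946))) (.node (.node (.node (.leaf 37307022) (.leaf 409170645)) (.leaf 184190545)) (.node (.node (.leaf 960825910) (.leaf 1043728566)) (.leaf 926591700)))) (.node (.node (.node (.node (.leaf 21119035) (.leaf 948687314)) (.leaf 330025271)) (.node (.node (.leaf 139634778) (.leaf 1000687281)) (.leaf 255754883))) (.node (.node (.node (.leaf 349081887) (.leaf 435703634)) (.leaf 695423335)) (.node (.node (.leaf 206152226) (.leaf 1085428411)) (.leaf 567291069)))))) (.node (.node (.node (.node (.node (.node (.leaf 27148802) (.leaf 329551828)) (.leaf 142911619)) (.node (.node (.leaf 813410559) (.leaf 767079124)) (.leaf 500839618))) (.node (.node (.node (.leaf 53240770) (.leaf 696437719)) (.leaf 999257477)) (.node (.node (.leaf 950217364) (.leaf 1033080218)) (.leaf 849167833)))) (.node (.node (.node (.node (.leaf 20865416) (.leaf 1035499100)) (.leaf 925238261))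 (.node (.node (.leaf 748907791) (.leaf 989677059)) (.leaf 941156022))) (.node (.node (.node (.leaf 318402540) (.leaf 424366924)) (.leaf 206351208)) (.node (.node (.leaf 1035114074) (.leaf 1075088195)) (.leaf 301827064))))) (.node (.node (.node (.node (.node (.leaf 12288033) (.leaf 990270801)) (.leaf 935965847)) (.node (.node (.leaf 73056454) (.leaf 505972685)) (.leaf 996144499))) (.node (.node (.node (.leaf 40305340) (.leaf 864962730)) (.leaf 1019008508)) (.node (.node (.leaf 107922492) (.leaf 1054394672)) (.leaf 818614490)))) (.node (.node (.node (.node (.leaf 74523872) (.leaf 892300414)) (.leaf 735998260)) (.node (.node (.leaf 558771275) (.leaf 1011741624)) (.leaf 263899165))) (.node (.node (.node (.leaf 54149725) (.leaf 839996628)) (.leaf 1009800644)) (.node (.node (.leaf 535168551) (.leaf 1095652893)) (.leaf 324454661))))))) (.node (.node (.node (.node (.node (.node (.node (.leaf 3178542) (.leaf 1084815242)) (.leaf 195938427)) (.node (.node (.leaf 61662254) (.leaf 670141442)) (.leaf 592218740))) (.node (.node (.node (.leaf 29016147) (.leaf 772327072))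 (.leaf 942010226)) (.node (.node (.leaf 536605307) (.leaf 1027559238)) (.leaf 1000322443)))) (.node (.node (.node (.node (.leaf 112445193) (.leaf 1079727979)) (.leaf 156453152)) (.node (.node (.leaf 955723704) (.leaf 999806344)) (.leaf 976130659))) (.node (.node (.node (.leaf 803432309) (.leaf 419795755)) (.leaf 252554595)) (.node (.node (.leaf 554814508) (.leaf 1070050621)) (.leaf 813273859))))) (.node (.node (.node (.node (.node (.leaf 23683520) (.leaf 831359663)) (.leaf 146653561)) (.node (.node (.leaf 70911108) (.leaf 492062075)) (.leaf 236175946))) (.node (.node (.node (.leaf 275238477) (.leaf 488871068)) (.leaf 853584260)) (.node (.node (.leaf 105612199) (.leaf 1049154585)) (.leaf 1102460921)))) (.node (.node (.node (.node (.leaf 42787246) (.leaf 366415056)) (.leaf 166668747)) (.node (.node (.leaf 85524844) (.leaf 1005964927)) (.leaf 771835664))) (.node (.node (.node (.leaf 75973884) (.leaf 849865817)) (.leaf 760122541)) (.node (.node (.leaf 735195256) (.leaf 1090686392)) (.leaf 605736631)))))) (.node (.node (.node (.node (.node (.node (.leaf 39494331)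 (.leaf 774279392)) (.leaf 787149213)) (.node (.node (.leaf 597616980) (.leaf 1016133099)) (.leaf 880455840))) (.node (.node (.node (.leaf 750577923) (.leaf 395970207)) (.leaf 180947549)) (.node (.node (.leaf 100450972) (.leaf 1038436448)) (.leaf 279037623)))) (.node (.node (.node (.node (.leaf 141707373) (.leaf 796086202)) (.leaf 159416783)) (.node (.node (.leaf 182643325) (.leaf 995256224)) (.leaf 1042962057))) (.node (.node (.node (.leaf 757588843) (.leaf 644270968)) (.leaf 1042798216)) (.node (.node (.leaf 1008268731) (.leaf 1080185344)) (.leaf 713166370))))) (.node (.node (.node (.node (.node (.leaf 42877691) (.leaf 932991880)) (.leaf 152701081)) (.node (.node (.leaf 843313328) (.leaf 529108006)) (.leaf 242558677))) (.node (.node (.node (.leaf 41664627) (.leaf 413381365)) (.leaf 867365131)) (.node (.node (.leaf 296185623) (.leaf 1059541860)) (.leaf 720570308)))) (.node (.node (.node (.node (.leaf 26443852) (.leaf 1077729119)) (.leaf 587835551)) (.node (.node (.leaf 983864621) (.leaf 1016614393)) (.leaf 614695713))) (.node (.node (.node (.leaf 57114811)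 (.leaf 887074417)) (.leaf 221629269)) (.node (.node (.leaf 138979288) (.leaf 1100697691)) (.leaf 333508732)))))))) (.node (.node (.node (.node (.node (.node (.node (.node (.leaf 11354291) (.leaf 326529081)) (.leaf 132383072)) (.node (.node (.leaf 65709147) (.leaf 886516729)) (.leaf 225544168))) (.node (.node (.node (.leaf 28295673) (.leaf 835971561)) (.leaf 741769964)) (.node (.node (.leaf 93061374) (.leaf 1024864721)) (.leaf 714551148)))) (.node (.node (.node (.node (.leaf 57410547) (.leaf 1066006294)) (.leaf 156133672)) (.node (.node (.leaf 79537485) (.leaf 981373674)) (.leaf 870895171))) (.node (.node (.node (.leaf 601025112) (.leaf 1069430571)) (.leaf 1007039924)) (.node (.node (.leaf 812615377) (.leaf 1067307724)) (.leaf 861130568))))) (.node (.node (.node (.node (.node (.leaf 9994326) (.leaf 336544603)) (.leaf 823806679)) (.node (.node (.leaf 69616555) (.leaf 489342518)) (.leaf 903825794))) (.node (.node (.node (.leaf 56631904) (.leaf 402198053)) (.leaf 242183402)) (.node (.node (.leaf 276967004) (.leaf 1046350396)) (.leaf 926837021)))) (.node (.node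 (.node (.node (.leaf 21627295) (.leaf 968004017)) (.leaf 323219499)) (.node (.node (.leaf 553582903) (.leaf 1003213709)) (.leaf 256691578))) (.node (.node (.node (.leaf 50577584) (.leaf 700419478)) (.leaf 860278877)) (.node (.node (.leaf 642519441) (.leaf 1087968146)) (.leaf 569798531)))))) (.node (.node (.node (.node (.node (.node (.leaf 6070372) (.leaf 331780203)) (.leaf 961892007)) (.node (.node (.leaf 286314160) (.leaf 874898944)) (.leaf 576983174))) (.node (.node (.node (.leaf 54600658) (.leaf 663106453)) (.leaf 731574467)) (.node (.node (.leaf 99123467) (.leaf 1044698771)) (.leaf 957565265)))) (.node (.node (.node (.node (.leaf 18972726) (.leaf 826377972)) (.leaf 730788138)) (.node (.node (.leaf 656511960) (.leaf 992577040)) (.leaf 1005442475))) (.node (.node (.node (.leaf 58311677) (.leaf 426577926)) (.leaf 206097240)) (.node (.node (.leaf 591561638) (.leaf 1079998317)) (.leaf 848768805))))) (.node (.node (.node (.node (.node (.leaf 12861490) (.leaf 346501370)) (.leaf 151372163)) (.node (.node (.leaf 773367581) (.leaf 511347759)) (.leaf 745311989)))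 (.node (.node (.node (.leaf 41091184) (.leaf 675443120)) (.leaf 897189596)) (.node (.node (.leaf 109167049) (.leaf 1056983812)) (.leaf 764548234)))) (.node (.node (.node (.node (.leaf 25821257) (.leaf 868701245)) (.leaf 591079435)) (.node (.node (.leaf 89260275) (.leaf 1014158811)) (.leaf 265061013))) (.node (.node (.node (.leaf 373314020) (.leaf 648351653)) (.leaf 918513606)) (.node (.node (.leaf 584385247) (.leaf 1098157858)) (.leaf 318181352))))))) (.node (.node (.node (.node (.node (.node (.node (.leaf 3817534) (.leaf 778423576)) (.leaf 135758339)) (.node (.node (.leaf 63587324) (.leaf 1076737880)) (.leaf 227772434))) (.node (.node (.node (.leaf 723348333) (.leaf 871428369)) (.leaf 905726308)) (.node (.node (.leaf 95978404) (.leaf 1030312167)) (.leaf 747531560)))) (.node (.node (.node (.node (.leaf 65487960) (.leaf 1049638577)) (.leaf 588869099)) (.node (.node (.leaf 922742859) (.leaf 1065482003)) (.leaf 750620216))) (.node (.node (.node (.leaf 46334083) (.leaf 754201030)) (.leaf 868829514)) (.node (.node (.leaf 956843303) (.leaf 1072469591)) (.leaf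 300730819))))) (.node (.node (.node (.node (.node (.leaf 51307433) (.leaf 705851465)) (.leaf 147834793)) (.node (.node (.leaf 72033470) (.leaf 498880423)) (.leaf 1032836684))) (.node (.node (.node (.leaf 87860679) (.leaf 904950876)) (.leaf 1030239805)) (.node (.node (.leaf 568854246) (.leaf 1094825929)) (.leaf 287015636)))) (.node (.node (.node (.node (.leaf 175999536) (.leaf 716385656)) (.leaf 761106736)) (.node (.node (.leaf 789423987) (.leaf 1008719040)) (.leaf 1049810610))) (.node (.node (.node (.leaf 52839358) (.leaf 934250900)) (.leaf 216810000)) (.node (.node (.leaf 126232544) (.leaf 1093211868)) (.leaf 314118070)))))) (.node (.node (.node (.node (.node (.node (.leaf 45450029) (.leaf 811012681)) (.leaf 985740599)) (.node (.node (.leaf 67847087) (.leaf 1001911702)) (.leaf 892277198))) (.node (.node (.node (.leaf 254053747) (.leaf 579152373)) (.leaf 536965846)) (.node (.node (.leaf 101909078) (.leaf 1041027306)) (.leaf 420139825)))) (.node (.node (.node (.node (.leaf 20283728) (.leaf 360089344)) (.leaf 1079449450)) (.node (.node (.leaf 678569106) (.leaf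 997936343)) (.leaf 255241605))) (.node (.node (.node (.leaf 898935065) (.leaf 1040135800)) (.leaf 627239562)) (.node (.node (.leaf 170541398) (.leaf 1082821028)) (.leaf 310194076))))) (.node (.node (.node (.node (.node (.leaf 93046302) (.leaf 817278789)) (.leaf 891604880)) (.node (.node (.leaf 451228659) (.leaf 975572265)) (.leaf 590719138))) (.node (.node (.node (.leaf 43188342) (.leaf 819220845)) (.leaf 192004585)) (.node (.node (.leaf 919761679) (.leaf 1062196071)) (.leaf 293260546)))) (.node (.node (.node (.node (.leaf 206752624) (.leaf 591046666)) (.leaf 809652328)) (.node (.node (.leaf 562089867) (.leaf 1019302880)) (.leaf 926487291))) (.node (.node (.node (.leaf 76981515) (.leaf 454185523)) (.leaf 942720668)) (.node (.node (.leaf 144656530) (.leaf 1103171960)) (.leaf 319619891)))))))))))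

noncomputable def edgeA9 : Arr ℕ :=
  (.node (.node (.node (.node (.node (.node (.node (.node (.node (.node (.node (.leaf 155648) (.leaf 989902159)) (.node (.leaf 683230209) (.leaf 1103793945))) (.node (.node (.leaf 683224083) (.leaf 831572639)) (.leaf 670173493))) (.node (.node (.node (.leaf 27181564) (.leaf 806916736)) (.leaf 172182002)) (.node (.node (.leaf 802458213) (.leaf 1086437268)) (.leaf 594807090)))) (.node (.node (.node (.node (.leaf 14827668) (.leaf 347489863)) (.leaf 154380547)) (.node (.node (.leaf 189885133) (.leaf 644558170)) (.leaf 244925961))) (.node (.node (.node (.leaf 64316487) (.leaf 850225875)) (.leaf 1096767445)) (.node (.node (.leaf 677465661) (.leaf 1089402790)) (.leaf 521106686))))) (.node (.node (.node (.node (.node (.leaf 8233022) (.leaf 785466967)) (.leaf 969280691)) (.node (.node (.leaf 96405057) (.leaf 484746592)) (.leaf 893561618))) (.node (.node (.node (.leaf 634629085) (.leaf 709635791)) (.leaf 182903248)) (.node (.node (.leaf 627050512) (.leaf 1041664117)) (.leaf 280978113)))) (.node (.node (.node (.node (.leaf 145711645)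 (.leaf 693079069)) (.leaf 853397949)) (.node (.node (.leaf 82567395) (.leaf 998740705)) (.leaf 254804612))) (.node (.node (.node (.leaf 932948587) (.leaf 736990073)) (.leaf 209143872)) (.node (.node (.leaf 204024659) (.leaf 1083526754)) (.leaf 815756171)))))) (.node (.node (.node (.node (.node (.node (.leaf 5742688) (.leaf 714764672)) (.leaf 135987769)) (.node (.node (.leaf 801844908) (.leaf 869869062)) (.leaf 636654647))) (.node (.node (.node (.leaf 51725175) (.leaf 388654111)) (.leaf 613485497)) (.node (.node (.leaf 103523988) (.leaf 1030950045)) (.leaf 708923769)))) (.node (.node (.node (.node (.leaf 118048625) (.leaf 934294462)) (.leaf 635638840)) (.node (.node (.leaf 79070531) (.leaf 987514985)) (.leaf 1030387262))) (.node (.node (.node (.leaf 162580877) (.leaf 727839013)) (.leaf 905767486)) (.node (.node (.leaf 552240567) (.leaf 1072993097)) (.leaf 949940604))))) (.node (.node (.node (.node (.node (.leaf 51380368) (.leaf 340512937)) (.leaf 956172905)) (.node (.node (.leaf 72271037) (.leaf 500861166)) (.leaf 985675063))) (.node (.node (.node (.leaf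 39830211) (.leaf 971101420)) (.leaf 188663505)) (.node (.node (.leaf 106694207) (.leaf 1052412880)) (.leaf 1100126186)))) (.node (.node (.node (.node (.leaf 177654344) (.leaf 899583680)) (.leaf 165781929)) (.node (.node (.leaf 109143774) (.leaf 1104099332)) (.leaf 259580558))) (.node (.node (.node (.leaf 53166573) (.leaf 877015057)) (.leaf 262515822)) (.node (.node (.leaf 138078291) (.leaf 1093766237)) (.leaf 314426172))))))) (.node (.node (.node (.node (.node (.node (.node (.leaf 12517590) (.leaf 913265653)) (.leaf 132907392)) (.node (.node (.leaf 899115280) (.leaf 980112662)) (.leaf 547524383))) (.node (.node (.node (.leaf 622773557) (.leaf 382641158)) (.leaf 739160949)) (.node (.node (.leaf 93578500) (.leaf 1025477113)) (.leaf 285109923)))) (.node (.node (.node (.node (.leaf 16457774) (.leaf 349750165)) (.leaf 742593533)) (.node (.node (.leaf 652848646) (.leaf 982095138)) (.leaf 759729481))) (.node (.node (.node (.leaf 312872885) (.leaf 417948805)) (.leaf 978711822)) (.node (.node (.leaf 113870627) (.leaf 1067979428)) (.leaf 1092040630))))) (.node (.node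 (.node (.node (.node (.leaf 10190881) (.leaf 758354632)) (.leaf 590726022)) (.node (.node (.leaf 69976261) (.leaf 654307265)) (.leaf 302788438))) (.node (.node (.node (.leaf 601989505) (.leaf 957811930)) (.leaf 574115028)) (.node (.node (.leaf 160195681) (.leaf 1047063583)) (.leaf 285019679)))) (.node (.node (.node (.node (.leaf 21872770) (.leaf 827912694)) (.leaf 601425149)) (.node (.node (.leaf 136439882) (.leaf 1003890260)) (.leaf 597911894))) (.node (.node (.node (.leaf 66045012) (.leaf 700780269)) (.leaf 215002032)) (.node (.node (.leaf 723456236) (.leaf 1088720466)) (.leaf 310838078)))))) (.node (.node (.node (.node (.node (.node (.leaf 5996643) (.leaf 577588313)) (.leaf 573312460)) (.node (.node (.leaf 408294092) (.leaf 756648344)) (.leaf 722031243))) (.node (.node (.node (.leaf 109651681) (.leaf 687150258)) (.leaf 241478888)) (.node (.node (.leaf 786648962) (.leaf 1036521964)) (.leaf 818877347)))) (.node (.node (.node (.node (.leaf 138731908) (.leaf 1040373370)) (.leaf 766044968)) (.node (.node (.leaf 80404700) (.leaf 1089910697)) (.leaf 252570979)))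 (.node (.node (.node (.leaf 577350792) (.leaf 1089812392)) (.leaf 205179082)) (.node (.node (.leaf 606188153) (.leaf 1078203857)) (.leaf 304861023))))) (.node (.node (.node (.node (.node (.leaf 82380155) (.leaf 344427718)) (.leaf 262062646)) (.node (.node (.leaf 442946485) (.leaf 558319054)) (.leaf 241001048))) (.node (.node (.node (.leaf 276180566) (.leaf 894456078)) (.leaf 1063155460)) (.node (.node (.leaf 109741118) (.leaf 1057737436)) (.leaf 643458976)))) (.node (.node (.node (.node (.leaf 77096204) (.leaf 857904342)) (.leaf 169306595)) (.node (.node (.leaf 89490906) (.leaf 1014730413)) (.leaf 267496951))) (.node (.node (.node (.leaf 55419343) (.leaf 700969892)) (.leaf 1097840604)) (.node (.node (.leaf 1009161664) (.leaf 1098870786)) (.leaf 805356387)))))))) (.node (.node (.node (.node (.node (.node (.node (.node (.leaf 5816418) (.leaf 320997785)) (.leaf 558887724)) (.node (.node (.leaf 772842407) (.leaf 653456181)) (.leaf 856953869))) (.node (.node (.node (.leaf 119170948) (.leaf 845189104)) (.leaf 870559281)) (.node (.node (.leaf 92694040) (.leaf 1022724380))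 (.leaf 854315312)))) (.node (.node (.node (.node (.leaf 102172288) (.leaf 643025124)) (.leaf 204155732)) (.node (.node (.leaf 621178800) (.leaf 979405629)) (.leaf 758255807))) (.node (.node (.node (.leaf 567207463) (.leaf 862794204)) (.leaf 893538278)) (.node (.node (.leaf 112845103) (.leaf 1065293535)) (.leaf 691835425))))) (.node (.node (.node (.node (.node (.leaf 8978523) (.leaf 1053128390)) (.leaf 1038153324)) (.node (.node (.leaf 422073149) (.leaf 1087780764)) (.leaf 743048380))) (.node (.node (.node (.leaf 172321284) (.leaf 985199924)) (.leaf 369734074)) (.node (.node (.leaf 103252660) (.leaf 1091155889)) (.leaf 771506961)))) (.node (.node (.node (.node (.leaf 719136285) (.leaf 902288231)) (.leaf 162898337)) (.node (.node (.leaf 553510720) (.leaf 1001262457)) (.leaf 924988532))) (.node (.node (.node (.leaf 350867762) (.leaf 656999753)) (.leaf 217705415)) (.node (.node (.leaf 546989001) (.leaf 1086133771)) (.leaf 309322522)))))) (.node (.node (.node (.node (.node (.node (.leaf 28607014) (.leaf 884606147)) (.leaf 589778485)) (.node (.node (.leaf 182069878)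 (.leaf 876146668)) (.leaf 559170922))) (.node (.node (.node (.leaf 238275785) (.leaf 1084970891)) (.leaf 539159681)) (.node (.node (.leaf 344404194) (.leaf 1073772359)) (.leaf 717305088)))) (.node (.node (.node (.node (.leaf 125110237) (.leaf 756051372)) (.leaf 1076877146)) (.node (.node (.leaf 637169041) (.leaf 1097267160)) (.leaf 605753966))) (.node (.node (.node (.leaf 47145094) (.leaf 425256093)) (.leaf 1051129530)) (.node (.node (.leaf 555837205) (.leaf 1075728343)) (.leaf 531375824))))) (.node (.node (.node (.node (.node (.leaf 31080901) (.leaf 768017303)) (.leaf 598098563)) (.node (.node (.leaf 641641423) (.leaf 638079909)) (.leaf 920048740))) (.node (.node (.node (.leaf 167913941) (.leaf 958518518)) (.leaf 850438923)) (.node (.node (.leaf 108265768) (.leaf 1055140407)) (.leaf 1090975664)))) (.node (.node (.node (.node (.leaf 25223239) (.leaf 1006122415)) (.leaf 801260607)) (.node (.node (.leaf 580053621) (.leaf 1012323662)) (.leaf 819679982))) (.node (.node (.node (.leaf 54543294) (.leaf 1002706331)) (.leaf 219088768)) (.node (.node (.leaf 222374902)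 (.leaf 1096324756)) (.leaf 329617486))))))) (.node (.node (.node (.node (.node (.node (.node (.leaf 3325995) (.leaf 325780293)) (.leaf 151890142)) (.node (.node (.leaf 74228956) (.leaf 811602649)) (.leaf 604310049))) (.node (.node (.node (.leaf 261860367) (.leaf 797528158)) (.leaf 773276894)) (.node (.node (.leaf 781485533) (.leaf 1028204279)) (.leaf 592832549)))) (.node (.node (.node (.node (.leaf 29925584) (.leaf 742441964)) (.leaf 586215157)) (.node (.node (.leaf 960882318) (.leaf 984880229)) (.leaf 1053308615))) (.node (.node (.node (.leaf 319131639) (.leaf 916788018)) (.leaf 199920027)) (.node (.node (.leaf 1000682894) (.leaf 1070600893)) (.leaf 893332241))))) (.node (.node (.node (.node (.node (.leaf 801596314) (.leaf 837184202)) (.leaf 1068373797)) (.node (.node (.leaf 71173038) (.leaf 930277607)) (.leaf 244854017))) (.node (.node (.node (.leaf 98682458) (.leaf 1035761245)) (.leaf 808555115)) (.node (.node (.leaf 752094515) (.leaf 1049761339)) (.leaf 617989813)))) (.node (.node (.node (.node (.leaf 22814962) (.leaf 367051972)) (.leaf 958483509)) (.node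 (.node (.leaf 215182257) (.leaf 1006668530)) (.leaf 258105993))) (.node (.node (.node (.leaf 359272824) (.leaf 983053608)) (.leaf 565986009)) (.node (.node (.leaf 137095247) (.leaf 1091310721)) (.leaf 618857527)))))) (.node (.node (.node (.node (.node (.node (.leaf 7118950) (.leaf 909955753)) (.leaf 967995825)) (.node (.node (.leaf 789620596) (.leaf 706801198)) (.leaf 820986839))) (.node (.node (.node (.leaf 35389540) (.leaf 874688493)) (.leaf 181543373)) (.node (.node (.leaf 103409299) (.leaf 1063941897)) (.leaf 583763937)))) (.node (.node (.node (.node (.leaf 142821507) (.leaf 791048319)) (.leaf 911723493)) (.node (.node (.leaf 559197266) (.leaf 995838975)) (.leaf 720242699))) (.node (.node (.node (.leaf 86697406) (.leaf 738005004)) (.leaf 206922238)) (.node (.node (.leaf 118071618) (.leaf 1080858053)) (.leaf 1081390965))))) (.node (.node (.node (.node (.node (.leaf 35807863) (.leaf 845009426)) (.leaf 495604918)) (.node (.node (.leaf 75449587) (.leaf 788074607)) (.leaf 821684965))) (.node (.node (.node (.leaf 99951498) (.leaf 879650548)) (.leaf 825636040))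 (.node (.node (.leaf 233925781) (.leaf 1060211594)) (.leaf 644360438)))) (.node (.node (.node (.node (.leaf 199609136) (.leaf 966251303)) (.leaf 979727636)) (.node (.node (.leaf 722227624) (.leaf 1017220786)) (.leaf 706933832))) (.node (.node (.node (.leaf 279015022) (.leaf 1062401791)) (.leaf 1073665862)) (.node (.node (.leaf 170756159) (.leaf 1101294715)) (.leaf 1036105311))))))))) (.node (.node (.node (.node (.node (.node (.node (.node (.node (.leaf 3473461) (.leaf 601057880)) (.node (.leaf 908636900) (.leaf 1105057643))) (.node (.node (.leaf 59228466) (.leaf 777613511)) (.leaf 633254278))) (.node (.node (.node (.leaf 213732265) (.leaf 720416492)) (.leaf 172624395)) (.node (.node (.leaf 94266922) (.leaf 1021448457)) (.leaf 306884472)))) (.node (.node (.node (.node (.leaf 15417392) (.leaf 347900516)) (.leaf 965576337)) (.node (.node (.leaf 76989707) (.leaf 524029391)) (.leaf 245664460))) (.node (.node (.node (.leaf 532210747) (.leaf 756215214)) (.leaf 851447805)) (.node (.node (.leaf 112543499) (.leaf 1064003699)) (.leaf 366293118))))) (.node (.node (.node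 (.node (.node (.leaf 48710522) (.leaf 876546746)) (.leaf 143575174)) (.node (.node (.leaf 74818788) (.leaf 1039824502)) (.leaf 909004465))) (.node (.node (.node (.leaf 162064777) (.leaf 909028490)) (.leaf 641438745)) (.node (.node (.leaf 102876811) (.leaf 1043081046)) (.leaf 282100493)))) (.node (.node (.node (.node (.leaf 154306818) (.leaf 630155249)) (.leaf 207178612)) (.node (.node (.leaf 126240736) (.leaf 1000132584)) (.leaf 598436152))) (.node (.node (.node (.leaf 294604557) (.leaf 774812517)) (.leaf 262941804)) (.node (.node (.leaf 850463500) (.leaf 1084797650)) (.leaf 310177692)))))) (.node (.node (.node (.node (.node (.node (.leaf 26067429) (.leaf 659723255)) (.leaf 583978550)) (.node (.node (.leaf 64536862) (.leaf 644803462)) (.leaf 578882697))) (.node (.node (.node (.leaf 236194991) (.leaf 911101363)) (.leaf 677057081)) (.node (.node (.leaf 534594217) (.leaf 1036957285)) (.leaf 977974255)))) (.node (.node (.node (.node (.leaf 18104651) (.leaf 352914960)) (.leaf 760278303)) (.node (.node (.leaf 611053031) (.leaf 988943371)) (.leaf 751897398))) (.node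 (.node (.node (.leaf 46957387) (.leaf 884011095)) (.leaf 203049208)) (.node (.node (.leaf 748023087) (.leaf 1074334136)) (.leaf 301417532))))) (.node (.node (.node (.node (.node (.leaf 31834159) (.leaf 984675633)) (.leaf 497202362)) (.node (.node (.leaf 81626290) (.leaf 578088638)) (.leaf 238379602))) (.node (.node (.node (.leaf 281702024) (.leaf 863916519)) (.leaf 899344666)) (.node (.node (.leaf 107447961) (.leaf 1053782498)) (.leaf 604148983)))) (.node (.node (.node (.node (.leaf 180128355) (.leaf 371757515)) (.leaf 1018017271)) (.node (.node (.leaf 272887344) (.leaf 1010783146)) (.leaf 782652030))) (.node (.node (.node (.leaf 72475845) (.leaf 959410499)) (.leaf 634081688)) (.node (.node (.leaf 984839474) (.leaf 1094965192)) (.leaf 651678982))))))) (.node (.node (.node (.node (.node (.node (.node (.leaf 2875400) (.leaf 1048614571)) (.leaf 562874089)) (.node (.node (.leaf 607169019) (.leaf 638415280)) (.leaf 263326666))) (.node (.node (.node (.leaf 120293271) (.leaf 884976089)) (.leaf 175589854)) (.node (.node (.leaf 177465925) (.leaf 1065432851)) (.leaf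 1005508011)))) (.node (.node (.node (.node (.leaf 111560441) (.leaf 730794493)) (.leaf 607610140)) (.node (.node (.leaf 78119130) (.leaf 983454719)) (.leaf 747653578))) (.node (.node (.node (.leaf 213085093) (.leaf 1081571190)) (.leaf 198975985)) (.node (.node (.leaf 942583269) (.leaf 1069231651)) (.leaf 1031714374))))) (.node (.node (.node (.node (.node (.leaf 59679758) (.leaf 337658730)) (.leaf 898068042)) (.node (.node (.leaf 182446715) (.leaf 491558059)) (.leaf 713451732))) (.node (.node (.node (.leaf 103245458) (.leaf 708121167)) (.leaf 841536469)) (.node (.node (.leaf 418181923) (.leaf 1048397710)) (.leaf 285822581)))) (.node (.node (.node (.node (.leaf 166611403) (.leaf 365847495)) (.leaf 890425190)) (.node (.node (.leaf 126714089) (.leaf 1005292631)) (.leaf 257467015))) (.node (.node (.node (.leaf 357290346) (.leaf 440452743)) (.leaf 213836298)) (.node (.node (.leaf 571877163) (.leaf 1090097855)) (.leaf 312231937)))))) (.node (.node (.node (.node (.node (.node (.leaf 6733931) (.leaf 784330341)) (.leaf 542092481)) (.node (.node (.leaf 679757183) (.leaf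 1040004727)) (.leaf 816214204))) (.node (.node (.node (.leaf 747054758) (.leaf 992212316)) (.leaf 724207483)) (.node (.node (.leaf 100107711) (.leaf 1042544263)) (.leaf 914942125)))) (.node (.node (.node (.node (.leaf 83649936) (.leaf 357462379)) (.leaf 159228312)) (.node (.node (.leaf 533792114) (.leaf 994448026)) (.leaf 807982233))) (.node (.node (.node (.leaf 48071520) (.leaf 760345561)) (.leaf 206479869)) (.node (.node (.leaf 167651793) (.leaf 1079497043)) (.leaf 305514944))))) (.node (.node (.node (.node (.node (.leaf 85886389) (.leaf 815984893)) (.leaf 929844538)) (.node (.node (.leaf 188050103) (.leaf 528549359)) (.leaf 242057826))) (.node (.node (.node (.leaf 41435725) (.leaf 981071132)) (.leaf 192539398)) (.node (.node (.leaf 987370817) (.leaf 1058900880)) (.leaf 647718882)))) (.node (.node (.node (.node (.leaf 191048426) (.leaf 373721814)) (.leaf 830222551)) (.node (.node (.leaf 89809140) (.leaf 1015965353)) (.leaf 1082496892))) (.node (.node (.node (.leaf 789784344) (.leaf 665145968)) (.leaf 675591302)) (.node (.node (.leaf 498775229) (.leaf 1100108560))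 (.leaf 805384162)))))))) (.node (.node (.node (.node (.node (.node (.node (.node (.leaf 2162715) (.leaf 950600828)) (.leaf 132147111)) (.node (.node (.leaf 60523547) (.leaf 460768541)) (.leaf 918546374))) (.node (.node (.node (.leaf 220580839) (.leaf 925618716)) (.leaf 1079228264)) (.node (.node (.leaf 111207307) (.leaf 1024149783)) (.leaf 1088567201)))) (.node (.node (.node (.node (.leaf 104777379) (.leaf 737887576)) (.leaf 899322034)) (.node (.node (.leaf 77628459) (.leaf 980717000)) (.leaf 779463820))) (.node (.node (.node (.leaf 541337638) (.leaf 416764113)) (.leaf 194464134)) (.node (.node (.leaf 306335598) (.leaf 1066717678)) (.leaf 788254934))))) (.node (.node (.node (.node (.node (.leaf 10215586) (.leaf 990000464)) (.leaf 151587043)) (.node (.node (.leaf 741765461) (.leaf 996570486)) (.leaf 852381248))) (.node (.node (.node (.leaf 603367066) (.leaf 1048262313)) (.leaf 185518689)) (.node (.node (.leaf 160139636) (.leaf 1045821082)) (.leaf 794546633)))) (.node (.node (.node (.node (.leaf 800637817) (.leaf 1027307052)) (.leaf 163390967)) (.node (.node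 (.leaf 550764816) (.leaf 1052800708)) (.leaf 718033278))) (.node (.node (.node (.leaf 50184980) (.leaf 650530296)) (.leaf 314937286)) (.node (.node (.leaf 735613185) (.leaf 1087428485)) (.leaf 770420400)))))) (.node (.node (.node (.node (.node (.node (.leaf 30057027) (.leaf 820104310)) (.leaf 644394738)) (.node (.node (.leaf 66937966) (.leaf 689418156)) (.leaf 835834254))) (.node (.node (.node (.leaf 34250841) (.leaf 738808651)) (.leaf 601277239)) (.node (.node (.leaf 98665409) (.leaf 1035161159)) (.leaf 972805048)))) (.node (.node (.node (.node (.leaf 18710585) (.leaf 407220931)) (.leaf 831180626)) (.node (.node (.leaf 640381758) (.leaf 991908707)) (.leaf 251103291))) (.node (.node (.node (.leaf 302313296) (.leaf 1047164579)) (.leaf 204548955)) (.node (.node (.leaf 571934548) (.leaf 1077147483)) (.leaf 532648272))))) (.node (.node (.node (.node (.node (.leaf 79480141) (.leaf 1001682325)) (.leaf 642658705)) (.node (.node (.leaf 853141888) (.leaf 1038333549)) (.leaf 931263540))) (.node (.node (.node (.leaf 289017552) (.leaf 814122151)) (.leaf 924797360))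 (.node (.node (.leaf 365932970) (.leaf 1056352266)) (.leaf 1045706393)))) (.node (.node (.node (.node (.leaf 187533998) (.leaf 1052473026)) (.leaf 885688169)) (.node (.node (.leaf 523760905) (.leaf 1013607853)) (.leaf 264774292))) (.node (.node (.node (.leaf 371937742) (.leaf 651963881)) (.leaf 688229813)) (.node (.node (.leaf 937742813) (.leaf 1097568050)) (.leaf 317219629))))))) (.node (.node (.node (.node (.node (.node (.node (.leaf 19112290) (.leaf 326732188)) (.leaf 193669914)) (.node (.node (.leaf 63250725) (.leaf 802448898)) (.leaf 557876687))) (.node (.node (.node (.leaf 214510507) (.leaf 1069791021)) (.leaf 909882465)) (.node (.node (.leaf 906265405) (.leaf 1029656948)) (.leaf 733901058)))) (.node (.node (.node (.node (.leaf 548513180) (.leaf 1083684739)) (.leaf 157452498)) (.node (.node (.leaf 623751240) (.leaf 986139124)) (.leaf 1051948735))) (.node (.node (.node (.leaf 171944448) (.leaf 423211848)) (.leaf 207440759)) (.node (.node (.leaf 114803002) (.leaf 1071797271)) (.leaf 955315367))))) (.node (.node (.node (.node (.node (.leaf 67716221) (.leaf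 338895716)) (.leaf 570429337)) (.node (.node (.leaf 738928941) (.leaf 497142626)) (.leaf 237177387))) (.node (.node (.node (.leaf 39329900) (.leaf 1039382131)) (.leaf 827716437)) (.node (.node (.leaf 161081722) (.leaf 1051137088)) (.leaf 912214397)))) (.node (.node (.node (.node (.leaf 23339075) (.leaf 369741646)) (.leaf 260091332)) (.node (.node (.leaf 86213798) (.leaf 1008076570)) (.leaf 579030887))) (.node (.node (.node (.leaf 630530434) (.leaf 918140124)) (.leaf 216400403)) (.node (.node (.leaf 208694144) (.leaf 1092605130)) (.leaf 617108642)))))) (.node (.node (.node (.node (.node (.node (.leaf 44679959) (.leaf 575989253)) (.leaf 555345681)) (.node (.node (.leaf 902410613) (.leaf 655903694)) (.leaf 1100658670))) (.node (.node (.node (.leaf 252366178) (.leaf 397625038)) (.leaf 810340687)) (.node (.node (.leaf 101516883) (.leaf 1089558439)) (.leaf 887457079)))) (.node (.node (.node (.node (.leaf 136112196) (.leaf 711119762)) (.leaf 161023032)) (.node (.node (.leaf 678962522) (.leaf 997232756)) (.leaf 254299515))) (.node (.node (.node (.leaf 48726867)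 (.leaf 1051481788)) (.leaf 581337822)) (.node (.node (.leaf 118636883) (.leaf 1082165847)) (.leaf 793784747))))) (.node (.node (.node (.node (.node (.leaf 91309568) (.leaf 722136314)) (.leaf 527420516)) (.node (.node (.leaf 451449846) (.leaf 819212653)) (.leaf 722111561))) (.node (.node (.node (.leaf 166439368) (.leaf 413926522)) (.leaf 858869640)) (.node (.node (.leaf 111583530) (.leaf 1061556916)) (.leaf 998700418)))) (.node (.node (.node (.node (.leaf 204426074) (.leaf 914395320)) (.leaf 787874461)) (.node (.node (.leaf 90988793) (.leaf 1043994255)) (.leaf 670434995))) (.node (.node (.node (.leaf 567323837) (.leaf 452994304)) (.leaf 222874520)) (.node (.node (.leaf 134768685) (.leaf 1102540081)) (.leaf 790835322)))))))))) (.node (.node (.node (.node (.node (.node (.node (.node (.node (.node (.leaf 663561) (.leaf 788714418)) (.node (.leaf 214362919) (.leaf 1104467361))) (.node (.node (.leaf 691727252) (.leaf 831859379)) (.leaf 223633953))) (.node (.node (.node (.leaf 27312210) (.leaf 813024271)) (.leaf 570118015)) (.node (.node (.leaf 869846288) (.leaf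 1020602044)) (.leaf 886386816)))) (.node (.node (.node (.node (.leaf 534242280) (.leaf 987936068)) (.leaf 758992183)) (.node (.node (.leaf 784707732) (.leaf 651316632)) (.leaf 245326435))) (.node (.node (.node (.leaf 94537259) (.leaf 1014879715)) (.leaf 192487914)) (.node (.node (.leaf 1030657600) (.leaf 1063422071)) (.leaf 1007637944))))) (.node (.node (.node (.node (.node (.leaf 47121233) (.leaf 334168922)) (.leaf 143214528)) (.node (.node (.leaf 236735670) (.leaf 675467869)) (.leaf 578941793))) (.node (.node (.node (.leaf 598859880) (.leaf 1104295941)) (.leaf 869520017)) (.node (.node (.leaf 743540993) (.leaf 1042388469)) (.leaf 281363659)))) (.node (.node (.node (.node (.leaf 551446357) (.leaf 626821721)) (.leaf 194480186)) (.node (.node (.leaf 549421369) (.leaf 999444046)) (.leaf 603784855))) (.node (.node (.node (.leaf 112338695) (.leaf 884722117)) (.leaf 209636200)) (.node (.node (.leaf 210340748) (.leaf 1084148888)) (.leaf 568911550)))))) (.node (.node (.node (.node (.node (.node (.leaf 24412616) (.leaf 763441436)) (.leaf 751119686)) (.node (.node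 (.leaf 87540434) (.leaf 1013069271)) (.leaf 524928417))) (.node (.node (.node (.leaf 234589344) (.leaf 411677415)) (.leaf 530793913)) (.node (.node (.leaf 96879445) (.leaf 1031770756)) (.leaf 696758605)))) (.node (.node (.node (.node (.leaf 119670668) (.leaf 768045266)) (.leaf 661188152)) (.node (.node (.leaf 475837527) (.leaf 988268796)) (.leaf 976081507))) (.node (.node (.node (.leaf 315944908) (.leaf 1073215299)) (.leaf 222030833)) (.node (.node (.leaf 1040766589) (.leaf 1073656596)) (.leaf 1104877577))))) (.node (.node (.node (.node (.node (.leaf 69510300) (.leaf 761596559)) (.leaf 645223684)) (.node (.node (.leaf 623201199) (.leaf 1027126827)) (.leaf 238061138))) (.node (.node (.node (.leaf 98297429) (.leaf 750202171)) (.leaf 1093629889)) (.node (.node (.leaf 554634014) (.leaf 1053134985)) (.leaf 583673860)))) (.node (.node (.node (.node (.leaf 600926621) (.leaf 754209504)) (.leaf 937347526)) (.node (.node (.leaf 87425726) (.leaf 1010062467)) (.leaf 260238791))) (.node (.node (.node (.leaf 53469335) (.leaf 455111682)) (.leaf 970834795)) (.node (.node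 (.leaf 918521781) (.leaf 1094439308)) (.leaf 314918791))))))) (.node (.node (.node (.node (.node (.node (.node (.leaf 2662438) (.leaf 906290746)) (.leaf 541437842)) (.node (.node (.leaf 623356916) (.leaf 902001510)) (.leaf 1099864041))) (.node (.node (.node (.leaf 28623366) (.leaf 948655077)) (.leaf 175032696)) (.node (.node (.leaf 559492179) (.leaf 1026215801)) (.leaf 865948414)))) (.node (.node (.node (.node (.leaf 109971172) (.leaf 728058891)) (.leaf 594759228)) (.node (.node (.leaf 622406662) (.leaf 982682899)) (.leaf 749512077))) (.node (.node (.node (.leaf 45253415) (.leaf 618507758)) (.leaf 200092467)) (.node (.node (.leaf 708145834) (.leaf 1068562188)) (.leaf 676098255))))) (.node (.node (.node (.node (.node (.leaf 11059372) (.leaf 758648202)) (.leaf 548413910)) (.node (.node (.leaf 74540256) (.leaf 713786972)) (.leaf 242953458))) (.node (.node (.node (.leaf 38601376) (.leaf 403115833)) (.leaf 186565887)) (.node (.node (.leaf 747072805) (.leaf 1047661598)) (.leaf 578112508)))) (.node (.node (.node (.node (.leaf 117344102) (.leaf 918926593)) (.leaf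 697889828)) (.node (.node (.leaf 122283953) (.leaf 1004590479)) (.leaf 1044477586))) (.node (.node (.node (.leaf 51118254) (.leaf 699712842)) (.leaf 734998844)) (.node (.node (.leaf 263129981) (.leaf 1089377915)) (.leaf 916606652)))))) (.node (.node (.node (.node (.node (.node (.leaf 8380548) (.leaf 851022684)) (.leaf 141247882)) (.node (.node (.leaf 283954839) (.leaf 1051793086)) (.leaf 1072412478))) (.node (.node (.node (.leaf 34767259) (.leaf 1015166437)) (.leaf 536998614)) (.node (.node (.leaf 107603114) (.leaf 1037142375)) (.leaf 610473058)))) (.node (.node (.node (.node (.leaf 119269253) (.leaf 704549552)) (.leaf 896144607)) (.node (.node (.leaf 674706221) (.leaf 993850665)) (.leaf 928584454))) (.node (.node (.node (.leaf 169486821) (.leaf 901977031)) (.leaf 215952312)) (.node (.node (.leaf 164186539) (.leaf 1078874263)) (.leaf 1062975235))))) (.node (.node (.node (.node (.node (.leaf 84018582) (.leaf 734381193)) (.leaf 910250304)) (.node (.node (.leaf 444093372) (.leaf 512993301)) (.leaf 896569255))) (.node (.node (.node (.leaf 584459652) (.leaf 411626994))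 (.leaf 821807761)) (.node (.node (.leaf 858893050) (.leaf 1058296305)) (.leaf 662783014)))) (.node (.node (.node (.node (.leaf 26091594) (.leaf 373433310)) (.leaf 809784332)) (.node (.node (.leaf 556552712) (.leaf 1015352735)) (.leaf 975891289))) (.node (.node (.node (.leaf 64562250) (.leaf 449696743)) (.leaf 879527396)) (.node (.node (.leaf 1049786034) (.leaf 1099549765)) (.leaf 797994114)))))))) (.node (.node (.node (.node (.node (.node (.node (.node (.leaf 1843222) (.leaf 842462449)) (.leaf 807404216)) (.node (.node (.leaf 784183388) (.leaf 673933717)) (.leaf 762802713))) (.node (.node (.node (.leaf 219450327) (.leaf 381051904)) (.leaf 174205469)) (.node (.node (.leaf 856648933) (.leaf 1023338199)) (.leaf 282979984)))) (.node (.node (.node (.node (.leaf 103007888) (.leaf 897502395)) (.leaf 898532556)) (.node (.node (.leaf 629122397) (.leaf 980102787)) (.leaf 246399729))) (.node (.node (.node (.leaf 307892094) (.leaf 996914552)) (.leaf 832229820)) (.node (.node (.leaf 620491796) (.leaf 1065920660)) (.leaf 780708515))))) (.node (.node (.node (.node (.node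 (.leaf 15212807) (.leaf 335848280)) (.leaf 585395913)) (.node (.node (.leaf 178317906) (.leaf 935874070)) (.leaf 852201802))) (.node (.node (.node (.leaf 965912951) (.leaf 849332914)) (.leaf 184763344)) (.node (.node (.leaf 751846001) (.leaf 1045188874)) (.leaf 906760237)))) (.node (.node (.node (.node (.leaf 156248362) (.leaf 635161517)) (.leaf 882806098)) (.node (.node (.leaf 84084119) (.leaf 1032959565)) (.leaf 999961993))) (.node (.node (.node (.leaf 733424622) (.leaf 1065989910)) (.leaf 211340183)) (.node (.node (.leaf 120217927) (.leaf 1086836434)) (.leaf 968583295)))))) (.node (.node (.node (.node (.node (.node (.leaf 5292061) (.leaf 883822711)) (.leaf 138256746)) (.node (.node (.leaf 799731720) (.leaf 882650692)) (.leaf 1022703122))) (.node (.node (.node (.leaf 42689273) (.leaf 1074067272)) (.leaf 887941558)) (.node (.node (.leaf 939356337) (.leaf 1034474399)) (.leaf 289910497)))) (.node (.node (.node (.node (.leaf 127485935) (.leaf 354796621)) (.leaf 597886649)) (.node (.node (.leaf 460796954) (.leaf 1011430861)) (.leaf 250563355))) (.node (.node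 (.node (.leaf 785335120) (.leaf 835635082)) (.leaf 1075328848)) (.node (.node (.leaf 552389439) (.leaf 1076350033)) (.leaf 736784996))))) (.node (.node (.node (.node (.node (.leaf 12550359) (.leaf 845369483)) (.leaf 800010352)) (.node (.node (.leaf 750600814) (.leaf 1053791946)) (.leaf 1098708961))) (.node (.node (.node (.leaf 40607855) (.leaf 536970608)) (.leaf 190268383)) (.node (.node (.leaf 108545553) (.leaf 1055774372)) (.leaf 666006499)))) (.node (.node (.node (.node (.leaf 186108576) (.leaf 864932626)) (.leaf 949456007)) (.node (.node (.leaf 540340093) (.leaf 1056519899)) (.leaf 264577683))) (.node (.node (.node (.leaf 853420418) (.leaf 913943491)) (.leaf 543821427)) (.node (.node (.leaf 250817879) (.leaf 1096919810)) (.leaf 322572323))))))) (.node (.node (.node (.node (.node (.node (.node (.leaf 3514378) (.leaf 1073526597)) (.leaf 551167609)) (.node (.node (.leaf 62767782) (.leaf 1059911408)) (.leaf 1031288388))) (.node (.node (.node (.leaf 119941007) (.leaf 797545310)) (.leaf 1055463124)) (.node (.node (.leaf 560352448) (.leaf 1029081838)) (.leaf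 582829474)))) (.node (.node (.node (.node (.leaf 114362163) (.leaf 795126805)) (.leaf 830460168)) (.node (.node (.leaf 471028812) (.leaf 985608892)) (.leaf 249146695))) (.node (.node (.node (.leaf 320770061) (.leaf 420909640)) (.leaf 544705681)) (.node (.node (.leaf 945663564) (.leaf 1071223814)) (.leaf 878391784))))) (.node (.node (.node (.node (.node (.leaf 65553497) (.leaf 846868597)) (.leaf 985593142)) (.node (.node (.leaf 71517069) (.leaf 495536364)) (.leaf 236718757))) (.node (.node (.node (.leaf 164882871) (.leaf 849162372)) (.leaf 187991302)) (.node (.node (.leaf 941117268) (.leaf 1050407663)) (.leaf 927835899)))) (.node (.node (.node (.node (.leaf 89572835) (.leaf 368996348)) (.leaf 887915044)) (.node (.node (.leaf 85942506) (.leaf 1007397668)) (.leaf 313929661))) (.node (.node (.node (.leaf 593882096) (.leaf 840642549)) (.leaf 215566250)) (.node (.node (.leaf 794969183) (.leaf 1092048174)) (.leaf 313066305)))))) (.node (.node (.node (.node (.node (.node (.leaf 589046135) (.leaf 983807276)) (.leaf 1025373729)) (.node (.node (.leaf 414094077) (.leaf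 695355723)) (.leaf 820097801))) (.node (.node (.node (.leaf 250547542) (.leaf 914239995)) (.leaf 182043803)) (.node (.node (.leaf 550569925) (.leaf 1039783175)) (.leaf 965283911)))) (.node (.node (.node (.node (.leaf 145803421) (.leaf 705671679)) (.leaf 160563671)) (.node (.node (.leaf 932955010) (.leaf 996591752)) (.leaf 992474461))) (.node (.node (.node (.leaf 51585623) (.leaf 945973046)) (.leaf 1074870093)) (.node (.node (.leaf 118228855) (.leaf 1081543673)) (.leaf 567560378))))) (.node (.node (.node (.node (.node (.leaf 14049319) (.leaf 796879337)) (.leaf 153634906)) (.node (.node (.leaf 450073580) (.leaf 1084782474)) (.leaf 353939793))) (.node (.node (.node (.leaf 51471228) (.leaf 413438295)) (.leaf 191652328)) (.node (.node (.leaf 846762147) (.leaf 1060919006)) (.leaf 711755529)))) (.node (.node (.node (.node (.leaf 26722807) (.leaf 827975493)) (.leaf 171215351)) (.node (.node (.leaf 524006666) (.leaf 1017827997)) (.leaf 906932837))) (.node (.node (.node (.leaf 57729801) (.leaf 776021257)) (.leaf 222398381)) (.node (.node (.leaf 133015588) (.leaf 1102025439))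 (.leaf 319081709))))))))) (.node (.node (.node (.node (.node (.node (.node (.node (.node (.leaf 1212422) (.leaf 1024652829)) (.leaf 735228024)) (.node (.node (.leaf 59637985) (.leaf 783372270)) (.leaf 224185184))) (.node (.node (.node (.leaf 27705687) (.leaf 386691637)) (.leaf 172818877)) (.node (.node (.leaf 489518239) (.leaf 1022002941)) (.leaf 605335030)))) (.node (.node (.node (.node (.leaf 82011509) (.leaf 827738815)) (.leaf 1043363467)) (.node (.node (.leaf 810363514) (.leaf 978675160)) (.leaf 757795165))) (.node (.node (.node (.leaf 305237860) (.leaf 859124235)) (.leaf 192946667)) (.node (.node (.leaf 1032812108) (.leaf 1096341458)) (.leaf 839258884))))) (.node (.node (.node (.node (.node (.leaf 14844162) (.leaf 346583292)) (.leaf 578465467)) (.node (.node (.leaf 680472530) (.leaf 724381154)) (.leaf 233185856))) (.node (.node (.node (.leaf 252833125) (.leaf 1053406920)) (.leaf 810839663)) (.node (.node (.leaf 960858403) (.leaf 1043795269)) (.leaf 991147350)))) (.node (.node (.node (.node (.leaf 84272537) (.leaf 1062254334)) (.leaf 329951155)) (.node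 (.node (.leaf 118966147) (.leaf 1038644847)) (.leaf 614453198))) (.node (.node (.node (.leaf 49742735) (.leaf 435817084)) (.leaf 759862140)) (.node (.node (.leaf 121317284) (.leaf 1085476905)) (.leaf 562392244)))))) (.node (.node (.node (.node (.node (.node (.leaf 5013583) (.leaf 680477838)) (.leaf 136937840)) (.node (.node (.leaf 866790096) (.leaf 718221650)) (.leaf 229115828))) (.node (.node (.node (.leaf 32858412) (.leaf 706662067)) (.leaf 285142692)) (.node (.node (.leaf 1002329497) (.leaf 1033193859)) (.leaf 832169536)))) (.node (.node (.node (.node (.leaf 123668423) (.leaf 716133060)) (.leaf 925272856)) (.node (.node (.leaf 636743059) (.leaf 996259188)) (.leaf 344698885))) (.node (.node (.node (.leaf 332845177) (.leaf 769371371)) (.leaf 203457024)) (.node (.node (.leaf 724960566) (.leaf 1075057724)) (.leaf 301877906))))) (.node (.node (.node (.node (.node (.leaf 31293918) (.leaf 731032077)) (.leaf 616591989)) (.node (.node (.leaf 542958101) (.leaf 553887555)) (.leaf 953259225))) (.node (.node (.node (.leaf 56722120) (.leaf 864996484)) (.leaf 955486764))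 (.node (.node (.leaf 242494702) (.leaf 1054411586)) (.leaf 288883806)))) (.node (.node (.node (.node (.leaf 25084071) (.leaf 865381668)) (.leaf 697586769)) (.node (.node (.leaf 558245289) (.leaf 1011656717)) (.leaf 1058322150))) (.node (.node (.node (.leaf 545260045) (.leaf 1021801997)) (.leaf 218556403)) (.node (.node (.leaf 535848668) (.leaf 1095715600)) (.leaf 316105513))))))) (.node (.node (.node (.node (.node (.node (.node (.leaf 16433441) (.leaf 975760109)) (.leaf 549021522)) (.node (.node (.leaf 61604540) (.leaf 465339747)) (.leaf 592249512))) (.node (.node (.node (.leaf 202812232) (.leaf 772362822)) (.leaf 908201723)) (.node (.node (.leaf 536612063) (.leaf 1027675678)) (.leaf 1069995822)))) (.node (.node (.node (.node (.leaf 112510730) (.leaf 804204536)) (.leaf 156436776)) (.node (.node (.leaf 955870023) (.leaf 984157986)) (.leaf 247775855))) (.node (.node (.node (.leaf 45515567) (.leaf 1046230685)) (.leaf 257830319)) (.node (.node (.leaf 554845606) (.leaf 1069986930)) (.leaf 813306516))))) (.node (.node (.node (.node (.node (.leaf 62555188) (.leaf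 831427752)) (.leaf 1025947172)) (.node (.node (.leaf 95053357) (.leaf 686746667)) (.leaf 766637087))) (.node (.node (.node (.leaf 870411843) (.leaf 404263464)) (.leaf 187566767)) (.node (.node (.leaf 105595649) (.leaf 1049135077)) (.leaf 712461780)))) (.node (.node (.node (.node (.leaf 169101794) (.leaf 544025523)) (.leaf 772928047)) (.node (.node (.leaf 503690439) (.leaf 1006031516)) (.leaf 974074049))) (.node (.node (.node (.leaf 81650890) (.leaf 1093064637)) (.leaf 702574661)) (.node (.node (.leaf 134219794) (.leaf 1090705080)) (.leaf 312725423)))))) (.node (.node (.node (.node (.node (.node (.leaf 40157900) (.leaf 332030796)) (.leaf 141772911)) (.node (.node (.leaf 405893817) (.leaf 854052468)) (.leaf 1026717225))) (.node (.node (.node (.leaf 750594336) (.leaf 882862486)) (.leaf 180994515)) (.node (.node (.leaf 100549279) (.leaf 1038526968)) (.leaf 278971072)))) (.node (.node (.node (.node (.leaf 141740142) (.leaf 796119406)) (.leaf 159384945)) (.node (.node (.leaf 81256671) (.leaf 995208239)) (.leaf 769835732))) (.node (.node (.node (.leaf 341332171)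 (.leaf 644197237)) (.leaf 782209180)) (.node (.node (.leaf 1001428371) (.leaf 1080309615)) (.leaf 1008039354))))) (.node (.node (.node (.node (.node (.leaf 62202929) (.leaf 933023830)) (.leaf 648007408)) (.node (.node (.leaf 444937152) (.leaf 516576496)) (.leaf 397619834))) (.node (.node (.node (.leaf 71958986) (.leaf 412804211)) (.leaf 825977349)) (.node (.node (.leaf 110609538) (.leaf 1059559063)) (.leaf 720729001)))) (.node (.node (.node (.node (.leaf 925296974) (.leaf 892613275)) (.leaf 825848161)) (.node (.node (.leaf 843024735) (.leaf 1060427507)) (.leaf 1074181961))) (.node (.node (.node (.leaf 57057439) (.leaf 985912632)) (.leaf 733401379)) (.node (.node (.leaf 127338364) (.leaf 1100732377)) (.leaf 983930157)))))))) (.node (.node (.node (.node (.node (.node (.node (.node (.leaf 11387060) (.leaf 321867787)) (.leaf 132465019)) (.node (.node (.leaf 87827911) (.leaf 461407523)) (.leaf 225528011))) (.node (.node (.node (.leaf 261121945) (.leaf 1064744719)) (.leaf 855617429)) (.node (.node (.leaf 537372172) (.leaf 1024848085)) (.leaf 271232376)))) (.node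 (.node (.node (.node (.leaf 55878630) (.leaf 349062331)) (.leaf 155525518)) (.node (.node (.leaf 421139256) (.leaf 981354594)) (.leaf 870929141))) (.node (.node (.node (.leaf 310824866) (.leaf 417358979)) (.leaf 848466400)) (.node (.node (.leaf 812649100) (.leaf 1087403930)) (.leaf 918811873))))) (.node (.node (.node (.node (.node (.leaf 9945238) (.leaf 880552629)) (.leaf 1006974388)) (.node (.node (.leaf 302657365) (.leaf 564187013)) (.leaf 1018754555))) (.node (.node (.node (.leaf 80749931) (.leaf 402182491)) (.leaf 185943571)) (.node (.node (.leaf 716411332) (.leaf 1046415936)) (.leaf 1061549818)))) (.node (.node (.node (.node (.leaf 21553276) (.leaf 363635647)) (.leaf 314453954)) (.node (.node (.leaf 84500711) (.leaf 1003178114)) (.leaf 256680581))) (.node (.node (.node (.leaf 50561504) (.leaf 438789333)) (.leaf 860311735)) (.node (.node (.leaf 148072640) (.leaf 1088014882)) (.leaf 562656033)))))) (.node (.node (.node (.node (.node (.node (.leaf 6193247) (.leaf 333279355)) (.leaf 961921713)) (.node (.node (.leaf 566078513) (.leaf 874934057)) (.leaf 577016225)))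 (.node (.node (.node (.leaf 54239497) (.leaf 766610606)) (.leaf 660718110)) (.node (.node (.leaf 786355459) (.leaf 1035932480)) (.leaf 957600873)))) (.node (.node (.node (.node (.leaf 549676873) (.leaf 355820453)) (.leaf 607077418)) (.node (.node (.leaf 690923874) (.leaf 1077524318)) (.leaf 1050015411))) (.node (.node (.node (.leaf 159639920) (.leaf 426608104)) (.leaf 210201483)) (.node (.node (.leaf 591594049) (.leaf 1077563055)) (.leaf 848859830))))) (.node (.node (.node (.node (.node (.leaf 12959804) (.leaf 723364717)) (.leaf 630878608)) (.node (.node (.leaf 773271299) (.leaf 511288744)) (.leaf 745346279))) (.node (.node (.node (.leaf 41108157) (.leaf 1090877359)) (.leaf 897263150)) (.node (.node (.leaf 109068880) (.leaf 1057002253)) (.leaf 764580147)))) (.node (.node (.node (.node (.leaf 32760112) (.leaf 868733918)) (.leaf 299560760)) (.node (.node (.leaf 90449395) (.leaf 1014183318)) (.leaf 265080283))) (.node (.node (.node (.leaf 373395941) (.leaf 1082275707)) (.leaf 219791914)) (.node (.node (.leaf 125133138) (.leaf 1098115909)) (.leaf 319647742)))))))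 (.node (.node (.node (.node (.node (.node (.node (.leaf 21856674) (.leaf 1092728763)) (.leaf 135825300)) (.node (.node (.leaf 110880497) (.leaf 1104803848)) (.leaf 643862802))) (.node (.node (.node (.leaf 785098336) (.leaf 1072871233)) (.leaf 1054439118)) (.node (.node (.leaf 95969539) (.leaf 1030392103)) (.leaf 916485268)))) (.node (.node (.node (.node (.leaf 96544322) (.leaf 921815945)) (.leaf 934849398)) (.node (.node (.leaf 613199259) (.leaf 986811127)) (.leaf 750652638))) (.node (.node (.node (.leaf 46367518) (.leaf 679003514)) (.leaf 868823088)) (.node (.node (.leaf 956875679) (.leaf 1072384841)) (.leaf 754053575))))) (.node (.node (.node (.node (.node (.leaf 11731135) (.leaf 699558929)) (.leaf 581771957)) (.node (.node (.leaf 72180927) (.leaf 498846576)) (.leaf 381194775))) (.node (.node (.node (.leaf 600293913) (.leaf 1080145774)) (.leaf 900305686)) (.node (.node (.leaf 568889227) (.leaf 1051784744)) (.leaf 1092630458)))) (.node (.node (.node (.node (.leaf 174418463) (.leaf 390853201)) (.leaf 598928805)) (.node (.node (.leaf 342077648) (.leaf 1008783156))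 (.leaf 859391099))) (.node (.node (.node (.leaf 52855389) (.leaf 1066432281)) (.leaf 594051996)) (.node (.node (.leaf 123298125) (.leaf 1093176199)) (.leaf 315715529)))))) (.node (.node (.node (.node (.node (.node (.leaf 45482798) (.leaf 366301612)) (.leaf 142680433)) (.node (.node (.leaf 67772602) (.leaf 1084077958)) (.leaf 892306400))) (.node (.node (.node (.leaf 254086516) (.leaf 782536856)) (.leaf 774025329)) (.node (.node (.leaf 101893139) (.leaf 1040993977)) (.leaf 717812095)))) (.node (.node (.node (.node (.leaf 20267354) (.leaf 360080308)) (.leaf 769098633)) (.node (.node (.leaf 678932546) (.leaf 997976160)) (.leaf 256593309))) (.node (.node (.node (.leaf 529999321) (.leaf 953783531)) (.leaf 208478769)) (.node (.node (.leaf 1009857988) (.leaf 1082840115)) (.leaf 565161427))))) (.node (.node (.node (.node (.node (.leaf 93177375) (.leaf 816890999)) (.leaf 1057830627)) (.node (.node (.leaf 852405402) (.leaf 1033483856)) (.leaf 244600057))) (.node (.node (.node (.leaf 103745174) (.leaf 519607545)) (.leaf 192023271)) (.node (.node (.leaf 864514959) (.leaf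 1062259802)) (.leaf 293300894)))) (.node (.node (.node (.node (.leaf 206834545) (.leaf 917098775)) (.leaf 842428438)) (.node (.node (.leaf 562122651) (.leaf 1019384794)) (.leaf 714625670))) (.node (.node (.node (.leaf 380310031) (.leaf 454267309)) (.leaf 1068316452)) (.node (.node (.leaf 570396568) (.leaf 1103154718)) (.leaf 803804268)))))))))))

noncomputable def edgeA10 : Arr ℕ :=
  (.node (.node (.node (.node (.node (.node (.node (.node (.node (.node (.node (.leaf 1048589) (.leaf 803547805)) (.node (.leaf 900584214) (.leaf 1103843587))) (.node (.node (.leaf 949055364) (.leaf 1018902011)) (.leaf 851936049))) (.node (.node (.node (.leaf 209587077) (.leaf 807014845)) (.leaf 979604755)) (.node (.node (.leaf 833164302) (.leaf 1019938487)) (.leaf 268288668)))) (.node (.node (.node (.node (.leaf 14942372) (.leaf 348819737)) (.leaf 1071290167)) (.node (.node (.leaf 76464337) (.leaf 868996067)) (.leaf 565677957))) (.node (.node (.node (.leaf 301059904) (.leaf 927028319)) (.leaf 192266729)) (.node (.node (.leaf 677513251) (.leaf 1062826707)) (.leaf 293946090)))))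 (.node (.node (.node (.node (.node (.leaf 46170940) (.leaf 1028511283)) (.leaf 142803313)) (.node (.node (.leaf 417108764) (.leaf 983143720)) (.leaf 798262477))) (.node (.node (.node (.leaf 603138421) (.leaf 710749559)) (.leaf 948858978)) (.node (.node (.leaf 102416658) (.leaf 1041748319)) (.leaf 767306271)))) (.node (.node (.node (.node (.leaf 151095515) (.leaf 693193959)) (.leaf 853480616)) (.node (.node (.leaf 589918904) (.leaf 998754347)) (.leaf 854918959))) (.node (.node (.node (.leaf 346231032) (.leaf 895914480)) (.leaf 263424799)) (.node (.node (.leaf 260736898) (.leaf 1083600586)) (.leaf 927854466)))))) (.node (.node (.node (.node (.node (.node (.leaf 23101878) (.leaf 1058649832)) (.leaf 135971174)) (.node (.node (.leaf 63865010) (.leaf 764440785)) (.leaf 325256631))) (.node (.node (.node (.leaf 530982637) (.leaf 942108407)) (.leaf 1090525101)) (.node (.node (.leaf 916695458) (.leaf 1031031473)) (.leaf 1035630172)))) (.node (.node (.node (.node (.leaf 118146933) (.leaf 762367328)) (.leaf 229436496)) (.node (.node (.leaf 977233478) (.leaf 987670983))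 (.leaf 761300436))) (.node (.node (.node (.leaf 46646055) (.leaf 684559779)) (.leaf 946574461)) (.node (.node (.leaf 552322441) (.leaf 1073083708)) (.leaf 1020556805))))) (.node (.node (.node (.node (.node (.leaf 71025841) (.leaf 340542647)) (.leaf 956273427)) (.node (.node (.leaf 884878885) (.leaf 765039472)) (.leaf 565799582))) (.node (.node (.node (.leaf 579578092) (.leaf 971150414)) (.leaf 562251262)) (.node (.node (.leaf 1021482507) (.leaf 1052544420)) (.leaf 901564107)))) (.node (.node (.node (.node (.leaf 177801805) (.leaf 955639627)) (.leaf 940543088)) (.node (.node (.leaf 542551148) (.leaf 1009464055)) (.leaf 1005122985))) (.node (.node (.node (.leaf 778416225) (.leaf 895479476)) (.leaf 217399824)) (.node (.node (.leaf 962851332) (.leaf 1093875183)) (.leaf 314483496))))))) (.node (.node (.node (.node (.node (.node (.node (.leaf 12648668) (.leaf 322470715)) (.leaf 614534680)) (.node (.node (.leaf 60915881) (.leaf 757000533)) (.leaf 1066694426))) (.node (.node (.node (.leaf 223939597) (.leaf 956568098)) (.leaf 1032033863)) (.node (.node (.leaf 534151641)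 (.leaf 1025575038)) (.leaf 716328478)))) (.node (.node (.node (.node (.leaf 108070608) (.leaf 733792394)) (.leaf 1073289028)) (.node (.node (.leaf 854846036) (.leaf 982124245)) (.leaf 865258223))) (.node (.node (.node (.leaf 44957820) (.leaf 922584364)) (.leaf 896297967)) (.node (.node (.leaf 440538026) (.leaf 1067944113)) (.leaf 840471322))))) (.node (.node (.node (.node (.node (.leaf 58590208) (.leaf 336823132)) (.leaf 1047434916)) (.node (.node (.leaf 426054488) (.leaf 912773863)) (.leaf 1041299072))) (.node (.node (.node (.leaf 271126045) (.leaf 957843698)) (.leaf 642262569)) (.node (.node (.leaf 613510071) (.leaf 1047098727)) (.leaf 919309048)))) (.node (.node (.node (.node (.leaf 163105175) (.leaf 792659113)) (.leaf 916702786)) (.node (.node (.leaf 197372205) (.leaf 1003964592)) (.leaf 1037907562))) (.node (.node (.node (.leaf 355078489) (.leaf 439010517)) (.leaf 1003812257)) (.node (.node (.leaf 879079646) (.leaf 1088738483)) (.leaf 310856095)))))) (.node (.node (.node (.node (.node (.node (.leaf 6299749) (.leaf 948873858)) (.leaf 979784980)) (.node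 (.node (.leaf 928802704) (.leaf 884386795)) (.leaf 735363988))) (.node (.node (.node (.leaf 968894592) (.leaf 1045747353)) (.leaf 724042266)) (.node (.node (.leaf 928861215) (.leaf 1036604968)) (.leaf 807791039)))) (.node (.node (.node (.node (.leaf 134776878) (.leaf 972009883)) (.leaf 1074976589)) (.node (.node (.leaf 741175664) (.leaf 1080178542)) (.leaf 1067390750))) (.node (.node (.node (.leaf 813982791) (.leaf 427689127)) (.leaf 525183143)) (.node (.node (.leaf 922358416) (.leaf 1078251023)) (.leaf 726549857))))) (.node (.node (.node (.node (.node (.leaf 82511232) (.leaf 926036508)) (.leaf 151536003)) (.node (.node (.leaf 861237022) (.leaf 613707348)) (.leaf 861680395))) (.node (.node (.node (.leaf 291475179) (.leaf 894521111)) (.leaf 1072166716)) (.node (.node (.leaf 630885342) (.leaf 1057720861)) (.leaf 935015398)))) (.node (.node (.node (.node (.leaf 25952329) (.leaf 932236949)) (.leaf 834130067)) (.node (.node (.leaf 981325086) (.leaf 1014666235)) (.leaf 616164853))) (.node (.node (.node (.leaf 534865510) (.leaf 947013870)) (.leaf 220365336)) (.node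 (.node (.leaf 125256018) (.leaf 1098855535)) (.leaf 805702220)))))))) (.node (.node (.node (.node (.node (.node (.node (.node (.leaf 5972067) (.leaf 321990686)) (.leaf 544457160)) (.node (.node (.leaf 385733168) (.leaf 967247994)) (.leaf 693365967))) (.node (.node (.node (.leaf 218401741) (.leaf 845074573)) (.leaf 173212088)) (.node (.node (.leaf 537609781) (.leaf 1022800577)) (.leaf 270287520)))) (.node (.node (.node (.node (.leaf 102401666) (.leaf 348373898)) (.leaf 984872242)) (.node (.node (.leaf 621338991) (.leaf 979358682)) (.leaf 802287590))) (.node (.node (.node (.leaf 567649304) (.leaf 964765389)) (.leaf 893602407)) (.node (.node (.leaf 554549603) (.leaf 1065307060)) (.leaf 295437039))))) (.node (.node (.node (.node (.node (.leaf 52495284) (.leaf 846942325)) (.leaf 944292608)) (.node (.node (.leaf 833858829) (.leaf 958932817)) (.leaf 1087813532))) (.node (.node (.node (.leaf 37797991) (.leaf 1055553237)) (.leaf 565325267)) (.node (.node (.leaf 588186001) (.leaf 1044482678)) (.leaf 853240192)))) (.node (.node (.node (.node (.leaf 588251835) (.leaf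 362300346)) (.leaf 1065891605)) (.node (.node (.leaf 197011577) (.leaf 1036842596)) (.leaf 925042424))) (.node (.node (.node (.leaf 728805072) (.leaf 924732421)) (.leaf 684000264)) (.node (.node (.leaf 921670773) (.leaf 1086198540)) (.leaf 564422175)))))) (.node (.node (.node (.node (.node (.node (.leaf 28803625) (.leaf 330220358)) (.leaf 138002793)) (.node (.node (.leaf 899442970) (.leaf 473220410)) (.leaf 559861661))) (.node (.node (.node (.leaf 723953866) (.leaf 778972303)) (.leaf 913609781)) (.node (.node (.leaf 574621874) (.leaf 1033825702)) (.leaf 950047969)))) (.node (.node (.node (.node (.leaf 125241314) (.leaf 754844827)) (.leaf 923862177)) (.node (.node (.leaf 922447615) (.leaf 999363973)) (.leaf 898353877))) (.node (.node (.node (.leaf 785269582) (.leaf 753724404)) (.leaf 692004401)) (.node (.node (.leaf 967198016) (.leaf 1075743162)) (.leaf 567372989))))) (.node (.node (.node (.node (.node (.leaf 76662022) (.leaf 882790980)) (.leaf 935890407)) (.node (.node (.leaf 962507555) (.leaf 650184147)) (.leaf 920161405))) (.node (.node (.node (.leaf 286838458)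 (.leaf 958632658)) (.leaf 1044428433)) (.node (.node (.leaf 1023186453) (.leaf 1085699983)) (.leaf 960516263)))) (.node (.node (.node (.node (.leaf 183749258) (.leaf 948735769)) (.leaf 922185216)) (.node (.node (.leaf 886419584) (.leaf 1012287114)) (.leaf 819708956))) (.node (.node (.node (.leaf 545156461) (.leaf 1084487560)) (.leaf 262802281)) (.node (.node (.leaf 836110825) (.leaf 1096373939)) (.leaf 1054226125))))))) (.node (.node (.node (.node (.node (.node (.node (.leaf 3293193) (.leaf 910803991)) (.leaf 524830900)) (.node (.node (.leaf 395301483) (.leaf 944223156)) (.leaf 713872550))) (.node (.node (.node (.leaf 29343827) (.leaf 386057236)) (.leaf 942264699)) (.node (.node (.leaf 915296363) (.leaf 1028319064)) (.leaf 951330844)))) (.node (.node (.node (.node (.leaf 113313564) (.leaf 915329130)) (.leaf 1074108233)) (.node (.node (.leaf 671465691) (.leaf 984844562)) (.leaf 973728337))) (.node (.node (.node (.leaf 799384911) (.leaf 420217997)) (.leaf 572655304)) (.node (.node (.leaf 114344245) (.leaf 1070674147)) (.leaf 877899504))))) (.node (.node (.node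 (.node (.node (.leaf 63849538) (.leaf 1073911623)) (.leaf 574604882)) (.node (.node (.leaf 533767069) (.leaf 928731403)) (.leaf 1003296158))) (.node (.node (.node (.leaf 276123222) (.leaf 1052923588)) (.leaf 849850936)) (.node (.node (.leaf 270626327) (.leaf 1049724820)) (.leaf 925191599)))) (.node (.node (.node (.node (.leaf 169986546) (.leaf 1061861116)) (.leaf 966765619)) (.node (.node (.leaf 194922629) (.leaf 1006776080)) (.leaf 944423922))) (.node (.node (.node (.leaf 52412561) (.leaf 442483936)) (.leaf 963572780)) (.node (.node (.leaf 614583799) (.leaf 1091440388)) (.leaf 699385189)))))) (.node (.node (.node (.node (.node (.node (.leaf 7151710) (.leaf 910037857)) (.leaf 919284654)) (.node (.node (.leaf 412766957) (.leaf 934955896)) (.leaf 881502211))) (.node (.node (.node (.leaf 36790920) (.leaf 875213408)) (.leaf 967158843)) (.node (.node (.leaf 953043435) (.leaf 1039225185)) (.leaf 279413436)))) (.node (.node (.node (.node (.leaf 552478550) (.leaf 914657385)) (.leaf 911837368)) (.node (.node (.leaf 81739999) (.leaf 995804712)) (.leaf 1097463769)))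 (.node (.node (.node (.leaf 736438803) (.leaf 833072412)) (.leaf 896036069)) (.node (.node (.leaf 789369924) (.leaf 1080920491)) (.leaf 1072920385))))) (.node (.node (.node (.node (.node (.leaf 89032154) (.leaf 915575623)) (.leaf 957870754)) (.node (.node (.leaf 901891243) (.leaf 517113277)) (.leaf 795355361))) (.node (.node (.node (.leaf 545808950) (.leaf 923920765)) (.leaf 896741176)) (.node (.node (.leaf 693388486) (.leaf 1060260858)) (.leaf 895841331)))) (.node (.node (.node (.node (.leaf 554778912) (.leaf 966274184)) (.leaf 170000818)) (.node (.node (.leaf 722321950) (.leaf 1017335760)) (.leaf 937961628))) (.node (.node (.node (.leaf 944450994) (.leaf 944975633)) (.leaf 222085660)) (.node (.node (.leaf 808072345) (.leaf 1101387242)) (.leaf 841893480))))))))) (.node (.node (.node (.node (.node (.node (.node (.node (.node (.leaf 3637307) (.leaf 320498077)) (.node (.leaf 1056642780) (.leaf 1105022967))) (.node (.node (.leaf 711029245) (.leaf 1103099901)) (.leaf 315558922))) (.node (.node (.node (.leaf 214469547) (.leaf 1087059863)) (.leaf 977013258)) (.node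 (.node (.leaf 537536225) (.leaf 1056315097)) (.leaf 937053674)))) (.node (.node (.node (.node (.leaf 98993756) (.leaf 574752996)) (.leaf 965612563)) (.node (.node (.leaf 709701327) (.leaf 563242553)) (.leaf 371249604))) (.node (.node (.node (.leaf 43729015) (.leaf 415417464)) (.leaf 1055520468)) (.node (.node (.leaf 832671995) (.leaf 1064127291)) (.leaf 810977038))))) (.node (.node (.node (.node (.node (.leaf 48907133) (.leaf 876645333)) (.leaf 733819170)) (.node (.node (.leaf 904244879) (.leaf 1100330987)) (.leaf 233079359))) (.node (.node (.node (.leaf 258297269) (.leaf 911361598)) (.leaf 183763410)) (.node (.node (.leaf 1012274642) (.leaf 1043187549)) (.leaf 764318438)))) (.node (.node (.node (.node (.leaf 20938810) (.leaf 915058495)) (.leaf 929108992)) (.node (.node (.leaf 195003806) (.leaf 1000174970)) (.leaf 965831333))) (.node (.node (.node (.leaf 348360978) (.leaf 914722952)) (.leaf 210076163)) (.node (.node (.leaf 119488837) (.leaf 1084831524)) (.leaf 564244382)))))) (.node (.node (.node (.node (.node (.node (.leaf 26198507) (.leaf 1045083797))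 (.leaf 197642235)) (.node (.node (.leaf 681291705) (.leaf 857993697)) (.leaf 1014117854))) (.node (.node (.node (.leaf 749544844) (.leaf 1006925235)) (.leaf 948818781)) (.node (.node (.leaf 590104871) (.leaf 1032524747)) (.leaf 275137197)))) (.node (.node (.node (.node (.leaf 121997228) (.leaf 674055262)) (.leaf 834876166)) (.node (.node (.leaf 611149971) (.leaf 988959318)) (.leaf 951314563))) (.node (.node (.node (.leaf 331452519) (.leaf 948499337)) (.leaf 688083550)) (.node (.node (.leaf 115441977) (.leaf 1074403015)) (.leaf 532005639))))) (.node (.node (.node (.node (.node (.leaf 74417375) (.leaf 985052467)) (.leaf 723927634)) (.node (.node (.leaf 533245076) (.leaf 881198685)) (.leaf 975392928))) (.node (.node (.node (.leaf 284364441) (.leaf 864769094)) (.leaf 1094473671)) (.node (.node (.leaf 721086404) (.leaf 1053749631)) (.leaf 1083488130)))) (.node (.node (.node (.node (.leaf 546089128) (.leaf 944197262)) (.leaf 724764741)) (.node (.node (.leaf 586483153) (.leaf 1010880508)) (.leaf 860909241))) (.node (.node (.node (.leaf 745417950) (.leaf 959457191))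 (.leaf 795479899)) (.node (.node (.leaf 1029903931) (.leaf 1095030628)) (.leaf 324502956))))))) (.node (.node (.node (.node (.node (.node (.node (.leaf 4440132) (.leaf 322995005)) (.leaf 891194063)) (.node (.node (.leaf 672378240) (.leaf 685404982)) (.leaf 226361898))) (.node (.node (.node (.leaf 226348074) (.leaf 922192309)) (.leaf 1004705167)) (.node (.node (.leaf 537675963) (.leaf 1026896284)) (.leaf 928190045)))) (.node (.node (.node (.node (.leaf 111691519) (.leaf 1012741589)) (.leaf 803794909)) (.node (.node (.leaf 466752566) (.leaf 983370253)) (.leaf 747702253))) (.node (.node (.node (.leaf 916858727) (.leaf 1002796444)) (.leaf 928351840)) (.node (.node (.leaf 939611213) (.leaf 1069217335)) (.leaf 297698039))))) (.node (.node (.node (.node (.node (.leaf 61178917) (.leaf 875180013)) (.leaf 928416398)) (.node (.node (.leaf 950891281) (.leaf 861605734)) (.leaf 235831880))) (.node (.node (.node (.leaf 273993272) (.leaf 782528757)) (.leaf 844170107)) (.node (.node (.leaf 613550024) (.leaf 1048483161)) (.leaf 621806871)))) (.node (.node (.node (.node (.leaf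 885376255) (.leaf 723889086)) (.leaf 164086181)) (.node (.node (.leaf 588179052) (.leaf 1005212912)) (.leaf 1028937269))) (.node (.node (.node (.leaf 737092651) (.leaf 440526626)) (.leaf 641099329)) (.node (.node (.leaf 720997347) (.leaf 1090164022)) (.leaf 935638079)))))) (.node (.node (.node (.node (.node (.node (.leaf 38797995) (.leaf 915321138)) (.leaf 564694865)) (.node (.node (.leaf 920728253) (.leaf 953725699)) (.leaf 779801220))) (.node (.node (.node (.leaf 747382852) (.leaf 395265073)) (.leaf 180797899)) (.node (.node (.leaf 848130157) (.leaf 1037921698)) (.leaf 874333775)))) (.node (.node (.node (.node (.leaf 139561049) (.leaf 1102370808)) (.leaf 915592272)) (.node (.node (.leaf 533136332) (.leaf 994503700)) (.leaf 915065888))) (.node (.node (.node (.leaf 749006095) (.leaf 928707278)) (.leaf 900928154)) (.node (.node (.leaf 937545252) (.leaf 1079546870)) (.leaf 973591543))))) (.node (.node (.node (.node (.node (.leaf 13418532) (.leaf 871466735)) (.leaf 929907405)) (.node (.node (.leaf 714336553) (.leaf 528624132)) (.leaf 564465536))) (.node (.node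 (.node (.leaf 293932802) (.leaf 879276778)) (.leaf 820265593)) (.node (.node (.leaf 981308701) (.leaf 1058966554)) (.leaf 687866905)))) (.node (.node (.node (.node (.leaf 192744201) (.leaf 964785027)) (.leaf 169705904)) (.node (.node (.leaf 802181861) (.leaf 1101412338)) (.leaf 940633610))) (.node (.node (.node (.leaf 789833050) (.leaf 665282480)) (.leaf 766520644)) (.node (.node (.leaf 1054365390) (.leaf 1100140925)) (.leaf 805520213)))))))) (.node (.node (.node (.node (.node (.node (.node (.node (.leaf 4571205) (.leaf 925889051)) (.leaf 1023505942)) (.node (.node (.leaf 756318855) (.leaf 671401263)) (.leaf 1058993898))) (.node (.node (.node (.leaf 724068962) (.leaf 1068496678)) (.leaf 943508480)) (.node (.node (.leaf 569479027) (.leaf 1041593985)) (.leaf 1054095052)))) (.node (.node (.node (.node (.leaf 104973990) (.leaf 737905671)) (.leaf 899417170)) (.node (.node (.leaf 790654955) (.leaf 980807873)) (.leaf 909562503))) (.node (.node (.node (.leaf 564536851) (.leaf 840494882)) (.leaf 1088288671)) (.node (.node (.leaf 113131825) (.leaf 1066732578)) (.leaf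 845567016))))) (.node (.node (.node (.node (.node (.leaf 54952920) (.leaf 914624817)) (.leaf 214543276)) (.node (.node (.leaf 69337278) (.leaf 1100920815)) (.leaf 852462283))) (.node (.node (.node (.leaf 38158440) (.leaf 900942698)) (.leaf 643074891)) (.node (.node (.leaf 618473680) (.leaf 1045776233)) (.leaf 999536006)))) (.node (.node (.node (.node (.leaf 160663927) (.leaf 969665412)) (.leaf 1024693789)) (.node (.node (.leaf 589606508) (.leaf 1002557743)) (.leaf 718113462))) (.node (.node (.node (.leaf 353243470) (.leaf 701835227)) (.leaf 262359263)) (.node (.node (.leaf 994202984) (.leaf 1087523880)) (.leaf 927459611)))))) (.node (.node (.node (.node (.node (.node (.leaf 34603620) (.leaf 814958192)) (.leaf 878176439)) (.node (.node (.leaf 405951162) (.leaf 945712716)) (.leaf 796755364))) (.node (.node (.node (.leaf 546384891) (.leaf 391971880)) (.leaf 601342406)) (.node (.node (.leaf 1004361125) (.leaf 1035179391)) (.leaf 972868637)))) (.node (.node (.node (.node (.leaf 590063255) (.leaf 1053660873)) (.leaf 969164342)) (.node (.node (.leaf 789808106)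 (.leaf 1021785613)) (.leaf 695609767))) (.node (.node (.node (.leaf 569929603) (.leaf 426280099)) (.leaf 261620271)) (.node (.node (.leaf 613639843) (.leaf 1076975260)) (.leaf 303579912))))) (.node (.node (.node (.node (.node (.leaf 79676753) (.leaf 342983541)) (.leaf 262114371)) (.node (.node (.leaf 73613512) (.leaf 615067030)) (.leaf 240190037))) (.node (.node (.node (.leaf 289132245) (.leaf 1005942190)) (.leaf 190448100)) (.node (.node (.leaf 1019049468) (.leaf 1060755189)) (.leaf 919996526)))) (.node (.node (.node (.node (.leaf 187632307) (.leaf 838079341)) (.leaf 940102302)) (.node (.node (.leaf 89047282) (.leaf 1085200268)) (.leaf 596084115))) (.node (.node (.node (.leaf 878683486) (.leaf 979383570)) (.leaf 1099454437)) (.node (.node (.leaf 967478878) (.leaf 1097502321)) (.leaf 990123344))))))) (.node (.node (.node (.node (.node (.node (.node (.leaf 20922762) (.leaf 326714177)) (.leaf 1059182316)) (.node (.node (.leaf 543894486) (.leaf 851710796)) (.leaf 227469283))) (.node (.node (.node (.leaf 262548590) (.leaf 701040883)) (.leaf 1067243293)) (.node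 (.node (.leaf 998962563) (.leaf 1029731438)) (.leaf 988509511)))) (.node (.node (.node (.node (.leaf 115787599) (.leaf 351437715)) (.leaf 589939766)) (.node (.node (.leaf 473207890) (.leaf 986206003)) (.leaf 889095408))) (.node (.node (.node (.leaf 894168819) (.leaf 851857557)) (.leaf 878220435)) (.node (.node (.leaf 548571448) (.leaf 1077950304)) (.leaf 955354976))))) (.node (.node (.node (.node (.node (.leaf 68027523) (.leaf 854872250)) (.leaf 535938585)) (.node (.node (.leaf 931031115) (.leaf 723735325)) (.leaf 886096813))) (.node (.node (.node (.leaf 278777453) (.leaf 405963866)) (.leaf 857539372)) (.node (.node (.leaf 993113441) (.leaf 1051152064)) (.leaf 286851794)))) (.node (.node (.node (.node (.leaf 174508576) (.leaf 534971760)) (.leaf 1075705682)) (.node (.node (.leaf 738879995) (.leaf 1008095085)) (.leaf 973818680))) (.node (.node (.node (.leaf 362287506) (.leaf 969091755)) (.leaf 863859397)) (.node (.node (.leaf 261440023) (.leaf 1092553326)) (.leaf 912814435)))))) (.node (.node (.node (.node (.node (.node (.leaf 44811037) (.leaf 915386969))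 (.leaf 967300114)) (.node (.node (.leaf 880308420) (.leaf 921661725)) (.leaf 1018222072))) (.node (.node (.node (.leaf 252874086) (.leaf 978433292)) (.leaf 810439248)) (.node (.node (.leaf 642412260) (.leaf 1040365178)) (.leaf 853853196)))) (.node (.node (.node (.node (.leaf 586474150) (.leaf 890310683)) (.leaf 1042380422)) (.node (.node (.leaf 694399697) (.leaf 1000183178)) (.leaf 701181473))) (.node (.node (.node (.leaf 783593454) (.leaf 888833446)) (.leaf 759123439)) (.node (.node (.leaf 260768249) (.leaf 1082200005)) (.leaf 307036948))))) (.node (.node (.node (.node (.node (.leaf 91506182) (.leaf 644311860)) (.leaf 1055028945)) (.node (.node (.leaf 776118747) (.leaf 519918270)) (.leaf 978064367))) (.node (.node (.node (.leaf 298553133) (.leaf 905278144)) (.leaf 858949327)) (.node (.node (.leaf 879839391) (.leaf 1061631405)) (.leaf 932188601)))) (.node (.node (.node (.node (.leaf 204622684) (.leaf 996480373)) (.leaf 931432209)) (.node (.node (.leaf 253693296) (.leaf 1018656223)) (.leaf 1090271147))) (.node (.node (.node (.leaf 57933984) (.leaf 915122153))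 (.leaf 1060304626)) (.node (.node (.leaf 195166571) (.leaf 1102632092)) (.leaf 869978288)))))))))) (.node (.node (.node (.node (.node (.node (.node (.node (.node (.node (.leaf 2424867) (.leaf 788759737)) (.node (.leaf 879971041) (.leaf 1104400292))) (.node (.node (.leaf 901343939) (.leaf 1102510073)) (.leaf 834221012))) (.node (.node (.node (.leaf 211241877) (.leaf 900043428)) (.leaf 570163973)) (.node (.node (.leaf 91521274) (.leaf 1020727291)) (.leaf 268747421)))) (.node (.node (.node (.node (.leaf 97306188) (.leaf 869241820)) (.leaf 735495061)) (.node (.node (.leaf 76677330) (.leaf 1103575040)) (.leaf 936759341))) (.node (.node (.node (.leaf 302518099) (.leaf 834988362)) (.leaf 895625824)) (.node (.node (.leaf 112197933) (.leaf 1063540116)) (.leaf 1008317883))))) (.node (.node (.node (.node (.node (.leaf 47317847) (.leaf 988370246)) (.leaf 554952494)) (.node (.node (.leaf 418304804) (.leaf 889628321)) (.leaf 814482535))) (.node (.node (.node (.leaf 36552801) (.leaf 1069111081)) (.leaf 183026128)) (.node (.node (.leaf 743591515) (.leaf 1042418042)) (.leaf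 532939524)))) (.node (.node (.node (.node (.leaf 194914223) (.leaf 633343934)) (.leaf 820675552)) (.node (.node (.leaf 324207401) (.leaf 999509658)) (.leaf 255279745))) (.node (.node (.node (.leaf 740044472) (.leaf 973515151)) (.leaf 577930799)) (.node (.node (.leaf 261482428) (.leaf 1084085448)) (.leaf 561079841)))))) (.node (.node (.node (.node (.node (.node (.leaf 545710428) (.leaf 1082931070)) (.leaf 136216935)) (.node (.node (.leaf 870772304) (.leaf 864817866)) (.leaf 261752883))) (.node (.node (.node (.leaf 546302872) (.leaf 705695687)) (.leaf 177537473)) (.node (.node (.leaf 977208642) (.leaf 1031653131)) (.leaf 1096497107)))) (.node (.node (.node (.node (.leaf 119900047) (.leaf 952488262)) (.leaf 1076303702)) (.node (.node (.leaf 476959837) (.leaf 988352646)) (.leaf 751126635))) (.node (.node (.node (.leaf 330207314) (.leaf 660522621)) (.leaf 828183719)) (.node (.node (.leaf 827836249) (.leaf 1073638560)) (.leaf 911183913))))) (.node (.node (.node (.node (.node (.leaf 543399987) (.leaf 825493189)) (.leaf 502183108)) (.node (.node (.leaf 693413618)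 (.leaf 815024689)) (.leaf 1025414689))) (.node (.node (.node (.leaf 693890655) (.leaf 629458269)) (.leaf 804111646)) (.node (.node (.leaf 929256445) (.leaf 1053086408)) (.leaf 614395361)))) (.node (.node (.node (.node (.leaf 601369178) (.leaf 754258523)) (.leaf 166216105)) (.node (.node (.leaf 519558393) (.leaf 1010042499)) (.leaf 856452601))) (.node (.node (.node (.leaf 365498792) (.leaf 852618395)) (.leaf 970887223)) (.node (.node (.leaf 918571160) (.leaf 1094464100)) (.leaf 1045247638))))))) (.node (.node (.node (.node (.node (.node (.node (.leaf 13779187) (.leaf 974112443)) (.leaf 133294118)) (.node (.node (.leaf 662628979) (.leaf 1066366744)) (.leaf 976447596))) (.node (.node (.node (.leaf 224889879) (.leaf 383403017)) (.leaf 1081325429)) (.node (.node (.leaf 993621348) (.leaf 1026345191)) (.leaf 1022359056)))) (.node (.node (.node (.node (.leaf 16646190) (.leaf 886820257)) (.leaf 155994198)) (.node (.node (.leaf 465310766) (.leaf 982766537)) (.leaf 1015494119))) (.node (.node (.node (.leaf 162605453) (.leaf 418530439)) (.leaf 1075885907)) (.node (.node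 (.leaf 771378999) (.leaf 1068593690)) (.leaf 819286381))))) (.node (.node (.node (.node (.node (.leaf 10616998) (.leaf 966053368)) (.leaf 1053914827)) (.node (.node (.leaf 735802159) (.leaf 713862194)) (.leaf 571205806))) (.node (.node (.node (.leaf 586449274) (.leaf 936964169)) (.leaf 1076655960)) (.node (.node (.leaf 104988954) (.leaf 1047803558)) (.leaf 655698857)))) (.node (.node (.node (.node (.leaf 164415919) (.leaf 792806405)) (.leaf 1015076324)) (.node (.node (.leaf 888861562) (.leaf 1004647550)) (.leaf 1033811538))) (.node (.node (.node (.leaf 586852147) (.leaf 699795108)) (.leaf 921891644)) (.node (.node (.leaf 1003632032) (.leaf 1089342009)) (.leaf 937428031)))))) (.node (.node (.node (.node (.node (.node (.leaf 6373478) (.leaf 843902979)) (.leaf 327503791)) (.node (.node (.leaf 409424601) (.leaf 932587862)) (.leaf 230982201))) (.node (.node (.node (.leaf 246123796) (.leaf 951404625)) (.leaf 987026751)) (.node (.node (.leaf 534840290) (.leaf 1037125411)) (.leaf 1039971959)))) (.node (.node (.node (.node (.leaf 135956546) (.leaf 933908766)) (.leaf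 159105431)) (.node (.node (.leaf 940831198) (.leaf 1096890325)) (.leaf 252887674))) (.node (.node (.node (.leaf 790376424) (.leaf 902024579)) (.leaf 584975071)) (.node (.node (.leaf 940426336) (.leaf 1078923544)) (.leaf 864138410))))) (.node (.node (.node (.node (.node (.leaf 84231577) (.leaf 1058715369)) (.leaf 152174980)) (.node (.node (.leaf 444257214) (.leaf 1062147837)) (.leaf 241091160))) (.node (.node (.node (.leaf 292720373) (.leaf 764309130)) (.leaf 821875254)) (.node (.node (.leaf 565602022) (.leaf 1081816952)) (.leaf 290980577)))) (.node (.node (.node (.node (.leaf 820355875) (.leaf 969520321)) (.leaf 169542062)) (.node (.node (.leaf 556614592) (.leaf 1015318183)) (.leaf 935941271))) (.node (.node (.node (.leaf 681717696) (.leaf 861769442)) (.leaf 220561945)) (.node (.node (.leaf 126304595) (.leaf 1099484097)) (.leaf 802221330)))))))) (.node (.node (.node (.node (.node (.node (.node (.node (.leaf 7766141) (.leaf 914778472)) (.leaf 131498333)) (.node (.node (.leaf 60129447) (.leaf 877340844)) (.leaf 1064818447))) (.node (.node (.node (.leaf 219581403)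 (.leaf 974500055)) (.leaf 962425707)) (.node (.node (.leaf 882510657) (.leaf 1023477786)) (.leaf 270567089)))) (.node (.node (.node (.node (.leaf 751616624) (.leaf 1089796008)) (.leaf 898599431)) (.node (.node (.leaf 621866725) (.leaf 980067856)) (.leaf 914967620))) (.node (.node (.node (.leaf 561128990) (.leaf 900564994)) (.leaf 193184236)) (.node (.node (.leaf 112951599) (.leaf 1066029942)) (.leaf 1092089782))))) (.node (.node (.node (.node (.node (.leaf 9371798) (.leaf 961088751)) (.leaf 194570390)) (.node (.node (.leaf 740328259) (.leaf 1038374509)) (.leaf 1014076893))) (.node (.node (.node (.leaf 266194403) (.leaf 1035417179)) (.leaf 1043043977)) (.node (.node (.leaf 590266703) (.leaf 1045221318)) (.leaf 283837129)))) (.node (.node (.node (.node (.leaf 158894431) (.leaf 693162887)) (.leaf 163086753)) (.node (.node (.leaf 501413059) (.leaf 1001950345)) (.leaf 615085274))) (.node (.node (.node (.leaf 882356397) (.leaf 933825328)) (.leaf 881192380)) (.node (.node (.leaf 545915845) (.leaf 1086851593)) (.leaf 565277089)))))) (.node (.node (.node (.node (.node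 (.node (.leaf 5324825) (.leaf 883868705)) (.leaf 155986214)) (.node (.node (.leaf 65224885) (.leaf 474236223)) (.leaf 872795973))) (.node (.node (.node (.leaf 240667869) (.leaf 989001034)) (.leaf 907183293)) (.node (.node (.leaf 536785416) (.leaf 1034422036)) (.leaf 276136626)))) (.node (.node (.node (.node (.leaf 127617012) (.leaf 911870673)) (.leaf 932533350)) (.node (.node (.leaf 740320113) (.leaf 991203005)) (.leaf 787415999))) (.node (.node (.node (.leaf 335073423) (.leaf 835667119)) (.leaf 882447484)) (.node (.node (.leaf 552452466) (.leaf 1076316486)) (.leaf 693440469))))) (.node (.node (.node (.node (.node (.leaf 78185771) (.leaf 959869493)) (.leaf 803309182)) (.node (.node (.leaf 632661657) (.leaf 917792864)) (.leaf 962588409))) (.node (.node (.node (.leaf 590440755) (.leaf 537224795)) (.leaf 1021122056)) (.node (.node (.leaf 535094791) (.leaf 1055790161)) (.leaf 895815971)))) (.node (.node (.node (.node (.leaf 25378887) (.leaf 890531315)) (.leaf 949505688)) (.node (.node (.leaf 88867057) (.leaf 1013018933)) (.leaf 776990029))) (.node (.node (.node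 (.leaf 54853785) (.leaf 447775983)) (.leaf 543867962)) (.node (.node (.leaf 1023653399) (.leaf 1097012521)) (.leaf 972263821))))))) (.node (.node (.node (.node (.node (.node (.node (.leaf 19202404) (.leaf 865176302)) (.leaf 620557332)) (.node (.node (.leaf 589965626) (.leaf 466765098)) (.leaf 903571256))) (.node (.node (.node (.leaf 545784562) (.leaf 821897958)) (.leaf 924468671)) (.node (.node (.leaf 969115994) (.leaf 1029131054)) (.leaf 273826473)))) (.node (.node (.node (.node (.leaf 593372847) (.leaf 854730909)) (.leaf 842499417)) (.node (.node (.leaf 920134206) (.leaf 1090181034)) (.leaf 758532076))) (.node (.node (.node (.leaf 893265288) (.leaf 685388842)) (.leaf 951453728)) (.node (.node (.leaf 553356148) (.leaf 1071197560)) (.leaf 299156221))))) (.node (.node (.node (.node (.node (.leaf 66126941) (.leaf 846893686)) (.leaf 954085464)) (.node (.node (.leaf 883535955) (.leaf 647859944)) (.leaf 951289789))) (.node (.node (.node (.leaf 277401187) (.leaf 405374041)) (.leaf 718138778)) (.node (.node (.leaf 1019696641) (.leaf 1050479149)) (.leaf 286622417))))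 (.node (.node (.node (.node (.leaf 23117890) (.leaf 777554465)) (.leaf 164823463)) (.node (.node (.leaf 653292119) (.leaf 1007380796)) (.leaf 820708319))) (.node (.node (.node (.leaf 899837325) (.leaf 443208273)) (.leaf 660966351)) (.node (.node (.leaf 795002244) (.leaf 1092062998)) (.leaf 313099045)))))) (.node (.node (.node (.node (.node (.node (.leaf 587776374) (.leaf 332677965)) (.leaf 873464667)) (.node (.node (.leaf 414241536) (.leaf 765085070)) (.leaf 920865339))) (.node (.node (.node (.leaf 250875224) (.leaf 846917814)) (.leaf 1044510354)) (.node (.node (.leaf 550637488) (.leaf 1039911436)) (.leaf 1101740020)))) (.node (.node (.node (.node (.leaf 587800694) (.leaf 912934532)) (.leaf 966046862)) (.node (.node (.leaf 82084064) (.leaf 996668304)) (.leaf 710591409))) (.node (.node (.node (.leaf 567603062) (.leaf 1066047254)) (.leaf 207307262)) (.node (.node (.leaf 545834112) (.leaf 1081575971)) (.leaf 567575414))))) (.node (.node (.node (.node (.node (.leaf 90146289) (.leaf 346014592)) (.leaf 861881379)) (.node (.node (.leaf 862366190) (.leaf 966808424))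 (.leaf 926192164))) (.node (.node (.node (.leaf 297455401) (.leaf 413402228)) (.leaf 946340517)) (.node (.node (.leaf 111411497) (.leaf 1060942712)) (.leaf 832762125)))) (.node (.node (.node (.node (.leaf 202902345) (.leaf 375391205)) (.leaf 170427872)) (.node (.node (.leaf 90751224) (.leaf 1017957837)) (.leaf 614855871))) (.node (.node (.node (.leaf 560344256) (.leaf 1079588714)) (.leaf 724124615)) (.node (.node (.leaf 688393630) (.leaf 1101958996)) (.leaf 834450368))))))))) (.node (.node (.node (.node (.node (.node (.node (.node (.node (.leaf 4718667) (.leaf 862991005)) (.leaf 1057068767)) (.node (.node (.leaf 385012267) (.leaf 833185282)) (.leaf 645696160))) (.node (.node (.node (.leaf 216042425) (.leaf 380142589)) (.leaf 1087248281)) (.node (.node (.leaf 851529865) (.leaf 1022023053)) (.leaf 270025375)))) (.node (.node (.node (.node (.leaf 101107315) (.leaf 1009898948)) (.leaf 1057527521)) (.node (.node (.leaf 359592313) (.leaf 978776353)) (.leaf 938479700))) (.node (.node (.node (.leaf 646408988) (.leaf 860148494)) (.leaf 928682317)) (.node (.node (.leaf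 811003658) (.leaf 1064661931)) (.leaf 839337180))))) (.node (.node (.node (.node (.node (.leaf 8880270) (.leaf 723905472)) (.leaf 862898672)) (.node (.node (.leaf 68616380) (.leaf 966011254)) (.leaf 1030747712))) (.node (.node (.node (.leaf 928442538) (.leaf 971984263)) (.leaf 825479657)) (.node (.node (.leaf 960922456) (.leaf 1096062928)) (.leaf 944181706)))) (.node (.node (.node (.node (.leaf 195782559) (.leaf 362005433)) (.leaf 601473472)) (.node (.node (.leaf 765113462) (.leaf 1000737869)) (.leaf 616572766))) (.node (.node (.node (.leaf 733310444) (.leaf 534893180)) (.leaf 251964764)) (.node (.node (.leaf 576376607) (.leaf 1085565950)) (.leaf 897354462)))))) (.node (.node (.node (.node (.node (.node (.leaf 27394567) (.leaf 680510552)) (.leaf 720671347)) (.node (.node (.leaf 64766132) (.leaf 971174594)) (.leaf 861942349))) (.node (.node (.node (.leaf 237440190) (.leaf 861965668)) (.leaf 923962520)) (.node (.node (.leaf 882246793) (.leaf 1033226727)) (.leaf 950979680)))) (.node (.node (.node (.node (.leaf 123832265) (.leaf 353256346)) (.leaf 158318996))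 (.node (.node (.leaf 479630444) (.leaf 989794303)) (.leaf 779545740))) (.node (.node (.node (.leaf 785294162) (.leaf 913757232)) (.leaf 525858009)) (.node (.node (.leaf 934972275) (.leaf 1075130588)) (.leaf 537159177))))) (.node (.node (.node (.node (.node (.leaf 75580665) (.leaf 341525359)) (.leaf 149995904)) (.node (.node (.leaf 542657643) (.leaf 1051522748)) (.leaf 945358912))) (.node (.node (.node (.leaf 285658793) (.leaf 928723818)) (.leaf 780644739)) (.node (.node (.leaf 563970839) (.leaf 1054377962)) (.leaf 1103329279)))) (.node (.node (.node (.node (.leaf 737356284) (.leaf 946097009)) (.leaf 962522361)) (.node (.node (.leaf 930755451) (.leaf 1011640200)) (.leaf 877909184))) (.node (.node (.node (.leaf 546251404) (.leaf 948791204)) (.leaf 723847785)) (.node (.node (.leaf 530891950) (.leaf 1095733573)) (.leaf 551495509))))))) (.node (.node (.node (.node (.node (.node (.node (.leaf 16630054) (.leaf 975711900)) (.leaf 134791522)) (.node (.node (.leaf 584788173) (.leaf 465323302)) (.leaf 226722347))) (.node (.node (.node (.leaf 547694161) (.leaf 772442547))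 (.leaf 175931837)) (.node (.node (.leaf 95125760) (.leaf 1027655935)) (.leaf 882567573)))) (.node (.node (.node (.node (.leaf 16957487) (.leaf 350684049)) (.leaf 594603715)) (.node (.node (.leaf 468194369) (.leaf 984207589)) (.leaf 758810817))) (.node (.node (.node (.leaf 799352151) (.leaf 908013423)) (.leaf 1029158454)) (.node (.node (.leaf 554928262) (.leaf 1069969252)) (.leaf 924044977))))) (.node (.node (.node (.node (.node (.leaf 62833719) (.leaf 831476240)) (.leaf 571182246)) (.node (.node (.leaf 530917326) (.leaf 984347951)) (.leaf 854887356))) (.node (.node (.node (.leaf 870834907) (.leaf 940315435)) (.leaf 831786659)) (.node (.node (.leaf 801752080) (.leaf 1049203864)) (.leaf 286245584)))) (.node (.node (.node (.node (.leaf 169527782) (.leaf 1057289952)) (.leaf 725123883)) (.node (.node (.leaf 587702999) (.leaf 1006056154)) (.leaf 756270531))) (.node (.node (.node (.leaf 561398555) (.leaf 903147473)) (.leaf 919259250)) (.node (.node (.leaf 828558953) (.leaf 1090669127)) (.leaf 327608288)))))) (.node (.node (.node (.node (.node (.node (.leaf 40354511)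 (.leaf 875423212)) (.leaf 883248858)) (.node (.node (.leaf 755647179) (.leaf 1029740090)) (.leaf 262521402))) (.node (.node (.node (.leaf 750806424) (.leaf 929273091)) (.leaf 1092540346)) (.node (.node (.leaf 647630573) (.leaf 1089288101)) (.leaf 931637365)))) (.node (.node (.node (.node (.leaf 141871220) (.leaf 912852417)) (.leaf 535439079)) (.node (.node (.leaf 489165981) (.leaf 995175277)) (.leaf 915091864))) (.node (.node (.node (.leaf 341479629) (.leaf 865292760)) (.leaf 1098471392)) (.node (.node (.leaf 117784896) (.leaf 1080153442)) (.leaf 977089544))))) (.node (.node (.node (.node (.node (.leaf 88458701) (.leaf 933102479)) (.leaf 878351330)) (.node (.node (.leaf 834187327) (.leaf 558646732)) (.leaf 531629275))) (.node (.node (.node (.leaf 546827089) (.leaf 1096251345)) (.leaf 865169462)) (.node (.node (.leaf 1026659881) (.leaf 1059522620)) (.leaf 720652488)))) (.node (.node (.node (.node (.leaf 193825566) (.leaf 901449456)) (.leaf 862340342)) (.node (.node (.leaf 89997556) (.leaf 1058068196)) (.leaf 614731381))) (.node (.node (.node (.leaf 795159573)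 (.leaf 967381998)) (.leaf 1043437195)) (.node (.node (.leaf 551052920) (.leaf 1100666840)) (.leaf 783565690)))))))) (.node (.node (.node (.node (.node (.node (.node (.node (.leaf 11518137) (.leaf 321949714)) (.leaf 195897296)) (.node (.node (.leaf 917407071) (.leaf 1028716084)) (.leaf 821586619))) (.node (.node (.node (.leaf 722347506) (.leaf 382026755)) (.leaf 949350772)) (.node (.node (.leaf 561103638) (.leaf 1024798459)) (.leaf 716295714)))) (.node (.node (.node (.node (.leaf 802137168) (.leaf 933892454)) (.leaf 641512357)) (.node (.node (.leaf 804137670) (.leaf 981337570)) (.leaf 978212107))) (.node (.node (.node (.leaf 44859515) (.leaf 647352248)) (.leaf 193839598)) (.node (.node (.leaf 812714039) (.leaf 1067371874)) (.leaf 861209826))))) (.node (.node (.node (.node (.node (.leaf 10076318) (.leaf 880618377)) (.leaf 1066374937)) (.node (.node (.leaf 425382740) (.leaf 489325935)) (.leaf 903910404))) (.node (.node (.node (.leaf 583723012) (.leaf 940124634)) (.leaf 565710018)) (.node (.node (.leaf 823570896) (.leaf 1046509182)) (.leaf 755598413)))) (.node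 (.node (.node (.node (.leaf 616956848) (.leaf 883290179)) (.leaf 601107032)) (.node (.node (.leaf 195028362) (.leaf 1003277490)) (.leaf 599304182))) (.node (.node (.node (.leaf 354128211) (.leaf 1015272933)) (.leaf 938168797)) (.node (.node (.leaf 262268309) (.leaf 1088116496)) (.leaf 564301706)))))) (.node (.node (.node (.node (.node (.node (.leaf 7159922) (.leaf 1078802277)) (.leaf 962005059)) (.node (.node (.leaf 674083146) (.leaf 843451007)) (.leaf 981841184))) (.node (.node (.node (.leaf 549317472) (.leaf 688057162)) (.leaf 179339719)) (.node (.node (.leaf 946835003) (.leaf 1086551956)) (.leaf 967469018)))) (.node (.node (.node (.node (.leaf 131876889) (.leaf 866888400)) (.leaf 843141244)) (.node (.node (.leaf 878658522) (.leaf 992676375)) (.leaf 251806328))) (.node (.node (.node (.leaf 729279428) (.leaf 802695801)) (.leaf 630321543)) (.node (.node (.leaf 616615310) (.leaf 1077630545)) (.leaf 953544084))))) (.node (.node (.node (.node (.node (.leaf 13025365) (.leaf 879110050)) (.leaf 262278041)) (.node (.node (.leaf 956384696) (.leaf 928306319)) (.leaf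 745391050))) (.node (.node (.node (.leaf 289869537) (.leaf 913804832)) (.leaf 897322894)) (.node (.node (.leaf 544244251) (.leaf 1056966667)) (.leaf 289686237)))) (.node (.node (.node (.node (.leaf 188500673) (.leaf 940803430)) (.leaf 923615961)) (.node (.node (.leaf 860213115) (.leaf 1014213706)) (.leaf 598388093))) (.node (.node (.node (.leaf 373592552) (.leaf 922380748)) (.leaf 631719650)) (.node (.node (.leaf 909488961) (.leaf 1098240855)) (.leaf 804025483))))))) (.node (.node (.node (.node (.node (.node (.node (.leaf 22184356) (.leaf 778489607)) (.leaf 262630500)) (.node (.node (.leaf 578290388) (.leaf 922547192)) (.leaf 262227853))) (.node (.node (.node (.leaf 920110390) (.leaf 387810331)) (.leaf 919292633)) (.node (.node (.leaf 911340170) (.leaf 1030409952)) (.leaf 670067025)))) (.node (.node (.node (.node (.leaf 680166533) (.leaf 996029811)) (.leaf 1059829487)) (.node (.node (.leaf 940208805) (.leaf 986760696)) (.leaf 750700360))) (.node (.node (.node (.leaf 312979381) (.leaf 1095456716)) (.leaf 201966068)) (.node (.node (.leaf 956958236) (.leaf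 1072367889)) (.leaf 972526184))))) (.node (.node (.node (.node (.node (.leaf 69321882) (.leaf 936668325)) (.leaf 196814224)) (.node (.node (.leaf 936862307) (.leaf 927772688)) (.leaf 237453902))) (.node (.node (.node (.leaf 771090877) (.leaf 519935226)) (.leaf 880741320)) (.node (.node (.leaf 568967457) (.leaf 1051825249)) (.leaf 935192903)))) (.node (.node (.node (.node (.leaf 176540211) (.leaf 370820361)) (.leaf 855050686)) (.node (.node (.leaf 738649132) (.leaf 1008841304)) (.leaf 1062237950))) (.node (.node (.node (.leaf 546644492) (.leaf 444269798)) (.leaf 724021674)) (.node (.node (.leaf 951235107) (.leaf 1093250153)) (.leaf 633377158)))))) (.node (.node (.node (.node (.node (.node (.leaf 45613876) (.leaf 811058152)) (.leaf 1025570338)) (.node (.node (.leaf 416502551) (.leaf 1004533158)) (.leaf 964711604))) (.node (.node (.node (.leaf 254233977) (.leaf 1056610011)) (.leaf 182747599)) (.node (.node (.leaf 803268822) (.leaf 1046492830)) (.leaf 958838005)))) (.node (.node (.node (.node (.leaf 597164693) (.leaf 360154380)) (.leaf 161333660)) (.node (.node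 (.leaf 839840719) (.leaf 998034405)) (.leaf 616228651))) (.node (.node (.node (.leaf 669582664) (.leaf 433095868)) (.leaf 575156000)) (.node (.node (.leaf 872098525) (.leaf 1082904646)) (.leaf 561038865))))) (.node (.node (.node (.node (.node (.leaf 534880510) (.leaf 819177481)) (.leaf 942182257)) (.node (.node (.leaf 76087504) (.leaf 1001108881)) (.leaf 961074324))) (.node (.node (.node (.leaf 589635920) (.leaf 1001821589)) (.leaf 898204933)) (.node (.node (.leaf 893201761) (.leaf 1062276542)) (.leaf 537284350)))) (.node (.node (.node (.node (.leaf 207293302) (.leaf 917129776)) (.leaf 171753908)) (.node (.node (.leaf 562170562) (.leaf 1019401596)) (.leaf 923665529))) (.node (.node (.node (.leaf 58507425) (.leaf 983790892)) (.leaf 1085577102)) (.node (.node (.leaf 920839976) (.leaf 1103220812)) (.leaf 803636071)))))))))))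

noncomputable def edgeA11 : Arr ℕ :=
  (.node (.node (.node (.node (.node (.node (.node (.node (.node (.node (.node (.leaf 1114126) (.leaf 840272820)) (.node (.leaf 130015577) (.leaf 1103745773))) (.node (.node (.leaf 381735451) (.leaf 1026651688)) (.leaf 767889784))) (.node (.node (.node (.leaf 27197836) (.leaf 378856439)) (.leaf 570952612)) (.node (.node (.leaf 834956011) (.leaf 1020037786)) (.leaf 662956338)))) (.node (.node (.node (.node (.leaf 14975155) (.leaf 771755437)) (.leaf 903965854)) (.node (.node (.leaf 835400450) (.leaf 644638582)) (.leaf 245017156))) (.node (.node (.node (.leaf 280432251) (.leaf 835374930)) (.leaf 1003648416)) (.node (.node (.leaf 403485353) (.leaf 1062784809)) (.leaf 910233920))))) (.node (.node (.node (.node (.node (.leaf 8175682) (.leaf 785551328)) (.leaf 969362717)) (.node (.node (.leaf 96420046) (.leaf 890819249)) (.leaf 232751680))) (.node (.node (.node (.leaf 250383700) (.leaf 1088386976)) (.leaf 822446737)) (.node (.node (.leaf 1009915333) (.leaf 1041781980)) (.leaf 930064619)))) (.node (.node (.node (.node (.leaf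 151128284) (.leaf 917017844)) (.leaf 853509497)) (.node (.node (.leaf 630747539) (.leaf 1069815597)) (.leaf 717583018))) (.node (.node (.node (.leaf 345616622) (.leaf 1015657960)) (.leaf 209111001)) (.node (.node (.leaf 217066431) (.leaf 1083544975)) (.leaf 308175638)))))) (.node (.node (.node (.node (.node (.node (.leaf 4169740) (.leaf 914321915)) (.leaf 577540193)) (.node (.node (.leaf 802088319) (.leaf 1010144710)) (.leaf 326651935))) (.node (.node (.node (.leaf 29990997) (.leaf 1019876865)) (.leaf 665457561)) (.node (.node (.leaf 435516300) (.leaf 1031073495)) (.leaf 754111150)))) (.node (.node (.node (.node (.leaf 789702355) (.leaf 762408328)) (.leaf 635585073)) (.node (.node (.leaf 767765031) (.leaf 987489786)) (.leaf 940716712))) (.node (.node (.node (.leaf 751185222) (.leaf 727888165)) (.leaf 914452986)) (.node (.node (.leaf 1023850008) (.leaf 1073010352)) (.leaf 578513038))))) (.node (.node (.node (.node (.node (.leaf 51413167) (.leaf 885041625)) (.leaf 996734327)) (.node (.node (.leaf 186559142) (.leaf 500934639)) (.leaf 1095497677))) (.node (.node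 (.node (.leaf 113665824) (.leaf 1058895594)) (.leaf 188604894)) (.node (.node (.leaf 712814145) (.leaf 1052448032)) (.leaf 945377006)))) (.node (.node (.node (.node (.leaf 177203779) (.leaf 899608373)) (.leaf 165823228)) (.node (.node (.leaf 418280227) (.leaf 1009421836)) (.leaf 259728014))) (.node (.node (.node (.leaf 70288550) (.leaf 938397780)) (.leaf 871354644)) (.node (.node (.leaf 918341035) (.leaf 1093708438)) (.leaf 764038417))))))) (.node (.node (.node (.node (.node (.node (.node (.leaf 11690173) (.leaf 957976137)) (.leaf 825658097)) (.node (.node (.leaf 807922286) (.leaf 753708573)) (.leaf 989853007))) (.node (.node (.node (.leaf 623437011) (.leaf 692072507)) (.leaf 174612922)) (.node (.node (.leaf 93545931) (.leaf 1104484358)) (.leaf 271475363)))) (.node (.node (.node (.node (.leaf 55960551) (.leaf 733824301)) (.leaf 716016791)) (.node (.node (.leaf 651587604) (.leaf 1004008866)) (.leaf 762652688))) (.node (.node (.node (.leaf 313298871) (.leaf 633408523)) (.leaf 199691056)) (.node (.node (.leaf 905694706) (.leaf 1068062005)) (.leaf 840937655)))))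 (.node (.node (.node (.node (.node (.leaf 57517044) (.leaf 904293533)) (.leaf 590810762)) (.node (.node (.leaf 111896321) (.leaf 856405008)) (.leaf 577867194))) (.node (.node (.node (.leaf 271158814) (.leaf 957876686)) (.leaf 574146494)) (.node (.node (.leaf 605284609) (.leaf 1047023082)) (.leaf 578619391)))) (.node (.node (.node (.node (.leaf 22061186) (.leaf 792693252)) (.leaf 1041102463)) (.node (.node (.leaf 508998870) (.leaf 1004022715)) (.leaf 257024645))) (.node (.node (.node (.leaf 355111258) (.leaf 1100527597)) (.leaf 959353802)) (.node (.node (.leaf 723469062) (.leaf 1088638361)) (.leaf 728166694)))))) (.node (.node (.node (.node (.node (.node (.leaf 6021219) (.leaf 364753313)) (.leaf 825363168)) (.node (.node (.leaf 407499461) (.leaf 756738421)) (.leaf 1027339820))) (.node (.node (.node (.leaf 34521179) (.leaf 687181762)) (.leaf 816829075)) (.node (.node (.leaf 1006261680) (.leaf 1036645705)) (.leaf 1034565206)))) (.node (.node (.node (.node (.leaf 125102044) (.leaf 957285694)) (.leaf 746695906)) (.node (.node (.leaf 485659783) (.leaf 993292965))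 (.leaf 511571167))) (.node (.node (.node (.leaf 321679385) (.leaf 727675011)) (.leaf 925766170)) (.node (.node (.leaf 606159248) (.leaf 1078135328)) (.leaf 809292213))))) (.node (.node (.node (.node (.node (.leaf 81929588) (.leaf 344445078)) (.leaf 1070552882)) (.node (.node (.leaf 881798182) (.leaf 511907010)) (.leaf 746672503))) (.node (.node (.node (.leaf 291540716) (.leaf 410977387)) (.leaf 864731813)) (.node (.node (.leaf 109757548) (.leaf 1057773154)) (.leaf 643598210)))) (.node (.node (.node (.node (.leaf 189909710) (.leaf 373228667)) (.leaf 284184216)) (.node (.node (.leaf 540856132) (.leaf 1014780734)) (.leaf 724346752))) (.node (.node (.node (.leaf 305041251) (.leaf 663499471)) (.leaf 894199299)) (.node (.node (.leaf 1054070476) (.leaf 1098812685)) (.leaf 984610097)))))))) (.node (.node (.node (.node (.node (.node (.node (.node (.leaf 1482755) (.leaf 320964580)) (.leaf 225078296)) (.node (.node (.leaf 773170913) (.leaf 1049114286)) (.leaf 661614072))) (.node (.node (.node (.leaf 128346101) (.leaf 847080123)) (.leaf 963997596)) (.node (.node (.leaf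 776602892) (.leaf 1022743560)) (.leaf 912273602)))) (.node (.node (.node (.node (.leaf 15867948) (.leaf 643779383)) (.leaf 327905341)) (.node (.node (.leaf 621357652) (.leaf 979438386)) (.leaf 758320612))) (.node (.node (.node (.leaf 300887871) (.leaf 876991425)) (.leaf 193061355)) (.node (.node (.leaf 786736738) (.leaf 1065210698)) (.leaf 691929922))))) (.node (.node (.node (.node (.node (.leaf 51192743) (.leaf 883929174)) (.leaf 144630132)) (.node (.node (.leaf 674099530) (.leaf 487220582)) (.leaf 233572835))) (.node (.node (.node (.leaf 170370987) (.leaf 1060337394)) (.leaf 1059624686)) (.node (.node (.leaf 665474069) (.leaf 1044580875)) (.leaf 283402951)))) (.node (.node (.node (.node (.leaf 157600060) (.leaf 902303846)) (.leaf 750464316)) (.node (.node (.leaf 787723189) (.leaf 1001296729)) (.leaf 636880205))) (.node (.node (.node (.leaf 351211829) (.leaf 657034935)) (.leaf 930556108)) (.node (.node (.leaf 120013611) (.leaf 1086083231)) (.leaf 825315813)))))) (.node (.node (.node (.node (.node (.node (.leaf 28852778) (.leaf 705631365)) (.leaf 1061476090))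 (.node (.node (.leaf 64995807) (.leaf 876130472)) (.leaf 559252571))) (.node (.node (.node (.leaf 238537931) (.leaf 913150965)) (.leaf 317829092)) (.node (.node (.leaf 1003312543) (.leaf 1033717597)) (.leaf 677553922)))) (.node (.node (.node (.node (.leaf 27378182) (.leaf 354108319)) (.leaf 990688595)) (.node (.node (.leaf 636187527) (.leaf 990400731)) (.leaf 712771343))) (.node (.node (.node (.leaf 576810855) (.leaf 1075656530)) (.leaf 737653017)) (.node (.node (.leaf 980890907) (.leaf 1075778144)) (.leaf 1021474314))))) (.node (.node (.node (.node (.node (.leaf 31146164) (.leaf 342418290)) (.leaf 653111217)) (.node (.node (.leaf 660173634) (.leaf 704196316)) (.leaf 784363109))) (.node (.node (.node (.leaf 286305968) (.leaf 958469297)) (.leaf 850235728)) (.node (.node (.leaf 174311966) (.leaf 1055099470)) (.leaf 697750421)))) (.node (.node (.node (.node (.leaf 25247912) (.leaf 948671461)) (.leaf 167780961)) (.node (.node (.leaf 522622211) (.leaf 1012421004)) (.leaf 264348306))) (.node (.node (.node (.leaf 54632891) (.leaf 969919948)) (.leaf 741475515))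 (.node (.node (.leaf 124445007) (.leaf 1096273482)) (.leaf 697862566))))))) (.node (.node (.node (.node (.node (.node (.node (.leaf 17629502) (.leaf 731541695)) (.leaf 193448728)) (.node (.node (.leaf 590823799) (.leaf 466183464)) (.leaf 604375562))) (.node (.node (.node (.leaf 228428871) (.leaf 804294826)) (.leaf 176440519)) (.node (.node (.leaf 906481413) (.leaf 1028345027)) (.leaf 669651553)))) (.node (.node (.node (.node (.leaf 29966517) (.leaf 761777180)) (.leaf 325382088)) (.node (.node (.leaf 469963845) (.leaf 984749040)) (.leaf 938822124))) (.node (.node (.node (.leaf 319377403) (.leaf 916927597)) (.leaf 199960987)) (.node (.node (.leaf 1038767728) (.leaf 1070616948)) (.leaf 830325991))))) (.node (.node (.node (.node (.node (.leaf 801497548) (.leaf 1025357345)) (.leaf 989738318)) (.node (.node (.leaf 71189566) (.leaf 697920476)) (.leaf 721309758))) (.node (.node (.node (.leaf 110503661) (.leaf 854077886)) (.leaf 845116509)) (.node (.node (.leaf 593708935) (.leaf 1049855928)) (.leaf 286500497)))) (.node (.node (.node (.node (.leaf 170019315) (.leaf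 367070830)) (.leaf 958295225)) (.node (.node (.leaf 85729513) (.leaf 1006686035)) (.leaf 275197515))) (.node (.node (.node (.leaf 713386193) (.leaf 1099700199)) (.leaf 1051260603)) (.node (.node (.leaf 527780964) (.leaf 1091325495)) (.leaf 618924561)))))) (.node (.node (.node (.node (.node (.node (.leaf 7004180) (.leaf 910068461)) (.leaf 879201745)) (.node (.node (.leaf 773564131) (.leaf 706865162)) (.leaf 529321217))) (.node (.node (.node (.leaf 249449803) (.leaf 874457855)) (.leaf 181699598)) (.node (.node (.leaf 100974863) (.leaf 1039258366)) (.leaf 583830884)))) (.node (.node (.node (.node (.leaf 143329415) (.leaf 802975847)) (.leaf 911673749)) (.node (.node (.leaf 533851799) (.leaf 995936619)) (.leaf 1078294370))) (.node (.node (.node (.leaf 810544905) (.leaf 738036697)) (.leaf 206932216)) (.node (.node (.leaf 789381904) (.leaf 1080872265)) (.leaf 717099813))))) (.node (.node (.node (.node (.node (.leaf 89081307) (.leaf 1020261891)) (.leaf 153274286)) (.node (.node (.leaf 448664542) (.leaf 1096792021)) (.leaf 774205549))) (.node (.node (.node (.leaf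 296390425) (.leaf 879592931)) (.leaf 826093246)) (.node (.node (.leaf 773309662) (.leaf 1060310798)) (.leaf 644434894)))) (.node (.node (.node (.node (.leaf 200035123) (.leaf 966201261)) (.leaf 860196586)) (.node (.node (.leaf 90325741) (.leaf 1031157315)) (.leaf 805073080))) (.node (.node (.node (.leaf 58049531) (.leaf 865086555)) (.leaf 574671502)) (.node (.node (.leaf 313569209) (.leaf 1101420344)) (.leaf 318809687))))))))) (.node (.node (.node (.node (.node (.node (.node (.node (.node (.leaf 2580516) (.leaf 857146222)) (.node (.leaf 130670939) (.leaf 1105122612))) (.node (.node (.leaf 81380718) (.leaf 850759860)) (.leaf 223797793))) (.node (.node (.node (.leaf 214518700) (.leaf 379839482)) (.leaf 1074329418)) (.node (.node (.leaf 645885272) (.leaf 1021301755)) (.leaf 269371011)))) (.node (.node (.node (.node (.leaf 98395734) (.leaf 1058567912)) (.leaf 965642542)) (.node (.node (.leaf 814428939) (.leaf 1062057725)) (.leaf 840889359))) (.node (.node (.node (.leaf 304222046) (.leaf 754943305)) (.leaf 192831978)) (.node (.node (.leaf 712839760) (.leaf 1064160720))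 (.leaf 806798400))))) (.node (.node (.node (.node (.node (.leaf 48956286) (.leaf 873605397)) (.leaf 891669207)) (.node (.node (.leaf 70902958) (.leaf 719622750)) (.leaf 909070906))) (.node (.node (.node (.leaf 258346422) (.leaf 908086750)) (.leaf 1066104599)) (.node (.node (.leaf 1012438483) (.leaf 1043222214)) (.leaf 282043075)))) (.node (.node (.node (.node (.leaf 711418917) (.leaf 696300719)) (.leaf 162111903)) (.node (.node (.leaf 878143612) (.leaf 1057617634)) (.leaf 1049573041))) (.node (.node (.node (.leaf 347861257) (.leaf 435152073)) (.leaf 575744663)) (.node (.node (.leaf 529564587) (.leaf 1084740258)) (.leaf 1039365747)))))) (.node (.node (.node (.node (.node (.node (.leaf 25190864) (.leaf 1012659668)) (.leaf 547303201)) (.node (.node (.leaf 268873223) (.leaf 637340448)) (.leaf 780119228))) (.node (.node (.node (.leaf 235351205) (.leaf 911070378)) (.leaf 677105135)) (.node (.node (.leaf 97108230) (.leaf 1032426308)) (.leaf 944679932)))) (.node (.node (.node (.node (.leaf 122079149) (.leaf 674039119)) (.leaf 694965426)) (.node (.node (.leaf 610938368)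 (.leaf 1050302133)) (.leaf 751962462))) (.node (.node (.node (.leaf 331288676) (.leaf 912058711)) (.leaf 202990070)) (.node (.node (.leaf 979318033) (.leaf 1074351477)) (.leaf 318124008))))) (.node (.node (.node (.node (.node (.leaf 74466528) (.leaf 341156717)) (.leaf 197724264)) (.node (.node (.leaf 96510661) (.leaf 504309143)) (.leaf 1095169995))) (.node (.node (.node (.leaf 175352360) (.leaf 407880802)) (.leaf 837102785)) (.node (.node (.leaf 113239835) (.leaf 1053709144)) (.leaf 674624648)))) (.node (.node (.node (.node (.leaf 180374116) (.leaf 821038066)) (.leaf 749137071)) (.node (.node (.leaf 88293614) (.leaf 1010912626)) (.leaf 997307770))) (.node (.node (.node (.leaf 53723834) (.leaf 959375672)) (.leaf 634253217)) (.node (.node (.leaf 566675554) (.leaf 1094896788)) (.leaf 315761448))))))) (.node (.node (.node (.node (.node (.node (.node (.leaf 15319304) (.leaf 943616409)) (.leaf 556106298)) (.node (.node (.leaf 61407516) (.leaf 464160035)) (.leaf 1051457212))) (.node (.node (.node (.leaf 555099951) (.leaf 673895446)) (.leaf 606751077)) (.node (.node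 (.leaf 539869737) (.leaf 1026852599)) (.leaf 417157916)))) (.node (.node (.node (.node (.leaf 16810033) (.leaf 852037317)) (.leaf 1073788743)) (.node (.node (.leaf 635945178) (.leaf 983510801)) (.leaf 759416851))) (.node (.node (.node (.leaf 316305360) (.leaf 1081522038)) (.leaf 199033462)) (.node (.node (.leaf 939639770) (.leaf 1069174403)) (.leaf 718951475))))) (.node (.node (.node (.node (.node (.leaf 24486344) (.leaf 1046943393)) (.leaf 146950325)) (.node (.node (.leaf 427864932) (.leaf 772993583)) (.leaf 713230177))) (.node (.node (.node (.leaf 274124345) (.leaf 717868508)) (.leaf 187302365)) (.node (.node (.leaf 105153793) (.leaf 1048522812)) (.leaf 583207179)))) (.node (.node (.node (.node (.leaf 166840781) (.leaf 963744811)) (.leaf 890471301)) (.node (.node (.leaf 251784541) (.leaf 1064023818)) (.leaf 257492421))) (.node (.node (.node (.leaf 357568876) (.leaf 771228917)) (.leaf 213879181)) (.node (.node (.leaf 716653899) (.leaf 1090021946)) (.leaf 312117113)))))) (.node (.node (.node (.node (.node (.node (.leaf 38830764) (.leaf 366244269)) (.leaf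 141615469)) (.node (.node (.leaf 66625719) (.leaf 953649103)) (.leaf 816629023))) (.node (.node (.node (.leaf 747398387) (.leaf 1019991554)) (.leaf 1081112435)) (.node (.node (.leaf 303673179) (.leaf 1037781579)) (.leaf 874310594)))) (.node (.node (.node (.node (.leaf 139593818) (.leaf 831154535)) (.leaf 866257619)) (.node (.node (.leaf 301707084) (.leaf 994403867)) (.leaf 791457631))) (.node (.node (.node (.leaf 575581270) (.leaf 883191827)) (.leaf 574812386)) (.node (.node (.leaf 403280551) (.leaf 1079595247)) (.leaf 305439503))))) (.node (.node (.node (.node (.node (.leaf 86033848) (.leaf 725462915)) (.leaf 1070683955)) (.node (.node (.leaf 445518792) (.leaf 515417526)) (.leaf 242092482))) (.node (.node (.node (.leaf 741131315) (.leaf 861369563)) (.leaf 1093793730)) (.node (.node (.leaf 1026274854) (.leaf 1059001121)) (.leaf 891489232)))) (.node (.node (.node (.node (.leaf 851307271) (.leaf 872165625)) (.leaf 830244378)) (.node (.node (.leaf 779093258) (.leaf 1074026312)) (.leaf 266691223))) (.node (.node (.node (.leaf 789848774) (.leaf 766193285)) (.leaf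 221119300)) (.node (.node (.leaf 126484822) (.leaf 1100076799)) (.leaf 1058084580)))))))) (.node (.node (.node (.node (.node (.node (.node (.node (.leaf 9437335) (.leaf 864405246)) (.leaf 132040727)) (.node (.node (.leaf 68986005) (.leaf 1012807125)) (.leaf 225299317))) (.node (.node (.node (.leaf 221105130) (.leaf 925722584)) (.leaf 264613334)) (.node (.node (.leaf 928656742) (.leaf 1024169232)) (.leaf 605029082)))) (.node (.node (.node (.node (.leaf 105006759) (.leaf 763006177)) (.leaf 1054930641)) (.node (.node (.leaf 965978487) (.leaf 980667513)) (.leaf 850357376))) (.node (.node (.node (.leaf 309546900) (.leaf 575638564)) (.leaf 823749360)) (.node (.node (.leaf 1035687517) (.leaf 1097586650)) (.leaf 296411890))))) (.node (.node (.node (.node (.node (.leaf 53945292) (.leaf 1085380493)) (.leaf 209677190)) (.node (.node (.leaf 942124791) (.leaf 1040266873)) (.leaf 852493466))) (.node (.node (.node (.leaf 743925387) (.leaf 971902343)) (.leaf 880699743)) (.node (.node (.leaf 1013814748) (.leaf 1074902861)) (.leaf 1103722497)))) (.node (.node (.node (.node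 (.leaf 21389372) (.leaf 576302153)) (.leaf 979424530)) (.node (.node (.leaf 541344538) (.leaf 1002508150)) (.leaf 793970381))) (.node (.node (.node (.leaf 81503601) (.leaf 745123079)) (.leaf 325677105)) (.node (.node (.leaf 759925933) (.leaf 1087442535)) (.leaf 1057388257)))))) (.node (.node (.node (.node (.node (.node (.leaf 34103894) (.leaf 820121808)) (.leaf 681592064)) (.node (.node (.leaf 601547150) (.leaf 687302593)) (.leaf 577728346))) (.node (.node (.node (.leaf 42754810) (.leaf 892522990)) (.leaf 766553412)) (.node (.node (.leaf 98640137) (.leaf 1035228121)) (.leaf 973378765)))) (.node (.node (.node (.node (.leaf 130172932) (.leaf 1033451088)) (.leaf 158777752)) (.node (.node (.leaf 610788259) (.leaf 991940762)) (.leaf 251119537))) (.node (.node (.node (.leaf 336113817) (.leaf 641762766)) (.leaf 204614028)) (.node (.node (.leaf 971190978) (.leaf 1077005194)) (.leaf 532710194))))) (.node (.node (.node (.node (.node (.leaf 79725906) (.leaf 1055258323)) (.leaf 222063601)) (.node (.node (.leaf 440800171) (.leaf 510158252)) (.leaf 701057451))) (.node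 (.node (.node (.leaf 40984687) (.leaf 816088287)) (.leaf 957656670)) (.node (.node (.leaf 575024123) (.leaf 1056445527)) (.leaf 1104082948)))) (.node (.node (.node (.node (.leaf 25542730) (.leaf 838111128)) (.leaf 885754121)) (.node (.node (.leaf 891155006) (.leaf 1033696849)) (.leaf 717713793))) (.node (.node (.node (.leaf 372150736) (.leaf 652693451)) (.leaf 688309291)) (.node (.node (.leaf 937806566) (.leaf 1097602404)) (.leaf 1028060721))))))) (.node (.node (.node (.node (.node (.node (.node (.leaf 20988299) (.leaf 624182620)) (.leaf 194554651)) (.node (.node (.leaf 63193815) (.leaf 938873374)) (.leaf 644460274))) (.node (.node (.node (.leaf 542377469) (.leaf 669574472)) (.leaf 1083119487)) (.node (.node (.leaf 906349881) (.leaf 1029674055)) (.leaf 274162346)))) (.node (.node (.node (.node (.leaf 115836752) (.leaf 970148996)) (.leaf 324978574)) (.node (.node (.leaf 623165961) (.leaf 986262990)) (.leaf 749982285))) (.node (.node (.node (.leaf 585871089) (.leaf 635260964)) (.leaf 781944048)) (.node (.node (.leaf 1039603317) (.leaf 1071814071)) (.leaf 955256655)))))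 (.node (.node (.node (.node (.node (.leaf 11944132) (.leaf 715443120)) (.leaf 566700208)) (.node (.node (.leaf 744303872) (.leaf 497174576)) (.leaf 237191757))) (.node (.node (.node (.leaf 39354520) (.leaf 870239793)) (.leaf 876810373)) (.node (.node (.leaf 106243616) (.leaf 1051185087)) (.leaf 1008170426)))) (.node (.node (.node (.node (.leaf 174541345) (.leaf 529353812)) (.leaf 165216896)) (.node (.node (.leaf 243674360) (.leaf 1007963661)) (.leaf 579194979))) (.node (.node (.node (.leaf 683458723) (.leaf 793472215)) (.leaf 314576835)) (.node (.node (.leaf 122963837) (.leaf 1092669318)) (.leaf 313592840)))))) (.node (.node (.node (.node (.node (.node (.leaf 43524867) (.leaf 847062774)) (.leaf 902894048)) (.node (.node (.leaf 415773455) (.leaf 692688059)) (.leaf 892227368))) (.node (.node (.node (.leaf 36053087) (.leaf 397733854)) (.leaf 810574678)) (.node (.node (.leaf 272936496) (.leaf 1040320318)) (.leaf 716910445)))) (.node (.node (.node (.node (.leaf 146532523) (.leaf 359637938)) (.leaf 161055132)) (.node (.node (.leaf 491951277) (.leaf 997200006))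 (.leaf 771257258))) (.node (.node (.node (.leaf 343757022) (.leaf 888867254)) (.leaf 207847937)) (.node (.node (.leaf 226225193) (.leaf 1082135700)) (.leaf 842633156))))) (.node (.node (.node (.node (.node (.leaf 14565416) (.leaf 774828901)) (.leaf 524076534)) (.node (.node (.leaf 872350687) (.leaf 846508150)) (.leaf 400372363))) (.node (.node (.node (.leaf 42705013) (.leaf 859358621)) (.leaf 191898088)) (.node (.node (.leaf 572362623) (.leaf 1061573457)) (.leaf 932114084)))) (.node (.node (.node (.node (.leaf 738722997) (.leaf 1080506224)) (.leaf 787957357)) (.node (.node (.leaf 864432615) (.leaf 1018548023)) (.leaf 267641497))) (.node (.node (.node (.leaf 379818505) (.leaf 681444815)) (.leaf 842616854)) (.node (.node (.leaf 578424505) (.leaf 1102663185)) (.leaf 773918542)))))))))) (.node (.node (.node (.node (.node (.node (.node (.node (.node (.node (.leaf 458754) (.leaf 768657895)) (.node (.leaf 218295243) (.leaf 1104500397))) (.node (.node (.leaf 382751267) (.leaf 840954882)) (.leaf 728297767))) (.node (.node (.node (.leaf 126380007) (.leaf 379505068))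 (.leaf 502346950)) (.node (.node (.leaf 990893397) (.leaf 1020760677)) (.leaf 652890053)))) (.node (.node (.node (.node (.leaf 96642627) (.leaf 1054652111)) (.leaf 759221509)) (.node (.node (.leaf 824193500) (.leaf 652773592)) (.leaf 744965047))) (.node (.node (.node (.leaf 302550868) (.leaf 983708972)) (.leaf 850381991)) (.node (.node (.leaf 958507442) (.leaf 1063441100)) (.leaf 294176344))))) (.node (.node (.node (.node (.node (.leaf 47350616) (.leaf 769584572)) (.leaf 982168866)) (.node (.node (.leaf 407229123) (.leaf 697790507)) (.leaf 1005721004))) (.node (.node (.node (.leaf 257265062) (.leaf 719426367)) (.leaf 869739690)) (.node (.node (.leaf 743624264) (.leaf 1042469681)) (.leaf 281338562)))) (.node (.node (.node (.node (.leaf 152684782) (.leaf 361145270)) (.leaf 161751454)) (.node (.node (.leaf 82780387) (.leaf 999543251)) (.leaf 603868209))) (.node (.node (.node (.leaf 88286666) (.leaf 884803186)) (.leaf 209651714)) (.node (.node (.leaf 316452818) (.leaf 1084208615)) (.leaf 570640464)))))) (.node (.node (.node (.node (.node (.node (.leaf 25035213)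 (.leaf 763538369)) (.leaf 325550602)) (.node (.node (.leaf 595732778) (.leaf 908357371)) (.leaf 870805072))) (.node (.node (.node (.leaf 234982563) (.leaf 856048733)) (.leaf 946402259)) (.node (.node (.leaf 1000052106) (.leaf 1031820534)) (.leaf 724472352)))) (.node (.node (.node (.node (.leaf 17924221) (.leaf 831926624)) (.leaf 158065043)) (.node (.node (.leaf 702950958) (.leaf 988391267)) (.leaf 751157890))) (.node (.node (.node (.leaf 328773699) (.leaf 660555685)) (.leaf 202557420)) (.node (.node (.leaf 115220792) (.leaf 1073599445)) (.leaf 817476496))))) (.node (.node (.node (.node (.node (.leaf 12009505) (.leaf 761647986)) (.leaf 148849198)) (.node (.node (.leaf 72581319) (.leaf 502310290)) (.leaf 783430670))) (.node (.node (.node (.leaf 74039617) (.leaf 1017083377)) (.leaf 189105820)) (.node (.node (.leaf 554650816) (.leaf 1053193649)) (.leaf 582764767)))) (.node (.node (.node (.node (.leaf 599933457) (.leaf 754291817)) (.leaf 937382091)) (.node (.node (.leaf 183872139) (.leaf 1010190191)) (.leaf 260163100))) (.node (.node (.node (.leaf 57754614) (.leaf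 840960751)) (.leaf 970920856)) (.node (.node (.leaf 918603177) (.leaf 1094391589)) (.leaf 314893095))))))) (.node (.node (.node (.node (.node (.node (.node (.leaf 7921791) (.leaf 322808342)) (.leaf 1023661591)) (.node (.node (.leaf 179743328) (.leaf 839132689)) (.leaf 1028372018))) (.node (.node (.node (.leaf 147261625) (.leaf 984380719)) (.leaf 789669748)) (.node (.node (.leaf 803949834) (.leaf 1026231148)) (.leaf 845967552)))) (.node (.node (.node (.node (.leaf 110118632) (.leaf 350299024)) (.leaf 501714864)) (.node (.node (.leaf 677128778) (.leaf 982634711)) (.leaf 747277576))) (.node (.node (.node (.leaf 748481843) (.leaf 1011267020)) (.leaf 978826510)) (.node (.node (.leaf 717607807) (.leaf 1068519702)) (.leaf 674530664))))) (.node (.node (.node (.node (.node (.leaf 59786256) (.leaf 983250217)) (.leaf 575997440)) (.node (.node (.leaf 107505355) (.leaf 1075287887)) (.leaf 317501407))) (.node (.node (.node (.leaf 712606004) (.leaf 712140556)) (.leaf 186581464)) (.node (.node (.leaf 661965659) (.leaf 1047679512)) (.leaf 578332670)))) (.node (.node (.node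 (.node (.leaf 164448688) (.leaf 792839676)) (.leaf 697854936)) (.node (.node (.leaf 581070565) (.leaf 1004539298)) (.leaf 599048880))) (.node (.node (.node (.leaf 169224674) (.leaf 699829944)) (.leaf 937224623)) (.node (.node (.leaf 139331579) (.leaf 1089456821)) (.leaf 311725040)))))) (.node (.node (.node (.node (.node (.node (.leaf 8396932) (.leaf 844858336)) (.leaf 539656974)) (.node (.node (.leaf 66462442) (.leaf 973154836)) (.leaf 952234784))) (.node (.node (.node (.leaf 50815905) (.leaf 394308996)) (.leaf 347615492)) (.node (.node (.leaf 893643538) (.leaf 1037243106)) (.leaf 277717687)))) (.node (.node (.node (.node (.leaf 19292214) (.leaf 704615055)) (.leaf 896110507)) (.node (.node (.leaf 80519388) (.leaf 993809413)) (.leaf 928633571))) (.node (.node (.node (.leaf 777241058) (.leaf 428557483)) (.leaf 205644284)) (.node (.node (.leaf 905596570) (.leaf 1078826627)) (.leaf 1102043126))))) (.node (.node (.node (.node (.node (.leaf 22888883) (.leaf 734450667)) (.leaf 704228994)) (.node (.node (.leaf 443937722) (.leaf 692883860)) (.leaf 896648614))) (.node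 (.node (.node (.leaf 585918375) (.leaf 411559021)) (.leaf 190882277)) (.node (.node (.leaf 891958524) (.leaf 1058230767)) (.leaf 680292708)))) (.node (.node (.node (.node (.leaf 191171308) (.leaf 881750559)) (.leaf 830539275)) (.node (.node (.leaf 542280916) (.leaf 1102559226)) (.leaf 1072985922))) (.node (.node (.node (.leaf 108168913) (.leaf 665113201)) (.leaf 1008940479)) (.node (.node (.leaf 900493192) (.leaf 1099582653)) (.leaf 902148969)))))))) (.node (.node (.node (.node (.node (.node (.node (.node (.leaf 7176294) (.leaf 842592770)) (.leaf 528156927)) (.node (.node (.leaf 850080309) (.leaf 1098569696)) (.leaf 627479133))) (.node (.node (.node (.leaf 28041296) (.leaf 715835946)) (.leaf 173531777)) (.node (.node (.leaf 856583397) (.leaf 1023511038)) (.leaf 1056470746)))) (.node (.node (.node (.node (.leaf 103319187) (.leaf 902940483)) (.leaf 155304333)) (.node (.node (.leaf 629051326) (.leaf 1080113005)) (.leaf 246309479))) (.node (.node (.node (.leaf 308154241) (.leaf 900663083)) (.leaf 832279056)) (.node (.node (.leaf 605130238) (.leaf 1066062395))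 (.leaf 295936752))))) (.node (.node (.node (.node (.node (.leaf 43213566) (.leaf 806070861)) (.leaf 151963870)) (.node (.node (.leaf 539913311) (.leaf 916539072)) (.leaf 234062405))) (.node (.node (.node (.leaf 258330037) (.leaf 1059133163)) (.leaf 576867424)) (.node (.node (.leaf 789194608) (.leaf 1045123433)) (.leaf 906824710)))) (.node (.node (.node (.node (.leaf 158378320) (.leaf 634310734)) (.leaf 906514965)) (.node (.node (.leaf 503829704) (.leaf 1020622342)) (.leaf 801370751))) (.node (.node (.node (.leaf 734965478) (.leaf 1073272643)) (.leaf 945760697)) (.node (.node (.leaf 631395490) (.leaf 1086756665)) (.leaf 541855554)))))) (.node (.node (.node (.node (.node (.node (.leaf 30278214) (.leaf 883903230)) (.leaf 497759420)) (.node (.node (.leaf 794258843) (.leaf 909430188)) (.leaf 1002485145))) (.node (.node (.node (.leaf 240250075) (.leaf 1034073684)) (.leaf 633965514)) (.node (.node (.leaf 173795864) (.leaf 1034596276)) (.leaf 858010081)))) (.node (.node (.node (.node (.leaf 551528277) (.leaf 754373065)) (.leaf 663327865)) (.node (.node (.leaf 627974676)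 (.leaf 991077894)) (.leaf 986297658))) (.node (.node (.node (.leaf 335138960) (.leaf 851366087)) (.leaf 204333561)) (.node (.node (.leaf 552487778) (.leaf 1079834476)) (.leaf 889531216))))) (.node (.node (.node (.node (.node (.leaf 78218540) (.leaf 866177688)) (.leaf 1066792731)) (.node (.node (.leaf 853535106) (.leaf 1099569126)) (.leaf 556042264))) (.node (.node (.node (.leaf 604679223) (.leaf 1103886338)) (.leaf 1010251207)) (.node (.node (.leaf 108668392) (.leaf 1055674101)) (.leaf 289243867)))) (.node (.node (.node (.node (.leaf 186305187) (.leaf 824017965)) (.leaf 949539611)) (.node (.node (.leaf 581676769) (.leaf 1012946096)) (.leaf 1088042910))) (.node (.node (.node (.leaf 717172426) (.leaf 914131927)) (.leaf 592325678)) (.node (.node (.leaf 148334787) (.leaf 1097027357)) (.leaf 975973209))))))) (.node (.node (.node (.node (.node (.node (.node (.leaf 19235173) (.leaf 649430297)) (.leaf 195559935)) (.node (.node (.leaf 62825087) (.leaf 831538725)) (.leaf 1008383419))) (.node (.node (.node (.leaf 229870677) (.leaf 892645851)) (.leaf 1071093557)) (.node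 (.node (.leaf 560452799) (.leaf 1029034144)) (.leaf 582898953)))) (.node (.node (.node (.node (.leaf 114575158) (.leaf 1090221995)) (.leaf 830526166)) (.node (.node (.leaf 78569687) (.leaf 985533844)) (.leaf 758428639))) (.node (.node (.node (.leaf 45949752) (.leaf 930195685)) (.leaf 1085093772)) (.node (.node (.leaf 568749962) (.leaf 1071157012)) (.leaf 1081767800))))) (.node (.node (.node (.node (.node (.leaf 66159710) (.leaf 1077032794)) (.leaf 146981242)) (.node (.node (.leaf 738699618) (.leaf 495502757)) (.leaf 674579815))) (.node (.node (.node (.leaf 598977957) (.leaf 876876327)) (.leaf 774999888)) (.node (.node (.leaf 1018951164) (.leaf 1050365781)) (.leaf 927935073)))) (.node (.node (.node (.node (.leaf 143370376) (.leaf 851241740)) (.leaf 887984712)) (.node (.node (.leaf 525823092) (.leaf 1007342186)) (.leaf 258411310))) (.node (.node (.node (.leaf 626812113) (.leaf 1096939478)) (.leaf 215533043)) (.node (.node (.leaf 818465326) (.leaf 1091966552)) (.leaf 655845107)))))) (.node (.node (.node (.node (.node (.node (.leaf 43352832) (.leaf 846458639))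 (.leaf 141951343)) (.node (.node (.leaf 192236289) (.leaf 656705798)) (.leaf 829330355))) (.node (.node (.node (.leaf 35692638) (.leaf 1096136657)) (.leaf 186722983)) (.node (.node (.leaf 838396649) (.leaf 1039797305)) (.leaf 965333892)))) (.node (.node (.node (.node (.leaf 145967262) (.leaf 358925235)) (.leaf 160638114)) (.node (.node (.leaf 490575015) (.leaf 996607732)) (.leaf 986682685))) (.node (.node (.node (.leaf 48619657) (.leaf 963979794)) (.leaf 934923170)) (.node (.node (.leaf 121825193) (.leaf 1081497097)) (.leaf 567609389))))) (.node (.node (.node (.node (.node (.leaf 14188658) (.leaf 938790194)) (.leaf 153575815)) (.node (.node (.leaf 888139481) (.leaf 519120324)) (.leaf 243271533))) (.node (.node (.node (.leaf 42115188) (.leaf 1077557086)) (.leaf 1049884338)) (.node (.node (.leaf 847156467) (.leaf 1060819027)) (.leaf 711986702)))) (.node (.node (.node (.node (.leaf 202599238) (.leaf 881862393)) (.leaf 1027192363)) (.node (.node (.leaf 986502460) (.leaf 1017860014)) (.leaf 1032107592))) (.node (.node (.node (.leaf 276794971) (.leaf 721891965))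 (.leaf 225266714)) (.node (.node (.leaf 563515237) (.leaf 1102059054)) (.leaf 1086453652))))))))) (.node (.node (.node (.node (.node (.node (.node (.node (.node (.leaf 1146889) (.leaf 1024636445)) (.leaf 206973810)) (.node (.node (.leaf 59655149) (.leaf 877064978)) (.leaf 316551124))) (.node (.node (.node (.leaf 118957955) (.leaf 1062188798)) (.leaf 612058418)) (.node (.node (.leaf 804336748) (.leaf 1022068874)) (.leaf 965158824)))) (.node (.node (.node (.node (.leaf 99837545) (.leaf 348169097)) (.leaf 154870290)) (.node (.node (.leaf 841084912) (.leaf 978798621)) (.leaf 758182726))) (.node (.node (.node (.leaf 43892858) (.leaf 858302664)) (.leaf 892808394)) (.node (.node (.leaf 753821352) (.leaf 1064586892)) (.leaf 295035630))))) (.node (.node (.node (.node (.node (.leaf 16032022) (.leaf 576113307)) (.leaf 144236915)) (.node (.node (.leaf 694987082) (.leaf 1070413617)) (.leaf 806159530))) (.node (.node (.node (.leaf 37298277) (.leaf 1102411769)) (.leaf 317239258)) (.node (.node (.leaf 960958988) (.leaf 1043810138)) (.leaf 282616516)))) (.node (.node (.node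 (.node (.leaf 155781410) (.leaf 850931804)) (.leaf 929769704)) (.node (.node (.leaf 83460421) (.leaf 1045493400)) (.leaf 649204766))) (.node (.node (.node (.leaf 733325913) (.leaf 927238423)) (.leaf 588754315)) (.node (.node (.leaf 698913619) (.leaf 1085417949)) (.leaf 569691975)))))) (.node (.node (.node (.node (.node (.node (.leaf 19349862) (.leaf 763661603)) (.leaf 792134886)) (.node (.node (.leaf 837724206) (.leaf 718009523)) (.leaf 229099391))) (.node (.node (.node (.leaf 86402492) (.leaf 719712303)) (.leaf 771977795)) (.node (.node (.leaf 752954606) (.leaf 1033144745)) (.leaf 275334365)))) (.node (.node (.node (.node (.leaf 123914186) (.leaf 716154519)) (.leaf 925322953)) (.node (.node (.leaf 636036135) (.leaf 991573336)) (.leaf 796823798))) (.node (.node (.node (.leaf 937994396) (.leaf 424464359)) (.leaf 203475065)) (.node (.node (.leaf 725061701) (.leaf 1075071862)) (.leaf 844509628))))) (.node (.node (.node (.node (.node (.leaf 64578634) (.leaf 728503342)) (.leaf 656487384)) (.node (.node (.leaf 73040304) (.leaf 858984927)) (.leaf 964408255))) (.node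 (.node (.node (.leaf 72877259) (.leaf 865029311)) (.leaf 777225035)) (.node (.node (.leaf 1022629394) (.leaf 1054528854)) (.leaf 605064731)))) (.node (.node (.node (.node (.leaf 72320194) (.leaf 963726927)) (.leaf 166863274)) (.node (.node (.leaf 558555653) (.leaf 1011601747)) (.leaf 263889553))) (.node (.node (.node (.leaf 812934159) (.leaf 840396923)) (.leaf 218499270)) (.node (.node (.leaf 524404832) (.leaf 1095635461)) (.leaf 638456599))))))) (.node (.node (.node (.node (.node (.node (.node (.leaf 3153928) (.leaf 975744573)) (.leaf 1030624831)) (.node (.node (.leaf 61563052) (.leaf 853387649)) (.leaf 592298927))) (.node (.node (.node (.leaf 227331130) (.leaf 1002296728)) (.leaf 818442812)) (.node (.node (.leaf 996496758) (.leaf 1027707310)) (.leaf 272442022)))) (.node (.node (.node (.node (.leaf 712697535) (.leaf 839585050)) (.leaf 712918794)) (.node (.node (.leaf 935733640) (.leaf 984122888)) (.leaf 766587884))) (.node (.node (.node (.leaf 317935589) (.leaf 419900794)) (.leaf 199287281)) (.node (.node (.leaf 554961809) (.leaf 1069926787)) (.leaf 298615549)))))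 (.node (.node (.node (.node (.node (.leaf 62882872) (.leaf 338010976)) (.leaf 550446911)) (.node (.node (.leaf 181815924) (.leaf 686475790)) (.leaf 1082587004))) (.node (.node (.node (.leaf 274886211) (.leaf 1032566346)) (.leaf 832082083)) (.node (.node (.leaf 281390726) (.leaf 1049242923)) (.leaf 718566290)))) (.node (.node (.node (.node (.leaf 22585408) (.leaf 831007072)) (.leaf 890703517)) (.node (.node (.leaf 527344135) (.leaf 1005996551)) (.leaf 771860821))) (.node (.node (.node (.leaf 52134033) (.leaf 842306066)) (.leaf 697322506)) (.node (.node (.leaf 122134858) (.leaf 1090769107)) (.leaf 605713007)))))) (.node (.node (.node (.node (.node (.node (.leaf 40403664) (.leaf 844410009)) (.leaf 987297089)) (.node (.node (.leaf 411833064) (.leaf 674206528)) (.leaf 527820853))) (.node (.node (.node (.leaf 248614207) (.leaf 395961397)) (.leaf 1092687803)) (.node (.node (.leaf 673989909) (.leaf 1038427949)) (.leaf 278987732)))) (.node (.node (.node (.node (.leaf 19669047) (.leaf 796149070)) (.leaf 741928707)) (.node (.node (.leaf 81347610) (.leaf 995136346))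 (.leaf 769869892))) (.node (.node (.node (.leaf 340914374) (.leaf 648333182)) (.leaf 781829358)) (.node (.node (.leaf 712887712) (.leaf 1080249837)) (.leaf 711332673))))) (.node (.node (.node (.node (.node (.leaf 559145525) (.leaf 933138882)) (.leaf 647982824)) (.node (.node (.leaf 781774967) (.leaf 516560112)) (.leaf 753192728))) (.node (.node (.node (.leaf 768978201) (.leaf 1008670141)) (.leaf 826017580)) (.node (.node (.leaf 110625065) (.leaf 1072633663)) (.leaf 720508088)))) (.node (.node (.node (.node (.leaf 130344965) (.leaf 838698529)) (.leaf 169870321)) (.node (.node (.leaf 833242875) (.leaf 1016604332)) (.leaf 818547257))) (.node (.node (.node (.leaf 57098430) (.leaf 664317309)) (.leaf 747498791)) (.node (.node (.leaf 251145562) (.leaf 1100763223)) (.leaf 781845738)))))))) (.node (.node (.node (.node (.node (.node (.node (.node (.leaf 11550906) (.leaf 636638315)) (.leaf 1025791523)) (.node (.node (.leaf 789276529) (.leaf 735359293)) (.leaf 225584518))) (.node (.node (.node (.leaf 933734548) (.leaf 1023112724)) (.leaf 174244840)) (.node (.node (.leaf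 117450604) (.leaf 1050752696)) (.leaf 271486498)))) (.node (.node (.node (.node (.leaf 73990834) (.leaf 740560375)) (.leaf 715490369)) (.node (.node (.leaf 655502167) (.leaf 981494861)) (.leaf 871075279))) (.node (.node (.node (.leaf 311496612) (.leaf 646899429)) (.leaf 902845175)) (.node (.node (.leaf 812745481) (.leaf 1067414727)) (.leaf 1063483142))))) (.node (.node (.node (.node (.node (.leaf 33808976) (.leaf 1071183670)) (.leaf 563078711)) (.node (.node (.leaf 529851020) (.leaf 700871586)) (.leaf 903949820))) (.node (.node (.node (.leaf 56574226) (.leaf 954961405)) (.leaf 185960196)) (.node (.node (.leaf 993391971) (.leaf 1046431752)) (.leaf 744508809)))) (.node (.node (.node (.node (.leaf 161614213) (.leaf 787204135)) (.leaf 760261919)) (.node (.node (.leaf 507466961) (.leaf 1003195669)) (.leaf 718697638))) (.node (.node (.node (.leaf 103540372) (.leaf 701917648)) (.leaf 860361460)) (.node (.node (.leaf 528329583) (.leaf 1087957531)) (.leaf 826886845)))))) (.node (.node (.node (.node (.node (.node (.leaf 35668597) (.leaf 1092286391)) (.leaf 962036991))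 (.node (.node (.leaf 407392964) (.leaf 477242695)) (.leaf 230613560))) (.node (.node (.node (.leaf 64185412) (.leaf 651437970)) (.leaf 639767363)) (.node (.node (.leaf 786403380) (.leaf 1035947538)) (.leaf 1103919107)))) (.node (.node (.node (.node (.leaf 131975194) (.leaf 826230391)) (.leaf 867806331)) (.node (.node (.leaf 483767419) (.leaf 1079048039)) (.leaf 968199734))) (.node (.node (.node (.leaf 58400945) (.leaf 902067046)) (.leaf 632073695)) (.node (.node (.leaf 591659945) (.leaf 1077578073)) (.leaf 1072346941))))) (.node (.node (.node (.node (.node (.leaf 772785170) (.leaf 343806068)) (.leaf 550365005)) (.node (.node (.leaf 773301012) (.leaf 511396076)) (.leaf 745425873))) (.node (.node (.node (.leaf 289967842) (.leaf 689351073)) (.leaf 897183465)) (.node (.node (.leaf 109044004) (.leaf 1057051534)) (.leaf 764628375)))) (.node (.node (.node (.node (.leaf 99444325) (.leaf 868763302)) (.leaf 1032975949)) (.node (.node (.leaf 570314568) (.leaf 1014140511)) (.leaf 748776757))) (.node (.node (.node (.leaf 823206160) (.leaf 626600831)) (.leaf 558220752))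 (.node (.node (.leaf 134211602) (.leaf 1098272756)) (.leaf 1062811394))))))) (.node (.node (.node (.node (.node (.node (.node (.leaf 3809291) (.leaf 843698311)) (.leaf 1060034289)) (.node (.node (.leaf 63570096) (.leaf 1051031225)) (.leaf 925676060))) (.node (.node (.node (.leaf 577481827) (.leaf 1040184952)) (.leaf 176923071)) (.node (.node (.leaf 96043985) (.leaf 1030460455)) (.leaf 274473643)))) (.node (.node (.node (.node (.leaf 93152798) (.leaf 921866606)) (.leaf 637453615)) (.node (.node (.leaf 78897368) (.leaf 986859472)) (.leaf 750732208))) (.node (.node (.node (.leaf 731710315) (.leaf 640419293)) (.leaf 919496820)) (.node (.node (.leaf 956993092) (.leaf 1072499577)) (.leaf 352808341))))) (.node (.node (.node (.node (.node (.leaf 69371035) (.leaf 626766215)) (.leaf 147882487)) (.node (.node (.leaf 72057592) (.leaf 498952434)) (.leaf 856139783))) (.node (.node (.node (.leaf 39608428) (.leaf 905974574)) (.leaf 900747136)) (.node (.node (.leaf 110782191) (.leaf 1051743286)) (.leaf 1099888617)))) (.node (.node (.node (.node (.leaf 176605748) (.leaf 761172272))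 (.leaf 165470632)) (.node (.node (.leaf 881534979) (.leaf 1008707190)) (.leaf 540641354))) (.node (.node (.node (.leaf 52797588) (.leaf 934318161)) (.leaf 733065503)) (.node (.node (.leaf 836424099) (.leaf 1093194096)) (.leaf 314067993)))))) (.node (.node (.node (.node (.node (.node (.leaf 37560976) (.leaf 1048589995)) (.leaf 970174778)) (.node (.node (.leaf 67830213) (.leaf 1035925086)) (.leaf 892406906))) (.node (.node (.node (.leaf 37921427) (.leaf 398500925)) (.leaf 575621980)) (.node (.node (.leaf 293564159) (.leaf 1041008826)) (.leaf 611435840)))) (.node (.node (.node (.node (.leaf 145336473) (.leaf 1104607239)) (.leaf 865865871)) (.node (.node (.leaf 679666717) (.leaf 997918879)) (.leaf 718999338))) (.node (.node (.node (.leaf 345411820) (.leaf 954610952)) (.leaf 693310446)) (.node (.node (.leaf 748088623) (.leaf 1082791408)) (.leaf 823215070))))) (.node (.node (.node (.node (.node (.leaf 93603363) (.leaf 866102825)) (.leaf 568755764)) (.node (.node (.leaf 708420988) (.leaf 717221046)) (.leaf 789857258))) (.node (.node (.node (.leaf 100835772) (.leaf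 894691812)) (.leaf 824428114)) (.node (.node (.leaf 864593459) (.leaf 1062308968)) (.leaf 293242412)))) (.node (.node (.node (.node (.leaf 26984952) (.leaf 377562096)) (.leaf 847680667)) (.node (.node (.leaf 836439929) (.leaf 1019430619)) (.leaf 267870874))) (.node (.node (.node (.leaf 898803959) (.leaf 920335460)) (.leaf 223027743)) (.node (.node (.leaf 128819544) (.leaf 1103254153)) (.leaf 860384158)))))))))))

noncomputable def edgeA12 : Arr ℕ :=
  (.node (.node (.node (.node (.node (.node (.node (.node (.node (.node (.node (.leaf 262147) (.leaf 843780338)) (.node (.leaf 881410615) (.leaf 1103957690))) (.node (.node (.leaf 684402753) (.leaf 829174783)) (.leaf 676637256))) (.node (.node (.node (.leaf 135784510) (.leaf 378931793)) (.leaf 172214783)) (.node (.node (.leaf 989664590) (.leaf 1020105164)) (.leaf 605653252)))) (.node (.node (.node (.node (.leaf 15007887) (.leaf 730845615)) (.leaf 750551662)) (.node (.node (.leaf 533407090) (.leaf 571737707)) (.leaf 245089823))) (.node (.node (.node (.leaf 301158210) (.leaf 813297454)) (.leaf 1092188087)) (.node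 (.node (.leaf 808862669) (.leaf 1062933448)) (.leaf 741837430))))) (.node (.node (.node (.node (.node (.leaf 46318398) (.leaf 333955985)) (.leaf 142870606)) (.node (.node (.leaf 417239837) (.leaf 1045452440)) (.leaf 946120248))) (.node (.node (.node (.leaf 255741326) (.leaf 1103050749)) (.leaf 845475610)) (.node (.node (.leaf 102483169) (.leaf 1041845011)) (.leaf 891048279)))) (.node (.node (.node (.node (.leaf 151357662) (.leaf 895167080)) (.leaf 903844482)) (.node (.node (.leaf 83838356) (.leaf 1011135947)) (.leaf 714371666))) (.node (.node (.node (.leaf 49086603) (.leaf 665056230)) (.leaf 209257009)) (.node (.node (.leaf 201272123) (.leaf 1083642324)) (.leaf 569773982)))))) (.node (.node (.node (.node (.node (.node (.leaf 23249336) (.leaf 998331776)) (.leaf 205712230)) (.node (.node (.leaf 63914168) (.leaf 669135505)) (.leaf 228196914))) (.node (.node (.node (.leaf 33259640) (.leaf 756493792)) (.leaf 754905866)) (.node (.node (.leaf 939323569) (.leaf 1031115872)) (.leaf 870919454)))) (.node (.node (.node (.node (.leaf 17809459) (.leaf 985929016)) (.leaf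 1073166147)) (.node (.node (.leaf 729411885) (.leaf 987694587)) (.leaf 766727159))) (.node (.node (.node (.leaf 328011839) (.leaf 844567510)) (.leaf 1075115854)) (.node (.node (.leaf 553846171) (.leaf 1073137987)) (.leaf 897389800))))) (.node (.node (.node (.node (.node (.leaf 71451829) (.leaf 731548254)) (.leaf 552380246)) (.node (.node (.leaf 434115461) (.leaf 501254248)) (.leaf 309014413))) (.node (.node (.node (.leaf 268611077) (.leaf 981587231)) (.leaf 787515431)) (.node (.node (.leaf 168339933) (.leaf 1052610984)) (.leaf 287214245)))) (.node (.node (.node (.node (.leaf 42099445) (.leaf 828033697)) (.leaf 300756798)) (.node (.node (.leaf 87131163) (.leaf 1009634186)) (.leaf 259820995))) (.node (.node (.node (.leaf 63382467) (.leaf 1058608872)) (.leaf 326193207)) (.node (.node (.leaf 871633571) (.leaf 1093930250)) (.leaf 314527669))))))) (.node (.node (.node (.node (.node (.node (.node (.leaf 12681437) (.leaf 658967126)) (.leaf 132941855)) (.node (.node (.leaf 688221146) (.leaf 609495039)) (.leaf 261949659))) (.node (.node (.node (.leaf 201623615) (.leaf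 692177191)) (.leaf 836620153)) (.node (.node (.leaf 93708578) (.leaf 1025689725)) (.leaf 1079129959)))) (.node (.node (.node (.node (.leaf 16498943) (.leaf 1099839464)) (.leaf 857052023)) (.node (.node (.leaf 635089737) (.leaf 982298217)) (.leaf 759599056))) (.node (.node (.node (.leaf 46097210) (.leaf 418122335)) (.leaf 194349848)) (.node (.node (.leaf 188877508) (.leaf 1068127665)) (.leaf 575212152))))) (.node (.node (.node (.node (.node (.leaf 58688514) (.leaf 1086044049)) (.leaf 146260344)) (.node (.node (.leaf 71894141) (.leaf 1104148484)) (.leaf 235030141))) (.node (.node (.node (.leaf 598486432) (.leaf 871622595)) (.leaf 828689068)) (.node (.node (.leaf 281931401) (.leaf 1047185392)) (.leaf 1001379219)))) (.node (.node (.node (.node (.leaf 36217467) (.leaf 1022178831)) (.leaf 163856805)) (.node (.node (.leaf 143730827) (.leaf 1004049770)) (.leaf 419984175))) (.node (.node (.node (.leaf 174385695) (.leaf 911446823)) (.leaf 212879269)) (.node (.node (.leaf 121243525) (.leaf 1088870261)) (.leaf 311446538)))))) (.node (.node (.node (.node (.node (.node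 (.leaf 8421508) (.leaf 331121482)) (.leaf 140838326)) (.node (.node (.leaf 66289847) (.leaf 812381253)) (.leaf 1023997465))) (.node (.node (.node (.leaf 245271812) (.leaf 976170286)) (.leaf 180160049)) (.node (.node (.leaf 786776846) (.leaf 1093498816)) (.leaf 1072887617)))) (.node (.node (.node (.node (.leaf 19153231) (.leaf 356763328)) (.leaf 691145733)) (.node (.node (.leaf 672428744) (.leaf 1000445324)) (.leaf 252496686))) (.node (.node (.node (.leaf 338481332) (.leaf 574934011)) (.leaf 221785072)) (.node (.node (.leaf 977289812) (.leaf 1078333622)) (.leaf 304941424))))) (.node (.node (.node (.node (.node (.leaf 13189156) (.leaf 344559839)) (.leaf 151636117)) (.node (.node (.leaf 810330746) (.leaf 511953149)) (.leaf 1012209105))) (.node (.node (.node (.leaf 583264223) (.leaf 1073682246)) (.leaf 898372527)) (.node (.node (.leaf 282152586) (.leaf 1057853922)) (.leaf 1038890608)))) (.node (.node (.node (.node (.leaf 911960407) (.leaf 952340833)) (.leaf 169264709)) (.node (.node (.leaf 568397692) (.leaf 1014917181)) (.leaf 910348608))) (.node (.node (.node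 (.leaf 55542755) (.leaf 1055266515)) (.leaf 600592068)) (.node (.node (.leaf 207907706) (.leaf 1098976324)) (.leaf 317771738)))))))) (.node (.node (.node (.node (.node (.node (.node (.node (.leaf 6668393) (.leaf 1082120058)) (.leaf 131286924)) (.node (.node (.leaf 59916455) (.leaf 653423413)) (.leaf 683766308))) (.node (.node (.node (.leaf 151775131) (.leaf 380797951)) (.leaf 652538920)) (.node (.node (.leaf 98862683) (.leaf 1065252626)) (.leaf 270353113)))) (.node (.node (.node (.node (.leaf 44131088) (.leaf 898076234)) (.leaf 221932529)) (.node (.node (.leaf 728215847) (.leaf 980383000)) (.leaf 797283250))) (.node (.node (.node (.leaf 44286160) (.leaf 416089211)) (.leaf 1041872515)) (.node (.node (.leaf 555484594) (.leaf 1065456958)) (.leaf 714871847))))) (.node (.node (.node (.node (.node (.leaf 52593590) (.leaf 948392841)) (.leaf 582823478)) (.node (.node (.leaf 967748725) (.leaf 487392615)) (.leaf 852938448))) (.node (.node (.node (.leaf 264457684) (.leaf 401245256)) (.leaf 769420523)) (.node (.node (.leaf 103383808) (.leaf 1044649566)) (.leaf 604892886))))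 (.node (.node (.node (.node (.leaf 157714753) (.leaf 630605205)) (.leaf 163998118)) (.node (.node (.leaf 83722751) (.leaf 1001328291)) (.leaf 970828742))) (.node (.node (.node (.leaf 351310136) (.leaf 934416644)) (.leaf 527624327)) (.node (.node (.leaf 659616141) (.leaf 1086314255)) (.leaf 980931867)))))) (.node (.node (.node (.node (.node (.node (.leaf 29000238) (.leaf 883414257)) (.leaf 525773940)) (.node (.node (.leaf 403731115) (.leaf 1073854279)) (.leaf 559449633))) (.node (.node (.node (.leaf 238734543) (.leaf 756599192)) (.leaf 731958336)) (.node (.node (.leaf 97960904) (.leaf 1033934167)) (.leaf 676768329)))) (.node (.node (.node (.node (.leaf 119367560) (.leaf 809422981)) (.leaf 158482837)) (.node (.node (.leaf 635794449) (.leaf 990545413)) (.leaf 250249845))) (.node (.node (.node (.leaf 96814662) (.leaf 930673531)) (.leaf 218262475)) (.node (.node (.leaf 904572338) (.leaf 1075827837)) (.leaf 988329286))))) (.node (.node (.node (.node (.node (.leaf 76891401) (.leaf 805187767)) (.leaf 602836447)) (.node (.node (.leaf 650380757) (.leaf 690081295))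 (.leaf 239133896))) (.node (.node (.node (.leaf 167249766) (.leaf 409011300)) (.leaf 866579213)) (.node (.node (.leaf 303968093) (.leaf 1055306723)) (.leaf 732950828)))) (.node (.node (.node (.node (.leaf 41951986) (.leaf 838488300)) (.leaf 885231228)) (.node (.node (.leaf 584822471) (.leaf 1012501056)) (.leaf 565104518))) (.node (.node (.node (.leaf 949612193) (.leaf 1064646414)) (.leaf 598135218)) (.node (.node (.leaf 551134841) (.leaf 1096454161)) (.leaf 329838673))))))) (.node (.node (.node (.node (.node (.node (.node (.leaf 17793347) (.leaf 705458687)) (.leaf 955806785)) (.node (.node (.leaf 740877217) (.leaf 878727639)) (.leaf 966404572))) (.node (.node (.node (.leaf 205499237) (.leaf 454210558)) (.leaf 406975167)) (.node (.node (.leaf 95387905) (.leaf 1068029730)) (.leaf 273400489)))) (.node (.node (.node (.node (.leaf 32276912) (.leaf 737307132)) (.leaf 699061392)) (.node (.node (.leaf 421163832) (.leaf 985008891)) (.leaf 247956076))) (.node (.node (.node (.leaf 319606782) (.leaf 854593119)) (.leaf 259681730)) (.node (.node (.leaf 553059767) (.leaf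 1070746888)) (.leaf 863695565))))) (.node (.node (.node (.node (.node (.leaf 11370526) (.leaf 715196722)) (.leaf 836252824)) (.node (.node (.leaf 71328897) (.leaf 1087608731)) (.leaf 532251402))) (.node (.node (.node (.leaf 62792758) (.leaf 404603990)) (.leaf 1010267591)) (.node (.node (.leaf 1018123768) (.leaf 1049973714)) (.leaf 993875302)))) (.node (.node (.node (.node (.leaf 89482722) (.leaf 868250059)) (.leaf 164577703)) (.node (.node (.leaf 526181782) (.leaf 1103362047)) (.leaf 818269708))) (.node (.node (.node (.leaf 631254048) (.leaf 883994711)) (.leaf 543969690)) (.node (.node (.leaf 1050859193) (.leaf 1091596667)) (.leaf 887583008)))))) (.node (.node (.node (.node (.node (.node (.leaf 41648878) (.leaf 332366669)) (.leaf 1002681755)) (.node (.node (.leaf 67485881) (.leaf 986666301)) (.leaf 881886330))) (.node (.node (.node (.leaf 249662796) (.leaf 1103468544)) (.leaf 278572652)) (.node (.node (.leaf 1007539640) (.leaf 1039290241)) (.leaf 279529005)))) (.node (.node (.node (.node (.leaf 143542410) (.leaf 788452512)) (.leaf 159925869)) (.node (.node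 (.leaf 86353340) (.leaf 996084942)) (.leaf 254067326))) (.node (.node (.node (.leaf 48481108) (.leaf 888688556)) (.leaf 207063923)) (.node (.node (.leaf 789398974) (.leaf 1081002383)) (.leaf 978375948))))) (.node (.node (.node (.node (.node (.leaf 89245150) (.leaf 798844231)) (.leaf 580420321)) (.node (.node (.leaf 448795615) (.leaf 1048745644)) (.leaf 549268448))) (.node (.node (.node (.leaf 184724118) (.leaf 413205620)) (.leaf 1091721140)) (.node (.node (.leaf 974787753) (.leaf 1060467841)) (.leaf 1070200623)))) (.node (.node (.node (.node (.leaf 199093035) (.leaf 591423325)) (.leaf 250531157)) (.node (.node (.leaf 90424800) (.leaf 1017432104)) (.leaf 690451420))) (.node (.node (.node (.leaf 57434398) (.leaf 451183870)) (.leaf 943188993)) (.node (.node (.leaf 1047754406) (.leaf 1101483132)) (.leaf 318836700))))))))) (.node (.node (.node (.node (.node (.node (.node (.node (.node (.leaf 819204) (.leaf 320521020)) (.node (.leaf 591055326) (.leaf 1105172049))) (.node (.node (.leaf 59392493) (.leaf 843567126)) (.leaf 760089890))) (.node (.node (.node (.leaf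 193932063) (.leaf 979678484)) (.leaf 869836294)) (.node (.node (.leaf 93906469) (.leaf 1048630955)) (.leaf 269526714)))) (.node (.node (.node (.node (.leaf 99108446) (.leaf 867338990)) (.leaf 643559138)) (.node (.node (.leaf 76956670) (.leaf 1086625685)) (.leaf 245711936))) (.node (.node (.node (.leaf 51806402) (.leaf 820867398)) (.leaf 932451430)) (.node (.node (.leaf 390599247) (.leaf 1064226132)) (.leaf 811094977))))) (.node (.node (.node (.node (.node (.leaf 49070979) (.leaf 338145455)) (.leaf 143738275)) (.node (.node (.leaf 389001798) (.leaf 673092713)) (.leaf 860639472))) (.node (.node (.node (.leaf 37077121) (.leaf 791866577)) (.leaf 789227377)) (.node (.node (.leaf 743871618) (.leaf 1043253643)) (.leaf 854438811)))) (.node (.node (.node (.node (.leaf 124626902) (.leaf 1051416252)) (.leaf 1043306123)) (.node (.node (.leaf 554460946) (.leaf 1000263214)) (.leaf 267480567))) (.node (.node (.node (.leaf 111166983) (.leaf 815828836)) (.leaf 227241017)) (.node (.node (.leaf 221506541) (.leaf 1085009047)) (.leaf 562111998)))))) (.node (.node (.node (.node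 (.node (.node (.leaf 17473853) (.leaf 922715454)) (.leaf 149612745)) (.node (.node (.leaf 401855128) (.leaf 1067554591)) (.leaf 558745038))) (.node (.node (.node (.leaf 53027776) (.leaf 390333684)) (.leaf 678670677)) (.node (.node (.leaf 1000969617) (.leaf 1032604439)) (.leaf 1073993544)))) (.node (.node (.node (.node (.leaf 18686297) (.leaf 1053505224)) (.leaf 1047082658)) (.node (.node (.leaf 866396881) (.leaf 989087233)) (.leaf 880109311))) (.node (.node (.node (.leaf 785034461) (.leaf 832974368)) (.leaf 203163893)) (.node (.node (.leaf 549996561) (.leaf 1074623444)) (.leaf 301548408))))) (.node (.node (.node (.node (.node (.leaf 32374945) (.leaf 758246674)) (.leaf 925520700)) (.node (.node (.leaf 278474347) (.leaf 963490860)) (.leaf 963046312))) (.node (.node (.node (.leaf 284462746) (.leaf 408274018)) (.leaf 189579746)) (.node (.node (.leaf 379548166) (.leaf 1054020709)) (.leaf 923502377)))) (.node (.node (.node (.node (.leaf 179193359) (.leaf 868274611)) (.leaf 166644142)) (.node (.node (.leaf 166144453) (.leaf 1011094915)) (.leaf 990434642))) (.node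 (.node (.node (.leaf 86525373) (.leaf 446153964)) (.leaf 218188627)) (.node (.node (.leaf 900649750) (.leaf 1095095959)) (.leaf 888057561))))))) (.node (.node (.node (.node (.node (.node (.node (.leaf 9805980) (.leaf 323176862)) (.leaf 251185224)) (.node (.node (.leaf 78751034) (.leaf 963438144)) (.leaf 686690370))) (.node (.node (.node (.leaf 145541274) (.leaf 847533064)) (.leaf 800862428)) (.node (.node (.leaf 94471704) (.leaf 1027034948)) (.leaf 877695463)))) (.node (.node (.node (.node (.leaf 16842799) (.leaf 960048440)) (.leaf 606620080)) (.node (.node (.leaf 798565647) (.leaf 983616848)) (.leaf 747737938))) (.node (.node (.node (.leaf 937339334) (.leaf 419820334)) (.leaf 199066099)) (.node (.node (.leaf 114131253) (.leaf 1069437726)) (.leaf 297929188))))) (.node (.node (.node (.node (.node (.leaf 61309991) (.leaf 732111917)) (.leaf 503887048)) (.node (.node (.leaf 901837276) (.leaf 1055938263)) (.leaf 749556868))) (.node (.node (.node (.leaf 270806553) (.leaf 403702867)) (.leaf 993531236)) (.node (.node (.leaf 105268882) (.leaf 1048655371)) (.leaf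 585533494)))) (.node (.node (.node (.node (.leaf 166906320) (.leaf 793728004)) (.leaf 164176604)) (.node (.node (.leaf 918005949) (.leaf 1005391198)) (.leaf 904686013))) (.node (.node (.node (.leaf 69641374) (.leaf 760819196)) (.leaf 529189776)) (.node (.node (.leaf 583994961) (.leaf 1090230124)) (.leaf 313970621)))))) (.node (.node (.node (.node (.node (.node (.leaf 38896303) (.leaf 331747422)) (.leaf 197961698)) (.node (.node (.leaf 780871154) (.leaf 757837073)) (.leaf 527927414))) (.node (.node (.node (.leaf 247647530) (.leaf 809177339)) (.leaf 775719623)) (.node (.node (.leaf 573560067) (.leaf 1037997545)) (.leaf 278414539)))) (.node (.node (.node (.node (.leaf 133178786) (.leaf 728925501)) (.leaf 875024363)) (.node (.node (.leaf 80758123) (.leaf 994609797)) (.leaf 1094432710))) (.node (.node (.node (.leaf 757564270) (.leaf 962301615)) (.leaf 828002752)) (.node (.node (.leaf 885983910) (.leaf 1079709998)) (.leaf 359559545))))) (.node (.node (.node (.node (.node (.leaf 13451301) (.leaf 999617927)) (.leaf 929975976)) (.node (.node (.leaf 75154655) (.leaf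 953693290)) (.leaf 769395347))) (.node (.node (.node (.leaf 52274097) (.leaf 1010701769)) (.leaf 191089368)) (.node (.node (.leaf 110233156) (.leaf 1059049488)) (.leaf 687830047)))) (.node (.node (.node (.node (.leaf 889807670) (.leaf 1005630892)) (.leaf 1086068626)) (.node (.node (.leaf 91432450) (.leaf 1016108142)) (.leaf 588843326))) (.node (.node (.node (.leaf 56460267) (.leaf 450004214)) (.leaf 884313884)) (.node (.node (.leaf 134112666) (.leaf 1100189842)) (.leaf 875047275)))))))) (.node (.node (.node (.node (.node (.node (.node (.node (.leaf 2129941) (.leaf 1023071764)) (.leaf 682807834)) (.node (.node (.leaf 87172547) (.leaf 652636181)) (.leaf 262999149))) (.node (.node (.node (.leaf 221268972) (.leaf 1073370948)) (.leaf 598058399)) (.node (.node (.leaf 535496416) (.leaf 1024331017)) (.leaf 1057470177)))) (.node (.node (.node (.node (.leaf 588357969) (.leaf 735528262)) (.leaf 927337212)) (.node (.node (.leaf 79209797) (.leaf 980848531)) (.leaf 874169303))) (.node (.node (.node (.leaf 858860282) (.leaf 948957060)) (.leaf 201780028)) (.node (.node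 (.leaf 306827128) (.leaf 1066856133)) (.leaf 796201367))))) (.node (.node (.node (.node (.node (.leaf 55083994) (.leaf 875827804)) (.leaf 554297156)) (.node (.node (.leaf 281767560) (.leaf 1050285749)) (.leaf 852528183))) (.node (.node (.node (.leaf 38789802) (.leaf 976578668)) (.leaf 296627999)) (.node (.node (.leaf 971269980) (.leaf 1045989815)) (.leaf 812068337)))) (.node (.node (.node (.node (.leaf 33661517) (.leaf 870542897)) (.leaf 163414843)) (.node (.node (.leaf 553871171) (.leaf 1002637427)) (.leaf 1071535928))) (.node (.node (.node (.leaf 50315503) (.leaf 854412939)) (.leaf 214969264)) (.node (.node (.leaf 151749139) (.leaf 1087575219)) (.leaf 310067996)))))) (.node (.node (.node (.node (.node (.node (.leaf 31949009) (.leaf 1100724206)) (.leaf 585941733)) (.node (.node (.leaf 65684510) (.leaf 756149677)) (.leaf 1028273714))) (.node (.node (.node (.leaf 234794145) (.leaf 681767456)) (.leaf 178782801)) (.node (.node (.leaf 98878995) (.leaf 1035290394)) (.leaf 276680244)))) (.node (.node (.node (.node (.leaf 124938203) (.leaf 705556562)) (.leaf 158810518))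 (.node (.node (.leaf 655469399) (.leaf 992039041)) (.leaf 251332668))) (.node (.node (.node (.leaf 336531614) (.leaf 426397832)) (.leaf 204521999)) (.node (.node (.leaf 552634490) (.leaf 1077088749)) (.leaf 303711985))))) (.node (.node (.node (.node (.node (.leaf 79840598) (.leaf 531235901)) (.leaf 261966883)) (.node (.node (.leaf 559344703) (.leaf 581611233)) (.leaf 240330600))) (.node (.node (.node (.leaf 64693324) (.leaf 414675714)) (.leaf 1093752770)) (.node (.node (.leaf 942310537) (.leaf 1056543586)) (.leaf 669035018)))) (.node (.node (.node (.node (.leaf 31523023) (.leaf 892439021)) (.leaf 885769424)) (.node (.node (.leaf 171928064) (.leaf 1014199774)) (.leaf 266890733))) (.node (.node (.node (.leaf 824197553) (.leaf 765455169)) (.leaf 958157967)) (.node (.node (.leaf 124911963) (.leaf 1097634887)) (.leaf 797422130))))))) (.node (.node (.node (.node (.node (.node (.node (.leaf 21102990) (.leaf 326976322)) (.leaf 252669284)) (.node (.node (.leaf 94053926) (.leaf 1098897378)) (.leaf 967018822))) (.node (.node (.node (.leaf 263695452) (.leaf 929835242))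 (.leaf 176850013)) (.node (.node (.leaf 95667771) (.leaf 1029771652)) (.leaf 946719481)))) (.node (.node (.node (.node (.leaf 552199797) (.leaf 832507655)) (.leaf 324322089)) (.node (.node (.leaf 607814761) (.leaf 986322143)) (.leaf 750143484))) (.node (.node (.node (.leaf 163482011) (.leaf 670733114)) (.leaf 201279363)) (.node (.node (.leaf 965880183) (.leaf 1071960754)) (.leaf 355062104))))) (.node (.node (.node (.node (.node (.leaf 57132014) (.leaf 339153069)) (.leaf 561188743)) (.node (.node (.leaf 432804732) (.leaf 747990319)) (.leaf 1006417328))) (.node (.node (.node (.leaf 39469166) (.leaf 1085462414)) (.leaf 821464864)) (.node (.node (.leaf 300543804) (.leaf 1071404855)) (.leaf 873047805)))) (.node (.node (.node (.node (.leaf 23429563) (.leaf 369839309)) (.leaf 772895279)) (.node (.node (.leaf 838906815) (.leaf 1008191342)) (.leaf 258933388))) (.node (.node (.node (.leaf 593226794) (.leaf 444073190)) (.leaf 1048966829)) (.node (.node (.leaf 138340438) (.leaf 1092769382)) (.leaf 585789169)))))) (.node (.node (.node (.node (.node (.node (.leaf 7757948)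 (.leaf 333251407)) (.leaf 196151342)) (.node (.node (.leaf 416076563) (.leaf 692422873)) (.leaf 867733512))) (.node (.node (.node (.leaf 36159907) (.leaf 536643118)) (.leaf 369652154)) (.node (.node (.leaf 295743252) (.leaf 1040553474)) (.leaf 280364111)))) (.node (.node (.node (.node (.leaf 129083382) (.leaf 1091573683)) (.leaf 853709536)) (.node (.node (.leaf 492049582) (.leaf 997330374)) (.leaf 254766465))) (.node (.node (.node (.leaf 51946410) (.leaf 930648915)) (.leaf 762860057)) (.node (.node (.leaf 260901821) (.leaf 1082249896)) (.leaf 860074766))))) (.node (.node (.node (.node (.node (.leaf 14598184) (.leaf 808759915)) (.leaf 762709751)) (.node (.node (.leaf 75710785) (.leaf 520000760)) (.leaf 763596729))) (.node (.node (.node (.leaf 42901742) (.leaf 926510590)) (.leaf 985036083)) (.node (.node (.leaf 927723433) (.leaf 1061719737)) (.leaf 1098553312)))) (.node (.node (.node (.node (.leaf 27623948) (.leaf 1016821231)) (.leaf 171458996)) (.node (.node (.leaf 987682115) (.leaf 1018808704)) (.leaf 670499549))) (.node (.node (.node (.leaf 58016039) (.leaf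 849736248)) (.leaf 574960483)) (.node (.node (.leaf 128649207) (.leaf 1102713450)) (.leaf 867877849)))))))))) (.node (.node (.node (.node (.node (.node (.node (.node (.node (.node (.leaf 991244) (.leaf 1086797718)) (.node (.leaf 613258325) (.leaf 1104532599))) (.node (.node (.leaf 681890181) (.leaf 898861959)) (.leaf 623035098))) (.node (.node (.node (.leaf 527411450) (.leaf 379601914)) (.leaf 947836132)) (.node (.node (.leaf 111190923) (.leaf 1020891175)) (.leaf 561595165)))) (.node (.node (.node (.node (.leaf 15237236) (.leaf 995718513)) (.leaf 605390937)) (.node (.node (.leaf 76809073) (.leaf 766841767)) (.leaf 745001016))) (.node (.node (.node (.leaf 898525462) (.leaf 835047586)) (.leaf 192629480)) (.node (.node (.leaf 789325682) (.leaf 1063602921)) (.leaf 832532795))))) (.node (.node (.node (.node (.node (.leaf 47465308) (.leaf 843739350)) (.leaf 527600531)) (.node (.node (.leaf 104818340) (.leaf 890811057)) (.leaf 752355009))) (.node (.node (.node (.leaf 257379752) (.leaf 400016450)) (.leaf 786966109)) (.node (.node (.leaf 370569661) (.leaf 1042502218))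 (.leaf 281593416)))) (.node (.node (.node (.node (.leaf 20808031) (.leaf 630778902)) (.leaf 615771388)) (.node (.node (.leaf 584073935) (.leaf 999592171)) (.leaf 971884663))) (.node (.node (.node (.leaf 347230465) (.leaf 434652358)) (.leaf 898814983)) (.node (.node (.leaf 748170544) (.leaf 1084279288)) (.leaf 561268923)))))) (.node (.node (.node (.node (.node (.node (.leaf 7290951) (.leaf 1021007368)) (.leaf 509007062)) (.node (.node (.leaf 64323765) (.leaf 1097717723)) (.leaf 576049274))) (.node (.node (.node (.leaf 33915463) (.leaf 912295223)) (.leaf 177635778)) (.node (.node (.leaf 736464596) (.leaf 1031852880)) (.leaf 883110948)))) (.node (.node (.node (.node (.leaf 120096660) (.leaf 848341796)) (.leaf 935068184)) (.node (.node (.leaf 798822643) (.leaf 988418175)) (.leaf 751224486))) (.node (.node (.node (.leaf 330305620) (.leaf 423101588)) (.leaf 202686986)) (.node (.node (.leaf 569167749) (.leaf 1073828947)) (.leaf 570004678))))) (.node (.node (.node (.node (.node (.leaf 73401554) (.leaf 340951917)) (.leaf 511833314)) (.node (.node (.leaf 72646853)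 (.leaf 503711813)) (.leaf 276311639))) (.node (.node (.node (.leaf 270691864) (.leaf 707195905)) (.leaf 775744107)) (.node (.node (.leaf 822727129) (.leaf 1053267273)) (.leaf 584795603)))) (.node (.node (.node (.node (.leaf 24330310) (.leaf 753996671)) (.leaf 166388178)) (.node (.node (.leaf 87835326) (.leaf 1010272947)) (.leaf 398283389))) (.node (.node (.node (.leaf 785461378) (.leaf 784674964)) (.leaf 323781420)) (.node (.node (.leaf 136734796) (.leaf 1094504068)) (.leaf 916755250))))))) (.node (.node (.node (.node (.node (.node (.node (.leaf 2703399) (.leaf 1020917255)) (.leaf 787540675)) (.node (.node (.leaf 61325483) (.leaf 714895123)) (.leaf 875580033))) (.node (.node (.node (.leaf 152815855) (.leaf 491025576)) (.leaf 767710241)) (.node (.node (.leaf 535193550) (.leaf 1100568557)) (.leaf 272056997)))) (.node (.node (.node (.node (.leaf 58033147) (.leaf 728188179)) (.leaf 692204067)) (.node (.node (.leaf 956868414) (.leaf 982862521)) (.leaf 747408785))) (.node (.node (.node (.leaf 45204258) (.leaf 911299491)) (.leaf 198724380)) (.node (.node (.leaf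 1037768298) (.leaf 1068634508)) (.leaf 770559585))))) (.node (.node (.node (.node (.node (.leaf 59900947) (.leaf 337285285)) (.leaf 752609973)) (.node (.node (.leaf 70533986) (.leaf 791597721)) (.leaf 520287485))) (.node (.node (.node (.leaf 592685359) (.leaf 403179986)) (.leaf 186812968)) (.node (.node (.leaf 255094146) (.leaf 1047825372)) (.leaf 961914974)))) (.node (.node (.node (.node (.leaf 164563379) (.leaf 365398633)) (.leaf 933775508)) (.node (.node (.leaf 228944973) (.leaf 1009505730)) (.leaf 608900130))) (.node (.node (.node (.leaf 105637550) (.leaf 705295623)) (.leaf 691826450)) (.node (.node (.leaf 121513384) (.leaf 1089522234)) (.leaf 498922686)))))) (.node (.node (.node (.node (.node (.node (.leaf 6537319) (.leaf 1093588929)) (.leaf 141443437)) (.node (.node (.leaf 66503749) (.leaf 612692598)) (.leaf 1087330201))) (.node (.node (.node (.leaf 34865605) (.leaf 596928857)) (.leaf 180471513)) (.node (.node (.leaf 532973268) (.leaf 1037366208)) (.leaf 807554239)))) (.node (.node (.node (.node (.leaf 123791304) (.leaf 695454606)) (.leaf 831048060))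 (.node (.node (.leaf 487380115) (.leaf 1067038492)) (.leaf 252922666))) (.node (.node (.node (.leaf 235703464) (.leaf 1062213374)) (.leaf 208857985)) (.node (.node (.leaf 167412388) (.leaf 1079168547)) (.leaf 576734060))))) (.node (.node (.node (.node (.node (.leaf 84379036) (.leaf 1030329918)) (.leaf 930218518)) (.node (.node (.leaf 74989772) (.leaf 595127704)) (.leaf 546417541))) (.node (.node (.node (.leaf 292818679) (.leaf 411718186)) (.leaf 190923238)) (.node (.node (.leaf 1025431074) (.leaf 1058409956)) (.leaf 905587232)))) (.node (.node (.node (.node (.leaf 55223261) (.leaf 877432363)) (.leaf 806129879)) (.node (.node (.leaf 897634767) (.leaf 1053021893)) (.leaf 999970185))) (.node (.node (.node (.leaf 55968743) (.leaf 855233092)) (.leaf 220629957)) (.node (.node (.leaf 171083754) (.leaf 1099632132)) (.leaf 386388532)))))))) (.node (.node (.node (.node (.node (.node (.node (.node (.leaf 1884183) (.leaf 321569592)) (.leaf 152447212)) (.node (.node (.leaf 243748088) (.leaf 960433874)) (.leaf 762466623))) (.node (.node (.node (.leaf 206063602) (.leaf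 1019827713)) (.leaf 173590200)) (.node (.node (.leaf 92553469) (.leaf 1023563133)) (.leaf 749743417)))) (.node (.node (.node (.node (.leaf 103696022) (.leaf 1013003734)) (.leaf 155337101)) (.node (.node (.leaf 660452166) (.leaf 980159833)) (.leaf 246563432))) (.node (.node (.node (.leaf 968550527) (.leaf 955929664)) (.leaf 1032623691)) (.node (.node (.leaf 189819596) (.leaf 1066142889)) (.leaf 296142574))))) (.node (.node (.node (.node (.node (.leaf 15851793) (.leaf 995063149)) (.leaf 1043166858)) (.node (.node (.leaf 297234216) (.leaf 936069326)) (.leaf 1084987275))) (.node (.node (.node (.leaf 266341862) (.leaf 722104344)) (.leaf 184845953)) (.node (.node (.leaf 103940813) (.leaf 1095145419)) (.leaf 283919050)))) (.node (.node (.node (.node (.leaf 158976353) (.leaf 796225307)) (.leaf 163752351)) (.node (.node (.leaf 136095812) (.leaf 1002097477)) (.leaf 266137058))) (.node (.node (.node (.leaf 352194885) (.leaf 675370073)) (.leaf 573679429)) (.node (.node (.leaf 224996376) (.leaf 1086936240)) (.leaf 570853559)))))) (.node (.node (.node (.node (.node (.node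 (.leaf 11034796) (.leaf 883970995)) (.leaf 585363145)) (.node (.node (.leaf 65291245) (.leaf 611495482)) (.leaf 987575618))) (.node (.node (.node (.leaf 53986252) (.leaf 653151197)) (.leaf 178569670)) (.node (.node (.leaf 178940508) (.leaf 1072494398)) (.leaf 276286663)))) (.node (.node (.node (.node (.leaf 128272373) (.leaf 891072131)) (.leaf 911933923)) (.node (.node (.leaf 79922456) (.leaf 1033958995)) (.leaf 250743608))) (.node (.node (.node (.leaf 335401105) (.leaf 949129488)) (.leaf 655443291)) (.node (.node (.leaf 603778438) (.leaf 1076532649)) (.leaf 303345496))))) (.node (.node (.node (.node (.node (.leaf 78284079) (.leaf 806193639)) (.leaf 760517497)) (.node (.node (.leaf 439440293) (.leaf 836840560)) (.leaf 997995902))) (.node (.node (.node (.leaf 108947165) (.leaf 1042200197)) (.leaf 823830686)) (.node (.node (.leaf 108725781) (.leaf 1055904939)) (.leaf 657500404)))) (.node (.node (.node (.node (.leaf 98731610) (.leaf 878908467)) (.leaf 912346634)) (.node (.node (.leaf 260632013) (.leaf 1013123477)) (.leaf 264654198))) (.node (.node (.node (.leaf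 874196251) (.leaf 667731284)) (.leaf 696463950)) (.node (.node (.leaf 592348089) (.leaf 1097110586)) (.leaf 667414573))))))) (.node (.node (.node (.node (.node (.node (.node (.leaf 13328614) (.leaf 326216643)) (.leaf 968704369)) (.node (.node (.leaf 607758672) (.leaf 698707359)) (.leaf 852552859))) (.node (.node (.node (.leaf 881436675) (.leaf 797249634)) (.leaf 176669119)) (.node (.node (.leaf 560278720) (.leaf 1039144562)) (.leaf 273893036)))) (.node (.node (.node (.node (.leaf 553608606) (.leaf 985412917)) (.leaf 330066318)) (.node (.node (.leaf 912323143) (.leaf 985712766)) (.leaf 758877841))) (.node (.node (.node (.leaf 320950290) (.leaf 731091224)) (.leaf 200575773)) (.node (.node (.leaf 880915343) (.leaf 1071322811)) (.leaf 377278973))))) (.node (.node (.node (.node (.node (.leaf 66274403) (.leaf 805163219)) (.leaf 570904471)) (.node (.node (.leaf 431248244) (.leaf 495962205)) (.leaf 544697142))) (.node (.node (.node (.leaf 639222687) (.leaf 405574320)) (.leaf 188024066)) (.node (.node (.leaf 279072366) (.leaf 1050653960)) (.leaf 605769646)))) (.node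 (.node (.node (.node (.leaf 172509705) (.leaf 571377829)) (.leaf 1046017691)) (.node (.node (.leaf 553084723) (.leaf 1071716153)) (.leaf 258589471))) (.node (.node (.node (.leaf 361206152) (.leaf 851643001)) (.leaf 215763868)) (.node (.node (.leaf 122716492) (.leaf 1092160259)) (.leaf 616435088)))))) (.node (.node (.node (.node (.node (.node (.leaf 33972343) (.leaf 983430442)) (.leaf 971869575)) (.node (.node (.leaf 106858180) (.leaf 1104566279)) (.leaf 1061033719))) (.node (.node (.node (.leaf 35905973) (.leaf 957499855)) (.leaf 810632944)) (.node (.node (.leaf 580020853) (.leaf 1063343877)) (.leaf 717779327)))) (.node (.node (.node (.node (.leaf 589686416) (.leaf 1000904080)) (.leaf 965855035)) (.node (.node (.leaf 679993990) (.leaf 1057134303)) (.leaf 710624844))) (.node (.node (.node (.leaf 63258916) (.leaf 856901923)) (.leaf 207407897)) (.node (.node (.leaf 118843266) (.leaf 1081641384)) (.leaf 709406166))))) (.node (.node (.node (.node (.node (.leaf 14254321) (.leaf 941240758)) (.leaf 1026586152)) (.node (.node (.leaf 667938367) (.leaf 519407045))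 (.leaf 243420402))) (.node (.node (.node (.leaf 42238383) (.leaf 1027438125)) (.leaf 824257007)) (.node (.node (.leaf 762734843) (.leaf 1061014647)) (.leaf 292831975)))) (.node (.node (.node (.node (.leaf 27288069) (.leaf 375719103)) (.leaf 171148762)) (.node (.node (.leaf 90818036) (.leaf 1018039606)) (.leaf 267455883))) (.node (.node (.node (.leaf 303533913) (.leaf 766790979)) (.leaf 546489513)) (.node (.node (.leaf 128673787) (.leaf 1102140944)) (.leaf 319164383))))))))) (.node (.node (.node (.node (.node (.node (.node (.node (.node (.leaf 4915277) (.leaf 838767549)) (.leaf 130860928)) (.node (.node (.leaf 813000418) (.leaf 860499077)) (.leaf 261803092))) (.node (.node (.node (.leaf 204581723) (.leaf 831531679)) (.leaf 742999228)) (.node (.node (.leaf 179216843) (.leaf 1022153123)) (.leaf 689984723)))) (.node (.node (.node (.node (.leaf 74212572) (.leaf 1085847440)) (.leaf 893938229)) (.node (.node (.leaf 798541099) (.leaf 978915825)) (.leaf 748881230))) (.node (.node (.node (.leaf 43926268) (.leaf 919717630)) (.leaf 1003042205)) (.node (.node (.leaf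 1033705042) (.leaf 1086338963)) (.leaf 295110158))))) (.node (.node (.node (.node (.node (.leaf 15032579) (.leaf 796427605)) (.leaf 909198401)) (.node (.node (.leaf 633627926) (.leaf 958180315)) (.leaf 779133540))) (.node (.node (.node (.leaf 37372532) (.leaf 742926088)) (.leaf 643065749)) (.node (.node (.leaf 961301161) (.leaf 1043941216)) (.leaf 419549997)))) (.node (.node (.node (.node (.leaf 155896101) (.leaf 929230256)) (.leaf 1080956787)) (.node (.node (.leaf 85484973) (.leaf 1020687878)) (.leaf 1074206537))) (.node (.node (.node (.leaf 71091377) (.leaf 880887607)) (.leaf 1073477445)) (.node (.node (.leaf 225995812) (.leaf 1085622849)) (.leaf 564957701)))))) (.node (.node (.node (.node (.node (.node (.leaf 27443720) (.leaf 1021203977)) (.leaf 137068905)) (.node (.node (.leaf 280391291) (.leaf 689779845)) (.leaf 559614500))) (.node (.node (.node (.leaf 968812672) (.leaf 390514443)) (.leaf 757077137)) (.node (.node (.leaf 97551301) (.leaf 1033307918)) (.leaf 891261153)))) (.node (.node (.node (.node (.leaf 19186019) (.leaf 353404137)) (.leaf 713541212))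 (.node (.node (.leaf 610691336) (.leaf 1010529736)) (.leaf 932905858))) (.node (.node (.node (.leaf 333238395) (.leaf 828166594)) (.leaf 203573450)) (.node (.node (.leaf 591987695) (.leaf 1075173162)) (.leaf 301961034))))) (.node (.node (.node (.node (.node (.leaf 32342491) (.leaf 676038497)) (.leaf 700773282)) (.node (.node (.leaf 795837373) (.leaf 753364565)) (.leaf 238748243))) (.node (.node (.node (.leaf 584099207) (.leaf 408718868)) (.leaf 1094604744)) (.node (.node (.leaf 107988169) (.leaf 1054559228)) (.leaf 709575638)))) (.node (.node (.node (.node (.leaf 159459694) (.leaf 897656295)) (.leaf 957518455)) (.node (.node (.leaf 88670448) (.leaf 1011831830)) (.leaf 264012434))) (.node (.node (.node (.leaf 54362570) (.leaf 839733090)) (.leaf 735429525)) (.node (.node (.leaf 140452208) (.leaf 1095833504)) (.leaf 651210673))))))) (.node (.node (.node (.node (.node (.node (.node (.leaf 16826667) (.leaf 323489802)) (.leaf 203900905)) (.node (.node (.leaf 61981708) (.leaf 660041688)) (.leaf 511341790))) (.node (.node (.node (.leaf 29213021) (.leaf 772868539))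 (.leaf 1001764245)) (.node (.node (.leaf 991966554) (.leaf 1100994544)) (.leaf 384692777)))) (.node (.node (.node (.node (.leaf 112772881) (.leaf 761005849)) (.leaf 592659111)) (.node (.node (.leaf 78299351) (.leaf 984255206)) (.leaf 747967675))) (.node (.node (.node (.leaf 242904301) (.leaf 419958179)) (.leaf 199442930)) (.node (.node (.leaf 554993482) (.leaf 1070173939)) (.leaf 807889516))))) (.node (.node (.node (.node (.node (.leaf 51503279) (.leaf 338120843)) (.leaf 793547930)) (.node (.node (.leaf 543425045) (.leaf 704884641)) (.leaf 749028390))) (.node (.node (.node (.leaf 38912107) (.leaf 817760932)) (.leaf 831418542)) (.node (.node (.leaf 617796294) (.leaf 1049357574)) (.leaf 962327403)))) (.node (.node (.node (.node (.leaf 42263287) (.leaf 730870019)) (.leaf 937101965)) (.node (.node (.leaf 133097508) (.leaf 1006235021)) (.leaf 257691055))) (.node (.node (.node (.leaf 67880062) (.leaf 893717219)) (.leaf 214780749)) (.node (.node (.leaf 125831124) (.leaf 1090819206)) (.leaf 1076402006)))))) (.node (.node (.node (.node (.node (.node (.leaf 40518357)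 (.leaf 332124153)) (.leaf 877465130)) (.node (.node (.leaf 859735161) (.leaf 480249168)) (.leaf 1038161516))) (.node (.node (.node (.leaf 752084658) (.leaf 396119568)) (.leaf 736752228)) (.node (.node (.leaf 647417320) (.leaf 1038619798)) (.leaf 810783468)))) (.node (.node (.node (.node (.leaf 555673364) (.leaf 357929168)) (.leaf 569495412)) (.node (.node (.leaf 94724993) (.leaf 995332432)) (.leaf 1100838895))) (.node (.node (.node (.leaf 48251017) (.leaf 856622614)) (.leaf 528443612)) (.node (.node (.leaf 1030862401) (.leaf 1080283894)) (.leaf 907883145))))) (.node (.node (.node (.node (.node (.leaf 50340763) (.leaf 345637759)) (.leaf 152838695)) (.node (.node (.leaf 447648725) (.leaf 516261305)) (.leaf 342208721))) (.node (.node (.node (.leaf 295292689) (.leaf 415331080)) (.leaf 191316959)) (.node (.node (.leaf 725552584) (.leaf 1059655890)) (.leaf 1103640577)))) (.node (.node (.node (.node (.leaf 194153249) (.leaf 374506465)) (.leaf 824232695)) (.node (.node (.leaf 540197653) (.leaf 1016795643)) (.leaf 266980746))) (.node (.node (.node (.leaf 592013135)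 (.leaf 987985220)) (.leaf 886885796)) (.node (.node (.leaf 681391098) (.leaf 1100811631)) (.leaf 961424149)))))))) (.node (.node (.node (.node (.node (.node (.node (.node (.leaf 2326559) (.leaf 1102624762)) (.leaf 132966435)) (.node (.node (.leaf 819111945) (.leaf 687738603)) (.leaf 1083225984))) (.node (.node (.node (.leaf 206515050) (.leaf 881579210)) (.leaf 174359459)) (.node (.node (.leaf 245116163) (.leaf 1024954661)) (.leaf 1078081377)))) (.node (.node (.node (.node (.leaf 65152085) (.leaf 349094798)) (.leaf 157935938)) (.node (.node (.leaf 798434472) (.leaf 981553859)) (.leaf 247136873))) (.node (.node (.node (.leaf 258616759) (.leaf 894546693)) (.leaf 193937931)) (.node (.node (.leaf 708865601) (.leaf 1067471947)) (.leaf 296602267))))) (.node (.node (.node (.node (.node (.leaf 29860417) (.leaf 953217433)) (.leaf 587811310)) (.node (.node (.leaf 69682326) (.leaf 539126913)) (.leaf 852755917))) (.node (.node (.node (.leaf 39191220) (.leaf 923276338)) (.leaf 831509007)) (.node (.node (.leaf 396005998) (.leaf 1046548629)) (.leaf 853060760)))) (.node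 (.node (.node (.node (.leaf 21594526) (.leaf 787236978)) (.leaf 163727767)) (.node (.node (.leaf 598034971) (.leaf 1003392244)) (.leaf 759190583))) (.node (.node (.node (.leaf 639247031) (.leaf 931039465)) (.leaf 212387713)) (.node (.node (.leaf 120865332) (.leaf 1088181686)) (.leaf 568592378)))))) (.node (.node (.node (.node (.node (.node (.leaf 35349106) (.leaf 332902521)) (.leaf 949447126)) (.node (.node (.leaf 615556760) (.leaf 477447496)) (.leaf 920179812))) (.node (.node (.node (.leaf 547701257) (.leaf 393430060)) (.leaf 418149155)) (.node (.node (.leaf 786452328) (.leaf 1093318591)) (.leaf 854586163)))) (.node (.node (.node (.node (.leaf 20799879) (.leaf 867544185)) (.leaf 939566890)) (.node (.node (.leaf 484578431) (.leaf 992859282)) (.leaf 251839097))) (.node (.node (.node (.leaf 334672012) (.leaf 892120186)) (.leaf 697980017)) (.node (.node (.leaf 591695065) (.leaf 1077768686)) (.leaf 539782216))))) (.node (.node (.node (.node (.node (.leaf 55436258) (.leaf 344584419)) (.leaf 642371300)) (.node (.node (.leaf 75179243) (.leaf 986371387)) (.leaf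 530655420))) (.node (.node (.node (.leaf 584411102) (.leaf 1001239954)) (.leaf 190595557)) (.node (.node (.leaf 301748044) (.leaf 1057101175)) (.leaf 647964913)))) (.node (.node (.node (.node (.leaf 44507924) (.leaf 825102210)) (.leaf 168559689)) (.node (.node (.leaf 979989781) (.leaf 1077262172)) (.leaf 602859731))) (.node (.node (.node (.leaf 191343343) (.leaf 448808179)) (.leaf 220056482)) (.node (.node (.leaf 583238371) (.leaf 1098337684)) (.leaf 319188983))))))) (.node (.node (.node (.node (.node (.node (.node (.leaf 22315430) (.leaf 328024899)) (.leaf 201646627)) (.node (.node (.leaf 801236223) (.leaf 935496288)) (.leaf 559318235))) (.node (.node (.node (.leaf 232950918) (.leaf 818041410)) (.leaf 909675574)) (.node (.node (.leaf 355414364) (.leaf 1030508385)) (.leaf 667911415)))) (.node (.node (.node (.node (.leaf 17678655) (.leaf 762481687)) (.leaf 640561736)) (.node (.node (.leaf 742647432) (.leaf 986958406)) (.leaf 750814901))) (.node (.node (.node (.leaf 46400313) (.leaf 734277861)) (.leaf 226602029)) (.node (.node (.leaf 114983224) (.leaf 1072548834))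 (.leaf 573196461))))) (.node (.node (.node (.node (.node (.leaf 69133464) (.leaf 1055717078)) (.leaf 719103517)) (.node (.node (.leaf 375747063) (.leaf 720916116)) (.leaf 807579239))) (.node (.node (.node (.leaf 160942457) (.leaf 406948403)) (.leaf 1094178757)) (.node (.node (.leaf 565865520) (.leaf 1051905200)) (.leaf 578095092)))) (.node (.node (.node (.node (.leaf 176654903) (.leaf 757272268)) (.leaf 817040358)) (.node (.node (.leaf 235269284) (.leaf 1008944986)) (.leaf 259164429))) (.node (.node (.node (.leaf 363581852) (.leaf 838878651)) (.leaf 216942865)) (.node (.node (.leaf 123356554) (.leaf 1093293663)) (.leaf 314147622)))))) (.node (.node (.node (.node (.node (.node (.leaf 21979554) (.leaf 988476743)) (.leaf 968524567)) (.node (.node (.leaf 183577225) (.leaf 484590943)) (.leaf 790741857))) (.node (.node (.node (.leaf 36388961) (.leaf 801279488)) (.leaf 843191350)) (.node (.node (.leaf 744048953) (.leaf 1041142900)) (.leaf 1006024110)))) (.node (.node (.node (.node (.leaf 148687046) (.leaf 717753975)) (.leaf 903424256)) (.node (.node (.leaf 679736132)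 (.leaf 998133956)) (.leaf 611353920))) (.node (.node (.node (.leaf 345624815) (.leaf 754020807)) (.leaf 593629578)) (.node (.node (.leaf 118571332) (.leaf 1083017649)) (.leaf 562498740))))) (.node (.node (.node (.node (.node (.leaf 16523555) (.leaf 352481608)) (.leaf 813384782)) (.node (.node (.leaf 801211455) (.leaf 1016493549)) (.leaf 730534989))) (.node (.node (.node (.leaf 236661942) (.leaf 896804669)) (.leaf 192105177)) (.node (.node (.leaf 880086347) (.leaf 1099937769)) (.leaf 293438658)))) (.node (.node (.node (.node (.leaf 83748243) (.leaf 705433651)) (.leaf 172239363)) (.node (.node (.leaf 91291898) (.leaf 1019496777)) (.leaf 603575225))) (.node (.node (.node (.leaf 380785171) (.leaf 805934083)) (.leaf 872605281)) (.node (.node (.leaf 609473571) (.leaf 1103336883)) (.leaf 319721433)))))))))))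

noncomputable def edgeA13 : Arr ℕ :=
  (.node (.node (.node (.node (.node (.node (.node (.node (.node (.node (.node (.leaf 1024012) (.leaf 843812852)) (.node (.leaf 881445972) (.leaf 1103943602))) (.node (.node (.leaf 58754052) (.leaf 778285156)) (.leaf 669265568))) (.node (.node (.node (.leaf 735150996) (.leaf 378915449)) (.leaf 172204470)) (.node (.node (.leaf 949220183) (.leaf 1020121523)) (.leaf 1053013701)))) (.node (.node (.node (.node (.leaf 95864381) (.leaf 955827502)) (.leaf 154345866)) (.node (.node (.leaf 559301173) (.leaf 857893591)) (.leaf 245058242))) (.node (.node (.node (.leaf 301190979) (.leaf 1021441546)) (.leaf 983364906)) (.node (.node (.leaf 810274566) (.leaf 1062980010)) (.leaf 741870130))))) (.node (.node (.node (.node (.node (.leaf 45343528) (.leaf 727565637)) (.leaf 142837695)) (.node (.node (.leaf 863793861) (.leaf 671036451)) (.leaf 1021982222))) (.node (.node (.node (.leaf 597584186) (.leaf 710814748)) (.leaf 1093261247)) (.node (.node (.leaf 789112688) (.leaf 1093433280)) (.leaf 794481698)))) (.node (.node (.node (.node (.leaf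 151390431) (.leaf 360686517)) (.leaf 990950741)) (.node (.node (.leaf 85304748) (.leaf 998888801)) (.leaf 1039529588))) (.node (.node (.node (.leaf 96872006) (.leaf 695562274)) (.leaf 627074690)) (.node (.node (.leaf 118931813) (.leaf 1083656948)) (.leaf 569806734)))))) (.node (.node (.node (.node (.node (.node (.leaf 23282105) (.leaf 664933357)) (.leaf 136038395)) (.node (.node (.leaf 63889587) (.leaf 469296433)) (.leaf 228215644))) (.node (.node (.node (.leaf 30097553) (.leaf 771935903)) (.leaf 755110641)) (.node (.node (.leaf 534429964) (.leaf 1031164499)) (.leaf 870140159)))) (.node (.node (.node (.node (.leaf 118179702) (.leaf 856707257)) (.leaf 621528342)) (.node (.node (.leaf 79061209) (.leaf 998503809)) (.leaf 888090329))) (.node (.node (.node (.leaf 328208448) (.leaf 660638784)) (.leaf 763990390)) (.node (.node (.leaf 115132217) (.leaf 1073222673)) (.leaf 301223748))))) (.node (.node (.node (.node (.node (.leaf 71500982) (.leaf 731581417)) (.leaf 148375702)) (.node (.node (.leaf 884581515) (.leaf 501368821)) (.leaf 569222983))) (.node (.node (.node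 (.leaf 39821421) (.leaf 890687133)) (.leaf 787551307)) (.node (.node (.leaf 280030839) (.leaf 1052674226)) (.leaf 287263927)))) (.node (.node (.node (.node (.leaf 57500660) (.leaf 828068505)) (.leaf 280342138)) (.node (.node (.leaf 87122157) (.leaf 1009618126)) (.leaf 259885868))) (.node (.node (.node (.leaf 63357220) (.leaf 445285614)) (.leaf 675146076)) (.node (.node (.leaf 863342618) (.leaf 1093948709)) (.leaf 314560451))))))) (.node (.node (.node (.node (.node (.node (.node (.leaf 2457628) (.leaf 697928543)) (.leaf 143902860)) (.node (.node (.leaf 734703929) (.leaf 1010087366)) (.leaf 225979428))) (.node (.node (.node (.leaf 220179424) (.leaf 692212634)) (.leaf 997733757)) (.node (.node (.leaf 93667906) (.leaf 1025772738)) (.leaf 694834356)))) (.node (.node (.node (.node (.leaf 92595735) (.leaf 349782934)) (.leaf 611935538)) (.node (.node (.leaf 942368475) (.leaf 982282047)) (.leaf 760009852))) (.node (.node (.node (.leaf 89138651) (.leaf 418205351)) (.leaf 214411270)) (.node (.node (.leaf 113860916) (.leaf 1088239519)) (.leaf 575246500))))) (.node (.node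 (.node (.node (.node (.leaf 58721283) (.leaf 1028126257)) (.leaf 540446061)) (.node (.node (.leaf 70009030) (.leaf 890745991)) (.leaf 235078341))) (.node (.node (.node (.leaf 265121246) (.leaf 952398307)) (.leaf 841640581)) (.node (.node (.leaf 104859300) (.leaf 1047119849)) (.leaf 714060965)))) (.node (.node (.node (.node (.leaf 22151587) (.leaf 364995524)) (.leaf 690009052)) (.node (.node (.leaf 858157817) (.leaf 1004129211)) (.leaf 608552251))) (.node (.node (.node (.leaf 173328917) (.leaf 1083504514)) (.leaf 212813810)) (.node (.node (.leaf 682869767) (.leaf 1088809523)) (.leaf 321015826)))))) (.node (.node (.node (.node (.node (.node (.leaf 5890066) (.leaf 331141215)) (.leaf 499619007)) (.node (.node (.leaf 352760137) (.leaf 1038825072)) (.leaf 230852674))) (.node (.node (.node (.leaf 245304581) (.leaf 976152646)) (.leaf 180142830)) (.node (.node (.leaf 823607783) (.leaf 1094981578)) (.leaf 1043756686)))) (.node (.node (.node (.node (.leaf 19136857) (.leaf 356812647)) (.leaf 691161941)) (.node (.node (.leaf 485872777) (.leaf 1078622052)) (.leaf 252486266)))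 (.node (.node (.node (.leaf 318255082) (.leaf 827322789)) (.leaf 594002876)) (.node (.node (.leaf 977324206) (.leaf 1078416413)) (.leaf 304989012))))) (.node (.node (.node (.node (.node (.leaf 82544001) (.leaf 416805658)) (.leaf 151570519)) (.node (.node (.leaf 443159478) (.leaf 558384594)) (.leaf 746703204))) (.node (.node (.node (.leaf 583295329) (.leaf 411067499)) (.leaf 190759401)) (.node (.node (.leaf 109806430) (.leaf 1057838283)) (.leaf 1031140931)))) (.node (.node (.node (.node (.leaf 898771191) (.leaf 952357333)) (.leaf 169238958)) (.node (.node (.leaf 172255747) (.leaf 1014869350)) (.leaf 602942857))) (.node (.node (.node (.leaf 160557430) (.leaf 665866951)) (.leaf 600623711)) (.node (.node (.leaf 495908023) (.leaf 1099044806)) (.leaf 1000125834)))))))) (.node (.node (.node (.node (.node (.node (.node (.node (.leaf 6701162) (.leaf 321130440)) (.leaf 131252756)) (.node (.node (.leaf 793356332) (.leaf 621899796)) (.leaf 263391191))) (.node (.node (.node (.leaf 29286960) (.leaf 692702249)) (.leaf 624004827)) (.node (.node (.leaf 293285630) (.leaf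 1022905339)) (.leaf 1002239384)))) (.node (.node (.node (.node (.leaf 15892600) (.leaf 871149835)) (.leaf 155183014)) (.node (.node (.leaf 77373652) (.leaf 979461598)) (.leaf 830925152))) (.node (.node (.node (.leaf 44351726) (.leaf 1030174269)) (.leaf 911993175)) (.node (.node (.leaf 555516277) (.leaf 1065391639)) (.leaf 714900812))))) (.node (.node (.node (.node (.node (.leaf 52626359) (.leaf 1101854709)) (.leaf 144720250)) (.node (.node (.leaf 422761282) (.leaf 689894422)) (.leaf 852971803))) (.node (.node (.node (.leaf 264490453) (.leaf 814476422)) (.leaf 386249267)) (.node (.node (.leaf 172943887) (.leaf 1044664080)) (.leaf 677823752)))) (.node (.node (.node (.node (.leaf 621045011) (.leaf 630638813)) (.leaf 666489669)) (.node (.node (.leaf 126739882) (.leaf 1001410007)) (.leaf 636720235))) (.node (.node (.node (.leaf 734684195) (.leaf 934447301)) (.leaf 987551042)) (.node (.node (.leaf 659625073) (.leaf 1086263698)) (.leaf 564383635)))))) (.node (.node (.node (.node (.node (.node (.leaf 27550219) (.leaf 883446285)) (.leaf 836710221)) (.node (.node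 (.leaf 87295428) (.leaf 701879138)) (.leaf 995374447))) (.node (.node (.node (.leaf 723184637) (.leaf 711479011)) (.leaf 517657844)) (.node (.node (.leaf 97943825) (.leaf 1033966683)) (.leaf 740705434)))) (.node (.node (.node (.node (.leaf 118630271) (.leaf 832301741)) (.leaf 911739250)) (.node (.node (.leaf 635717954) (.leaf 990596640)) (.leaf 258551223))) (.node (.node (.node (.leaf 47218826) (.leaf 698559554)) (.leaf 204064649)) (.node (.node (.leaf 904532007) (.leaf 1075908208)) (.leaf 570141190))))) (.node (.node (.node (.node (.node (.leaf 76924170) (.leaf 796476757)) (.leaf 632096033)) (.node (.node (.leaf 73467092) (.leaf 619916705)) (.leaf 239109845))) (.node (.node (.node (.leaf 167281067) (.leaf 409031375)) (.leaf 1094760393)) (.node (.node (.leaf 108298537) (.leaf 1055290870)) (.leaf 673662278)))) (.node (.node (.node (.node (.leaf 547383465) (.leaf 372345576)) (.leaf 885262107)) (.node (.node (.leaf 559019203) (.leaf 1069618988)) (.leaf 565134102))) (.node (.node (.node (.leaf 544114788) (.leaf 1058780905)) (.leaf 598167192)) (.node (.node (.leaf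 549840714) (.leaf 1096519593)) (.leaf 680227172))))))) (.node (.node (.node (.node (.node (.node (.node (.leaf 17826116) (.leaf 325829446)) (.leaf 220834792)) (.node (.node (.leaf 740893429) (.leaf 718989745)) (.leaf 227068980))) (.node (.node (.node (.leaf 228543563) (.leaf 386163733)) (.leaf 1037678185)) (.node (.node (.leaf 95404326) (.leaf 1028442059)) (.leaf 961947742)))) (.node (.node (.node (.node (.leaf 32211153) (.leaf 763571371)) (.leaf 597502491)) (.node (.node (.leaf 79963479) (.leaf 985109795)) (.leaf 748372631))) (.node (.node (.node (.leaf 318091239) (.leaf 854609426)) (.leaf 207088499)) (.node (.node (.leaf 114394932) (.leaf 1070732975)) (.leaf 873868844))))) (.node (.node (.node (.node (.node (.leaf 16326943) (.leaf 715722938)) (.leaf 524954694)) (.node (.node (.leaf 71222191) (.leaf 1104623623)) (.leaf 1003156894))) (.node (.node (.node (.leaf 40657622) (.leaf 812201080)) (.leaf 1071208246)) (.node (.node (.leaf 607024004) (.leaf 1049998081)) (.leaf 706496400)))) (.node (.node (.node (.node (.leaf 170297846) (.leaf 844484932)) (.leaf 164596142))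 (.node (.node (.leaf 526197100) (.leaf 1006858651)) (.leaf 818173183))) (.node (.node (.node (.leaf 359764349) (.leaf 842091136)) (.leaf 544844439)) (.node (.node (.leaf 916440425) (.leaf 1091547646)) (.leaf 618819056)))))) (.node (.node (.node (.node (.node (.node (.leaf 41698031) (.leaf 1078409059)) (.leaf 787067292)) (.node (.node (.leaf 819703250) (.leaf 913361167)) (.leaf 1095710670))) (.node (.node (.node (.leaf 776364514) (.leaf 618885042)) (.leaf 613250133)) (.node (.node (.leaf 811151115) (.leaf 1039337919)) (.leaf 279553223)))) (.node (.node (.node (.node (.leaf 19841396) (.leaf 788481516)) (.leaf 159916442)) (.node (.node (.leaf 81773515) (.leaf 996126878)) (.leaf 1102977021))) (.node (.node (.node (.leaf 189459145) (.leaf 430837992)) (.leaf 207096614)) (.node (.node (.leaf 789431461) (.leaf 1081022323)) (.leaf 306520850))))) (.node (.node (.node (.node (.node (.leaf 89294303) (.leaf 798524703)) (.leaf 153323675)) (.node (.node (.leaf 75423949) (.leaf 847254385)) (.leaf 660803990))) (.node (.node (.node (.leaf 295759636) (.leaf 413225712)) (.leaf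 957088854)) (.node (.node (.leaf 655741315) (.leaf 1060417156)) (.leaf 1031943751)))) (.node (.node (.node (.node (.leaf 200526647) (.leaf 374918795)) (.leaf 249507147)) (.node (.node (.leaf 979514643) (.leaf 1017425651)) (.leaf 690489769))) (.node (.node (.node (.leaf 59565068) (.leaf 451175673)) (.leaf 624257677)) (.node (.node (.leaf 925553786) (.leaf 1101502055)) (.leaf 802910311))))))))) (.node (.node (.node (.node (.node (.node (.node (.node (.node (.leaf 868355) (.leaf 320570169)) (.node (.leaf 600337380) (.leaf 1105188194))) (.node (.node (.leaf 75818235) (.leaf 843344511)) (.leaf 633705435))) (.node (.node (.node (.leaf 126165548) (.leaf 567995583)) (.leaf 172581303)) (.node (.node (.leaf 108570326) (.leaf 1021515225)) (.leaf 269404695)))) (.node (.node (.node (.node (.leaf 99141215) (.leaf 1101690868)) (.leaf 154667276)) (.node (.node (.leaf 76947667) (.leaf 1034303061)) (.leaf 245746154))) (.node (.node (.node (.leaf 69231769) (.leaf 814370924)) (.leaf 868126909)) (.node (.node (.leaf 112533806) (.leaf 1102919676)) (.leaf 811127757))))) (.node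 (.node (.node (.node (.node (.leaf 48030569) (.leaf 845491994)) (.leaf 549578568)) (.node (.node (.leaf 705589330) (.leaf 761442498)) (.leaf 860672101))) (.node (.node (.node (.leaf 37011870) (.leaf 791809221)) (.leaf 183878104)) (.node (.node (.leaf 102867221) (.leaf 1043319608)) (.leaf 285650600)))) (.node (.node (.node (.node (.leaf 154601739) (.leaf 930706299)) (.leaf 643411682)) (.node (.node (.leaf 131868696) (.leaf 1000245711)) (.leaf 651153359))) (.node (.node (.node (.leaf 533030503) (.leaf 815646306)) (.leaf 762532159)) (.node (.node (.leaf 119619942) (.leaf 1084959317)) (.leaf 308744070)))))) (.node (.node (.node (.node (.node (.node (.leaf 9855133) (.leaf 922750463)) (.leaf 136529833)) (.node (.node (.leaf 828092867) (.leaf 1040250489)) (.leaf 228846668))) (.node (.node (.node (.leaf 76530947) (.leaf 664112787)) (.leaf 677172008)) (.node (.node (.leaf 777499062) (.leaf 1032671566)) (.leaf 275169975)))) (.node (.node (.node (.node (.leaf 18096180) (.leaf 770658202)) (.leaf 759649149)) (.node (.node (.leaf 897904281) (.leaf 989120875)) (.leaf 249561887)))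 (.node (.node (.node (.leaf 46948485) (.leaf 790029828)) (.leaf 203434830)) (.node (.node (.leaf 630665619) (.leaf 1074575080)) (.leaf 301533848))))) (.node (.node (.node (.node (.node (.leaf 32268763) (.leaf 757942591)) (.leaf 1047705254)) (.node (.node (.leaf 559377471) (.leaf 504580350)) (.leaf 961448725))) (.node (.node (.node (.leaf 284495515) (.leaf 864889601)) (.leaf 307064698)) (.node (.node (.leaf 108209874) (.leaf 1053986593)) (.leaf 566012850)))) (.node (.node (.node (.node (.leaf 956197058) (.leaf 371712985)) (.leaf 166626496)) (.node (.node (.leaf 185625244) (.leaf 1011117773)) (.leaf 1061893884))) (.node (.node (.node (.leaf 58991625) (.leaf 1093973955)) (.leaf 218178066)) (.node (.node (.leaf 880488609) (.leaf 1095192763)) (.leaf 325759026))))))) (.node (.node (.node (.node (.node (.node (.node (.leaf 13500651) (.leaf 323506223)) (.leaf 861155102)) (.node (.node (.leaf 393073244) (.leaf 464643364)) (.leaf 686723903))) (.node (.node (.node (.leaf 226429996) (.leaf 1092483001)) (.leaf 280522364)) (.node (.node (.leaf 531301437) (.leaf 1027008239))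 (.leaf 877735093)))) (.node (.node (.node (.node (.leaf 31555791) (.leaf 730662032)) (.leaf 156674352)) (.node (.node (.leaf 830482742) (.leaf 991589720)) (.leaf 747770251))) (.node (.node (.node (.leaf 937159087) (.leaf 565881904)) (.leaf 199183141)) (.node (.node (.leaf 576949174) (.leaf 1069373222)) (.leaf 304877410))))) (.node (.node (.node (.node (.node (.leaf 61342760) (.leaf 728991037)) (.leaf 1040987774)) (.node (.node (.leaf 901712368) (.leaf 491513209)) (.leaf 764604126))) (.node (.node (.node (.leaf 594782502) (.leaf 420066097)) (.leaf 303411032)) (.node (.node (.leaf 105333435) (.leaf 1048605137)) (.leaf 585566028)))) (.node (.node (.node (.node (.leaf 165259707) (.leaf 793758411)) (.leaf 164110758)) (.node (.node (.leaf 512611556) (.leaf 1005474207)) (.leaf 904852031))) (.node (.node (.node (.leaf 357896559) (.leaf 760646051)) (.leaf 231361643)) (.node (.node (.leaf 150956239) (.leaf 1090293452)) (.leaf 312314250)))))) (.node (.node (.node (.node (.node (.node (.leaf 6725651) (.leaf 331731046)) (.leaf 197871700)) (.node (.node (.leaf 827468641)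 (.leaf 479307086)) (.leaf 231318074))) (.node (.node (.node (.leaf 35177068) (.leaf 849392278)) (.leaf 775751030)) (.node (.node (.leaf 786835043) (.leaf 1037969191)) (.leaf 278455548)))) (.node (.node (.node (.node (.leaf 20881800) (.leaf 357393322)) (.leaf 915444768)) (.node (.node (.leaf 236907704) (.leaf 994709588)) (.leaf 253447532))) (.node (.node (.node (.leaf 728613921) (.leaf 962333242)) (.leaf 955322170)) (.node (.node (.leaf 886014655) (.leaf 1079644432)) (.leaf 370799038))))) (.node (.node (.node (.node (.node (.leaf 13484082) (.leaf 826266360)) (.leaf 930007003)) (.node (.node (.leaf 82224504) (.leaf 896881408)) (.leaf 996357493))) (.node (.node (.node (.leaf 41468494) (.leaf 1064941328)) (.leaf 191072994)) (.node (.node (.leaf 110223655) (.leaf 1059066649)) (.leaf 687687609)))) (.node (.node (.node (.node (.leaf 192924429) (.leaf 988640584)) (.leaf 845206165)) (.node (.node (.leaf 783011840) (.leaf 1032091208)) (.leaf 588877891))) (.node (.node (.node (.leaf 56476116) (.leaf 450024415)) (.leaf 1024128538)) (.node (.node (.leaf 143779979) (.leaf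 1100239909)) (.leaf 790442354)))))))) (.node (.node (.node (.node (.node (.node (.node (.node (.leaf 2121733) (.leaf 1005663660)) (.leaf 132122531)) (.node (.node (.leaf 60465320) (.leaf 649539050)) (.leaf 527878262))) (.node (.node (.node (.leaf 28213788) (.leaf 925796572)) (.leaf 749683309)) (.node (.node (.leaf 535527681) (.leaf 1024505372)) (.leaf 986723645)))) (.node (.node (.node (.node (.leaf 16187510) (.leaf 348963729)) (.leaf 927371838)) (.node (.node (.leaf 729444653) (.leaf 980895205)) (.leaf 874205848))) (.node (.node (.node (.leaf 567439221) (.leaf 646942374)) (.leaf 194527862)) (.node (.node (.leaf 113256125) (.leaf 1066816246)) (.leaf 796233759))))) (.node (.node (.node (.node (.node (.leaf 55116763) (.leaf 875860793)) (.leaf 700167080)) (.node (.node (.leaf 69420114) (.leaf 847703402)) (.leaf 234458268))) (.node (.node (.node (.leaf 38199401) (.leaf 1066710810)) (.leaf 549175858)) (.node (.node (.leaf 605448455) (.leaf 1045959154)) (.leaf 284528284)))) (.node (.node (.node (.node (.leaf 42820347) (.leaf 826790655)) (.leaf 251579740)) (.node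 (.node (.leaf 551298677) (.leaf 1050613431)) (.leaf 433337215))) (.node (.node (.node (.leaf 52356017) (.leaf 854445623)) (.leaf 211943959)) (.node (.node (.leaf 216837054) (.leaf 1088419744)) (.leaf 561285307)))))) (.node (.node (.node (.node (.node (.node (.leaf 30171716) (.leaf 1061074679)) (.leaf 149186759)) (.node (.node (.leaf 87188931) (.leaf 756372109)) (.leaf 540577214))) (.node (.node (.node (.leaf 185510554) (.leaf 392221273)) (.leaf 178767465)) (.node (.node (.leaf 98813470) (.leaf 1035324183)) (.leaf 600648675)))) (.node (.node (.node (.node (.leaf 130484231) (.leaf 384766505)) (.leaf 596689332)) (.node (.node (.leaf 655273912) (.leaf 1098037213)) (.leaf 251306616))) (.node (.node (.node (.leaf 336564383) (.leaf 995013997)) (.leaf 204513786)) (.node (.node (.leaf 552667185) (.leaf 1077045586)) (.leaf 303680758))))) (.node (.node (.node (.node (.node (.leaf 78423347) (.leaf 993564004)) (.leaf 881469443)) (.node (.node (.leaf 268856839) (.leaf 510429328)) (.leaf 240255917))) (.node (.node (.node (.leaf 172853774) (.leaf 893274899)) (.leaf 1010464200))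 (.node (.node (.leaf 942347294) (.leaf 1056526193)) (.leaf 289579741)))) (.node (.node (.node (.node (.leaf 32432429) (.leaf 892333182)) (.leaf 885802569)) (.node (.node (.leaf 89113209) (.leaf 1013755489)) (.leaf 265126563))) (.node (.node (.node (.leaf 55149532) (.leaf 728084774)) (.leaf 958205268)) (.node (.node (.leaf 590137167) (.leaf 1097683807)) (.leaf 317342542))))))) (.node (.node (.node (.node (.node (.node (.node (.leaf 21135759) (.leaf 327028795)) (.leaf 644535554)) (.node (.node (.leaf 302034767) (.leaf 1074583371)) (.leaf 967051860))) (.node (.node (.node (.leaf 552593240) (.leaf 687722153)) (.leaf 917357919)) (.node (.node (.leaf 110290667) (.leaf 1029818342)) (.leaf 924707546)))) (.node (.node (.node (.node (.leaf 115107650) (.leaf 832540873)) (.leaf 197413070)) (.node (.node (.leaf 80127321) (.leaf 986384413)) (.leaf 957739584))) (.node (.node (.node (.leaf 259485121) (.leaf 624601949)) (.leaf 201304217)) (.node (.node (.leaf 647654795) (.leaf 1071928435)) (.leaf 409047763))))) (.node (.node (.node (.node (.node (.leaf 23716288) (.leaf 993670501))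 (.leaf 562144766)) (.node (.node (.leaf 740180904) (.leaf 550283085)) (.leaf 943968983))) (.node (.node (.node (.leaf 39518895) (.leaf 818335381)) (.leaf 188385980)) (.node (.node (.leaf 106267809) (.leaf 1051289833)) (.leaf 879725281)))) (.node (.node (.node (.node (.leaf 174737956) (.leaf 369905482)) (.leaf 167305939)) (.node (.node (.leaf 721957770) (.leaf 1008182900)) (.leaf 1065285394))) (.node (.node (.node (.leaf 629805447) (.leaf 1066989340)) (.leaf 835883804)) (.node (.node (.leaf 126772628) (.leaf 1092734729)) (.leaf 986428731)))))) (.node (.node (.node (.node (.node (.node (.leaf 21684639) (.leaf 784290354)) (.leaf 142329886)) (.node (.node (.leaf 859450459) (.leaf 655045001)) (.leaf 1101142001))) (.node (.node (.node (.leaf 36094075) (.leaf 535922400)) (.leaf 182453862)) (.node (.node (.leaf 295341841) (.leaf 1062835970)) (.leaf 280399370)))) (.node (.node (.node (.node (.leaf 142354555) (.leaf 1033795154)) (.leaf 853738642)) (.node (.node (.leaf 82412924) (.leaf 997378549)) (.leaf 254288511))) (.node (.node (.node (.leaf 240659676) (.leaf 930680107))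 (.leaf 208055139)) (.node (.node (.leaf 260934636) (.leaf 1082298846)) (.leaf 307716885))))) (.node (.node (.node (.node (.node (.leaf 91759983) (.leaf 780060293)) (.leaf 1070831412)) (.node (.node (.leaf 75826148) (.leaf 519988680)) (.leaf 1080833906))) (.node (.node (.node (.leaf 42861158) (.leaf 926461656)) (.leaf 1003959714)) (.node (.node (.leaf 646270992) (.leaf 1061693535)) (.leaf 908186657)))) (.node (.node (.node (.node (.leaf 29041198) (.leaf 914212153)) (.leaf 596846942)) (.node (.node (.leaf 980268311) (.leaf 1018713261)) (.leaf 670536771))) (.node (.node (.node (.leaf 57983428) (.leaf 1101953014)) (.leaf 546329375)) (.node (.node (.leaf 558466516) (.leaf 1102778465)) (.leaf 577686631)))))))))) (.node (.node (.node (.node (.node (.node (.node (.node (.node (.node (.leaf 507908) (.leaf 799511601)) (.node (.leaf 589497028) (.leaf 1104582608))) (.node (.node (.leaf 682846235) (.leaf 1029633594)) (.leaf 623068443))) (.node (.node (.node (.leaf 211307414) (.leaf 562300413)) (.leaf 572230851)) (.node (.node (.leaf 91562235) (.leaf 1020843513)) (.leaf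 268797641)))) (.node (.node (.node (.node (.leaf 15188126) (.leaf 569059015)) (.leaf 605422645)) (.node (.node (.leaf 304983907) (.leaf 705303690)) (.leaf 745032720))) (.node (.node (.node (.leaf 92235282) (.leaf 835079864)) (.leaf 851266664)) (.node (.node (.leaf 590751906) (.leaf 1063651469)) (.leaf 294265581))))) (.node (.node (.node (.node (.node (.leaf 8618120) (.leaf 841345766)) (.leaf 572442309)) (.node (.node (.leaf 965601546) (.leaf 1091704756)) (.leaf 1054111436))) (.node (.node (.node (.leaf 257412521) (.leaf 909551391)) (.leaf 792744355)) (.node (.node (.leaf 1010750922) (.leaf 1042567984)) (.leaf 281543728)))) (.node (.node (.node (.node (.leaf 153045232) (.leaf 629632932)) (.leaf 596411033)) (.node (.node (.leaf 584109682) (.leaf 1027782191)) (.leaf 971926034))) (.node (.node (.node (.leaf 732816589) (.leaf 693047682)) (.leaf 938036677)) (.node (.node (.leaf 211839898) (.leaf 1084314876)) (.leaf 308445979)))))) (.node (.node (.node (.node (.node (.node (.leaf 25199057) (.leaf 1081685879)) (.leaf 1030567487)) (.node (.node (.leaf 97412685) (.leaf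 1067136797)) (.leaf 988460359))) (.node (.node (.node (.leaf 67085424) (.leaf 1045026453)) (.leaf 956901182)) (.node (.node (.leaf 736497210) (.leaf 1031919091)) (.leaf 1076000596)))) (.node (.node (.node (.node (.leaf 120178581) (.leaf 848457660)) (.leaf 935104707)) (.node (.node (.leaf 799007537) (.leaf 988407295)) (.leaf 249111152))) (.node (.node (.node (.leaf 883780228) (.leaf 1024996895)) (.leaf 730886403)) (.node (.node (.leaf 572254727) (.leaf 1073795451)) (.leaf 1079392105))))) (.node (.node (.node (.node (.node (.leaf 73434323) (.leaf 777588488)) (.leaf 149168511)) (.node (.node (.leaf 543845334) (.leaf 503661976)) (.leaf 238199511))) (.node (.node (.node (.leaf 677488386) (.leaf 407670486)) (.leaf 776711502)) (.node (.node (.leaf 569037668) (.leaf 1053216469)) (.leaf 584828920)))) (.node (.node (.node (.node (.leaf 178752091) (.leaf 754026956)) (.leaf 166330951)) (.node (.node (.leaf 87802948) (.leaf 1010340781)) (.leaf 260186768))) (.node (.node (.node (.leaf 173852378) (.leaf 816714790)) (.leaf 217653777)) (.node (.node (.leaf 123758536) (.leaf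 1094521257)) (.leaf 315081514))))))) (.node (.node (.node (.node (.node (.node (.node (.leaf 13910261) (.leaf 757091852)) (.leaf 948973444)) (.node (.node (.leaf 739471796) (.leaf 463709472)) (.leaf 849366216))) (.node (.node (.node (.leaf 224922648) (.leaf 782446837)) (.leaf 1055176402)) (.node (.node (.leaf 567185267) (.leaf 1026410538)) (.leaf 873662370)))) (.node (.node (.node (.node (.leaf 95741499) (.leaf 728224564)) (.leaf 761277762)) (.node (.node (.leaf 677276236) (.leaf 982962116)) (.leaf 747442978))) (.node (.node (.node (.leaf 45195389) (.leaf 1045952155)) (.leaf 198691619)) (.node (.node (.leaf 941730365) (.leaf 1068701113)) (.leaf 518812227))))) (.node (.node (.node (.node (.node (.leaf 59950100) (.leaf 727205248)) (.leaf 525093989)) (.node (.node (.leaf 813999208) (.leaf 782003051)) (.leaf 235537615))) (.node (.node (.node (.leaf 38986416) (.leaf 403229049)) (.leaf 186664635)) (.node (.node (.leaf 255077758) (.leaf 1047899148)) (.leaf 285476522)))) (.node (.node (.node (.node (.leaf 22413736) (.leaf 426226521)) (.leaf 1083152256)) (.node (.node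 (.leaf 196683864) (.leaf 1004786355)) (.leaf 756927055))) (.node (.node (.node (.leaf 62989369) (.leaf 677079626)) (.leaf 640897815)) (.node (.node (.leaf 643618053) (.leaf 1089540450)) (.leaf 311838695)))))) (.node (.node (.node (.node (.node (.node (.leaf 6496322) (.leaf 802885871)) (.leaf 141460903)) (.node (.node (.leaf 270478868) (.leaf 717467504)) (.leaf 1077213020))) (.node (.node (.node (.leaf 34832660) (.leaf 419836718)) (.leaf 537757345)) (.node (.node (.leaf 533005850) (.leaf 1037348969)) (.leaf 807585337)))) (.node (.node (.node (.node (.leaf 19415400) (.leaf 695372199)) (.leaf 831081749)) (.node (.node (.leaf 485405829) (.leaf 993956797)) (.leaf 252955985))) (.node (.node (.node (.leaf 334655628) (.leaf 1086306195)) (.leaf 497841340)) (.node (.node (.leaf 167494752) (.leaf 1079080663)) (.leaf 576770285))))) (.node (.node (.node (.node (.node (.leaf 84460957) (.leaf 734495959)) (.leaf 930255458)) (.node (.node (.leaf 376123897) (.leaf 750677310)) (.leaf 241190015))) (.node (.node (.node (.leaf 292851448) (.leaf 772387374)) (.leaf 1029355064))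 (.node (.node (.leaf 535365629) (.leaf 1058394715)) (.leaf 905891589)))) (.node (.node (.node (.node (.leaf 823600747) (.leaf 825283776)) (.leaf 983610667)) (.node (.node (.leaf 897666881) (.leaf 1015518441)) (.leaf 699741094))) (.node (.node (.node (.leaf 375656951) (.leaf 449684725)) (.leaf 220596239)) (.node (.node (.leaf 896593126) (.leaf 1099650795)) (.leaf 319762431)))))))) (.node (.node (.node (.node (.node (.node (.node (.node (.leaf 7864447) (.leaf 880657998)) (.leaf 132622367)) (.node (.node (.leaf 280161912) (.leaf 960457212)) (.leaf 1048098472))) (.node (.node (.node (.leaf 206030721) (.leaf 1036858980)) (.leaf 173622016)) (.node (.node (.leaf 108439252) (.leaf 1026946602)) (.leaf 270700056)))) (.node (.node (.node (.node (.leaf 16097560) (.leaf 1091557299)) (.leaf 927263723)) (.node (.node (.leaf 458814483) (.leaf 980239857)) (.leaf 246613788))) (.node (.node (.node (.leaf 44712728) (.leaf 416534959)) (.leaf 193316644)) (.node (.node (.leaf 964301745) (.leaf 1066129058)) (.leaf 296078614))))) (.node (.node (.node (.node (.node (.leaf 53429189)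 (.leaf 963062696)) (.leaf 145113643)) (.node (.node (.leaf 337391783) (.leaf 935971007)) (.leaf 452563961))) (.node (.node (.node (.leaf 593684146) (.leaf 872419819)) (.leaf 366522798)) (.node (.node (.leaf 377057788) (.leaf 1045319824)) (.leaf 283935917)))) (.node (.node (.node (.node (.leaf 156281131) (.leaf 1075722066)) (.leaf 321122323)) (.node (.node (.leaf 84041958) (.leaf 1002123421)) (.leaf 614238470))) (.node (.node (.node (.leaf 352227654) (.leaf 660247363)) (.leaf 211329543)) (.node (.node (.leaf 219818974) (.leaf 1086985638)) (.leaf 1095546829)))))) (.node (.node (.node (.node (.node (.node (.leaf 17572157) (.leaf 1085798288)) (.leaf 145418394)) (.node (.node (.leaf 65274043) (.leaf 673689299)) (.leaf 825748209))) (.node (.node (.node (.leaf 182659709) (.leaf 653184381)) (.leaf 633843765)) (.node (.node (.leaf 810691191) (.leaf 1099528166)) (.leaf 276367050)))) (.node (.node (.node (.node (.leaf 83551631) (.leaf 1066800923)) (.leaf 911971035)) (.node (.node (.leaf 79913179) (.leaf 991327552)) (.leaf 988116293))) (.node (.node (.node (.leaf 783893325)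 (.leaf 949195696)) (.leaf 691859218)) (.node (.node (.leaf 854471579) (.leaf 1076513100)) (.leaf 435811214))))) (.node (.node (.node (.node (.node (.leaf 12541986) (.leaf 830270731)) (.leaf 606293666)) (.node (.node (.leaf 632024543) (.leaf 539428299)) (.leaf 879545318))) (.node (.node (.node (.leaf 287919812) (.leaf 943935766)) (.leaf 858015326)) (.node (.node (.leaf 824519424) (.leaf 1055976736)) (.leaf 657574137)))) (.node (.node (.node (.node (.leaf 55534563) (.leaf 1059256044)) (.leaf 885499505)) (.node (.node (.leaf 88932981) (.leaf 1013090596)) (.leaf 710231918))) (.node (.node (.node (.leaf 370938304) (.leaf 447960024)) (.leaf 219483096)) (.node (.node (.leaf 682083330) (.leaf 1097077769)) (.leaf 667185559))))))) (.node (.node (.node (.node (.node (.node (.node (.leaf 19382631) (.leaf 705000623)) (.leaf 198248503)) (.node (.node (.leaf 396563059) (.leaf 698733395)) (.leaf 941428984))) (.node (.node (.node (.leaf 29573688) (.leaf 1098201054)) (.leaf 176687655)) (.node (.node (.leaf 947918053) (.leaf 1068152611)) (.leaf 591882071)))) (.node (.node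 (.node (.node (.leaf 17301816) (.leaf 970196395)) (.leaf 157262226)) (.node (.node (.leaf 887515587) (.leaf 1025766947)) (.leaf 758975895))) (.node (.node (.node (.leaf 46506816) (.leaf 423129927)) (.leaf 200543001)) (.node (.node (.leaf 945154489) (.leaf 1071338474)) (.leaf 377318873))))) (.node (.node (.node (.node (.node (.leaf 66323556) (.leaf 1085978513)) (.leaf 877785551)) (.node (.node (.leaf 740273160) (.leaf 580972261)) (.leaf 269790733))) (.node (.node (.node (.leaf 736126136) (.leaf 605081115)) (.leaf 188015068)) (.node (.node (.leaf 106096312) (.leaf 1050604498)) (.leaf 606480720)))) (.node (.node (.node (.node (.leaf 172542474) (.leaf 1053963979)) (.leaf 265563616)) (.node (.node (.leaf 552091963) (.leaf 1007474064)) (.leaf 258526549))) (.node (.node (.node (.leaf 52659128) (.leaf 839951886)) (.leaf 584855239)) (.node (.node (.leaf 122733955) (.leaf 1092130124)) (.leaf 325363628)))))) (.node (.node (.node (.node (.node (.node (.leaf 43533060) (.leaf 933048558)) (.leaf 1063286533)) (.node (.node (.leaf 404370095) (.leaf 1035908702)) (.leaf 577219689)))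 (.node (.node (.node (.leaf 35832242) (.leaf 882914390)) (.leaf 810668162)) (.node (.node (.leaf 550790554) (.leaf 1039979260)) (.leaf 999323013)))) (.node (.node (.node (.node (.leaf 589021467) (.leaf 1102608378)) (.leaf 965889505)) (.node (.node (.leaf 678882787) (.leaf 996742217)) (.leaf 710656984))) (.node (.node (.node (.leaf 93660707) (.leaf 432063936)) (.leaf 207465244)) (.node (.node (.leaf 118202691) (.leaf 1081691766)) (.leaf 306710286))))) (.node (.node (.node (.node (.node (.leaf 37692049) (.leaf 941196982)) (.leaf 898747087)) (.node (.node (.leaf 448967648) (.leaf 519457245)) (.leaf 243518631))) (.node (.node (.node (.leaf 42221843) (.leaf 978138379)) (.leaf 986608956)) (.node (.node (.leaf 725683149) (.leaf 1061096448)) (.leaf 942051186)))) (.node (.node (.node (.node (.leaf 26714189) (.leaf 375672328)) (.leaf 171123123)) (.node (.node (.leaf 251891039) (.leaf 1018023210)) (.leaf 724391054))) (.node (.node (.node (.leaf 108054223) (.leaf 656150925)) (.leaf 222514100)) (.node (.node (.leaf 227454010) (.leaf 1102181608)) (.leaf 319148004)))))))))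 (.node (.node (.node (.node (.node (.node (.node (.node (.node (.leaf 4948046) (.leaf 1023800856)) (.leaf 130925082)) (.node (.node (.leaf 813016833) (.leaf 1092155319)) (.leaf 549202587))) (.node (.node (.node (.leaf 27787792) (.leaf 380465680)) (.leaf 172951154)) (.node (.node (.leaf 546532343) (.leaf 1022134522)) (.leaf 1076508503)))) (.node (.node (.node (.node (.leaf 44016399) (.leaf 829395693)) (.leaf 1071896379)) (.node (.node (.leaf 779347484) (.leaf 978879964)) (.leaf 245981797))) (.node (.node (.node (.leaf 44024129) (.leaf 902925064)) (.leaf 890228763)) (.node (.node (.leaf 1016149483) (.leaf 1064703188)) (.leaf 295062119))))) (.node (.node (.node (.node (.node (.leaf 50693024) (.leaf 805597366)) (.leaf 909231872)) (.node (.node (.leaf 728248615) (.leaf 763260998)) (.leaf 778898585))) (.node (.node (.node (.leaf 37479055) (.leaf 887599392)) (.leaf 1049605809)) (.node (.node (.leaf 961335279) (.leaf 1043976863)) (.leaf 591226892)))) (.node (.node (.node (.node (.leaf 21168528) (.leaf 890720844)) (.leaf 327872573)) (.node (.node (.leaf 83558926)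 (.leaf 1087010711)) (.leaf 618975155))) (.node (.node (.node (.leaf 49733772) (.leaf 1029994044)) (.leaf 868936510)) (.node (.node (.leaf 262088930) (.leaf 1085598177)) (.leaf 988263750)))))) (.node (.node (.node (.node (.node (.node (.leaf 4988943) (.leaf 940733096)) (.leaf 888950420)) (.node (.node (.leaf 186526374) (.leaf 609430940)) (.leaf 559647248))) (.node (.node (.node (.leaf 560375350) (.leaf 390530854)) (.leaf 903391488)) (.node (.node (.leaf 97740368) (.leaf 1033325865)) (.leaf 1036400225)))) (.node (.node (.node (.node (.leaf 20636038) (.leaf 353420558)) (.leaf 713575594)) (.node (.node (.leaf 730820906) (.leaf 1098880994)) (.leaf 776164356))) (.node (.node (.node (.leaf 331706474) (.leaf 1034901080)) (.leaf 203506177)) (.node (.node (.leaf 930031851) (.leaf 1075237864)) (.leaf 532095754))))) (.node (.node (.node (.node (.node (.leaf 31391816) (.leaf 676074277)) (.leaf 586895081)) (.node (.node (.leaf 243510519) (.leaf 619713316)) (.leaf 238783118))) (.node (.node (.node (.leaf 285806250) (.leaf 408670011)) (.leaf 190030307)) (.node (.node (.leaf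 561737632) (.leaf 1067497247)) (.leaf 709608513)))) (.node (.node (.node (.node (.leaf 60253208) (.leaf 1067824929)) (.leaf 957951561)) (.node (.node (.leaf 558016503) (.leaf 1011782376)) (.leaf 264029686))) (.node (.node (.node (.leaf 71975667) (.leaf 839765795)) (.leaf 641618836)) (.node (.node (.leaf 1040692860) (.leaf 1095815214)) (.leaf 650700603))))))) (.node (.node (.node (.node (.node (.node (.node (.leaf 24715464) (.leaf 323456965)) (.leaf 925455164)) (.node (.node (.leaf 105572014) (.leaf 625789939)) (.leaf 226806029))) (.node (.node (.node (.leaf 227494972) (.leaf 772901299)) (.leaf 1013855708)) (.node (.node (.leaf 996709751) (.leaf 1086683029)) (.leaf 272484032)))) (.node (.node (.node (.node (.leaf 553820512) (.leaf 911643314)) (.leaf 156543137)) (.node (.node (.leaf 714927891) (.leaf 984323367)) (.leaf 747997139))) (.node (.node (.node (.leaf 45506686) (.leaf 606947592)) (.leaf 820421601)) (.node (.node (.leaf 555024725) (.leaf 1070094049)) (.leaf 779889808))))) (.node (.node (.node (.node (.node (.leaf 63112250) (.leaf 338109281)) (.leaf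 146794672)) (.node (.node (.leaf 88138960) (.leaf 704951349)) (.leaf 236227760))) (.node (.node (.node (.leaf 105326251) (.leaf 816918782)) (.leaf 187556314)) (.node (.node (.leaf 105760432) (.leaf 1049326584)) (.leaf 992671070)))) (.node (.node (.node (.node (.leaf 30433864) (.leaf 640813991)) (.leaf 943221761)) (.node (.node (.leaf 194832437) (.leaf 1052292801)) (.leaf 986035513))) (.node (.node (.node (.leaf 168585695) (.leaf 893733592)) (.leaf 630059413)) (.node (.node (.leaf 554198849) (.leaf 1090883489)) (.leaf 312714017)))))) (.node (.node (.node (.node (.node (.node (.leaf 39117491) (.leaf 333525116)) (.leaf 141762926)) (.node (.node (.leaf 412078825) (.leaf 617825972)) (.leaf 867617913))) (.node (.node (.node (.leaf 248778049) (.leaf 396101314)) (.leaf 183609993)) (.node (.node (.leaf 586958805) (.leaf 1038575410)) (.leaf 810814671)))) (.node (.node (.node (.node (.leaf 133662091) (.leaf 357911805)) (.leaf 535389927)) (.node (.node (.leaf 91735559) (.leaf 995321382)) (.leaf 1068726055))) (.node (.node (.node (.leaf 303918941) (.leaf 1076164437))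 (.leaf 528411512)) (.node (.node (.leaf 909732415) (.leaf 1080332990)) (.leaf 716948838))))) (.node (.node (.node (.node (.node (.leaf 62334002) (.leaf 774483955)) (.leaf 692720147)) (.node (.node (.leaf 781370928) (.leaf 981792032)) (.leaf 337825963))) (.node (.node (.node (.leaf 41796336) (.leaf 873212525)) (.leaf 372568536)) (.node (.node (.leaf 572355782) (.leaf 1059804598)) (.leaf 1087649691)))) (.node (.node (.node (.node (.leaf 26509808) (.leaf 374524656)) (.leaf 1026258470)) (.node (.node (.leaf 264277457) (.leaf 1016760782)) (.leaf 1004434853))) (.node (.node (.node (.leaf 105457324) (.leaf 978012330)) (.leaf 886917520)) (.node (.node (.leaf 127518704) (.leaf 1100879045)) (.leaf 842598760)))))))) (.node (.node (.node (.node (.node (.node (.node (.node (.leaf 11698366) (.leaf 667210813)) (.leaf 579871457)) (.node (.node (.leaf 388600385) (.leaf 461869662)) (.leaf 1066120983))) (.node (.node (.node (.leaf 222858234) (.leaf 881593382)) (.leaf 174392348)) (.node (.node (.leaf 93324832) (.leaf 1024971575)) (.leaf 606275799)))) (.node (.node (.node (.node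 (.leaf 63956035) (.leaf 349114650)) (.leaf 621184274)) (.node (.node (.leaf 798486492) (.leaf 981659866)) (.leaf 916493461))) (.node (.node (.node (.leaf 170125811) (.leaf 1022883347)) (.leaf 193872386)) (.node (.node (.leaf 1036179040) (.leaf 1067520797)) (.leaf 296592116))))) (.node (.node (.node (.node (.node (.leaf 56886253) (.leaf 873442513)) (.leaf 646475790)) (.node (.node (.leaf 337580200) (.leaf 839889847)) (.leaf 852790444))) (.node (.node (.node (.leaf 40559317) (.leaf 1018525178)) (.leaf 840807366)) (.node (.node (.leaf 1009309121) (.leaf 1046564043)) (.leaf 772247335)))) (.node (.node (.node (.node (.leaf 36119163) (.leaf 874098218)) (.leaf 258747833)) (.node (.node (.leaf 506557648) (.leaf 1003434206)) (.leaf 1050064564))) (.node (.node (.node (.leaf 676555335) (.leaf 687789080)) (.leaf 212371672)) (.node (.node (.leaf 585990885) (.leaf 1088247351)) (.leaf 568624560)))))) (.node (.node (.node (.node (.node (.node (.leaf 35594868) (.leaf 331187033)) (.leaf 524495032)) (.node (.node (.leaf 744105599) (.leaf 1046378142)) (.leaf 230654526))) (.node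 (.node (.node (.leaf 549167651) (.leaf 672007524)) (.leaf 276737627)) (.node (.node (.leaf 786620704) (.leaf 1036118172)) (.leaf 693814961)))) (.node (.node (.node (.node (.leaf 700302553) (.leaf 939093428)) (.leaf 842911709)) (.node (.node (.leaf 484611200) (.leaf 993015136)) (.leaf 251873690))) (.node (.node (.node (.leaf 183822987) (.leaf 892064520)) (.leaf 697954262)) (.node (.node (.leaf 591725514) (.leaf 1077751067)) (.leaf 304402219))))) (.node (.node (.node (.node (.node (.leaf 53912524) (.leaf 789456755)) (.leaf 151455968)) (.node (.node (.leaf 779758698) (.leaf 511493621)) (.leaf 897280734))) (.node (.node (.node (.leaf 41190112) (.leaf 830108667)) (.leaf 190614233)) (.node (.node (.leaf 109421427) (.leaf 1057115579)) (.leaf 580840266)))) (.node (.node (.node (.node (.leaf 32833760) (.leaf 372941789)) (.leaf 168641715)) (.node (.node (.leaf 89343456) (.leaf 1014254105)) (.leaf 738742503))) (.node (.node (.node (.leaf 373707242) (.leaf 733638945)) (.leaf 220089297)) (.node (.node (.leaf 126272914) (.leaf 1098405649)) (.leaf 386380340))))))) (.node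 (.node (.node (.node (.node (.node (.node (.leaf 22348199) (.leaf 730590463)) (.leaf 212839331)) (.node (.node (.leaf 801254948) (.leaf 935529390)) (.leaf 559353478))) (.node (.node (.node (.leaf 813590212) (.leaf 1043478156)) (.leaf 909707021)) (.node (.node (.leaf 396079727) (.leaf 1060714229)) (.leaf 878489398)))) (.node (.node (.node (.node (.leaf 116918120) (.leaf 762293086)) (.leaf 757875566)) (.node (.node (.leaf 471888975) (.leaf 986895518)) (.leaf 750849717))) (.node (.node (.node (.leaf 46391427) (.leaf 686380206)) (.leaf 1043150474)) (.node (.node (.leaf 550373325) (.leaf 1072565092)) (.leaf 985068851))))) (.node (.node (.node (.node (.node (.leaf 11722783) (.leaf 766471492)) (.leaf 197257241)) (.node (.node (.leaf 72114372) (.leaf 499583057)) (.leaf 859099918))) (.node (.node (.node (.leaf 164776373) (.leaf 931910273)) (.leaf 894431970)) (.node (.node (.leaf 106497164) (.leaf 1051920618)) (.leaf 769863022)))) (.node (.node (.node (.node (.leaf 176704056) (.leaf 757304957)) (.leaf 817574586)) (.node (.node (.leaf 86737388) (.leaf 1008879556))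 (.leaf 312225706))) (.node (.node (.node (.leaf 363614621) (.leaf 838912486)) (.leaf 217025350)) (.node (.node (.leaf 123388274) (.leaf 1093277060)) (.leaf 314191807)))))) (.node (.node (.node (.node (.node (.node (.leaf 7954560) (.leaf 791023595)) (.leaf 968560512)) (.node (.node (.leaf 320090116) (.leaf 941871560)) (.leaf 790778382))) (.node (.node (.node (.leaf 254266746) (.leaf 801313325)) (.leaf 988935498)) (.node (.node (.leaf 794994614) (.leaf 1041123750)) (.leaf 280790134)))) (.node (.node (.node (.node (.leaf 139700315) (.leaf 717786924)) (.leaf 911511237)) (.node (.node (.leaf 734310629) (.leaf 998101775)) (.leaf 665637785))) (.node (.node (.node (.leaf 345657584) (.leaf 613205310)) (.leaf 593658806)) (.node (.node (.leaf 118589306) (.leaf 1083067891)) (.leaf 562532179))))) (.node (.node (.node (.node (.node (.leaf 93849125) (.leaf 346868196)) (.leaf 870343342)) (.node (.node (.leaf 76170319) (.leaf 911143498)) (.leaf 730565641))) (.node (.node (.node (.leaf 273280562) (.leaf 1006867891)) (.leaf 192088803)) (.node (.node (.leaf 880119137) (.leaf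 1062332517)) (.leaf 293662464)))) (.node (.node (.node (.node (.leaf 585122534) (.leaf 764021571)) (.leaf 807612007)) (.node (.node (.leaf 576064583) (.leaf 1019532499)) (.leaf 603607656))) (.node (.node (.node (.leaf 682109201) (.leaf 847932163)) (.leaf 963703849)) (.node (.node (.leaf 670993410) (.leaf 1103369848)) (.leaf 319693619)))))))))))

noncomputable def edgeA14 : Arr ℕ :=
  (.node (.node (.node (.node (.node (.node (.node (.node (.node (.node (.node (.leaf 1376272) (.leaf 843878502)) (.node (.leaf 881478770) (.leaf 1104008199))) (.node (.node (.leaf 382013982) (.leaf 803041281)) (.leaf 732873881))) (.node (.node (.node (.leaf 210062218) (.leaf 913666967)) (.leaf 264318417)) (.node (.node (.leaf 828851068) (.leaf 1020085944)) (.leaf 966300156)))) (.node (.node (.node (.node (.leaf 96241216) (.leaf 1103869954)) (.leaf 197208317)) (.node (.node (.leaf 566634748) (.leaf 929297006)) (.leaf 970322231))) (.node (.node (.node (.leaf 301322057) (.leaf 953644138)) (.leaf 1097201623)) (.node (.node (.leaf 112034092) (.leaf 1063013825)) (.leaf 1087231896)))))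 (.node (.node (.node (.node (.node (.leaf 8273943) (.leaf 333939537)) (.leaf 951348554)) (.node (.node (.leaf 68042938) (.leaf 844983496)) (.leaf 1017509363))) (.node (.node (.node (.leaf 855041876) (.leaf 399590635)) (.leaf 841569440)) (.node (.node (.leaf 1010030022) (.leaf 1041943507)) (.leaf 956443125)))) (.node (.node (.node (.node (.leaf 151521506) (.leaf 780651214)) (.leaf 941560076)) (.node (.node (.leaf 750234939) (.leaf 998934074)) (.leaf 902050662))) (.node (.node (.node (.leaf 738338815) (.leaf 964801002)) (.leaf 261571116)) (.node (.node (.leaf 995612016) (.leaf 1083623857)) (.leaf 569901914)))))) (.node (.node (.node (.node (.node (.node (.leaf 23577023) (.leaf 883265950)) (.leaf 962029662)) (.node (.node (.leaf 811856329) (.leaf 705074248)) (.leaf 262105306))) (.node (.node (.node (.leaf 234081431) (.leaf 924027556)) (.leaf 755159613)) (.node (.node (.leaf 536351239) (.leaf 1031229333)) (.leaf 870208603)))) (.node (.node (.node (.node (.leaf 118359931) (.leaf 995784049)) (.leaf 228699211)) (.node (.node (.leaf 736080180) (.leaf 987813141))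 (.leaf 922554316))) (.node (.node (.node (.leaf 740353174) (.leaf 913861265)) (.leaf 922898173)) (.node (.node (.leaf 553945336) (.leaf 1073239485)) (.leaf 987182400))))) (.node (.node (.node (.node (.node (.leaf 11911199) (.leaf 731646116)) (.leaf 1069717293)) (.node (.node (.leaf 72368324) (.leaf 501384598)) (.leaf 565430460))) (.node (.node (.node (.leaf 594290451) (.leaf 767659540)) (.leaf 901317638)) (.node (.node (.leaf 1021597196) (.leaf 1052690708)) (.leaf 594610478)))) (.node (.node (.node (.node (.leaf 177883727) (.leaf 955583549)) (.leaf 940214284)) (.node (.node (.leaf 756297134) (.leaf 1009600129)) (.leaf 929379017))) (.node (.node (.node (.leaf 560705436) (.leaf 834373156)) (.leaf 989214027)) (.node (.node (.leaf 868978736) (.leaf 1093913247)) (.leaf 327151676))))))) (.node (.node (.node (.node (.node (.node (.node (.leaf 2441222) (.leaf 973482412)) (.leaf 677537538)) (.node (.node (.leaf 861907190) (.leaf 833892319)) (.leaf 526636216))) (.node (.node (.node (.leaf 224332815) (.leaf 951150526)) (.leaf 1081603958)) (.node (.node (.leaf 567521141)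 (.leaf 1025750563)) (.leaf 861735727)))) (.node (.node (.node (.node (.leaf 535060771) (.leaf 913444566)) (.leaf 857067848)) (.node (.node (.leaf 895970080) (.leaf 982248355)) (.leaf 865487341))) (.node (.node (.node (.leaf 820330982) (.leaf 962479314)) (.leaf 857753920)) (.node (.node (.leaf 1037112934) (.leaf 1068226312)) (.leaf 749661355))))) (.node (.node (.node (.node (.node (.leaf 683614760) (.leaf 846786705)) (.leaf 525274013)) (.node (.node (.leaf 426267482) (.leaf 873278061)) (.leaf 721119472))) (.node (.node (.node (.leaf 596140261) (.leaf 871697759)) (.leaf 828764409)) (.node (.node (.leaf 613656410) (.leaf 1047251724)) (.leaf 831810222)))) (.node (.node (.node (.node (.leaf 163269017) (.leaf 881161397)) (.leaf 878281444)) (.node (.node (.leaf 197216552) (.leaf 1004178428)) (.leaf 684512066))) (.node (.node (.node (.leaf 819832281) (.leaf 959000269)) (.leaf 982316323)) (.node (.node (.leaf 990737748) (.leaf 1088967520)) (.leaf 320598027)))))) (.node (.node (.node (.node (.node (.node (.leaf 5947410) (.leaf 915608377)) (.leaf 140804460)) (.node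 (.node (.leaf 767521153) (.leaf 931556852)) (.leaf 496940217))) (.node (.node (.node (.leaf 936838334) (.leaf 976209573)) (.leaf 735064380)) (.node (.node (.leaf 934548348) (.leaf 1036683041)) (.leaf 277414582)))) (.node (.node (.node (.node (.leaf 554575634) (.leaf 912797626)) (.leaf 947029599)) (.node (.node (.leaf 798966573) (.leaf 993438079)) (.leaf 925216235))) (.node (.node (.node (.leaf 338727096) (.leaf 723685921)) (.leaf 261672001)) (.node (.node (.leaf 977424703) (.leaf 1078433635)) (.leaf 761508669))))) (.node (.node (.node (.node (.node (.leaf 750256749) (.leaf 1070577458)) (.leaf 613340245)) (.node (.node (.leaf 74694859) (.leaf 910520615)) (.leaf 952570347))) (.node (.node (.node (.leaf 581953620) (.leaf 1067595551)) (.leaf 1070462769)) (.node (.node (.leaf 803254035) (.leaf 1094793161)) (.leaf 920884353)))) (.node (.node (.node (.node (.leaf 190155476) (.leaf 1055364819)) (.leaf 913649569)) (.node (.node (.leaf 980292887) (.leaf 1014854045)) (.leaf 266207894))) (.node (.node (.node (.leaf 758640216) (.leaf 861951234)) (.leaf 721012650)) (.node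 (.node (.leaf 227355706) (.leaf 1099059721)) (.leaf 914707495)))))))) (.node (.node (.node (.node (.node (.node (.node (.node (.leaf 6865008) (.leaf 321159999)) (.leaf 262177328)) (.node (.node (.leaf 385929777) (.leaf 965634314)) (.leaf 224608805))) (.node (.node (.node (.leaf 543745609) (.leaf 1077802847)) (.leaf 736412530)) (.node (.node (.leaf 564511514) (.leaf 1022945296)) (.leaf 1045903003)))) (.node (.node (.node (.node (.leaf 102598277) (.leaf 920424932)) (.leaf 1072518975)) (.node (.node (.leaf 654044809) (.leaf 979536386)) (.leaf 246104677))) (.node (.node (.node (.leaf 306663287) (.leaf 956295362)) (.leaf 993039712)) (.node (.node (.leaf 594264771) (.leaf 1065537203)) (.leaf 856868579))))) (.node (.node (.node (.node (.node (.leaf 52757437) (.leaf 806373858)) (.leaf 611124554)) (.node (.node (.leaf 726232927) (.leaf 878201658)) (.leaf 853001064))) (.node (.node (.node (.leaf 710500591) (.leaf 1056077528)) (.leaf 773736076)) (.node (.node (.leaf 944354112) (.leaf 1044612961)) (.leaf 689319351)))) (.node (.node (.node (.node (.leaf 157993284) (.leaf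 643140189)) (.leaf 883345521)) (.node (.node (.leaf 596110810) (.leaf 1001443096)) (.leaf 915671691))) (.node (.node (.node (.leaf 351424826) (.leaf 437503185)) (.leaf 211010053)) (.node (.node (.leaf 922652284) (.leaf 1086361019)) (.leaf 564398745)))))) (.node (.node (.node (.node (.node (.node (.leaf 29327922) (.leaf 883508406)) (.leaf 889981673)) (.node (.node (.leaf 404066988) (.leaf 917146133)) (.leaf 567742345))) (.node (.node (.node (.leaf 239013073) (.leaf 932596491)) (.leaf 178356676)) (.node (.node (.leaf 807502520) (.leaf 1033901537)) (.leaf 913559764)))) (.node (.node (.node (.node (.leaf 126289894) (.leaf 354141086)) (.leaf 911912997)) (.node (.node (.leaf 971351900) (.leaf 990647231)) (.leaf 904786805))) (.node (.node (.node (.leaf 334286983) (.leaf 698887725)) (.leaf 1007924665)) (.node (.node (.leaf 1042683528) (.leaf 1075923750)) (.leaf 302531334))))) (.node (.node (.node (.node (.node (.leaf 12402721) (.leaf 804570256)) (.leaf 801031348)) (.node (.node (.leaf 438211483) (.leaf 920626709)) (.leaf 535023447))) (.node (.node (.node (.leaf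 286936764) (.leaf 1062893314)) (.leaf 926535384)) (.node (.node (.leaf 833982448) (.leaf 1055347171)) (.leaf 869994625)))) (.node (.node (.node (.node (.leaf 184273551) (.leaf 947135989)) (.leaf 167805355)) (.node (.node (.leaf 650212562) (.leaf 1040160376)) (.leaf 565291666))) (.node (.node (.node (.leaf 54657176) (.leaf 447333613)) (.leaf 1041970819)) (.node (.node (.leaf 587875441) (.leaf 1096535622)) (.leaf 922880213))))))) (.node (.node (.node (.node (.node (.node (.node (.leaf 543375558) (.leaf 940901424)) (.leaf 261770310)) (.node (.node (.leaf 899016985) (.leaf 895856370)) (.leaf 966748594))) (.node (.node (.node (.leaf 196831159) (.leaf 851783780)) (.leaf 176554430)) (.node (.node (.leaf 565461583) (.leaf 1028493442)) (.leaf 613831901)))) (.node (.node (.node (.node (.leaf 113493791) (.leaf 1074640715)) (.leaf 590414550)) (.node (.node (.leaf 729067691) (.leaf 985092298)) (.leaf 748422811))) (.node (.node (.node (.leaf 799664475) (.leaf 854658341)) (.leaf 928477447)) (.node (.node (.leaf 586826662) (.leaf 1070787995)) (.leaf 986240314))))) (.node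 (.node (.node (.node (.node (.leaf 64422984) (.leaf 715277707)) (.leaf 524880064)) (.node (.node (.leaf 430297969) (.leaf 1088755618)) (.leaf 559805649))) (.node (.node (.node (.leaf 587235711) (.leaf 409719515)) (.leaf 187646426)) (.node (.node (.leaf 752271789) (.leaf 1096398802)) (.leaf 1065555731)))) (.node (.node (.node (.node (.leaf 22855745) (.leaf 850750567)) (.leaf 940134958)) (.node (.node (.leaf 700691357) (.leaf 1006899786)) (.leaf 1098381279))) (.node (.node (.node (.leaf 836169853) (.leaf 442647777)) (.leaf 1048901292)) (.node (.node (.leaf 122421579) (.leaf 1091529777)) (.leaf 592586416)))))) (.node (.node (.node (.node (.node (.node (.leaf 41992948) (.leaf 804685101)) (.leaf 1064195851)) (.node (.node (.leaf 413029105) (.leaf 893405969)) (.leaf 881970505))) (.node (.node (.node (.leaf 249974096) (.leaf 720685134)) (.leaf 662602790)) (.node (.node (.leaf 101122318) (.leaf 1039403757)) (.leaf 537104207)))) (.node (.node (.node (.node (.leaf 551347829) (.leaf 737063632)) (.leaf 647792571)) (.node (.node (.leaf 845918400) (.leaf 996159806)) (.leaf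 990917973))) (.node (.node (.node (.leaf 803188916) (.leaf 967373732)) (.leaf 946620238)) (.node (.node (.leaf 961220591) (.leaf 1081054085)) (.leaf 569460250))))) (.node (.node (.node (.node (.node (.leaf 13795366) (.leaf 915565405)) (.leaf 966316602)) (.node (.node (.leaf 862038823) (.leaf 847270308)) (.leaf 243024476))) (.node (.node (.node (.leaf 544992340) (.leaf 826642405)) (.leaf 957173849)) (.node (.node (.leaf 111264040) (.leaf 1098749921)) (.leaf 894141242)))) (.node (.node (.node (.node (.leaf 200870713) (.leaf 930960287)) (.leaf 689115180)) (.node (.node (.leaf 90390775) (.leaf 1017515139)) (.leaf 890515926))) (.node (.node (.node (.leaf 378065407) (.leaf 451300045)) (.leaf 937527749)) (.node (.node (.leaf 527083621) (.leaf 1101550503)) (.leaf 845304100))))))))) (.node (.node (.node (.node (.node (.node (.node (.node (.node (.leaf 3670076) (.leaf 320606115)) (.node (.leaf 1056954078) (.leaf 1105154853))) (.node (.node (.leaf 384160295) (.leaf 843384555)) (.leaf 869093563))) (.node (.node (.node (.leaf 546652761) (.leaf 568209931)) (.leaf 842387396))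 (.node (.node (.leaf 537494484) (.leaf 1021494978)) (.leaf 1018295801)))) (.node (.node (.node (.node (.leaf 99288676) (.leaf 928756914)) (.leaf 947679257)) (.node (.node (.leaf 966502876) (.leaf 978193694)) (.leaf 713157172))) (.node (.node (.node (.leaf 788440575) (.leaf 952503522)) (.leaf 932516435)) (.node (.node (.leaf 1031640646) (.leaf 1064208499)) (.leaf 1033590352))))) (.node (.node (.node (.node (.node (.leaf 49447815) (.leaf 334512980)) (.leaf 594430580)) (.node (.node (.leaf 887254949) (.leaf 833867742)) (.leaf 860702021))) (.node (.node (.node (.leaf 258706873) (.leaf 900911892)) (.leaf 915688851)) (.node (.node (.leaf 960614184) (.leaf 1043418094)) (.leaf 907039481)))) (.node (.node (.node (.node (.leaf 154880271) (.leaf 749481137)) (.leaf 988026180)) (.node (.node (.leaf 715305139) (.leaf 1000338789)) (.leaf 965774481))) (.node (.node (.node (.leaf 774090865) (.leaf 985953592)) (.leaf 810888815)) (.node (.node (.leaf 1048172201) (.leaf 1084943640)) (.leaf 947562581)))))) (.node (.node (.node (.node (.node (.node (.leaf 4734990) (.leaf 329417541))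 (.leaf 931005626)) (.node (.node (.leaf 901000007) (.leaf 470893877)) (.leaf 228624707))) (.node (.node (.node (.leaf 236522676) (.leaf 952816363)) (.leaf 1085929361)) (.node (.node (.leaf 97140997) (.leaf 1032687584)) (.leaf 736265375)))) (.node (.node (.node (.node (.leaf 122406835) (.leaf 352977817)) (.leaf 929164032)) (.node (.node (.leaf 860979856) (.leaf 989187011)) (.leaf 892996365))) (.node (.node (.node (.leaf 800277817) (.leaf 423937175)) (.leaf 643050138)) (.node (.node (.leaf 955617730) (.leaf 1074540851)) (.leaf 926099483))))) (.node (.node (.node (.node (.node (.leaf 74679523) (.leaf 802344104)) (.leaf 645598575)) (.node (.node (.leaf 532866603) (.leaf 1039087217)) (.leaf 805136052))) (.node (.node (.node (.leaf 755672174) (.leaf 920521972)) (.leaf 852487322)) (.node (.node (.leaf 901590722) (.leaf 1054058662)) (.leaf 958671192)))) (.node (.node (.node (.node (.leaf 180783722) (.leaf 1034180180)) (.leaf 763843611)) (.node (.node (.leaf 940289535) (.leaf 1011159737)) (.leaf 861031559))) (.node (.node (.node (.leaf 367464884) (.leaf 1032541770))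 (.leaf 230042711)) (.node (.node (.leaf 880494757) (.leaf 1095226779)) (.leaf 937251431))))))) (.node (.node (.node (.node (.node (.node (.node (.leaf 10576037) (.leaf 323227583)) (.leaf 998774146)) (.node (.node (.leaf 737067946) (.leaf 964873885)) (.leaf 686820395))) (.node (.node (.node (.leaf 226708526) (.leaf 385025038)) (.leaf 940577904)) (.node (.node (.leaf 532841675) (.leaf 1027134132)) (.leaf 877882715)))) (.node (.node (.node (.node (.leaf 111724288) (.leaf 967847029)) (.leaf 920266337)) (.node (.node (.leaf 78201046) (.leaf 1037612648)) (.leaf 747816669))) (.node (.node (.node (.leaf 725150126) (.leaf 940397230)) (.leaf 898312927)) (.node (.node (.leaf 616213886) (.leaf 1069493456)) (.leaf 830058760))))) (.node (.node (.node (.node (.node (.leaf 61522989) (.leaf 729040179)) (.leaf 944263931)) (.node (.node (.leaf 901915890) (.leaf 913331189)) (.leaf 749637411))) (.node (.node (.node (.leaf 38813802) (.leaf 917566584)) (.leaf 969110458)) (.node (.node (.leaf 587399528) (.leaf 1087690651)) (.leaf 585631561)))) (.node (.node (.node (.node (.leaf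 167791059) (.leaf 793857492)) (.leaf 1080948594)) (.node (.node (.leaf 918334021) (.leaf 1005539588)) (.leaf 939012373))) (.node (.node (.node (.leaf 785001144) (.leaf 1064580878)) (.leaf 214483466)) (.node (.node (.leaf 751578440) (.leaf 1090309626)) (.leaf 689490889)))))) (.node (.node (.node (.node (.node (.node (.leaf 39207605) (.leaf 915285554)) (.leaf 751152454)) (.node (.node (.leaf 827567305) (.leaf 704974913)) (.leaf 542680270))) (.node (.node (.node (.leaf 247844143) (.leaf 395314226)) (.leaf 779955344)) (.node (.node (.leaf 1007105460) (.leaf 1038063111)) (.leaf 535987641)))) (.node (.node (.node (.node (.leaf 195192826) (.leaf 1037416039)) (.leaf 915222632)) (.node (.node (.leaf 749251760) (.leaf 994724201)) (.leaf 769673117))) (.node (.node (.node (.leaf 48152712) (.leaf 962431510)) (.leaf 230132824)) (.node (.node (.leaf 117375295) (.leaf 1079774528)) (.leaf 305677072))))) (.node (.node (.node (.node (.node (.leaf 13566109) (.leaf 826327968)) (.leaf 152371589)) (.node (.node (.leaf 399635075) (.leaf 956419505)) (.leaf 851849201))) (.node (.node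 (.node (.leaf 709274997) (.leaf 952840779)) (.leaf 969737716)) (.node (.node (.leaf 843535371) (.leaf 1059031097)) (.leaf 291488482)))) (.node (.node (.node (.node (.leaf 26214474) (.leaf 952552675)) (.leaf 953058930)) (.node (.node (.leaf 828916151) (.leaf 1016204896)) (.leaf 970657123))) (.node (.node (.node (.leaf 574073751) (.leaf 952863024)) (.leaf 884364386)) (.node (.node (.leaf 198396041) (.leaf 1100305546)) (.leaf 790627610)))))))) (.node (.node (.node (.node (.node (.node (.node (.node (.leaf 2990121) (.leaf 890245498)) (.leaf 926166859)) (.node (.node (.leaf 387797566) (.leaf 763824587)) (.leaf 225346087))) (.node (.node (.node (.leaf 544270046) (.leaf 925863962)) (.leaf 597526520)) (.node (.node (.leaf 92881149) (.leaf 1024364124)) (.leaf 919963385)))) (.node (.node (.node (.node (.leaf 105465517) (.leaf 348898189)) (.leaf 927436698)) (.node (.node (.leaf 462279712) (.leaf 981021692)) (.leaf 894567180))) (.node (.node (.node (.leaf 561423278) (.leaf 417023105)) (.leaf 929320223)) (.node (.node (.leaf 922841124) (.leaf 1066905033)) (.leaf 940765863)))))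 (.node (.node (.node (.node (.node (.leaf 55296993) (.leaf 336282457)) (.leaf 749825337)) (.node (.node (.leaf 754872658) (.leaf 488326508)) (.leaf 852595654))) (.node (.node (.node (.leaf 590031163) (.leaf 901270359)) (.leaf 185549269)) (.node (.node (.leaf 748449075) (.leaf 1046031891)) (.leaf 950014332)))) (.node (.node (.node (.node (.leaf 161220988) (.leaf 972026210)) (.leaf 877384636)) (.node (.node (.leaf 196340025) (.leaf 1095251915)) (.leaf 1070708531))) (.node (.node (.node (.leaf 353358159) (.leaf 438224083)) (.leaf 549323357)) (.node (.node (.leaf 262244573) (.leaf 1087674027)) (.leaf 968648831)))))) (.node (.node (.node (.node (.node (.node (.leaf 35013224) (.leaf 815008200)) (.leaf 196773249)) (.node (.node (.leaf 406377148) (.leaf 870231619)) (.leaf 956336776))) (.node (.node (.node (.leaf 242404588) (.leaf 754282950)) (.leaf 724322176)) (.node (.node (.leaf 537277142) (.leaf 1035391638)) (.leaf 743614086)))) (.node (.node (.node (.node (.leaf 18792501) (.leaf 965126056)) (.leaf 799638323)) (.node (.node (.leaf 885909979) (.leaf 992121861))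 (.leaf 877948459))) (.node (.node (.node (.leaf 873490550) (.leaf 876169896)) (.leaf 1006212527)) (.node (.node (.leaf 552732833) (.leaf 1090508716)) (.leaf 795495370))))) (.node (.node (.node (.node (.node (.leaf 671491378) (.leaf 565380924)) (.leaf 151110018)) (.node (.node (.leaf 531655918) (.leaf 657716128)) (.leaf 922956860))) (.node (.node (.node (.leaf 870810286) (.leaf 409735859)) (.leaf 915231456)) (.node (.node (.leaf 942410639) (.leaf 1056592510)) (.leaf 869706372)))) (.node (.node (.node (.node (.leaf 776094970) (.leaf 879035356)) (.leaf 885884251)) (.node (.node (.leaf 862458168) (.leaf 1013739773)) (.leaf 1009219008))) (.node (.node (.node (.leaf 372462039) (.leaf 864924088)) (.leaf 219595286)) (.node (.node (.leaf 701862810) (.leaf 1097750429)) (.leaf 802768040))))))) (.node (.node (.node (.node (.node (.node (.node (.leaf 3653642) (.leaf 327061557)) (.leaf 969608996)) (.node (.node (.leaf 397742715) (.leaf 961261776)) (.leaf 967133810))) (.node (.node (.node (.leaf 546137040) (.leaf 687935209)) (.leaf 920849526)) (.node (.node (.leaf 948456261)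 (.leaf 1029883850)) (.leaf 946816606)))) (.node (.node (.node (.node (.leaf 116148055) (.leaf 832636681)) (.leaf 590004891)) (.node (.node (.leaf 729165020) (.leaf 986467061)) (.leaf 750208387))) (.node (.node (.node (.leaf 322457634) (.leaf 684479291)) (.leaf 1064154890)) (.node (.node (.leaf 114884919) (.leaf 1072010412)) (.leaf 1031624261))))) (.node (.node (.node (.node (.node (.leaf 68240520) (.leaf 893864971)) (.leaf 535963178)) (.node (.node (.leaf 903015183) (.leaf 613624180)) (.leaf 920793321))) (.node (.node (.node (.leaf 588276114) (.leaf 1058158309)) (.leaf 821562398)) (.node (.node (.leaf 974131238) (.leaf 1051273295)) (.leaf 886623457)))) (.node (.node (.node (.node (.leaf 175049255) (.leaf 969443457)) (.leaf 922240017)) (.node (.node (.leaf 790194661) (.leaf 1008324358)) (.leaf 1086379923))) (.node (.node (.node (.leaf 821783269) (.leaf 837922849)) (.leaf 216498703)) (.node (.node (.leaf 647817587) (.leaf 1092809325)) (.leaf 872518295)))))) (.node (.node (.node (.node (.node (.node (.leaf 44843806) (.leaf 915649109)) (.leaf 967316497)) (.node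 (.node (.leaf 900557759) (.leaf 1030280765)) (.leaf 232358460))) (.node (.node (.node (.leaf 253218153) (.leaf 397755451)) (.leaf 537241096)) (.node (.node (.leaf 972173705) (.leaf 1080612720)) (.leaf 922692625)))) (.node (.node (.node (.node (.leaf 593478853) (.leaf 942246450)) (.leaf 975236223)) (.node (.node (.leaf 678863913) (.leaf 997520177)) (.leaf 599214069))) (.node (.node (.node (.leaf 844196522) (.leaf 930727374)) (.leaf 933391124)) (.node (.node (.leaf 118374723) (.leaf 1082362524)) (.leaf 860227038))))) (.node (.node (.node (.node (.node (.leaf 91932172) (.leaf 832685834)) (.leaf 762741265)) (.node (.node (.leaf 710471129) (.leaf 897812552)) (.leaf 973541313))) (.node (.node (.node (.leaf 298651439) (.leaf 944244907)) (.leaf 901195797)) (.node (.node (.leaf 927822304) (.leaf 1103689729)) (.leaf 1024882206)))) (.node (.node (.node (.node (.leaf 205065057) (.leaf 961156255)) (.leaf 738854330)) (.node (.node (.leaf 253848945) (.leaf 1018876930)) (.leaf 764389144))) (.node (.node (.node (.leaf 379949581) (.leaf 1014691298)) (.leaf 546357850)) (.node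 (.node (.leaf 197634122) (.leaf 1102794197)) (.leaf 1020753414)))))))))) (.node (.node (.node (.node (.node (.node (.node (.node (.node (.node (.leaf 2588709) (.leaf 803228272)) (.node (.leaf 701812101) (.leaf 1104679861))) (.node (.node (.leaf 683027375) (.leaf 1104025603)) (.leaf 737931546))) (.node (.node (.node (.leaf 27410510) (.leaf 536372803)) (.leaf 898623766)) (.node (.node (.leaf 535070422) (.leaf 1038055019)) (.leaf 569337671)))) (.node (.node (.node (.node (.leaf 15302919) (.leaf 928459571)) (.leaf 1070364464)) (.node (.node (.leaf 454300671) (.leaf 988845385)) (.leaf 936742151))) (.node (.node (.node (.leaf 532033354) (.leaf 845712000)) (.leaf 946964884)) (.node (.node (.leaf 804859004) (.leaf 1063687309)) (.leaf 778514494))))) (.node (.node (.node (.node (.node (.leaf 47694689) (.leaf 334299987)) (.leaf 810773111)) (.node (.node (.leaf 418517798) (.leaf 975474188)) (.leaf 861056459))) (.node (.node (.node (.leaf 756343834) (.leaf 909585690)) (.leaf 183206353)) (.node (.node (.leaf 102695188) (.leaf 1042625004)) (.leaf 966330812)))) (.node (.node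 (.node (.node (.leaf 153438452) (.leaf 630213470)) (.leaf 327494521)) (.node (.node (.leaf 748629300) (.leaf 999641549)) (.leaf 971977358))) (.node (.node (.node (.leaf 49463435) (.leaf 693146006)) (.leaf 958441129)) (.node (.node (.leaf 656019213) (.leaf 1084247649)) (.leaf 562066317)))))) (.node (.node (.node (.node (.node (.node (.leaf 25362902) (.leaf 329007940)) (.leaf 837338308)) (.node (.node (.leaf 813957986) (.leaf 973263485)) (.leaf 913790041))) (.node (.node (.node (.leaf 641313664) (.leaf 937069493)) (.leaf 1090656174)) (.node (.node (.leaf 96928004) (.leaf 1032014370)) (.leaf 934775669)))) (.node (.node (.node (.node (.leaf 120424345) (.leaf 890374568)) (.leaf 935169726)) (.node (.node (.leaf 79266009) (.leaf 988483130)) (.leaf 751325111))) (.node (.node (.node (.leaf 930474036) (.leaf 851980530)) (.leaf 900973643)) (.node (.node (.leaf 569314823) (.leaf 1073893554)) (.leaf 818139713))))) (.node (.node (.node (.node (.node (.leaf 73565401) (.leaf 1039578740)) (.leaf 619531959)) (.node (.node (.leaf 562605951) (.leaf 503778204)) (.leaf 721097988)))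 (.node (.node (.node (.leaf 40026221) (.leaf 882045165)) (.leaf 189153761)) (.node (.node (.leaf 1009366465) (.leaf 1074427722)) (.leaf 584878172)))) (.node (.node (.node (.node (.leaf 179325534) (.leaf 940330616)) (.leaf 987649346)) (.node (.node (.leaf 813738465) (.leaf 1010372055)) (.leaf 815056045))) (.node (.node (.node (.leaf 724151286) (.leaf 1056937693)) (.leaf 926230257)) (.node (.node (.leaf 1050187444) (.leaf 1094486730)) (.leaf 705720902))))))) (.node (.node (.node (.node (.node (.node (.node (.leaf 14450937) (.leaf 908333628)) (.leaf 723757927)) (.node (.node (.leaf 875769948) (.leaf 833925091)) (.leaf 961506069))) (.node (.node (.node (.leaf 225332251) (.leaf 384173067)) (.leaf 175063483)) (.node (.node (.leaf 94093567) (.leaf 1026477799)) (.leaf 979285265)))) (.node (.node (.node (.node (.leaf 739378497) (.leaf 910537955)) (.leaf 590128714)) (.node (.node (.leaf 685648181) (.leaf 982955303)) (.leaf 794636921))) (.node (.node (.node (.leaf 46662466) (.leaf 906087112)) (.leaf 862012659)) (.node (.node (.leaf 1038095980) (.leaf 1068734247)) (.leaf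 297091829))))) (.node (.node (.node (.node (.node (.leaf 60113942) (.leaf 960564946)) (.leaf 525159266)) (.node (.node (.leaf 427676514) (.leaf 808282950)) (.leaf 795342012))) (.node (.node (.node (.leaf 579823647) (.leaf 940601115)) (.leaf 970600175)) (.node (.node (.leaf 1015305702) (.leaf 1047973597)) (.leaf 753135005)))) (.node (.node (.node (.node (.leaf 164809142) (.leaf 642435296)) (.leaf 695651674)) (.node (.node (.leaf 85098728) (.leaf 1082742653)) (.leaf 1011316172))) (.node (.node (.node (.leaf 356847972) (.leaf 1101576179)) (.leaf 1034737239)) (.node (.node (.leaf 959468490) (.leaf 1089623684)) (.leaf 902263657)))))) (.node (.node (.node (.node (.node (.node (.leaf 37782162) (.leaf 331465546)) (.leaf 585056953)) (.node (.node (.leaf 814509190) (.leaf 915714188)) (.leaf 850604467))) (.node (.node (.node (.leaf 246189333) (.leaf 922939339)) (.leaf 893627154)) (.node (.node (.leaf 99664140) (.leaf 1037390187)) (.leaf 807652815)))) (.node (.node (.node (.node (.leaf 136202310) (.leaf 934588263)) (.leaf 831115717)) (.node (.node (.leaf 866070057)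 (.leaf 1047000738)) (.leaf 934636861))) (.node (.node (.node (.leaf 803663870) (.leaf 945000212)) (.leaf 723822631)) (.node (.node (.leaf 916833066) (.leaf 1079137544)) (.leaf 934572391))))) (.node (.node (.node (.node (.node (.leaf 84690335) (.leaf 854265865)) (.leaf 1026364966)) (.node (.node (.leaf 834810628) (.leaf 513639855)) (.leaf 693342594))) (.node (.node (.node (.leaf 292982524) (.leaf 912766114)) (.leaf 890032143)) (.node (.node (.leaf 535415150) (.leaf 1058458241)) (.leaf 1026471463)))) (.node (.node (.node (.node (.leaf 191449840) (.leaf 863997417)) (.leaf 1033254478)) (.node (.node (.leaf 897762545) (.leaf 1015467302)) (.leaf 936102098))) (.node (.node (.node (.leaf 885097124) (.leaf 882225921)) (.leaf 949710497)) (.node (.node (.leaf 862508017) (.leaf 1099615191)) (.leaf 845679224)))))))) (.node (.node (.node (.node (.node (.node (.node (.node (.leaf 8257667) (.leaf 946907351)) (.leaf 699958487)) (.node (.node (.leaf 910831666) (.leaf 960508901)) (.leaf 224903718))) (.node (.node (.node (.leaf 261466042) (.leaf 381208333)) (.leaf 992695646))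 (.node (.node (.leaf 948081893) (.leaf 1023625174)) (.leaf 270632626)))) (.node (.node (.node (.node (.leaf 104007320) (.leaf 348701580)) (.leaf 964913711)) (.node (.node (.leaf 621833898) (.leaf 980272611)) (.leaf 713330348))) (.node (.node (.node (.leaf 563996366) (.leaf 416515198)) (.leaf 193282541)) (.node (.node (.leaf 112984368) (.leaf 1066194711)) (.leaf 894604002))))) (.node (.node (.node (.node (.node (.leaf 53642185) (.leaf 960784013)) (.leaf 194609525)) (.node (.node (.leaf 423924555) (.leaf 935857638)) (.leaf 234095171))) (.node (.node (.node (.leaf 266636776) (.leaf 872542139)) (.leaf 544883204)) (.node (.node (.leaf 590037338) (.leaf 1045288465)) (.leaf 889595625)))) (.node (.node (.node (.node (.leaf 159091046) (.leaf 940862769)) (.leaf 163119522)) (.node (.node (.leaf 503960777) (.leaf 1091008432)) (.leaf 615032753))) (.node (.node (.node (.leaf 890366377) (.leaf 913732099)) (.leaf 574047211)) (.node (.node (.leaf 900297493) (.leaf 1087042058)) (.leaf 864359560)))))) (.node (.node (.node (.node (.node (.node (.leaf 5439532) (.leaf 884068956))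 (.leaf 614518152)) (.node (.node (.leaf 404918965) (.leaf 685753821)) (.leaf 230050763))) (.node (.node (.node (.leaf 240864479) (.leaf 653264310)) (.leaf 633810991)) (.node (.node (.leaf 724102121) (.leaf 1034718119)) (.leaf 594331053)))) (.node (.node (.node (.node (.leaf 128468985) (.leaf 354845601)) (.leaf 158613909)) (.node (.node (.leaf 799327022) (.leaf 991400712)) (.leaf 1102845948))) (.node (.node (.node (.leaf 47333510) (.leaf 1098258398)) (.leaf 901288603)) (.node (.node (.leaf 116162875) (.leaf 1076582172)) (.leaf 535006419))))) (.node (.node (.node (.node (.node (.leaf 78513460) (.leaf 974516758)) (.leaf 952594455)) (.node (.node (.leaf 699983895) (.leaf 1046181533)) (.leaf 1061058295))) (.node (.node (.node (.leaf 587679150) (.leaf 409289829)) (.leaf 1029576249)) (.node (.node (.leaf 920548045) (.leaf 1055885313)) (.leaf 1050998457)))) (.node (.node (.node (.node (.leaf 586950863) (.leaf 372474843)) (.leaf 912393229)) (.node (.node (.leaf 892982041) (.leaf 1013189437)) (.leaf 1010398663))) (.node (.node (.node (.leaf 874277793) (.leaf 878563125))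 (.leaf 1099601895)) (.node (.node (.leaf 795454711) (.leaf 1097173763)) (.leaf 937493536))))))) (.node (.node (.node (.node (.node (.node (.node (.leaf 19628397) (.leaf 970910662)) (.leaf 812738334)) (.node (.node (.leaf 62849198) (.leaf 888899716)) (.leaf 903758797))) (.node (.node (.node (.leaf 547160532) (.leaf 1074075464)) (.leaf 920925312)) (.node (.node (.leaf 565552695) (.leaf 1069283114)) (.leaf 594381745)))) (.node (.node (.node (.node (.leaf 114870075) (.leaf 970296579)) (.leaf 157320628)) (.node (.node (.leaf 937046037) (.leaf 985777696)) (.leaf 759056185))) (.node (.node (.node (.leaf 45777024) (.leaf 1028175409)) (.leaf 880020232)) (.node (.node (.leaf 967512856) (.leaf 1071302914)) (.leaf 771401510))))) (.node (.node (.node (.node (.node (.leaf 66569320) (.leaf 805209424)) (.leaf 878151770)) (.node (.node (.leaf 340529346) (.leaf 703623823)) (.leaf 603439769))) (.node (.node (.node (.leaf 277679717) (.leaf 1030026812)) (.leaf 452539385)) (.node (.node (.leaf 1019926018) (.leaf 1050686975)) (.leaf 618965191)))) (.node (.node (.node (.node (.leaf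 828941803) (.leaf 369017809)) (.leaf 961808065)) (.node (.node (.leaf 325241922) (.leaf 1007453809)) (.leaf 689294995))) (.node (.node (.node (.leaf 899886696) (.leaf 851685615)) (.leaf 613598882)) (.node (.node (.leaf 196846131) (.leaf 1092210700)) (.leaf 751349063)))))) (.node (.node (.node (.node (.node (.node (.leaf 43713290) (.leaf 851733633)) (.leaf 952992188)) (.node (.node (.leaf 870608433) (.leaf 954126660)) (.leaf 1080096621))) (.node (.node (.node (.leaf 250907993) (.leaf 895512873)) (.leaf 810748039)) (.node (.node (.leaf 910495213) (.leaf 1039945318)) (.leaf 972433985)))) (.node (.node (.node (.node (.leaf 20037688) (.leaf 910993880)) (.leaf 160678298)) (.node (.node (.leaf 680078520) (.leaf 996791553)) (.leaf 710726274))) (.node (.node (.node (.leaf 531525464) (.leaf 960629000)) (.leaf 869222732)) (.node (.node (.leaf 646162509) (.leaf 1081723375)) (.leaf 306676499))))) (.node (.node (.node (.node (.node (.leaf 90375667) (.leaf 941337652)) (.leaf 944148104)) (.node (.node (.leaf 950682748) (.leaf 1095923663)) (.leaf 795461591))) (.node (.node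 (.node (.leaf 297684778) (.leaf 1009546690)) (.leaf 946415881)) (.node (.node (.leaf 955429116) (.leaf 1061080279)) (.leaf 942084674)))) (.node (.node (.node (.node (.leaf 260859781) (.leaf 922273469)) (.leaf 171247071)) (.node (.node (.leaf 986617149) (.leaf 1038693999)) (.leaf 614565810))) (.node (.node (.node (.leaf 534963191) (.leaf 973606762)) (.leaf 222495261)) (.node (.node (.leaf 967291456) (.leaf 1102212908)) (.leaf 1105008650))))))))) (.node (.node (.node (.node (.node (.node (.node (.node (.node (.leaf 5111892) (.leaf 890055399)) (.leaf 260867961)) (.node (.node (.leaf 385258028) (.leaf 829207112)) (.leaf 224346659))) (.node (.node (.node (.leaf 216484795) (.leaf 713648463)) (.leaf 1077303132)) (.node (.node (.leaf 901484992) (.leaf 1022216063)) (.leaf 1078277986)))) (.node (.node (.node (.node (.leaf 101205620) (.leaf 995104109)) (.leaf 154894731)) (.node (.node (.leaf 809887064) (.leaf 978962732)) (.leaf 748979050))) (.node (.node (.node (.leaf 305401705) (.leaf 919783921)) (.leaf 902988987)) (.node (.node (.leaf 908923145) (.leaf 1064799254))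 (.leaf 773795112))))) (.node (.node (.node (.node (.node (.leaf 51020709) (.leaf 335086422)) (.leaf 909300088)) (.node (.node (.leaf 653620021) (.leaf 928330974)) (.leaf 778949202))) (.node (.node (.node (.leaf 37487247) (.leaf 703550647)) (.leaf 184287699)) (.node (.node (.leaf 102990101) (.leaf 1044040248)) (.leaf 904217738)))) (.node (.node (.node (.node (.leaf 195815372) (.leaf 895887284)) (.leaf 973501318)) (.node (.node (.leaf 661123992) (.leaf 1004685866)) (.leaf 617153588))) (.node (.node (.node (.leaf 933130478) (.leaf 890196437)) (.leaf 942434011)) (.node (.node (.leaf 119914822) (.leaf 1085707986)) (.leaf 573157273)))))) (.node (.node (.node (.node (.node (.node (.leaf 27640333) (.leaf 1082570620)) (.leaf 1051326139)) (.node (.node (.leaf 403313320) (.leaf 994383209)) (.leaf 815091144))) (.node (.node (.node (.leaf 565487155) (.leaf 390480932)) (.leaf 177897923)) (.node (.node (.leaf 874352234) (.leaf 1033376972)) (.leaf 911398033)))) (.node (.node (.node (.node (.leaf 590292630) (.leaf 353371035)) (.leaf 713626127)) (.node (.node (.leaf 799359794)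 (.leaf 989909556)) (.leaf 941278936))) (.node (.node (.node (.leaf 784441536) (.leaf 770347544)) (.leaf 723530527)) (.node (.node (.leaf 115802426) (.leaf 1075252017)) (.leaf 531959411))))) (.node (.node (.node (.node (.node (.leaf 707798097) (.leaf 1091745716)) (.leaf 586924503)) (.node (.node (.leaf 544533392) (.leaf 506070428)) (.leaf 693455890))) (.node (.node (.node (.leaf 40370286) (.leaf 923325087)) (.leaf 860792874)) (.node (.node (.leaf 858974970) (.leaf 1054706313)) (.leaf 709674250)))) (.node (.node (.node (.node (.leaf 182733438) (.leaf 959557916)) (.leaf 1012086224)) (.node (.node (.leaf 599207320) (.leaf 1011896616)) (.leaf 807677543))) (.node (.node (.node (.leaf 735260792) (.leaf 839812478)) (.leaf 660958134)) (.node (.node (.leaf 951256276) (.leaf 1095898359)) (.leaf 651225919))))))) (.node (.node (.node (.node (.node (.node (.node (.leaf 16941358) (.leaf 633784919)) (.leaf 723782888)) (.node (.node (.leaf 801827296) (.leaf 937273796)) (.leaf 947620588))) (.node (.node (.node (.leaf 261647194) (.leaf 1009939909)) (.leaf 964921623)) (.node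 (.node (.leaf 577923974) (.leaf 1027740300)) (.leaf 922308472)))) (.node (.node (.node (.node (.leaf 112936726) (.leaf 1002575258)) (.leaf 156516752)) (.node (.node (.leaf 671429658) (.leaf 984356014)) (.leaf 247857771))) (.node (.node (.node (.leaf 318197737) (.leaf 735773862)) (.leaf 861761059)) (.node (.node (.leaf 616287618) (.leaf 1083275136)) (.leaf 298664699))))) (.node (.node (.node (.node (.node (.leaf 63472701) (.leaf 738439232)) (.leaf 542769745)) (.node (.node (.leaf 835695446) (.leaf 860759612)) (.leaf 753518248))) (.node (.node (.node (.leaf 275418705) (.leaf 404341844)) (.leaf 904113309)) (.node (.node (.leaf 593346870) (.leaf 1049310079)) (.leaf 1063393029)))) (.node (.node (.node (.node (.leaf 169609704) (.leaf 956116272)) (.leaf 164430246)) (.node (.node (.leaf 513627367) (.leaf 1006193499)) (.leaf 925175474))) (.node (.node (.node (.leaf 931768333) (.leaf 919604176)) (.leaf 683000839)) (.node (.node (.leaf 194888070) (.leaf 1090900337)) (.leaf 327518310)))))) (.node (.node (.node (.node (.node (.node (.leaf 40895192) (.leaf 803689057))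 (.leaf 928157561)) (.node (.node (.leaf 66977976) (.leaf 1098938338)) (.leaf 1032197704))) (.node (.node (.node (.leaf 752019088) (.leaf 1104345093)) (.leaf 973460685)) (.node (.node (.leaf 100581645) (.leaf 1038669303)) (.leaf 810863499)))) (.node (.node (.node (.node (.leaf 621315346) (.leaf 732464416)) (.leaf 159564185)) (.node (.node (.leaf 489313438) (.leaf 995412093)) (.leaf 645581003))) (.node (.node (.node (.leaf 341512398) (.leaf 896357599)) (.leaf 1012250065)) (.node (.node (.leaf 117883201) (.leaf 1080398444)) (.leaf 907989806))))) (.node (.node (.node (.node (.node (.leaf 710476435) (.leaf 851792823)) (.leaf 796017528)) (.node (.node (.leaf 447763414) (.leaf 947950820)) (.leaf 961106070))) (.node (.node (.node (.leaf 295423762) (.leaf 1089968041)) (.leaf 865250594)) (.node (.node (.leaf 871452906) (.leaf 1059785022)) (.leaf 970582695)))) (.node (.node (.node (.node (.leaf 198445860) (.leaf 972238669)) (.leaf 1081718647)) (.node (.node (.leaf 90030325) (.leaf 1093883842)) (.leaf 759147386))) (.node (.node (.node (.leaf 620725524) (.leaf 978046202))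 (.leaf 896453410)) (.node (.node (.leaf 791516261) (.leaf 1100895386)) (.leaf 961169267)))))))) (.node (.node (.node (.node (.node (.node (.node (.node (.leaf 11894979) (.leaf 940608913)) (.leaf 579797671)) (.node (.node (.leaf 60719272) (.leaf 687622080)) (.leaf 928843362))) (.node (.node (.node (.leaf 28409937) (.leaf 382305284)) (.leaf 767274626)) (.node (.node (.leaf 564547474) (.leaf 1024935647)) (.leaf 946615256)))) (.node (.node (.node (.node (.leaf 106776260) (.leaf 1050818232)) (.leaf 327657759)) (.node (.node (.leaf 77807829) (.leaf 981517796)) (.leaf 929336091))) (.node (.node (.node (.leaf 312020905) (.leaf 723610447)) (.leaf 261704578)) (.node (.node (.leaf 113508659) (.leaf 1067610851)) (.leaf 576358286))))) (.node (.node (.node (.node (.node (.leaf 57279473) (.leaf 881731649)) (.leaf 879986426)) (.node (.node (.leaf 736292427) (.leaf 961122811)) (.leaf 852857365))) (.node (.node (.node (.leaf 270011918) (.leaf 923366095)) (.leaf 1093900227)) (.node (.node (.leaf 882848844) (.leaf 1046529904)) (.leaf 924002765)))) (.node (.node (.node (.node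 (.leaf 161941896) (.leaf 787287377)) (.leaf 310914978)) (.node (.node (.leaf 84705511) (.leaf 1003467745)) (.leaf 616188511))) (.node (.node (.node (.leaf 685582684) (.leaf 701772275)) (.leaf 724004001)) (.node (.node (.leaf 195756430) (.leaf 1088260890)) (.leaf 568707332)))))) (.node (.node (.node (.node (.node (.node (.leaf 6176863) (.leaf 845665317)) (.leaf 897594600)) (.node (.node (.leaf 601976852) (.leaf 897610498)) (.leaf 933923144))) (.node (.node (.node (.leaf 34422873) (.leaf 672027697)) (.leaf 721046943)) (.node (.node (.leaf 946891107) (.leaf 1036137284)) (.leaf 693863110)))) (.node (.node (.node (.node (.leaf 132679713) (.leaf 1041774210)) (.leaf 158908822)) (.node (.node (.leaf 917431326) (.leaf 992776824)) (.leaf 871740067))) (.node (.node (.node (.leaf 337612969) (.leaf 951740920)) (.leaf 965447108)) (.node (.node (.leaf 594462957) (.leaf 1077719571)) (.leaf 726205587))))) (.node (.node (.node (.node (.node (.leaf 81724786) (.leaf 996300148)) (.leaf 263539610)) (.node (.node (.leaf 74432714) (.leaf 896349039)) (.leaf 240878167))) (.node (.node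 (.node (.leaf 585001830) (.leaf 977120309)) (.leaf 898255659)) (.node (.node (.leaf 1024923167) (.leaf 1057081358)) (.leaf 700105944)))) (.node (.node (.node (.node (.leaf 188828356) (.leaf 946866529)) (.leaf 642028768)) (.node (.node (.leaf 171239927) (.leaf 1018664442)) (.leaf 634694621))) (.node (.node (.node (.leaf 820735414) (.leaf 878521064)) (.leaf 263072616)) (.node (.node (.leaf 616252031) (.leaf 1098419635)) (.leaf 805278755))))))) (.node (.node (.node (.node (.node (.node (.node (.leaf 22495660) (.leaf 834159854)) (.leaf 262129636)) (.node (.node (.leaf 937455526) (.leaf 935612330)) (.leaf 1025242656))) (.node (.node (.node (.leaf 233065610) (.leaf 818086941)) (.leaf 1007703480)) (.node (.node (.leaf 951650036) (.leaf 1030589188)) (.leaf 878798300)))) (.node (.node (.node (.node (.leaf 117360491) (.leaf 977446755)) (.leaf 802295021)) (.node (.node (.leaf 474223702) (.leaf 987007590)) (.leaf 924715440))) (.node (.node (.node (.leaf 321179667) (.leaf 833737608)) (.leaf 651186127)) (.node (.node (.leaf 586662893) (.leaf 1072531731)) (.leaf 915034506)))))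 (.node (.node (.node (.node (.node (.leaf 69731488) (.leaf 339723113)) (.leaf 147980669)) (.node (.node (.leaf 907243576) (.leaf 888933878)) (.leaf 573450421))) (.node (.node (.node (.leaf 697221668) (.leaf 519967072)) (.leaf 874384064)) (.node (.node (.leaf 1021138441) (.leaf 1051887551)) (.leaf 881684884)))) (.node (.node (.node (.node (.leaf 23593027) (.leaf 757287908)) (.leaf 807767650)) (.node (.node (.leaf 924494390) (.leaf 1008995711)) (.leaf 928394372))) (.node (.node (.node (.leaf 787443030) (.leaf 990672211)) (.leaf 900531323)) (.node (.node (.leaf 1051875007) (.leaf 1093342676)) (.leaf 323244075)))))) (.node (.node (.node (.node (.node (.node (.leaf 45646645) (.leaf 791102341)) (.leaf 968626075)) (.node (.node (.leaf 547217969) (.leaf 921078332)) (.leaf 975251835))) (.node (.node (.node (.leaf 616277983) (.leaf 940020216)) (.leaf 843404382)) (.node (.node (.leaf 744129228) (.leaf 1041208633)) (.leaf 280773312)))) (.node (.node (.node (.node (.leaf 587260595) (.leaf 1053849290)) (.leaf 993416547)) (.node (.node (.leaf 727017205) (.leaf 1035155034))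 (.leaf 1009014207))) (.node (.node (.node (.leaf 345772276) (.leaf 1049376431)) (.leaf 261721129)) (.node (.node (.leaf 1022236175) (.leaf 1083004799)) (.leaf 562578631))))) (.node (.node (.node (.node (.node (.leaf 94078503) (.leaf 1085888400)) (.leaf 1027651118)) (.node (.node (.leaf 885399978) (.leaf 959960319)) (.leaf 244712033))) (.node (.node (.node (.leaf 603923096) (.leaf 414282495)) (.leaf 994940268)) (.node (.node (.leaf 111706410) (.leaf 1062407148)) (.leaf 922420562)))) (.node (.node (.node (.node (.leaf 589735569) (.leaf 378078195)) (.leaf 171786677)) (.node (.node (.leaf 788415243) (.leaf 1050695351)) (.leaf 940262859))) (.node (.node (.node (.leaf 682388348) (.leaf 454313223)) (.leaf 947655941)) (.node (.node (.leaf 738313091) (.leaf 1103302350)) (.leaf 989812046)))))))))))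

noncomputable def edgeA15 : Arr ℕ :=
  (.node (.node (.node (.node (.node (.node (.node (.node (.node (.node (.node (.leaf 1409041) (.leaf 768723435)) (.node (.leaf 881512570) (.leaf 1104049740))) (.node (.node (.leaf 925757127) (.leaf 955470380)) (.leaf 669681311))) (.node (.node (.node (.leaf 624339597) (.leaf 962921764)) (.leaf 825258470)) (.node (.node (.leaf 894235686) (.leaf 1020234988)) (.leaf 268395164)))) (.node (.node (.node (.node (.leaf 96273985) (.leaf 347562887)) (.leaf 906561942)) (.node (.node (.leaf 76571338) (.leaf 1042077316)) (.leaf 245164485))) (.node (.node (.node (.leaf 300658493) (.leaf 1002853788)) (.leaf 192324073)) (.node (.node (.leaf 849277589) (.leaf 1062916461)) (.leaf 741902010))))) (.node (.node (.node (.node (.node (.leaf 46678851) (.leaf 1007318453)) (.leaf 786884195)) (.node (.node (.leaf 647456887) (.leaf 772469294)) (.leaf 891744140))) (.node (.node (.node (.leaf 667813111) (.leaf 771165720)) (.leaf 875465308)) (.node (.node (.leaf 102465811) (.leaf 1041828417)) (.leaf 904038613)))) (.node (.node (.node (.node (.leaf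 20521017) (.leaf 724364703)) (.leaf 998880643)) (.node (.node (.leaf 312004520) (.leaf 998992868)) (.leaf 254937509))) (.node (.node (.node (.leaf 346460410) (.leaf 433775808)) (.leaf 626459860)) (.node (.node (.leaf 118890820) (.leaf 1083723198)) (.leaf 569936052)))))) (.node (.node (.node (.node (.node (.node (.leaf 22962612) (.leaf 627305098)) (.leaf 203451214)) (.node (.node (.leaf 63996509) (.leaf 617907775)) (.leaf 847106990))) (.node (.node (.node (.leaf 68535437) (.leaf 1053038277)) (.leaf 675992240)) (.node (.node (.leaf 534529054) (.leaf 1031178277)) (.leaf 945276473)))) (.node (.node (.node (.node (.leaf 118392700) (.leaf 735889725)) (.leaf 750759230)) (.node (.node (.leaf 610837201) (.leaf 1026881066)) (.leaf 248996463))) (.node (.node (.node (.leaf 119743002) (.leaf 1072174908)) (.leaf 202383861)) (.node (.node (.leaf 553979785) (.leaf 1073124369)) (.leaf 571066161))))) (.node (.node (.node (.node (.node (.leaf 740057921) (.leaf 731678000)) (.leaf 148873723)) (.node (.node (.leaf 884912820) (.leaf 501427003)) (.leaf 564807887))) (.node (.node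 (.node (.leaf 62366770) (.leaf 716723371)) (.leaf 787613082)) (.node (.node (.leaf 256650623) (.leaf 1052725252)) (.leaf 730837290)))) (.node (.node (.node (.node (.leaf 69543068) (.leaf 828149578)) (.leaf 603998497)) (.node (.node (.leaf 87212620) (.leaf 1009716385)) (.leaf 259793551))) (.node (.node (.node (.leaf 53387414) (.leaf 834358730)) (.leaf 217467294)) (.node (.node (.leaf 123576653) (.leaf 1094014911)) (.leaf 617090448))))))) (.node (.node (.node (.node (.node (.node (.node (.leaf 13041887) (.leaf 322538439)) (.leaf 143933999)) (.node (.node (.leaf 387166777) (.leaf 1011447245)) (.leaf 768282417))) (.node (.node (.node (.leaf 223472645) (.leaf 799600647)) (.leaf 945743669)) (.node (.node (.leaf 93619217) (.leaf 1096415186)) (.leaf 271516324)))) (.node (.node (.node (.node (.leaf 108709591) (.leaf 762161478)) (.leaf 761884982)) (.node (.node (.leaf 649143542) (.leaf 982207590)) (.leaf 958221275))) (.node (.node (.node (.leaf 313724859) (.leaf 418104866)) (.leaf 194439318)) (.node (.node (.leaf 712561712) (.leaf 1068175202)) (.leaf 296805108)))))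 (.node (.node (.node (.node (.node (.leaf 57615349) (.leaf 336896860)) (.leaf 951505311)) (.node (.node (.leaf 76768519) (.leaf 890770221)) (.leaf 235014515))) (.node (.node (.node (.leaf 38477929) (.leaf 864618298)) (.leaf 780488134)) (.node (.node (.leaf 753896823) (.leaf 1047138852)) (.leaf 285057741)))) (.node (.node (.node (.node (.leaf 163318170) (.leaf 825264238)) (.leaf 384856618)) (.node (.node (.leaf 572829544) (.leaf 1004097045)) (.leaf 619762896))) (.node (.node (.node (.leaf 173394427) (.leaf 439035093)) (.leaf 1015404006)) (.node (.node (.leaf 206875505) (.leaf 1089714087)) (.leaf 660990301)))))) (.node (.node (.node (.node (.node (.node (.leaf 5980222) (.leaf 842043564)) (.leaf 506694430)) (.node (.node (.leaf 408834768) (.leaf 958706933)) (.leaf 850776366))) (.node (.node (.node (.leaf 34586716) (.leaf 976120662)) (.leaf 834941615)) (.node (.node (.leaf 786859847) (.leaf 1036760436)) (.leaf 953903888)))) (.node (.node (.node (.node (.leaf 135071794) (.leaf 770592352)) (.leaf 691211885)) (.node (.node (.leaf 674785715) (.leaf 993471491)) (.leaf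 252578675))) (.node (.node (.node (.leaf 47751303) (.leaf 1100748782)) (.leaf 599950493)) (.node (.node (.leaf 977457904) (.leaf 1078317098)) (.leaf 305062939))))) (.node (.node (.node (.node (.node (.leaf 82756997) (.leaf 344542542)) (.leaf 151560579)) (.node (.node (.leaf 443438007) (.leaf 968419457)) (.leaf 746751668))) (.node (.node (.node (.leaf 583427552) (.leaf 829719851)) (.leaf 1037317735)) (.node (.node (.leaf 109839016) (.leaf 1057909276)) (.leaf 711542081)))) (.node (.node (.node (.node (.leaf 182823551) (.leaf 373294204)) (.leaf 169353794)) (.node (.node (.leaf 89563520) (.leaf 1105106954)) (.leaf 603950645))) (.node (.node (.node (.leaf 55484572) (.leaf 771101315)) (.leaf 600704010)) (.node (.node (.leaf 126050827) (.leaf 1099092762)) (.leaf 721652422)))))))) (.node (.node (.node (.node (.node (.node (.node (.node (.leaf 5808225) (.leaf 1047361188)) (.leaf 930771835)) (.node (.node (.leaf 185658012) (.leaf 651661258)) (.leaf 645240068))) (.node (.node (.node (.leaf 218647503) (.leaf 896675046)) (.leaf 173253048)) (.node (.node (.leaf 92258580)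 (.leaf 1022931049)) (.leaf 1070380848)))) (.node (.node (.node (.node (.leaf 101885566) (.leaf 871320686)) (.leaf 322416673)) (.node (.node (.leaf 621718496) (.leaf 1014486496)) (.leaf 866716386))) (.node (.node (.node (.leaf 97936979) (.leaf 1068087074)) (.leaf 1097381849)) (.node (.node (.leaf 555599841) (.leaf 1065404553)) (.leaf 714999116))))) (.node (.node (.node (.node (.node (.leaf 51258280) (.leaf 335651671)) (.leaf 979629331)) (.node (.node (.leaf 660333104) (.leaf 761475241)) (.leaf 1089320869))) (.node (.node (.node (.leaf 37896296) (.leaf 817163597)) (.leaf 999437702)) (.node (.node (.leaf 103368261) (.leaf 1044812710)) (.leaf 604787340)))) (.node (.node (.node (.node (.leaf 158042437) (.leaf 682460159)) (.leaf 1080760177)) (.node (.node (.leaf 497005753) (.leaf 1001393297)) (.leaf 636815682))) (.node (.node (.node (.leaf 734932409) (.leaf 1073624902)) (.leaf 1019663872)) (.node (.node (.leaf 120079148) (.leaf 1086280700)) (.leaf 954469111)))))) (.node (.node (.node (.node (.node (.node (.leaf 29393459) (.leaf 883541711)) (.leaf 866904784)) (.node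 (.node (.leaf 926951709) (.leaf 1087027095)) (.leaf 559550454))) (.node (.node (.node (.leaf 239045842) (.leaf 1046099612)) (.leaf 732037945)) (.node (.node (.leaf 98181892) (.leaf 1105238027)) (.leaf 275571375)))) (.node (.node (.node (.node (.leaf 18374708) (.leaf 809415678)) (.leaf 754593153)) (.node (.node (.leaf 636579851) (.leaf 1077704543)) (.leaf 250234938))) (.node (.node (.node (.leaf 334319752) (.leaf 699511381)) (.leaf 549742409)) (.node (.node (.leaf 904441553) (.leaf 1075957617)) (.leaf 1003861409))))) (.node (.node (.node (.node (.node (.leaf 777314556) (.leaf 1094334405)) (.leaf 325775410)) (.node (.node (.leaf 875966619) (.leaf 1015150053)) (.leaf 931589620))) (.node (.node (.node (.leaf 286404273) (.leaf 817811273)) (.leaf 866201126)) (.node (.node (.leaf 268676613) (.leaf 1055231734)) (.leaf 905472568)))) (.node (.node (.node (.node (.leaf 184306320) (.leaf 868484366)) (.leaf 885310689)) (.node (.node (.leaf 645130332) (.leaf 1087633307)) (.leaf 580691613))) (.node (.node (.node (.leaf 369512888) (.leaf 946538331)) (.leaf 742368444)) (.node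 (.node (.leaf 558953260) (.leaf 1096568004)) (.leaf 758402358))))))) (.node (.node (.node (.node (.node (.node (.node (.leaf 3424266) (.leaf 766340398)) (.leaf 135160163)) (.node (.node (.leaf 741107328) (.leaf 1021679116)) (.leaf 611812635))) (.node (.node (.node (.leaf 229067854) (.leaf 822235609)) (.leaf 904972057)) (.node (.node (.leaf 584281800) (.leaf 1028534133)) (.leaf 273499657)))) (.node (.node (.node (.node (.leaf 105588398) (.leaf 763324402)) (.leaf 597085610)) (.node (.node (.leaf 652674333) (.leaf 985139001)) (.leaf 748459039))) (.node (.node (.node (.leaf 320000003) (.leaf 420286068)) (.leaf 250113361)) (.node (.node (.leaf 563589021) (.leaf 1076090708)) (.leaf 797266487))))) (.node (.node (.node (.node (.node (.leaf 64455753) (.leaf 715311704)) (.leaf 1068472102)) (.node (.node (.leaf 71254878) (.leaf 493479294)) (.leaf 816858231))) (.node (.node (.node (.leaf 601769369) (.leaf 818729856)) (.leaf 1040529019)) (.node (.node (.leaf 1018271225) (.leaf 1049922905)) (.leaf 706577722)))) (.node (.node (.node (.node (.leaf 171280888) (.leaf 367251055))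 (.leaf 812291328)) (.node (.node (.leaf 963605548) (.leaf 1006817150)) (.leaf 818955575))) (.node (.node (.node (.leaf 656779565) (.leaf 832196594)) (.leaf 544051461)) (.node (.node (.leaf 668192319) (.leaf 1091489338)) (.leaf 1080325999)))))) (.node (.node (.node (.node (.node (.node (.leaf 35480179) (.leaf 791193305)) (.leaf 787638979)) (.node (.node (.leaf 413111026) (.leaf 913500156)) (.leaf 1095768014))) (.node (.node (.node (.leaf 90121712) (.leaf 1037694569)) (.leaf 756909087)) (.node (.node (.leaf 816665543) (.leaf 1039279927)) (.leaf 279514261)))) (.node (.node (.node (.node (.leaf 144181389) (.leaf 871926485)) (.leaf 160039495)) (.node (.node (.leaf 304680800) (.leaf 996068620)) (.leaf 936266519))) (.node (.node (.node (.leaf 590571680) (.leaf 888508371)) (.leaf 207045234)) (.node (.node (.leaf 789515707) (.leaf 1080971468)) (.leaf 585297645))))) (.node (.node (.node (.node (.node (.leaf 89589220) (.leaf 881095389)) (.leaf 583544437)) (.node (.node (.leaf 622141979) (.leaf 517367230)) (.leaf 888894330))) (.node (.node (.node (.leaf 296488732) (.leaf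 981439774)) (.leaf 356036962)) (.node (.node (.leaf 762925949) (.leaf 1060358790)) (.leaf 711591618)))) (.node (.node (.node (.node (.leaf 555624211) (.leaf 1087936413)) (.leaf 198961961)) (.node (.node (.leaf 985486646) (.leaf 1017374384)) (.leaf 706753650))) (.node (.node (.node (.leaf 57393849) (.leaf 990303569)) (.leaf 625816653)) (.node (.node (.leaf 684327939) (.leaf 1101452586)) (.leaf 942689278))))))))) (.node (.node (.node (.node (.node (.node (.node (.node (.node (.leaf 3719229) (.leaf 320629789)) (.node (.leaf 591154673) (.leaf 1105253352))) (.node (.node (.leaf 59343813) (.leaf 843584015)) (.leaf 223871523))) (.node (.node (.node (.leaf 206793584) (.leaf 1083709315)) (.leaf 903472952)) (.node (.node (.leaf 991827290) (.leaf 1021562054)) (.leaf 269436435)))) (.node (.node (.node (.node (.leaf 826729587) (.leaf 938723397)) (.leaf 1047721638)) (.node (.node (.leaf 780266951) (.leaf 978101718)) (.leaf 834473419))) (.node (.node (.node (.leaf 43753591) (.leaf 415507576)) (.leaf 850513015)) (.node (.node (.leaf 1017558516) (.leaf 1064277674)) (.leaf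 892498413))))) (.node (.node (.node (.node (.node (.leaf 49513352) (.leaf 1029453369)) (.leaf 838136282)) (.node (.node (.leaf 755446105) (.leaf 711348817)) (.leaf 892219852))) (.node (.node (.node (.leaf 258583991) (.leaf 400344507)) (.leaf 183894705)) (.node (.node (.leaf 758141440) (.leaf 1043244886)) (.leaf 282504612)))) (.node (.node (.node (.node (.leaf 145615003) (.leaf 658412570)) (.leaf 554395460)) (.node (.node (.leaf 863499197) (.leaf 1000277667)) (.leaf 1091860405))) (.node (.node (.node (.leaf 347926794) (.leaf 1027520045)) (.leaf 1080850290)) (.node (.node (.leaf 119588239) (.leaf 1084904097)) (.leaf 825938404)))))) (.node (.node (.node (.node (.node (.node (.leaf 26231276) (.leaf 922814755)) (.leaf 995161454)) (.node (.node (.leaf 401715863) (.leaf 752520415)) (.leaf 228707229))) (.node (.node (.node (.leaf 109373151) (.leaf 390317720)) (.leaf 677220974)) (.node (.node (.leaf 850317838) (.leaf 1032721428)) (.leaf 275161773)))) (.node (.node (.node (.node (.leaf 122439604) (.leaf 770725044)) (.leaf 1076631384)) (.node (.node (.leaf 610954753)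 (.leaf 989071537)) (.leaf 249613172))) (.node (.node (.node (.leaf 331862124) (.leaf 790546022)) (.leaf 263220093)) (.node (.node (.leaf 115466553) (.leaf 1074498147)) (.leaf 836938864))))) (.node (.node (.node (.node (.node (.leaf 74745060) (.leaf 758010929)) (.leaf 149791103)) (.node (.node (.leaf 74917093) (.leaf 994473322)) (.leaf 839012316))) (.node (.node (.node (.leaf 283815573) (.leaf 1034663511)) (.leaf 806768765)) (.node (.node (.leaf 885647832) (.leaf 1054004915)) (.leaf 970567407)))) (.node (.node (.node (.node (.leaf 180816491) (.leaf 868297970)) (.leaf 1056151256)) (.node (.node (.leaf 88359151) (.leaf 1011058371)) (.leaf 834636979))) (.node (.node (.node (.leaf 72164543) (.leaf 847868571)) (.leaf 585674411)) (.node (.node (.leaf 123969870) (.leaf 1095266411)) (.leaf 315870230))))))) (.node (.node (.node (.node (.node (.node (.node (.leaf 15499532) (.leaf 588934635)) (.leaf 134406497)) (.node (.node (.leaf 627369873) (.leaf 963719368)) (.leaf 761671842))) (.node (.node (.node (.leaf 28909650) (.leaf 782371511)) (.leaf 296234775)) (.node (.node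 (.leaf 335818901) (.leaf 1027166559)) (.leaf 901877442)))) (.node (.node (.node (.node (.leaf 64889936) (.leaf 730747706)) (.leaf 767871543)) (.node (.node (.leaf 829794794) (.leaf 1095071690)) (.leaf 766152778))) (.node (.node (.node (.leaf 730623231) (.leaf 605169950)) (.leaf 199207052)) (.node (.node (.leaf 576899236) (.leaf 1069344956)) (.leaf 788041729))))) (.node (.node (.node (.node (.node (.leaf 60433433) (.leaf 804358524)) (.leaf 1067513631)) (.node (.node (.leaf 901935967) (.leaf 1075820371)) (.leaf 758379511))) (.node (.node (.node (.leaf 634383259) (.leaf 966169074)) (.leaf 320155653)) (.node (.node (.leaf 603941157) (.leaf 1048562896)) (.leaf 286008015)))) (.node (.node (.node (.node (.leaf 167840212) (.leaf 847497920)) (.leaf 904867243)) (.node (.node (.leaf 511751393) (.leaf 1005458653)) (.leaf 259362240))) (.node (.node (.node (.leaf 529662519) (.leaf 911599999)) (.leaf 556287825)) (.node (.node (.leaf 823755239) (.leaf 1090344287)) (.leaf 312437126)))))) (.node (.node (.node (.node (.node (.node (.leaf 39240374) (.leaf 999167364)) (.leaf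 1060632309)) (.node (.node (.leaf 410661599) (.leaf 636193673)) (.leaf 527992209))) (.node (.node (.node (.leaf 247876912) (.leaf 996373877)) (.leaf 876540042)) (.node (.node (.leaf 1006843315) (.leaf 1038077693)) (.leaf 278397948)))) (.node (.node (.node (.node (.leaf 139987039) (.leaf 1045255830)) (.leaf 875089824)) (.node (.node (.leaf 80699613) (.leaf 994757305)) (.leaf 873513819))) (.node (.node (.node (.leaf 340611267) (.leaf 962381095)) (.leaf 528254882)) (.node (.node (.leaf 886047591) (.leaf 1079659213)) (.leaf 711323502))))) (.node (.node (.node (.node (.node (.leaf 86164922) (.leaf 828500017)) (.leaf 930039138)) (.node (.node (.leaf 778661901) (.leaf 515646903)) (.leaf 298643246))) (.node (.node (.node (.leaf 103851670) (.leaf 861458319)) (.leaf 834898867)) (.node (.node (.leaf 742076164) (.leaf 1059165656)) (.leaf 930359527)))) (.node (.node (.node (.node (.leaf 193039121) (.leaf 872548740)) (.leaf 1052604099)) (.node (.node (.leaf 948761369) (.leaf 1016088252)) (.leaf 967879797))) (.node (.node (.node (.leaf 56418462) (.leaf 648441765)) (.leaf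 927591085)) (.node (.node (.leaf 985691447) (.leaf 1100255407)) (.leaf 790529748)))))))) (.node (.node (.node (.node (.node (.node (.node (.node (.leaf 10092703) (.leaf 893775053)) (.leaf 132112734)) (.node (.node (.leaf 60507107) (.leaf 649464776)) (.leaf 1041610369))) (.node (.node (.node (.leaf 221613038) (.leaf 925894897)) (.leaf 173990329)) (.node (.node (.leaf 807823807) (.leaf 1024405966)) (.leaf 1031091778)))) (.node (.node (.node (.node (.leaf 51774332) (.leaf 735579663)) (.leaf 927466914)) (.node (.node (.leaf 462312481) (.leaf 980914890)) (.leaf 1061353209))) (.node (.node (.node (.leaf 309956503) (.leaf 827123424)) (.leaf 257813935)) (.node (.node (.leaf 113156401) (.leaf 1066765787)) (.leaf 796283266))))) (.node (.node (.node (.node (.node (.leaf 54092749) (.leaf 887853953)) (.leaf 145621506)) (.node (.node (.leaf 76014844) (.leaf 883667020)) (.leaf 1016444397))) (.node (.node (.node (.leaf 909094026) (.leaf 892701917)) (.leaf 872879352)) (.node (.node (.leaf 1014093278) (.leaf 1045976565)) (.leaf 744424724)))) (.node (.node (.node (.node (.leaf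 53584840) (.leaf 363561919)) (.leaf 163406243)) (.node (.node (.leaf 171371001) (.leaf 1002736653)) (.leaf 256451204))) (.node (.node (.node (.leaf 234728608) (.leaf 854526305)) (.leaf 635523876)) (.node (.node (.leaf 1050080948) (.leaf 1087564307)) (.leaf 559884245)))))) (.node (.node (.node (.node (.node (.node (.leaf 34153047) (.leaf 1101592563)) (.leaf 139649386)) (.node (.node (.leaf 185739933) (.leaf 702026722)) (.leaf 540623640))) (.node (.node (.node (.leaf 242437357) (.leaf 696356813)) (.leaf 276401751)) (.node (.node (.leaf 98828554) (.leaf 1035260929)) (.leaf 276832959)))) (.node (.node (.node (.node (.leaf 130648073) (.leaf 606669156)) (.leaf 750305901)) (.node (.node (.leaf 730444033) (.leaf 992069134)) (.leaf 251455393))) (.node (.node (.node (.leaf 873507505) (.leaf 933366547)) (.leaf 735413141)) (.node (.node (.leaf 919097359) (.leaf 1077168751)) (.leaf 884831110))))) (.node (.node (.node (.node (.node (.leaf 80233819) (.leaf 814531688)) (.leaf 263818358)) (.node (.node (.leaf 74096840) (.leaf 1067005724)) (.leaf 240273874))) (.node (.node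 (.node (.leaf 566209587) (.leaf 814433480)) (.leaf 872214780)) (.node (.node (.leaf 942444623) (.leaf 1056631369)) (.leaf 761803058)))) (.node (.node (.node (.node (.leaf 33227035) (.leaf 892456809)) (.leaf 885917464)) (.node (.node (.leaf 200256308) (.leaf 1013699977)) (.leaf 1016673774))) (.node (.node (.node (.leaf 820916314) (.leaf 959736548)) (.leaf 958253108)) (.node (.node (.leaf 1053349576) (.leaf 1097700434)) (.leaf 317326357))))))) (.node (.node (.node (.node (.node (.node (.node (.leaf 21250452) (.leaf 330074423)) (.leaf 217197504)) (.node (.node (.leaf 933168002) (.leaf 865816346)) (.leaf 967167548))) (.node (.node (.node (.leaf 232082547) (.leaf 1104861192)) (.leaf 855347890)) (.node (.node (.leaf 95658242) (.leaf 1029834726)) (.leaf 924324914)))) (.node (.node (.node (.node (.leaf 116197208) (.leaf 868307403)) (.leaf 750005562)) (.node (.node (.leaf 473388115) (.leaf 986310133)) (.leaf 750244169))) (.node (.node (.node (.leaf 46112897) (.leaf 625717158)) (.leaf 681473018)) (.node (.node (.leaf 649717775) (.leaf 1072043584)) (.leaf 608716091)))))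 (.node (.node (.node (.node (.node (.leaf 58131304) (.leaf 839037964)) (.leaf 864439752)) (.node (.node (.leaf 744399459) (.leaf 497583495)) (.leaf 237306447))) (.node (.node (.node (.leaf 274607680) (.leaf 406070362)) (.leaf 821596488)) (.node (.node (.leaf 106324964) (.leaf 1051232182)) (.leaf 861483755)))) (.node (.node (.node (.node (.leaf 23412811) (.leaf 369945935)) (.leaf 606587179)) (.node (.node (.leaf 776668425) (.leaf 1008342040)) (.leaf 575915524))) (.node (.node (.node (.leaf 733851938) (.leaf 576704391)) (.leaf 1065105169)) (.node (.node (.leaf 209529732) (.leaf 1092752241)) (.leaf 313946045)))))) (.node (.node (.node (.node (.node (.node (.leaf 44876575) (.leaf 1059845871)) (.leaf 827100295)) (.node (.node (.leaf 415806224) (.leaf 719885484)) (.leaf 867781940))) (.node (.node (.node (.leaf 252243297) (.leaf 1057355488)) (.leaf 1065342738)) (.node (.node (.leaf 295406924) (.leaf 1040501637)) (.leaf 280446160)))) (.node (.node (.node (.node (.leaf 146565292) (.leaf 713395872)) (.leaf 161202589)) (.node (.node (.leaf 677613785) (.leaf 997320240))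 (.leaf 1069954862))) (.node (.node (.node (.leaf 344215776) (.leaf 1071855418)) (.leaf 689058705)) (.node (.node (.leaf 737838252) (.leaf 1082313670)) (.leaf 540870755))))) (.node (.node (.node (.node (.node (.leaf 833267182) (.leaf 346514307)) (.leaf 153985416)) (.node (.node (.leaf 75695191) (.leaf 843909762)) (.leaf 725083982))) (.node (.node (.node (.leaf 182684285) (.leaf 926413308)) (.leaf 891701184)) (.node (.node (.leaf 873943757) (.leaf 1070970676)) (.leaf 972629520)))) (.node (.node (.node (.node (.leaf 148924375) (.leaf 914294566)) (.leaf 1016157675)) (.node (.node (.leaf 793045548) (.leaf 1018728488)) (.leaf 711856662))) (.node (.node (.node (.leaf 57958560) (.leaf 453158146)) (.leaf 1036424801)) (.node (.node (.leaf 586105574) (.leaf 1102829404)) (.leaf 1100363756)))))))))) (.node (.node (.node (.node (.node (.node (.node (.node (.node (.node (.leaf 2621478) (.leaf 799575056)) (.node (.leaf 765700930) (.leaf 1104522878))) (.node (.node (.leaf 683041509) (.leaf 849094350)) (.leaf 623121080))) (.node (.node (.node (.leaf 527477247) (.leaf 828527041))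 (.leaf 1065449235)) (.node (.node (.leaf 575654114) (.leaf 1020858439)) (.leaf 268771997)))) (.node (.node (.node (.node (.leaf 97338957) (.leaf 425611244)) (.leaf 154509706)) (.node (.node (.leaf 76734674) (.leaf 766774595)) (.leaf 745097535))) (.node (.node (.node (.leaf 577432712) (.leaf 1103149054)) (.leaf 851284066)) (.node (.node (.leaf 112255277) (.leaf 1063589484)) (.leaf 959147772))))) (.node (.node (.node (.node (.node (.leaf 47727458) (.leaf 899771789)) (.leaf 172411397)) (.node (.node (.leaf 418566951) (.leaf 757352678)) (.leaf 988247366))) (.node (.node (.node (.leaf 36938377) (.leaf 909595714)) (.leaf 863375386)) (.node (.node (.leaf 1010963915) (.leaf 1042675208)) (.leaf 281560217)))) (.node (.node (.node (.node (.leaf 153471221) (.leaf 626738381)) (.leaf 617563823)) (.node (.node (.leaf 497235130) (.leaf 999573452)) (.leaf 971835187))) (.node (.node (.node (.leaf 733966242) (.leaf 466908215)) (.leaf 209750294)) (.node (.node (.leaf 719522087) (.leaf 1098315743)) (.leaf 902623932)))))) (.node (.node (.node (.node (.node (.node (.leaf 4628493)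 (.leaf 895750491)) (.leaf 647205662)) (.node (.node (.leaf 64405972) (.leaf 992064859)) (.leaf 1093564353))) (.node (.node (.node (.leaf 30367830) (.leaf 389163517)) (.leaf 905013811)) (.node (.node (.leaf 1000199563) (.leaf 1031841547)) (.leaf 696079159)))) (.node (.node (.node (.node (.leaf 120457114) (.leaf 848563305)) (.leaf 935203887)) (.node (.node (.leaf 840429344) (.leaf 988516803)) (.leaf 751356743))) (.node (.node (.node (.leaf 884286592) (.leaf 1025054239)) (.leaf 631948503)) (.node (.node (.leaf 1028863541) (.leaf 1073811216)) (.leaf 570033558))))) (.node (.node (.node (.node (.node (.leaf 12058658) (.leaf 340935830)) (.leaf 154659084)) (.node (.node (.leaf 72630703) (.leaf 980440344)) (.leaf 242150634))) (.node (.node (.node (.leaf 604744110) (.leaf 407659615)) (.leaf 1094342598)) (.node (.node (.leaf 816149424) (.leaf 1053340494)) (.leaf 584910209)))) (.node (.node (.node (.node (.leaf 787982842) (.leaf 371549144)) (.leaf 166282137)) (.node (.node (.leaf 87901121) (.leaf 1014248927)) (.leaf 260219655))) (.node (.node (.node (.leaf 366023083)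 (.leaf 814461659)) (.leaf 675484761)) (.node (.node (.leaf 123823582) (.leaf 1094585641)) (.leaf 869051198))))))) (.node (.node (.node (.node (.node (.node (.node (.leaf 2695175) (.leaf 1045690009)) (.leaf 133308768)) (.node (.node (.leaf 391582295) (.leaf 912126196)) (.leaf 1036744291))) (.node (.node (.node (.leaf 549873482) (.leaf 1029305912)) (.leaf 1070167855)) (.node (.node (.leaf 567219432) (.leaf 1026494852)) (.leaf 994129256)))) (.node (.node (.node (.node (.leaf 16670766) (.leaf 728271747)) (.leaf 719458376)) (.node (.node (.leaf 690383181) (.leaf 982992602)) (.leaf 247587434))) (.node (.node (.node (.leaf 752217409) (.leaf 418631158)) (.leaf 198789207)) (.node (.node (.leaf 712590662) (.leaf 1068765689)) (.leaf 998815106))))) (.node (.node (.node (.node (.node (.leaf 60146711) (.leaf 806701771)) (.leaf 575686273)) (.node (.node (.leaf 830353202) (.leaf 781987935)) (.leaf 785147488))) (.node (.node (.node (.leaf 162933138) (.leaf 403295400)) (.leaf 186679769)) (.node (.node (.leaf 753881465) (.leaf 1047816070)) (.leaf 306868088)))) (.node (.node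 (.node (.node (.leaf 164841911) (.leaf 814166746)) (.leaf 696112120)) (.node (.node (.leaf 786425438) (.leaf 1004803426)) (.leaf 257286790))) (.node (.node (.node (.leaf 543927254) (.leaf 625979437)) (.leaf 213533478)) (.node (.node (.leaf 121463113) (.leaf 1089490397)) (.leaf 311864364)))))) (.node (.node (.node (.node (.node (.node (.leaf 6430738) (.leaf 931801101)) (.leaf 508851413)) (.node (.node (.leaf 712664872) (.leaf 704024193)) (.leaf 231121465))) (.node (.node (.node (.leaf 68412554) (.leaf 743319177)) (.leaf 894726915)) (.node (.node (.leaf 763948307) (.leaf 1037291946)) (.leaf 277856952)))) (.node (.node (.node (.node (.leaf 136251463) (.leaf 929949930)) (.leaf 938898644)) (.node (.node (.leaf 703804519) (.leaf 1098627041)) (.leaf 252912250))) (.node (.node (.node (.leaf 47980697) (.leaf 902123547)) (.leaf 205883591)) (.node (.node (.leaf 1011774927) (.leaf 1079019963)) (.leaf 876893124))))) (.node (.node (.node (.node (.node (.leaf 84723104) (.leaf 734561425)) (.leaf 930335658)) (.node (.node (.leaf 816489640) (.leaf 724805953)) (.leaf 983037224)))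 (.node (.node (.node (.leaf 292417267) (.leaf 1078105953)) (.leaf 873737767)) (.node (.node (.leaf 1025873444) (.leaf 1058502335)) (.leaf 693929338)))) (.node (.node (.node (.node (.leaf 51053477) (.leaf 837636772)) (.leaf 169591217)) (.node (.node (.leaf 897798913) (.leaf 1015589969)) (.leaf 767840635))) (.node (.node (.node (.leaf 55910557) (.leaf 703059069)) (.leaf 766677884)) (.node (.node (.leaf 126329171) (.leaf 1099714355)) (.leaf 1094727624)))))))) (.node (.node (.node (.node (.node (.node (.node (.node (.leaf 1875972) (.leaf 984151342)) (.leaf 203287372)) (.node (.node (.leaf 60195282) (.leaf 960417250)) (.leaf 695677287))) (.node (.node (.node (.leaf 680608910) (.leaf 718587124)) (.leaf 173573340)) (.node (.node (.leaf 571328089) (.leaf 1023545758)) (.leaf 743769068)))) (.node (.node (.node (.node (.leaf 789709122) (.leaf 958534354)) (.leaf 927558800)) (.node (.node (.leaf 460575769) (.leaf 980323944)) (.leaf 868536641))) (.node (.node (.node (.leaf 858712820) (.leaf 641029029)) (.leaf 811511164)) (.node (.node (.leaf 933350164) (.leaf 1066216929))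 (.leaf 296217289))))) (.node (.node (.node (.node (.node (.leaf 53674954) (.leaf 1067759392)) (.leaf 145171852)) (.node (.node (.leaf 942648805) (.leaf 936022312)) (.leaf 716051131))) (.node (.node (.node (.leaf 266669545) (.leaf 722014651)) (.leaf 894347945)) (.node (.node (.leaf 742729352) (.leaf 1045383130)) (.leaf 284036619)))) (.node (.node (.node (.node (.leaf 158411089) (.leaf 363176892)) (.leaf 666816071)) (.node (.node (.leaf 792719778) (.leaf 1002065600)) (.leaf 657180566))) (.node (.node (.node (.leaf 351580475) (.leaf 914117418)) (.leaf 1087420314)) (.node (.node (.leaf 498799805) (.leaf 1086925321)) (.leaf 570828939)))))) (.node (.node (.node (.node (.node (.node (.leaf 30671435) (.leaf 884101301)) (.leaf 139462018)) (.node (.node (.leaf 334639244) (.leaf 971384668)) (.leaf 230091267))) (.node (.node (.node (.leaf 598240211) (.leaf 921940286)) (.leaf 633852312)) (.node (.node (.leaf 529385691) (.leaf 1034610452)) (.leaf 276270339)))) (.node (.node (.node (.node (.leaf 18579535) (.leaf 770762594)) (.leaf 949236567)) (.node (.node (.leaf 628961360)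 (.leaf 991301671)) (.leaf 682722277))) (.node (.node (.node (.leaf 784556668) (.leaf 949119611)) (.leaf 1090934703)) (.node (.node (.leaf 1043453580) (.leaf 1076619648)) (.leaf 847743336))))) (.node (.node (.node (.node (.node (.leaf 78546229) (.leaf 1039119986)) (.leaf 1044280976)) (.node (.node (.leaf 439767975) (.leaf 539478569)) (.leaf 793449359))) (.node (.node (.node (.leaf 160917881) (.leaf 968224094)) (.leaf 891619046)) (.node (.node (.leaf 1023890969) (.leaf 1056001313)) (.leaf 289276636)))) (.node (.node (.node (.node (.leaf 25403463) (.leaf 890581439)) (.leaf 912615282)) (.node (.node (.leaf 252472674) (.leaf 1013109382)) (.leaf 1017886198))) (.node (.node (.node (.leaf 822046841) (.leaf 696027027)) (.leaf 1082161018)) (.node (.node (.leaf 124641616) (.leaf 1097216847)) (.leaf 915899753))))))) (.node (.node (.node (.node (.node (.node (.node (.leaf 13828339) (.leaf 326132544)) (.leaf 1058690793)) (.node (.node (.leaf 957229811) (.leaf 466855210)) (.leaf 992998752))) (.node (.node (.node (.leaf 230263897) (.leaf 797198917)) (.leaf 992654686)) (.node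 (.node (.leaf 997856638) (.leaf 1029180416)) (.leaf 924510774)))) (.node (.node (.node (.node (.leaf 114902844) (.leaf 970327476)) (.leaf 761827494)) (.node (.node (.leaf 887319872) (.leaf 985698767)) (.leaf 763547718))) (.node (.node (.node (.leaf 213673969) (.leaf 635415378)) (.leaf 200632560)) (.node (.node (.leaf 114598198) (.leaf 1071435246)) (.leaf 299524863))))) (.node (.node (.node (.node (.node (.leaf 66602089) (.leaf 1048786604)) (.leaf 147014011)) (.node (.node (.leaf 741253447) (.leaf 495945787)) (.leaf 921351296))) (.node (.node (.node (.leaf 39264363) (.leaf 405562457)) (.leaf 782406270)) (.node (.node (.leaf 106030683) (.leaf 1050544275)) (.leaf 286737106)))) (.node (.node (.node (.node (.leaf 23216195) (.leaf 862389496)) (.leaf 906372666)) (.node (.node (.leaf 530232477) (.leaf 1007529258)) (.leaf 500626625))) (.node (.node (.node (.leaf 361468299) (.leaf 969795645)) (.leaf 215870311)) (.node (.node (.leaf 170641340) (.leaf 1092250370)) (.leaf 724456590)))))) (.node (.node (.node (.node (.node (.node (.leaf 7544853) (.leaf 956311746)) (.leaf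 141984112)) (.node (.node (.leaf 414995204) (.leaf 921430355)) (.leaf 577569609))) (.node (.node (.node (.leaf 250473813) (.leaf 717599102)) (.leaf 813246016)) (.node (.node (.leaf 725496042) (.leaf 1040033919)) (.leaf 1054512846)))) (.node (.node (.node (.node (.leaf 146196642) (.leaf 358990773)) (.leaf 965954470)) (.node (.node (.leaf 365654441) (.leaf 996830062)) (.leaf 1000469900))) (.node (.node (.node (.leaf 801162420) (.leaf 760408377)) (.leaf 207375187)) (.node (.node (.leaf 221572077) (.leaf 1081625938)) (.leaf 1000568205))))) (.node (.node (.node (.node (.node (.leaf 90490356) (.leaf 955501931)) (.leaf 981996833)) (.node (.node (.leaf 667805592) (.leaf 1088772002)) (.leaf 319565821))) (.node (.node (.node (.leaf 752042609) (.leaf 413475956)) (.leaf 954388755)) (.node (.node (.leaf 111493429) (.leaf 1078703973)) (.leaf 906202771)))) (.node (.node (.node (.node (.leaf 558515668) (.leaf 939452887)) (.leaf 1079416681)) (.node (.node (.leaf 200346412) (.leaf 1018113248)) (.leaf 764980035))) (.node (.node (.node (.leaf 934179176) (.leaf 452235957)) (.leaf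 576155423)) (.node (.node (.leaf 583233194) (.leaf 1102123770)) (.leaf 850636893))))))))) (.node (.node (.node (.node (.node (.node (.node (.node (.node (.leaf 4907084) (.leaf 919089920)) (.leaf 943303681)) (.node (.node (.leaf 812967709) (.leaf 1021736461)) (.leaf 1010480584))) (.node (.node (.node (.leaf 216533948) (.leaf 832105106)) (.leaf 188689090)) (.node (.node (.leaf 804317900) (.leaf 1101748212)) (.leaf 270082719)))) (.node (.node (.node (.node (.leaf 100148842) (.leaf 348242826)) (.leaf 913461821)) (.node (.node (.leaf 77193427) (.leaf 979012084)) (.leaf 960353303))) (.node (.node (.node (.leaf 97658447) (.leaf 947595349)) (.leaf 948294493)) (.node (.node (.leaf 712756022) (.leaf 1064675458)) (.leaf 846276973))))) (.node (.node (.node (.node (.node (.leaf 543769109) (.leaf 894265959)) (.leaf 909331744)) (.node (.node (.leaf 626848134) (.leaf 763228467)) (.leaf 721473369))) (.node (.node (.node (.leaf 251915615) (.leaf 400647237)) (.leaf 735916355)) (.node (.node (.leaf 961384435) (.leaf 1043909962)) (.leaf 747957548)))) (.node (.node (.node (.node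 (.leaf 156191017) (.leaf 1014969828)) (.leaf 654537773)) (.node (.node (.leaf 83484900) (.leaf 1000788893)) (.leaf 256664679))) (.node (.node (.node (.leaf 349704481) (.leaf 792160334)) (.leaf 210625028)) (.node (.node (.leaf 928060510) (.leaf 1085724359)) (.leaf 1009120704)))))) (.node (.node (.node (.node (.node (.node (.leaf 27673102) (.leaf 649408906)) (.leaf 1006958004)) (.node (.node (.leaf 70050979) (.leaf 1088829347)) (.leaf 559743878))) (.node (.node (.node (.leaf 236612789) (.leaf 718146966)) (.leaf 750292401)) (.node (.node (.leaf 97632937) (.leaf 1033276899)) (.leaf 963268395)))) (.node (.node (.node (.node (.leaf 124422097) (.leaf 848367913)) (.leaf 158648664)) (.node (.node (.leaf 480171118) (.leaf 1051768510)) (.leaf 721667644))) (.node (.node (.node (.leaf 865430820) (.leaf 424625742)) (.leaf 203524420)) (.node (.node (.leaf 887008239) (.leaf 1075155635)) (.leaf 1019131389))))) (.node (.node (.node (.node (.node (.leaf 57156590) (.leaf 341577337)) (.leaf 787776738)) (.node (.node (.leaf 319221751) (.leaf 691631236)) (.leaf 881387717))) (.node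 (.node (.node (.leaf 585526088) (.leaf 709821689)) (.leaf 820163337)) (.node (.node (.leaf 1022809619) (.leaf 1054549995)) (.leaf 624952430)))) (.node (.node (.node (.node (.leaf 182086262) (.leaf 880324870)) (.leaf 1084929931)) (.node (.node (.leaf 558099304) (.leaf 1011930455)) (.leaf 264071247))) (.node (.node (.node (.leaf 575463990) (.leaf 446915820)) (.leaf 1086912406)) (.node (.node (.leaf 556796271) (.leaf 1095929638)) (.leaf 316262288))))))) (.node (.node (.node (.node (.node (.node (.node (.leaf 16294174) (.leaf 328052799)) (.leaf 134832482)) (.node (.node (.leaf 185346713) (.leaf 465446182)) (.leaf 226763307))) (.node (.node (.node (.leaf 126003156) (.leaf 772966800)) (.leaf 771190134)) (.node (.node (.leaf 997004665) (.leaf 1027830515)) (.leaf 905455401)))) (.node (.node (.node (.node (.leaf 106636993) (.leaf 852257942)) (.leaf 924830426)) (.node (.node (.leaf 637332372) (.leaf 1096447955)) (.leaf 748062099))) (.node (.node (.node (.leaf 318230506) (.leaf 662220719)) (.leaf 199559978)) (.node (.node (.leaf 555076655) (.leaf 1070123477)) (.leaf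 807093883))))) (.node (.node (.node (.node (.node (.leaf 11264029) (.leaf 872147056)) (.leaf 526830701)) (.node (.node (.leaf 293744384) (.leaf 1019295230)) (.leaf 749113677))) (.node (.node (.node (.leaf 275517010) (.leaf 832794893)) (.leaf 832311859)) (.node (.node (.leaf 694030072) (.leaf 1049267148)) (.leaf 610846019)))) (.node (.node (.node (.node (.leaf 591685470) (.leaf 697767046)) (.leaf 937201728)) (.node (.node (.leaf 524544184) (.leaf 1006069345)) (.leaf 257663624))) (.node (.node (.node (.leaf 52166802) (.leaf 1085814672)) (.leaf 734479229)) (.node (.node (.leaf 642295337) (.leaf 1090801717)) (.leaf 1101166577)))))) (.node (.node (.node (.node (.node (.node (.leaf 40960729) (.leaf 877095409)) (.leaf 528018539)) (.node (.node (.leaf 412226282) (.leaf 617861673)) (.leaf 556271102))) (.node (.node (.node (.leaf 766666636) (.leaf 954897349)) (.leaf 832892188)) (.node (.node (.leaf 993998183) (.leaf 1038698955)) (.leaf 279151573)))) (.node (.node (.node (.node (.leaf 89630181) (.leaf 358024685)) (.leaf 566462639)) (.node (.node (.leaf 752854885) (.leaf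 995446565)) (.leaf 1097856988))) (.node (.node (.node (.leaf 48333502) (.leaf 766110504)) (.leaf 528427039)) (.node (.node (.leaf 1046156957) (.leaf 1080350315)) (.leaf 717014270))))) (.node (.node (.node (.node (.node (.leaf 86992322) (.leaf 388436483)) (.leaf 152740230)) (.node (.node (.leaf 781609654) (.leaf 516245474)) (.leaf 788058236))) (.node (.node (.node (.leaf 551889568) (.leaf 994604395)) (.leaf 1067153181)) (.node (.node (.leaf 110756138) (.leaf 1059705807)) (.leaf 970535840)))) (.node (.node (.node (.node (.leaf 83207561) (.leaf 974694794)) (.leaf 877602927)) (.node (.node (.leaf 946465528) (.leaf 1016778306)) (.leaf 935225671))) (.node (.node (.node (.leaf 597246359) (.leaf 977996726)) (.leaf 887723145)) (.node (.node (.leaf 228731979) (.leaf 1100796062)) (.leaf 867046157)))))))) (.node (.node (.node (.node (.node (.node (.node (.node (.leaf 2301957) (.leaf 636841363)) (.leaf 956003393)) (.node (.node (.leaf 388846148) (.leaf 719581252)) (.leaf 651695123))) (.node (.node (.node (.leaf 223005693) (.leaf 881559360)) (.leaf 736970176)) (.node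 (.node (.leaf 353120588) (.leaf 1049294511)) (.leaf 974024897)))) (.node (.node (.node (.node (.leaf 106407613) (.leaf 733040585)) (.leaf 691326195)) (.node (.node (.leaf 798648913) (.leaf 981683632)) (.leaf 760196036))) (.node (.node (.node (.leaf 200420149) (.leaf 915518496)) (.leaf 193864174)) (.node (.node (.leaf 855985875) (.leaf 1067534588)) (.leaf 1020352004))))) (.node (.node (.node (.node (.node (.leaf 57312242) (.leaf 873566038)) (.leaf 145990006)) (.node (.node (.leaf 569091783) (.leaf 752994053)) (.leaf 1040348794))) (.node (.node (.node (.leaf 852634779) (.leaf 923160059)) (.leaf 753173871)) (.node (.node (.leaf 104603929) (.leaf 1068988201)) (.leaf 284724711)))) (.node (.node (.node (.node (.leaf 162007433) (.leaf 951618928)) (.leaf 869124921)) (.node (.node (.leaf 598127315) (.leaf 1003376786)) (.leaf 960130360))) (.node (.node (.node (.leaf 103687829) (.leaf 1038988913)) (.leaf 928908900)) (.node (.node (.leaf 203565903) (.leaf 1088163966)) (.leaf 1057814243)))))) (.node (.node (.node (.node (.node (.node (.leaf 35979897) (.leaf 824046038))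 (.leaf 1026799145)) (.node (.node (.leaf 66183350) (.leaf 905300556)) (.leaf 850871456))) (.node (.node (.node (.leaf 244157691) (.leaf 766291249)) (.leaf 184035980)) (.node (.node (.leaf 1005917614) (.leaf 1036079552)) (.leaf 711569123)))) (.node (.node (.node (.node (.leaf 19038286) (.leaf 355879662)) (.leaf 1007367606)) (.node (.node (.leaf 917448474) (.leaf 992841803)) (.leaf 251940188))) (.node (.node (.node (.leaf 303935325) (.leaf 426632357)) (.leaf 698117694)) (.node (.node (.leaf 591774971) (.leaf 1077676378)) (.leaf 723489567))))) (.node (.node (.node (.node (.node (.leaf 48325487) (.leaf 964129713)) (.leaf 209225792)) (.node (.node (.leaf 442356655) (.leaf 511518168)) (.leaf 1038513774))) (.node (.node (.node (.leaf 290246372) (.leaf 832925453)) (.leaf 898403535)) (.node (.node (.leaf 109331907) (.leaf 1057166088)) (.leaf 587055839)))) (.node (.node (.node (.node (.leaf 50897828) (.leaf 858419077)) (.leaf 168544721)) (.node (.node (.leaf 861253406) (.leaf 1014321900)) (.leaf 1082292091))) (.node (.node (.node (.leaf 373936620) (.leaf 648792281))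 (.leaf 656241782)) (.node (.node (.leaf 171141623) (.leaf 1098454443)) (.leaf 842248434))))))) (.node (.node (.node (.node (.node (.node (.node (.leaf 21848481) (.leaf 735097148)) (.leaf 740585758)) (.node (.node (.leaf 63652018) (.leaf 468026670)) (.leaf 559399671))) (.node (.node (.node (.leaf 232451197) (.leaf 1083766660)) (.leaf 1036793444)) (.node (.node (.leaf 606832904) (.leaf 1030492679)) (.leaf 668011461)))) (.node (.node (.node (.node (.leaf 17653810) (.leaf 351781782)) (.leaf 715468986)) (.node (.node (.leaf 396817014) (.leaf 986912036)) (.leaf 771724452))) (.node (.node (.node (.leaf 325619760) (.leaf 710112249)) (.leaf 550119243)) (.node (.node (.leaf 949726881) (.leaf 1072649227)) (.leaf 1034319445))))) (.node (.node (.node (.node (.node (.leaf 23798209) (.leaf 731514135)) (.leaf 324895266)) (.node (.node (.leaf 886073195) (.leaf 858313186)) (.leaf 540149153))) (.node (.node (.node (.leaf 39633120) (.leaf 905088228)) (.leaf 894357867)) (.node (.node (.leaf 1014765026) (.leaf 1052019306)) (.leaf 578254063)))) (.node (.node (.node (.node (.leaf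 176900669) (.leaf 717187523)) (.leaf 807798168)) (.node (.node (.leaf 375763447) (.leaf 1008898226)) (.leaf 259147763))) (.node (.node (.node (.leaf 787456230) (.leaf 838962318)) (.leaf 584647349)) (.node (.node (.leaf 1025603106) (.leaf 1093374823)) (.leaf 324364603)))))) (.node (.node (.node (.node (.node (.node (.leaf 8020096) (.leaf 1052374721)) (.leaf 968657079)) (.node (.node (.leaf 645850876) (.leaf 941944695)) (.leaf 232645181))) (.node (.node (.node (.leaf 909814335) (.leaf 855282241)) (.leaf 829213310)) (.node (.node (.leaf 1009448386) (.leaf 1041247149)) (.leaf 859489047)))) (.node (.node (.node (.node (.leaf 149719242) (.leaf 717852060)) (.leaf 1045100181)) (.node (.node (.leaf 835203847) (.leaf 998241265)) (.leaf 666234548))) (.node (.node (.node (.leaf 48980106) (.leaf 709029036)) (.leaf 733709199)) (.node (.node (.leaf 118653492) (.leaf 1083142887)) (.leaf 564979908))))) (.node (.node (.node (.node (.node (.leaf 94127656) (.leaf 834835205)) (.leaf 154198409)) (.node (.node (.leaf 76112080) (.leaf 818205013)) (.leaf 766858378))) (.node (.node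 (.node (.leaf 746777827) (.leaf 896870335)) (.leaf 1002927517)) (.node (.node (.leaf 880165362) (.leaf 1062442142)) (.leaf 293539338)))) (.node (.node (.node (.node (.leaf 27025485) (.leaf 759310252)) (.leaf 945607124)) (.node (.node (.leaf 91276280) (.leaf 1089746856)) (.leaf 605194185))) (.node (.node (.node (.leaf 682421031) (.leaf 1023284757)) (.leaf 723044053)) (.node (.node (.leaf 907644548) (.leaf 1103402303)) (.leaf 1061156600)))))))))))

noncomputable def edgeA : Arr ℕ :=
  (.node (.node (.node (.node edgeA0 edgeA8) (.node edgeA4 edgeA12)) (.node (.node edgeA2 edgeA10) (.node edgeA6 edgeA14))) (.node (.node (.node edgeA1 edgeA9) (.node edgeA5 edgeA13)) (.node (.node edgeA3 edgeA11) (.node edgeA7 edgeA15))))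

noncomputable def factA : Arr ℕ :=
  (.node (.node (.node (.node (.node (.node factA0 factA32) (.node factA16 factA48)) (.node (.node factA8 factA40) (.node factA24 factA56))) (.node (.node (.node factA4 factA36) (.node factA20 factA52)) (.node (.node factA12 factA44) (.node factA28 factA60)))) (.node (.node (.node (.node factA2 factA34) (.node factA18 factA50)) (.node (.node factA10 factA42) (.node factA26 factA58))) (.node (.node (.node factA6 factA38) (.node factA22 factA54)) (.node (.node factA14 factA46) (.node factA30 factA62))))) (.node (.node (.node (.node (.node factA1 factA33) (.node factA17 factA49)) (.node (.node factA9 factA41) (.node factA25 factA57))) (.node (.node (.node factA5 factA37) (.node factA21 factA53)) (.node (.node factA13 factA45) (.node factA29 factA61)))) (.node (.node (.node (.node factA3 factA35) (.node factA19 factA51)) (.node (.node factA11 factA43) (.node factA27 factA59))) (.node (.node (.node factA7 factA39) (.node factA23 factA55)) (.node (.node factA15 factA47) (.node factA31 factA63))))))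

noncomputable def logA : Log :=
  ⟨810, relsA, [0, 4, 12, 14, 16], 67460, factA, parA⟩

end Cfsg.Agent.Spor.JThree.Unique
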