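import Cfsg.Agent.Lib.Spor.JThree.Unique.Engine

/-!
Generated log of a coset enumeration (Y, I = 55, 392).
-/

set_option autoImplicit false
set_option maxRecDepth 100000
set_option maxHeartbeats 0

namespace Cfsg.Agent.Spor.JThree.Unique

noncomputable def relsE : Arr (List ℕ) :=
  (.node (.node (.node (.node (.node (.node (.leaf [13, 7, 14, 6, 12, 9]) (.leaf [5, 4])) (.leaf [3, 7, 0, 7, 3, 1])) (.node (.leaf [2, 10, 2, 10]) (.leaf [3, 13, 15, 12, 14, 2]))) (.node (.node (.leaf [8, 3]) (.leaf [6, 6, 2, 1, 2, 5])) (.node (.leaf [14, 2, 15, 3]) (.leaf [2, 4, 15, 2, 12, 3, 13])))) (.node (.node (.node (.node (.leaf [4, 4]) (.leaf [7, 6])) (.leaf [6, 3, 4, 1, 6, 5])) (.node (.leaf [4, 14, 4, 15]) (.leaf [3, 4, 2, 8, 2, 5, 2]))) (.node (.node (.leaf [0, 0, 9, 2]) (.leaf [0, 2, 4, 6, 6, 2])) (.node (.leaf [2, 4, 6, 6, 2, 1]) (.leaf [6, 10, 4, 8, 1, 5, 11, 3]))))) (.node (.node (.node (.node (.node (.leaf [0, 0]) (.leaf [11, 10])) (.leaf [4, 3, 4, 3, 5, 3])) (.node (.leaf [2, 14, 3, 15])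 (.leaf [0, 3, 7, 4, 3, 5, 7]))) (.node (.node (.leaf [14, 14, 14]) (.leaf [7, 7, 4, 3, 1, 3])) (.node (.leaf [14, 12, 15, 13]) (.leaf [4, 2, 10, 6, 11, 5, 2, 1])))) (.node (.node (.node (.leaf [10, 10]) (.leaf [6, 4, 6, 3, 5, 1])) (.node (.leaf [4, 14, 5, 15]) (.leaf [3, 6, 3, 4, 3, 7, 5]))) (.node (.node (.leaf [0, 7, 4, 6]) (.leaf [0, 6, 4, 6, 3, 5])) (.node (.leaf [3, 4, 0, 6, 6, 1]) (.leaf [3, 14, 0, 14, 1, 14, 1, 2]))))))

noncomputable def parE : Arr ℕ :=
  (.node (.node (.node (.node (.node (.leaf 0) (.leaf 195)) (.leaf 79)) (.node (.leaf 64) (.leaf 142))) (.node (.node (.node (.leaf 10) (.leaf 230)) (.leaf 131)) (.node (.leaf 76) (.leaf 174)))) (.node (.node (.node (.node (.leaf 6) (.leaf 207)) (.leaf 100)) (.node (.leaf 68) (.leaf 143))) (.node (.node (.leaf 42) (.leaf 140)) (.node (.leaf 78) (.leaf 175)))))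

noncomputable def factE : Arr ℕ :=
  (.node (.node (.node (.node (.node (.node (.node (.leaf 0x200000000) (.leaf 0xce0016800a80039800f20a048e50034012)) (.leaf 0x100002c000e80072001e8007c0c064c3001400a)) (.node (.leaf 0x40014002) (.leaf 0x28000a600150002a0014800ba0c0710d0030010))) (.node (.node (.leaf 0xa0008000) (.leaf 0x9400130009e0602483003000e)) (.node (.leaf 0x5c000a0005e06024420020008) (.leaf 0xd800370009000120009e0a000a6002000e)))) (.node (.node (.node (.node (.leaf 0xc00028000e0601c400004001) (.leaf 0x4400430006e06080520008003)) (.leaf 0xc002c004)) (.node (.leaf 0xc0018002) (.leaf 0xf0044006))) (.node (.node (.leaf 0xa000c001) (.leaf 0x5c0010800ae0602844002000f)) (.node (.leaf 0x30028004) (.leaf 0x60048007))))) (.node (.node (.node (.node (.node (.leaf 0x240000000) (.leaf 0x10600260007206024af004800a)) (.leaf 0x68000c0001e0005800220010800860e078c1002400a)) (.node (.leaf 0x3e000b000420601ca60010005) (.leaf 0x5c000b80052002f000c20a00067002000c))) (.node (.node (.leaf 0x2600018002206020820008002)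 (.leaf 0x5400108009e0602c85001c00e)) (.node (.leaf 0x40024003) (.leaf 0x58002a000e20032000a00a05840001c00e)))) (.node (.node (.node (.node (.leaf 0x1600010000a00000000e0a048e50004001) (.leaf 0x38011604088470000000)) (.leaf 0xf0034004)) (.node (.leaf 0x54000a800560602483001c007) (.leaf 0x5c0014800d206034ad0020011))) (.node (.node (.leaf 0x10002) (.leaf 0x30040006)) (.node (.leaf 0x3e000b00028000f000720a04067001000a) (.leaf 0xe60016800a8003a800f20a03cc60038012)))))) (.node (.node (.node (.node (.node (.node (.leaf 0x220000000) (.leaf 0xec003f001020033800f20a050820034012)) (.leaf 0x1c00074001c00072001d8004c0c068a80028005)) (.node (.leaf 0x4202008640008005) (.leaf 0xb8002e800c20025000920a060ce004000b))) (.node (.node (.leaf 0x220200c6a0000002) (.leaf 0x5400108009e0602884001c00e)) (.node (.leaf 0x1700056040148e0020007) (.leaf 0x58002a000e20032000a00a038e1001c00e)))) (.node (.node (.node (.node (.leaf 0x600000000600028000e0a038a60000001) (.leaf 0x2400440003606084520000001)) (.leaf 0xe0030004))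 (.node (.leaf 0xe001c002) (.leaf 0xc6002e000d206030a3002c011))) (.node (.node (.leaf 0x320200c6a0004003) (.leaf 0x980013000ae06030a3003400f)) (.node (.leaf 0x3e000b8002e000f000720a03c64001000a) (.leaf 0xe00029800f20601c400020012))))) (.node (.node (.node (.node (.node (.leaf 0x60004000) (.leaf 0x27800e60019800f400418010400420008e1007cb20014009)) (.leaf 0x880021000800601840002400a)) (.node (.leaf 0x38000a0002c000b000420a054a30010005) (.leaf 0x16800a80028800ca002c000b60c06c66001c00d))) (.node (.node (.leaf 0x2000020000600000000a0001800220e074a60008002) (.leaf 0xf003c005)) (.node (.leaf 0x6a0200864000c009) (.leaf 0xce002a000e20018000b00a05c40003400f)))) (.node (.node (.node (.leaf 0x1a00040001600028000e0a04ca30004001) (.leaf 0xe0038005)) (.node (.leaf 0xf0020002) (.leaf 0xd60201048004400b))) (.node (.node (.leaf 0x3a02004600008004) (.leaf 0xba02010480018010)) (.node (.leaf 0x72001d80072001d800720a044c5001000a) (.leaf 0xb2003d000fa002a800f20a04863003c012)))))))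

noncomputable def logE : Log :=
  ⟨35, relsE, [0, 2, 4, 12, 14], 71, factE, parE⟩

end Cfsg.Agent.Spor.JThree.Unique
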