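import Cfsg.Agent.Lib.Spor.JThree.Unique.Engine

/-!
Generated log of a coset enumeration (Y, I = 55, 393).
-/

set_option autoImplicit false
set_option maxRecDepth 100000
set_option maxHeartbeats 0

namespace Cfsg.Agent.Spor.JThree.Unique

noncomputable def relsF : Arr (List ℕ) :=
  (.node (.node (.node (.node (.node (.leaf [13, 7, 14, 6, 12, 9]) (.leaf [6, 4, 6, 3, 5, 1])) (.node (.leaf [2, 14, 3, 15]) (.leaf [4, 2, 10, 6, 11, 5, 2, 1]))) (.node (.node (.leaf [8, 3]) (.leaf [0, 6, 4, 6, 3, 5])) (.node (.leaf [14, 12, 15, 13]) (.leaf [11, 10])))) (.node (.node (.node (.leaf [4, 4]) (.leaf [7, 7, 4, 3, 1, 3])) (.node (.leaf [4, 14, 5, 15]) (.leaf [0, 3, 0, 4, 2, 11, 7, 11, 2]))) (.node (.node (.leaf [0, 7, 4, 6]) (.leaf [3, 6, 3, 4, 3, 7, 5])) (.leaf [3, 4, 0, 6, 6, 1])))) (.node (.node (.node (.node (.leaf [0, 0]) (.leaf [6, 6, 2, 1, 2, 5])) (.node (.leaf [4, 14, 4, 15]) (.leaf [3, 14, 0, 14, 1, 14, 1, 2]))) (.node (.node (.leaf [14, 14, 14]) (.leaf [3, 13, 15, 12, 14, 2])) (.node (.leaf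 [2, 4, 6, 6, 2, 1]) (.leaf [7, 6])))) (.node (.node (.node (.leaf [10, 10]) (.leaf [0, 2, 4, 6, 6, 2])) (.node (.leaf [14, 2, 15, 3]) (.leaf [5, 4]))) (.node (.node (.leaf [2, 10, 2, 10]) (.leaf [2, 4, 15, 2, 12, 3, 13])) (.leaf [6, 3, 4, 1, 6, 5])))))

noncomputable def parF : Arr ℕ :=
  (.node (.node (.node (.node (.node (.leaf 0) (.leaf 195)) (.leaf 79)) (.node (.leaf 64) (.leaf 142))) (.node (.node (.node (.leaf 10) (.leaf 230)) (.leaf 131)) (.node (.leaf 76) (.leaf 174)))) (.node (.node (.node (.node (.leaf 6) (.leaf 207)) (.leaf 100)) (.node (.leaf 68) (.leaf 143))) (.node (.node (.leaf 42) (.leaf 140)) (.node (.leaf 78) (.leaf 175)))))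

noncomputable def factF : Arr ℕ :=
  (.node (.node (.node (.node (.node (.node (.node (.leaf 0x200000000) (.leaf 0x24003f0003606070520000001)) (.leaf 0xe0030004)) (.node (.leaf 0x3e02004600008004) (.leaf 0xb20029000be0602ca3002c011))) (.node (.node (.leaf 0xa0008000) (.leaf 0x8400140009a0602ca3003400f)) (.node (.leaf 0xf0020002) (.leaf 0xcc0024800de06018400020012)))) (.node (.node (.node (.leaf 0xc00028000e06018400004001) (.leaf 0x5800118008a0602484001c00e)) (.node (.leaf 0x3c000a0002c000b000460a048a30010005) (.leaf 0x5c0025000ce002d0008c0a034e1001c00e))) (.node (.node (.leaf 0xa000c001) (.leaf 0xa40029800ae00200007e0a054ce004000b)) (.node (.leaf 0x6e0200864000c009) (.leaf 0xd8003a000ee002e800de0a044820034012))))) (.node (.node (.node (.node (.leaf 0x240000000) (.leaf 0xe0038005)) (.node (.leaf 0x4602008640008005) (.leaf 0xc20201048004400b))) (.node (.node (.leaf 0x260001800220601c820008002) (.leaf 0xa602010480018010)) (.node (.leaf 0x180005a040148e0020007) (.leaf 0x9e0038000e60025800de0a03c63003c012))))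 (.node (.node (.node (.leaf 0x1600010000a00000000e0a03ce50004001) (.leaf 0xf003c005)) (.node (.leaf 0xe001c002) (.leaf 0xba0025000ce00190009c0a05040003400f))) (.node (.node (.leaf 0x360007000320601c82000c003) (.leaf 0x17800940023800b60027000a20c05866001c00d)) (.node (.leaf 0x1c8003a000c0000c00090002a000f800761006880002400a) (.leaf 0x22800d2001a800e0003c800f0003d0007a10064b20014009)))))) (.node (.node (.node (.node (.node (.node (.leaf 0x220000000) (.leaf 0x38010204074470000000)) (.leaf 0xf0034004)) (.node (.leaf 0x40014002) (.leaf 0x600015800be06030ad0020011))) (.node (.node (.leaf 0x220200c6a0000002) (.leaf 0x30040006)) (.node (.leaf 0x60000a0006206020420020008) (.leaf 0xd20017800940035800de0a038c60038012)))) (.node (.node (.node (.leaf 0x600000000600028000e0a034a60000001) (.leaf 0x5800118008a0602885001c00e)) (.node (.leaf 0xc0018002) (.leaf 0x5c0025000ce002d0008c0a04c40001c00e))) (.node (.node (.leaf 0x320200c6a0004003) (.leaf 0x60000b80056002a000ae0a00067002000c)) (.node (.leaf 0x30028004)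 (.leaf 0xf200210007606020af004800a))))) (.node (.node (.node (.node (.leaf 0x60004000) (.leaf 0x8000140008a0602083003000e)) (.node (.leaf 0x42000b0004606018a60010005) (.leaf 0xc400320007c00130008a0a000a6002000e))) (.node (.node (.leaf 0x2000020000600000000a0001800220e060a60008002) (.leaf 0x230009200160002a0015800a60c05d0d0030010)) (.node (.leaf 0x40024003) (.leaf 0xba0017800940034800de0a03ce50034012)))) (.node (.node (.node (.leaf 0x1a00040001600028000e0a040a30004001) (.leaf 0x6000118009a0602444002000f)) (.node (.leaf 0x58000a8005a0602083001c007) (.leaf 0x60048007))) (.node (.node (.leaf 0x10002) (.leaf 0xf0044006)) (.node (.leaf 0xc002c004) (.leaf 0x48003e000720606c520008003)))))))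

noncomputable def logF : Log :=
  ⟨30, relsF, [0, 2, 4, 12, 14], 66, factF, parF⟩

end Cfsg.Agent.Spor.JThree.Unique
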