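import Cfsg.Agent.Lib.Spor.JThree.Unique.Engine

/-!
Generated log of a coset enumeration (Y, I = 55, 398).
-/

set_option autoImplicit false
set_option maxRecDepth 100000
set_option maxHeartbeats 0

namespace Cfsg.Agent.Spor.JThree.Unique

noncomputable def relsG : Arr (List ℕ) :=
  (.node (.node (.node (.node (.node (.leaf [13, 7, 14, 6, 12, 9]) (.leaf [6, 6, 2, 1, 2, 5])) (.node (.leaf [2, 14, 3, 15]) (.leaf [2, 4, 15, 2, 12, 3, 13]))) (.node (.node (.leaf [8, 3]) (.leaf [3, 13, 15, 12, 14, 2])) (.node (.leaf [14, 12, 15, 13]) (.leaf [7, 6])))) (.node (.node (.node (.leaf [4, 4]) (.leaf [0, 2, 4, 6, 6, 2])) (.node (.leaf [4, 14, 5, 15]) (.leaf [5, 4]))) (.node (.node (.leaf [0, 7, 4, 6]) (.leaf [0, 3, 0, 4, 11, 6, 11])) (.leaf [3, 4, 0, 6, 6, 1])))) (.node (.node (.node (.node (.leaf [0, 0]) (.leaf [7, 7, 4, 3, 1, 3])) (.node (.leaf [4, 14, 4, 15]) (.leaf [3, 14, 0, 14, 1, 14, 1, 2]))) (.node (.node (.leaf [14, 14, 14]) (.leaf [0, 2, 0, 10, 7, 11, 5])) (.leaf [2, 4, 6, 6, 2, 1])))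 (.node (.node (.node (.leaf [10, 10]) (.leaf [0, 6, 4, 6, 3, 5])) (.node (.leaf [14, 2, 15, 3]) (.leaf [11, 10]))) (.node (.node (.leaf [2, 10, 2, 10]) (.leaf [3, 6, 3, 4, 3, 7, 5])) (.leaf [6, 3, 4, 1, 6, 5])))))

noncomputable def parG : Arr ℕ :=
  (.node (.node (.node (.node (.node (.leaf 0) (.leaf 195)) (.leaf 79)) (.node (.leaf 64) (.leaf 142))) (.node (.node (.node (.leaf 10) (.leaf 230)) (.leaf 131)) (.node (.leaf 76) (.leaf 174)))) (.node (.node (.node (.node (.leaf 6) (.leaf 207)) (.leaf 100)) (.node (.leaf 68) (.leaf 143))) (.node (.node (.leaf 42) (.leaf 140)) (.node (.leaf 78) (.leaf 175)))))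

noncomputable def factG : Arr ℕ :=
  (.node (.node (.node (.node (.node (.node (.leaf 0x200000000) (.leaf 0x48000d8007a0602484001c00e)) (.node (.leaf 0x2c0007000220008800360a044a30010005) (.leaf 0x4c0021000be00290007c0a034e1001c00e))) (.node (.node (.leaf 0x5000080000800060000800160c054c70008002) (.leaf 0x9400258009e001c0006e0a050ce004000b)) (.node (.leaf 0x5e0200864000c009) (.leaf 0xc80036000de002a800ce0a040820034012)))) (.node (.node (.node (.leaf 0x600000000600028000e0a034a60000001) (.leaf 0x7400100008a0602ca3003400f)) (.node (.leaf 0xf0020002) (.leaf 0xbc0020800ce06018400020012))) (.node (.node (.leaf 0x2e02004600008004) (.leaf 0xa20025000ae0602ca3002c011)) (.node (.leaf 0xe0030004) (.leaf 0x18003b0002a0606c520000001))))) (.node (.node (.node (.node (.leaf 0x240000000) (.leaf 0xf003c005)) (.node (.leaf 0xe001c002) (.leaf 0xaa0021000be00150008c0a04c40003400f))) (.node (.node (.leaf 0x260200c6a0004003) (.leaf 0x1380084001f800a60023000920c05c66001c00d)) (.node (.leaf 0x1880024000480018000b800660c05880002400a)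 (.leaf 0x1e800c20016800d00038800e000390006a10064b20014009)))) (.node (.node (.node (.leaf 0x160200c6a0000002) (.leaf 0x9602010480018010)) (.node (.leaf 0x140004a040148e0020007) (.leaf 0x8e0034000d60021800ce0a03c63003c012))) (.node (.node (.leaf 0x3602008640008005) (.leaf 0xb20201048004400b)) (.leaf 0xe0038005))))) (.node (.node (.node (.node (.node (.leaf 0x220000000) (.leaf 0x48000d8007a0602885001c00e)) (.node (.leaf 0xc0018002) (.leaf 0x4c0021000be00290007c0a04840001c00e))) (.node (.node (.leaf 0xa000c001) (.leaf 0x5000080004600260009e0a00067002000c)) (.node (.leaf 0x30028004) (.leaf 0xe2001d0006606020af004800a)))) (.node (.node (.node (.leaf 0xa0008000) (.leaf 0x30040006)) (.node (.leaf 0x5000070005206020420020008) (.leaf 0xc20013800840031800ce0a038c60038012))) (.node (.node (.leaf 0x40014002) (.leaf 0x500011800ae06030ad0020011)) (.node (.leaf 0xf0034004) (.leaf 0x3800f204070470000000))))) (.node (.node (.node (.node (.leaf 0x60004000) (.leaf 0x50000d8008a0602444002000f)) (.node (.leaf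 0x4800078004a0602083001c007) (.leaf 0x60048007))) (.node (.node (.leaf 0x10002) (.leaf 0xf0044006)) (.node (.leaf 0xc002c004) (.leaf 0x38003a0006206068520008003)))) (.node (.node (.node (.leaf 0x1a0001800160601c820008002) (.leaf 0x1f0008200120001e0011800960c0610d0030010)) (.node (.leaf 0x40024003) (.leaf 0xaa0013800840030800ce0a03ce50034012))) (.node (.node (.leaf 0x3200088003606018a60010005) (.leaf 0xb4002e0006c000f0007a0a000a6002000e)) (.leaf 0x7000100007a0602083003000e))))))

noncomputable def logG : Log :=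
  ⟨29, relsG, [0, 2, 4, 12, 14], 62, factG, parG⟩

end Cfsg.Agent.Spor.JThree.Unique
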