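import Cfsg.Agent.Lib.Spor.JThree.Unique.Gens
import Cfsg.Agent.Lib.Spor.JThree.Unique.DataA
import Cfsg.Agent.Lib.Spor.JThree.Unique.DataB
import Cfsg.Agent.Lib.Spor.JThree.Unique.DataC
import Cfsg.Agent.Lib.Spor.JThree.Unique.DataD
import Cfsg.Agent.Lib.Spor.JThree.Unique.DataE
import Cfsg.Agent.Lib.Spor.JThree.Unique.DataF
import Cfsg.Agent.Lib.Spor.JThree.Unique.DataG
import Cfsg.Agent.Lib.Spor.JThree.Unique.DataH

/-!
# The relators of the logs hold, and the table is closed
-/

set_option autoImplicit false
set_option maxRecDepth 100000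

namespace Cfsg.Agent.Spor.JThree.Unique

theorem relsA_ok : (logOK logA 182 1334 && lettersOK logA) = true := by decide +kernel

theorem relsB_ok : (logOK logB 182 1316 && lettersOK logB) = true := by decide +kernel

theorem relsC_ok : (logOK logC 182 1317 && lettersOK logC) = true := by decide +kernel

theorem relsD_ok : (logOK logD 182 1335 && lettersOK logD) = true := by decide +kernel

theorem relsE_ok : (logOK logE 55 392 && lettersOK logE) = true := by decide +kernel

theorem relsF_ok : (logOK logF 55 393 && lettersOK logF) = true := by decide +kernel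

theorem relsG_ok : (logOK logG 55 398 && lettersOK logG) = true := by decide +kernel

theorem relsH_ok : (logOK logH 55 399 && lettersOK logH) = true := by decide +kernel

/-- the four columns of the table -/
def colLetter (k : ℕ) : ℕ := [0, 2, 10, 12].getD k 18

/-- one entry of the table -/
noncomputable def edgeOK (m k : ℕ) : Bool :=
  (fun e => Nat.blt (e / 8192 / 2) 67460 && Nat.blt (e % 8192) 6156 &&
    logA.ref (e / 8192) fun x g y =>
      Nat.beq x (getT liveA m) && Nat.beq g (colLetter k) && Nat.beq y (getT liveA (e % 8192))) (getT edgeA (4 * m + k))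

/-- a range of rows -/
noncomputable def rowsOK (n : ℕ) : Bool :=
  Nat.rec true (fun m ih => edgeOK m 0 && edgeOK m 1 && edgeOK m 2 && edgeOK m 3 && ih) n

theorem rows_ok : (rowsOK 6156 && Nat.beq (getT liveA 0) 0) = true := by decide +kernel

theorem rowsOK_all : ∀ {n : ℕ}, rowsOK n = true → ∀ m < n, ∀ k < 4, edgeOK m k = true
  | 0, _, m, hm => by omega
  | n + 1, h, m, hm => by
    change (edgeOK n 0 && edgeOK n 1 && edgeOK n 2 && edgeOK n 3 && rowsOK n) = true at h
    simp only [Bool.and_eq_true] at h
    rcases Nat.lt_succ_iff_lt_or_eq.1 hm with hlt | rfl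
    · exact rowsOK_all h.2 m hlt
    · intro k hk
      interval_cases k
      · exact h.1.1.1.1
      · exact h.1.1.1.2
      · exact h.1.1.2
      · exact h.1.2

end Cfsg.Agent.Spor.JThree.Unique
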