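import Cfsg.Agent.Lib.Spor.JThree.Unique.Generate
import Cfsg.Agent.Lib.Spor.JThree.Unique.GenCheck
import Cfsg.Agent.Lib.Spor.JThree.Unique.RelCheck
import Cfsg.Agent.Lib.Spor.JThree.Unique.CheckB
import Cfsg.Agent.Lib.Spor.JThree.Unique.CheckC
import Cfsg.Agent.Lib.Spor.JThree.Unique.CheckD
import Cfsg.Agent.Lib.Spor.JThree.Unique.CheckE
import Cfsg.Agent.Lib.Spor.JThree.Unique.CheckF
import Cfsg.Agent.Lib.Spor.JThree.Unique.CheckG
import Cfsg.Agent.Lib.Spor.JThree.Unique.CheckH
import Mathlib.GroupTheory.GroupAction.Quotient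

/-!
# Only one of the eight cases survives
-/

set_option autoImplicit false
set_option linter.style.haveILetI false
set_option linter.unusedSectionVars false
set_option maxRecDepth 100000

namespace Cfsg.Agent.Spor.JThree.Unique

open Cfsg.Agent.Spor.JThree

universe u

theorem fold_smul {P : Type u} [Group P] {K : Subgroup P} (g : ℕ → P) (w : List ℕ) (a : P ⧸ K) :
    w.foldl (fun b x => (g x)⁻¹ • b) a = ((w.map g).prod)⁻¹ • a := by
  induction w generalizing a with
  | nil => simp
  | cons x w ih => rw [List.foldl_cons, ih, List.map_cons, List.prod_cons, mul_inv_rev, mul_smul]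

/-- the action on the cosets -/
noncomputable def mkAct {P : Type u} [Group P] (L : Log) (g : ℕ → P) (hbar : ∀ k < 19, g (bar k) = (g k)⁻¹)
    (h18 : g 18 = 1) (hrel : ∀ r < L.nrel, ((getT L.rels r).map g).prod = 1)
    (hlet : lettersOK L = true) (K : Subgroup P) (hsub : ∀ k ∈ L.sub, g k ∈ K) : Act L (P ⧸ K) where
  base := ((1 : P) : P ⧸ K)
  act := fun a x => (g x)⁻¹ • a
  ident := fun a => by simp only [h18, inv_one, one_smul]
  cancel := fun a x hx => by simp only [hbar x hx, inv_inv, smul_inv_smul]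
  relator := fun r hr a => by rw [fold_smul, hrel r hr, inv_one, one_smul]
  letters := fun r hr x hx => by
    have h := List.all_eq_true.1 (List.all_eq_true.1 hlet r (List.mem_range.2 hr)) x hx
    simpa [Nat.blt_eq] using h
  fixed := fun x hx => by
    show (g x)⁻¹ • ((1 : P) : P ⧸ K) = _
    rw [MulAction.Quotient.smul_coe, smul_eq_mul, mul_one, QuotientGroup.eq, mul_one, inv_inv]
    exact hsub x hx

variable {G : Type u} [Group G] {t : G} {S : Hyp t} (D : Gens S)

theorem Gens.log_rel {L : Log} {y I : ℕ} (h : (logOK L y I && lettersOK L) = true) (hy : D.y = y) (hI : D.I = I) :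
    lettersOK L = true ∧ ∀ r < L.nrel, ((getT L.rels r).map D.g).prod = 1 := by
  rw [Bool.and_eq_true] at h
  refine ⟨h.2, fun r hr => D.rel ?_⟩
  rw [hy, hI]
  exact List.all_eq_true.1 h.1 r (List.mem_range.2 hr)

/-- a closing fact puts a letter into the subgroup -/
theorem Gens.mem_of_log {L : Log} {y I n k : ℕ} (h : (logOK L y I && lettersOK L) = true) (hy : D.y = y)
    (hI : D.I = I) (K : Subgroup G) (hsub : ∀ k ∈ L.sub, D.g k ∈ K)
    (holds : ∀ (α : Type u) (A : Act L α), ∀ q < n + 1, A.Holds q)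
    (hend : (Nat.beq (fI (getT L.fact n)) 0 && Nat.beq (fJ (getT L.fact n)) 0 &&
      Nat.beq (fG (getT L.fact n)) k) = true) : D.g k ∈ K := by
  obtain ⟨hlet, hrel⟩ := D.log_rel h hy hI
  let A : Act L (G ⧸ K) := mkAct L D.g (fun _ hk => D.g_bar hk) rfl hrel hlet K hsub
  have e := (holds _ A n (Nat.lt_succ_self n)).1
  simp only [Bool.and_eq_true, Nat.beq_eq] at hend
  rw [hend.1.1, hend.1.2, hend.2, A.val_zero] at e
  change (D.g k)⁻¹ • ((1 : G) : G ⧸ K) = ((1 : G) : G ⧸ K) at e
  rw [MulAction.Quotient.smul_coe, smul_eq_mul, mul_one, QuotientGroup.eq, mul_one, inv_inv] at e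
  exact e

theorem ends_ok :
    ((Nat.beq (fI (getT logB.fact 1408)) 0 && Nat.beq (fJ (getT logB.fact 1408)) 0 &&
      Nat.beq (fG (getT logB.fact 1408)) 11) &&
    (Nat.beq (fI (getT logC.fact 1226)) 0 && Nat.beq (fJ (getT logC.fact 1226)) 0 &&
      Nat.beq (fG (getT logC.fact 1226)) 7) &&
    (Nat.beq (fI (getT logD.fact 1258)) 0 && Nat.beq (fJ (getT logD.fact 1258)) 0 &&
      Nat.beq (fG (getT logD.fact 1258)) 7) &&
    (Nat.beq (fI (getT logE.fact 70)) 0 && Nat.beq (fJ (getT logE.fact 70)) 0 &&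
      Nat.beq (fG (getT logE.fact 70)) 7) &&
    (Nat.beq (fI (getT logF.fact 65)) 0 && Nat.beq (fJ (getT logF.fact 65)) 0 &&
      Nat.beq (fG (getT logF.fact 65)) 7) &&
    (Nat.beq (fI (getT logG.fact 61)) 0 && Nat.beq (fJ (getT logG.fact 61)) 0 &&
      Nat.beq (fG (getT logG.fact 61)) 7) &&
    (Nat.beq (fI (getT logH.fact 61)) 0 && Nat.beq (fJ (getT logH.fact 61)) 0 &&
      Nat.beq (fG (getT logH.fact 61)) 7)) = true := by decide +kernel

theorem sub_ok : ([logC, logD, logE, logF, logG, logH].all fun L => L.sub.all isN) = true := by decide +kernel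

theorem Gens.not_n_case {L : Log} {y I n : ℕ} (h : (logOK L y I && lettersOK L) = true) (hy : D.y = y)
    (hI : D.I = I) (hsub : L.sub.all isN = true)
    (holds : ∀ (α : Type u) (A : Act L α), ∀ q < n + 1, A.Holds q)
    (hend : (Nat.beq (fI (getT L.fact n)) 0 && Nat.beq (fJ (getT L.fact n)) 0 &&
      Nat.beq (fG (getT L.fact n)) 7) = true) : False := by
  have h7 : D.g 7 ∈ nSub S :=
    D.mem_of_log h hy hI (nSub S) (fun k hk => D.n_mem (List.all_eq_true.1 hsub k hk)) holds hend
  exact D.c_notMem ((nSub S).inv_mem_iff.1 h7)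

theorem growOK_sound {gs : List ℕ} {K : Subgroup G} (hgs : ∀ k < gs.length, gs.getD k 0 < 1920 ∧ S.d (gs.getD k 0) ∈ K) :
    ∀ (l : List ℕ) (known : ℕ), growOK gs l known = true →
      (∀ p < 1920, (known >>> p) % 2 = 1 → S.d p ∈ K) → ∀ x < 1920, S.d x ∈ K
  | [], known, h, hk, x, hx => by
    change Nat.beq known (2 ^ 1920 - 1) = true at h
    refine hk x hx ?_
    rw [Nat.eq_of_beq_eq_true h]
    have : Nat.testBit (2 ^ 1920 - 1) x = true := by rw [Nat.testBit_two_pow_sub_one]; exact decide_eq_true hx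
    rw [Nat.testBit_eq_decide_div_mod_eq, decide_eq_true_eq] at this
    rw [Nat.shiftRight_eq_div_pow]
    exact this
  | e :: l, known, h, hk, x, hx => by
    change (Nat.beq ((known >>> (e / 4)) % 2) 1 && Nat.blt (e / 4) 1920 && Nat.blt (e % 4) gs.length &&
      Nat.blt (mc (e / 4) (gs.getD (e % 4) 0)) 1920 &&
      growOK gs l (known ||| 1 <<< mc (e / 4) (gs.getD (e % 4) 0))) = true at h
    simp only [Bool.and_eq_true, Nat.beq_eq, Nat.blt_eq] at h
    obtain ⟨⟨⟨⟨h1, h5⟩, h2⟩, h3⟩, h4⟩ := h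
    refine growOK_sound hgs l _ h4 (fun p hp hbit => ?_) x hx
    by_cases hpn : p = mc (e / 4) (gs.getD (e % 4) 0)
    · subst hpn
      rw [d_mul S (h5) (hgs _ h2).1]
      exact K.mul_mem (hk _ h5 h1) (hgs _ h2).2
    · refine hk p hp ?_
      have key : ∀ v q, (v >>> q) % 2 = 1 ↔ Nat.testBit v q = true := fun v q => by
        rw [Nat.testBit_eq_decide_div_mod_eq, decide_eq_true_eq, Nat.shiftRight_eq_div_pow]
      rw [key] at hbit ⊢
      rw [Nat.testBit_or, Nat.shiftLeft_eq, one_mul, Nat.testBit_two_pow] at hbit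
      simp only [Bool.or_eq_true, decide_eq_true_eq] at hbit
      exact hbit.resolve_right fun h => hpn h.symm

/-- the centralizer lies in a subgroup containing the three codes -/
theorem Gens.cent_le {K : Subgroup G} (hI : D.I = 1316 ∨ D.I = 1334) (ha : D.g 0 ∈ K) (hj : D.g 4 ∈ K)
    (hI' : D.g 10 ∈ K) : ∀ x < 1920, S.d x ∈ K := by
  have h1 : ∀ p < 1920, ((1 : ℕ) >>> p) % 2 = 1 → S.d p ∈ K := fun p _ h => by
    rcases Nat.eq_zero_or_pos p with rfl | hp
    · rw [d_one]; exact K.one_mem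
    · rw [Nat.shiftRight_eq_div_pow, Nat.div_eq_of_lt (Nat.one_lt_two_pow (by omega))] at h
      omega
  have h2 : ∀ {v : ℕ}, D.I = v → v < 1920 →
      ∀ k < ([96, 378, v] : List ℕ).length, ([96, 378, v] : List ℕ).getD k 0 < 1920 ∧
        S.d (([96, 378, v] : List ℕ).getD k 0) ∈ K := by
    intro v hv hlt k hk
    simp only [List.length_cons, List.length_nil] at hk
    interval_cases k
    · exact ⟨by norm_num, ha⟩
    · exact ⟨by norm_num, hj⟩
    · exact ⟨hlt, hv ▸ hI'⟩
  rcases hI with h | h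
  · exact growOK_sound (h2 h (by norm_num)) _ _ grow1316_ok h1
  · exact growOK_sound (h2 h (by norm_num)) _ _ grow1334_ok h1

/-- only one case is possible -/
theorem Gens.main_case [Finite G] : D.y = 182 ∧ D.I = 1334 := by
  have he := ends_ok
  simp only [Bool.and_eq_true] at he
  obtain ⟨⟨⟨⟨⟨⟨eB, eC⟩, eD⟩, eE⟩, eF⟩, eG⟩, eH⟩ := he
  have hs := sub_ok
  simp only [List.all_cons, List.all_nil, Bool.and_true, Bool.and_eq_true] at hs
  obtain ⟨sC, sD, sE, sF, sG, sH⟩ := hs
  have hI := D.hI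
  rcases D.hy with hy | hy <;> rw [hy] at hI <;> simp [repsI] at hI <;> rcases hI with h | h | h | h
  · exact (D.not_n_case relsE_ok hy h sE (fun _ A => holdsE A) (by simpa using eE)).elim
  · exact (D.not_n_case relsF_ok hy h sF (fun _ A => holdsF A) (by simpa using eF)).elim
  · exact (D.not_n_case relsG_ok hy h sG (fun _ A => holdsG A) (by simpa using eG)).elim
  · exact (D.not_n_case relsH_ok hy h sH (fun _ A => holdsH A) (by simpa using eH)).elim
  · exfalso
    have hsub : ∀ k ∈ logB.sub, D.g k ∈ D.hSub := fun k hk => by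
      refine Subgroup.subset_closure ?_
      have e : logB.sub = [0, 4, 12, 14, 16] := rfl
      rw [e] at hk
      simp only [List.mem_cons, List.not_mem_nil, or_false] at hk
      rcases hk with rfl | rfl | rfl | rfl | rfl <;> simp
    have h11 : D.g 11 ∈ D.hSub :=
      D.mem_of_log relsB_ok hy h D.hSub hsub (fun _ A => holdsB A) (by simpa using eB)
    have hC := D.cent_le (K := D.hSub) (Or.inl h) (hsub 0 (by decide +kernel)) (hsub 4 (by decide +kernel))
      (D.hSub.inv_mem_iff.1 h11)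
    have htop := D.eq_top D.hSub hC (Subgroup.subset_closure (by simp [Gens.g]))
    have hle := D.card_hSub (Or.inl h)
    rw [htop, Subgroup.card_top, S.hcard] at hle
    omega
  · exact (D.not_n_case relsC_ok hy h sC (fun _ A => holdsC A) (by simpa using eC)).elim
  · exact ⟨hy, h⟩
  · exact (D.not_n_case relsD_ok hy h sD (fun _ A => holdsD A) (by simpa using eD)).elim

end Cfsg.Agent.Spor.JThree.Unique
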