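import Cfsg.Agent.Lib.Spor.JThree.Unique.DataA

/-!
Part 3 of the check of the main log.
-/

set_option autoImplicit false
set_option maxRecDepth 100000

namespace Cfsg.Agent.Spor.JThree.Unique

theorem okA3 : logA.okFrom 12651 4217 = true := by decide +kernel

end Cfsg.Agent.Spor.JThree.Unique
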