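import Cfsg.Agent.Lib.Spor.JThree.Unique.CheckA0
import Cfsg.Agent.Lib.Spor.JThree.Unique.CheckA1
import Cfsg.Agent.Lib.Spor.JThree.Unique.CheckA2
import Cfsg.Agent.Lib.Spor.JThree.Unique.CheckA3
import Cfsg.Agent.Lib.Spor.JThree.Unique.CheckA4
import Cfsg.Agent.Lib.Spor.JThree.Unique.CheckA5
import Cfsg.Agent.Lib.Spor.JThree.Unique.CheckA6
import Cfsg.Agent.Lib.Spor.JThree.Unique.CheckA7
import Cfsg.Agent.Lib.Spor.JThree.Unique.CheckA8
import Cfsg.Agent.Lib.Spor.JThree.Unique.CheckA9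
import Cfsg.Agent.Lib.Spor.JThree.Unique.CheckA10
import Cfsg.Agent.Lib.Spor.JThree.Unique.CheckA11
import Cfsg.Agent.Lib.Spor.JThree.Unique.CheckA12
import Cfsg.Agent.Lib.Spor.JThree.Unique.CheckA13
import Cfsg.Agent.Lib.Spor.JThree.Unique.CheckA14
import Cfsg.Agent.Lib.Spor.JThree.Unique.CheckA15

/-!
The main log is correct.
-/

set_option autoImplicit false

namespace Cfsg.Agent.Spor.JThree.Unique

/-- every fact of the main log holds -/
theorem holdsA {α : Type*} (S : Act logA α) : ∀ k < 67460, S.Holds k :=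
  (S.holds_step okA15 (S.holds_step okA14 (S.holds_step okA13 (S.holds_step okA12 (S.holds_step okA11 (S.holds_step okA10 (S.holds_step okA9 (S.holds_step okA8 (S.holds_step okA7 (S.holds_step okA6 (S.holds_step okA5 (S.holds_step okA4 (S.holds_step okA3 (S.holds_step okA2 (S.holds_step okA1 (S.holds_step okA0 (fun _ h => absurd h (Nat.not_lt_zero _))))))))))))))))))

end Cfsg.Agent.Spor.JThree.Unique
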