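import Cfsg.Agent.Lib.Lie.JankoPack

/-!
# Checking packed logs of coset enumerations

A log is a list of facts `v i · g = v j` about points of an action, each following from earlier facts and one of
the relators, one natural number per fact. There are eighteen letters, paired by parity; the letter `18` stands
for the identity.
-/

set_option autoImplicit false

namespace Cfsg.Agent.Spor.JThree.Unique

abbrev Arr (α : Type) : Type := Cfsg.Agent.Lie.Janko.Tree α

/-- the inverse letter -/
def bar (g : ℕ) : ℕ := bif Nat.beq g 18 then 18 else bif Nat.beq (g % 2) 0 then g + 1 else g - 1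

/-- array lookup, by the recursor -/
noncomputable def getT {α : Type} (T : Arr α) : ℕ → α :=
  Cfsg.Agent.Lie.Janko.Tree.rec (fun x _ => x)
    (fun _ _ gl gr i => Bool.rec (gr (i / 2)) (gl (i / 2)) (Nat.beq (i % 2) 0)) T

/-- first node of a fact -/
def fI (w : ℕ) : ℕ := w % 16384

/-- second node of a fact -/
def fJ (w : ℕ) : ℕ := w / 16384 % 16384

/-- letter of a fact -/
def fG (w : ℕ) : ℕ := w / 268435456 % 32

/-- kind of a fact: `0` for a definition, `1` for a subgroup generator, `k + 2` for the `k`th word -/
def fK (w : ℕ) : ℕ := w / 8589934592 % 65536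

/-- the references of a path -/
noncomputable def refs (n : ℕ) : ℕ → List ℕ :=
  Nat.rec (fun _ => []) (fun _ ih w => w % 262144 :: ih (w / 262144)) n

/-- path of a fact -/
noncomputable def fP (w : ℕ) : List ℕ := refs (w / 562949953421312 % 256) (w / 144115188075855872)

/-- A log. -/
structure Log where
  nrel : ℕ
  rels : Arr (List ℕ)
  sub : List ℕ
  size : ℕ
  fact : Arr ℕ
  par : Arr ℕ

/-- concatenation -/
noncomputable def app (l m : List ℕ) : List ℕ := List.rec m (fun x _ ih => x :: ih) l

/-- rotate a list -/
noncomputable def rot (l : List ℕ) (n : ℕ) : List ℕ :=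
  Nat.rec (fun l => l) (fun _ ih l => ih (List.rec [] (fun x t _ => app t [x]) l)) n l

/-- the inverse word -/
noncomputable def invWord (l : List ℕ) : List ℕ :=
  List.rec (fun acc => acc) (fun x _ ih acc => ih (bar x :: acc)) l []

/-- the word with a given index -/
noncomputable def Log.word (L : Log) (k : ℕ) : List ℕ := invWord (rot (getT L.rels (k / 32)) (k % 32))

/-- start, letter and end of a reference, given to a continuation -/
noncomputable def Log.ref {β : Type} (L : Log) (r : ℕ) (f : ℕ → ℕ → ℕ → β) : β :=
  (fun w => Bool.rec (f (fJ w) (bar (fG w)) (fI w)) (f (fI w) (fG w) (fJ w)) (Nat.beq (r % 2) 0))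
    (getT L.fact (r / 2))

/-- equality of words -/
noncomputable def eqWord (l : List ℕ) : List ℕ → Bool :=
  List.rec (fun m => List.rec true (fun _ _ _ => false) m)
    (fun x _ ih m => List.rec false (fun y t _ => Nat.beq x y && ih t) m) l

/-- follow a path of earlier facts against a word -/
noncomputable def Log.follow (L : Log) (k j : ℕ) (last : List ℕ) (rs : List ℕ) : ℕ → List ℕ → Bool :=
  List.rec (fun a rem => Nat.beq a j && eqWord rem last)
    (fun r _ ih a rem => Nat.blt (r / 2) k && L.ref r fun x g y => Nat.beq x a &&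
      Bool.rec (List.rec false (fun h t _ => Nat.beq h g && ih y t) rem) (ih y rem) (Nat.beq g 18)) rs

/-- one check -/
noncomputable def Log.checkW (L : Log) (k w : ℕ) : Bool :=
  Nat.blt (fG w) 19 &&
  Bool.rec
    (Bool.rec
      (Nat.blt ((fK w - 2) / 32) L.nrel &&
        L.follow k (fJ w) (Bool.rec [bar (fG w)] [] (Nat.beq (fG w) 18)) (fP w) (fI w) (L.word (fK w - 2)))
      (Nat.beq (fI w) 0 && (Nat.beq (fJ w) 0 && L.sub.any (fun g => Nat.beq g (fG w))))
      (Nat.beq (fK w) 1))
    (Nat.blt (fI w) (fJ w) && Nat.beq (getT L.par (fJ w)) (32 * fI w + fG w))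
    (Nat.beq (fK w) 0)

/-- a range of checks -/
noncomputable def Log.okFrom (L : Log) (a n : ℕ) : Bool :=
  Nat.rec true (fun q ih => L.checkW (a + q) (getT L.fact (a + q)) && ih) n

theorem okFrom_all {L : Log} {a : ℕ} : ∀ {n : ℕ}, L.okFrom a n = true →
    ∀ q < n, L.checkW (a + q) (getT L.fact (a + q)) = true
  | 0, _, q, hq => by omega
  | n + 1, h, q, hq => by
    change (L.checkW (a + n) (getT L.fact (a + n)) && L.okFrom a n) = true at h
    rw [Bool.and_eq_true] at h
    rcases Nat.lt_succ_iff_lt_or_eq.1 hq with hlt | rfl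
    · exact okFrom_all h.2 q hlt
    · exact h.1

theorem app_eq : ∀ l m : List ℕ, app l m = l ++ m
  | [], _ => rfl
  | x :: l, m => congrArg (x :: ·) (app_eq l m)

theorem eqWord_eq : ∀ {l m : List ℕ}, eqWord l m = true → l = m
  | [], [], _ => rfl
  | a :: l, b :: m, h => by
    change (Nat.beq a b && eqWord l m) = true at h
    simp only [Bool.and_eq_true, Nat.beq_eq] at h
    rw [h.1, eqWord_eq h.2]
  | [], _ :: _, h => Bool.noConfusion h
  | _ :: _, [], h => Bool.noConfusion h

theorem invWord_eq (l : List ℕ) : invWord l = (l.map bar).reverse := by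
  have : ∀ (l acc : List ℕ), (List.rec (motive := fun _ => List ℕ → List ℕ) (fun acc => acc)
      (fun x _ ih acc => ih (bar x :: acc)) l acc) = (l.map bar).reverse ++ acc := by
    intro l
    induction l with
    | nil => intro acc; rfl
    | cons x l ih => intro acc; show _ = _; rw [List.map_cons, List.reverse_cons, List.append_assoc]; exact ih _
  exact (this l []).trans (List.append_nil _)

/-- An action in which the relators act trivially and the subgroup fixes the base point. -/
structure Act (L : Log) (α : Type*) where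
  base : α
  act : α → ℕ → α
  ident : ∀ a, act a 18 = a
  cancel : ∀ a g, g < 19 → act (act a g) (bar g) = a
  relator : ∀ r < L.nrel, ∀ a, (getT L.rels r).foldl act a = a
  letters : ∀ r < L.nrel, ∀ g ∈ getT L.rels r, g < 19
  fixed : ∀ g ∈ L.sub, act base g = base

variable {L : Log} {α : Type*} (S : Act L α)

/-- the point of a node -/
noncomputable def Act.val (S : Act L α) (k : ℕ) : α :=
  if h : getT L.par k / 32 < k then S.act (Act.val S (getT L.par k / 32)) (getT L.par k % 32) else S.base
termination_by k

theorem Act.val_zero : S.val 0 = S.base := by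
  rw [Act.val]; simp

theorem bar_bar {g : ℕ} (h : g < 19) : bar g < 19 ∧ bar (bar g) = g := by
  revert h g; decide

theorem Act.fold_inj : ∀ (w : List ℕ), (∀ g ∈ w, g < 19) → Function.Injective fun a => w.foldl S.act a
  | [], _ => fun a b h => h
  | g :: w, hw => fun a b h => by
    have h' := Act.fold_inj w (fun x hx => hw x (List.mem_cons_of_mem _ hx))
      (show w.foldl S.act (S.act a g) = w.foldl S.act (S.act b g) from h)
    rw [← S.cancel a g (hw g List.mem_cons_self), h', S.cancel b g (hw g List.mem_cons_self)]

theorem Act.fold_inv : ∀ (w : List ℕ), (∀ g ∈ w, g < 19) → ∀ a, (invWord w).foldl S.act (w.foldl S.act a) = a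
  | [], _, a => rfl
  | g :: w, hw, a => by
    have e : invWord (g :: w) = invWord w ++ [bar g] := by simp [invWord_eq]
    simp only [e, List.foldl_append, List.foldl_cons, List.foldl_nil]
    rw [Act.fold_inv w (fun x hx => hw x (List.mem_cons_of_mem _ hx)), S.cancel a g (hw g List.mem_cons_self)]

theorem Act.rot_fix : ∀ (n : ℕ) (r : List ℕ), (∀ g ∈ r, g < 19) → (∀ a, r.foldl S.act a = a) →
    (∀ g ∈ rot r n, g < 19) ∧ ∀ a, (rot r n).foldl S.act a = a
  | 0, r, h1, h2 => ⟨h1, h2⟩
  | n + 1, [], h1, h2 => Act.rot_fix n [] h1 h2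
  | n + 1, x :: t, h1, h2 => by
    refine Act.rot_fix n (app t [x]) ?_ ?_
    · intro g hg
      rw [app_eq] at hg
      rcases List.mem_append.1 hg with h | h
      · exact h1 g (List.mem_cons_of_mem _ h)
      · rw [List.mem_singleton.1 h]; exact h1 x List.mem_cons_self
    · intro a
      rw [app_eq, List.foldl_append, List.foldl_cons, List.foldl_nil]
      have hx := h1 x List.mem_cons_self
      have hb := bar_bar hx
      have key : S.act (S.act a (bar x)) x = a := by
        have := S.cancel a (bar x) hb.1
        rwa [hb.2] at this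
      have h := h2 (S.act a (bar x))
      rw [List.foldl_cons, key] at h
      rw [h, key]

theorem Act.word_fix {k : ℕ} (hk : k / 32 < L.nrel) (a : α) : (L.word k).foldl S.act a = a := by
  obtain ⟨h1, h2⟩ := S.rot_fix (k % 32) _ (S.letters _ hk) (S.relator _ hk)
  conv_lhs => rw [Log.word, ← h2 a]
  exact S.fold_inv _ h1 a

/-- the fact at a given place holds -/
def Act.Holds (S : Act L α) (k : ℕ) : Prop :=
  S.act (S.val (fI (getT L.fact k))) (fG (getT L.fact k)) = S.val (fJ (getT L.fact k)) ∧ fG (getT L.fact k) < 19

theorem Act.ref_spec {r : ℕ} (h : S.Holds (r / 2)) :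
    L.ref r fun x g y => S.act (S.val x) g = S.val y ∧ g < 19 := by
  unfold Log.ref
  cases Nat.beq (r % 2) 0
  · exact ⟨by rw [← h.1, S.cancel _ _ h.2], (bar_bar h.2).1⟩
  · exact h

theorem Act.follow_spec {k j : ℕ} {last : List ℕ} (hk : ∀ n < k, S.Holds n) :
    ∀ (rs : List ℕ) (a : ℕ) (rem : List ℕ), L.follow k j last rs a rem = true →
      ∃ v, rem = v ++ last ∧ v.foldl S.act (S.val a) = S.val j ∧ ∀ g ∈ v, g < 19
  | [], a, rem, h => by
    change (Nat.beq a j && eqWord rem last) = true at h
    simp only [Bool.and_eq_true, Nat.beq_eq] at h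
    exact ⟨[], by rw [eqWord_eq h.2]; rfl, by rw [h.1]; rfl, by simp⟩
  | r :: rs, a, rem, h => by
    change (Nat.blt (r / 2) k && L.ref r fun x g y => Nat.beq x a &&
      Bool.rec (List.rec false (fun h t _ => Nat.beq h g && L.follow k j last rs y t) rem)
        (L.follow k j last rs y rem) (Nat.beq g 18)) = true at h
    simp only [Bool.and_eq_true, Nat.blt_eq] at h
    obtain ⟨hr, h⟩ := h
    have main : ∀ x g y : ℕ, (Nat.beq x a &&
        Bool.rec (List.rec false (fun h t _ => Nat.beq h g && L.follow k j last rs y t) rem)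
          (L.follow k j last rs y rem) (Nat.beq g 18)) = true →
        (S.act (S.val x) g = S.val y ∧ g < 19) →
        ∃ v, rem = v ++ last ∧ v.foldl S.act (S.val a) = S.val j ∧ ∀ g ∈ v, g < 19 := by
      clear h
      intro x g y h he
      simp only [Bool.and_eq_true, Nat.beq_eq] at h
      obtain ⟨rfl, h⟩ := h
      cases h18 : Nat.beq g 18
      · rw [h18] at h
        cases rem with
        | nil => exact Bool.noConfusion h
        | cons z t =>
          change (Nat.beq z g && L.follow k j last rs y t) = true at h
          simp only [Bool.and_eq_true, Nat.beq_eq] at h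
          obtain ⟨v, hv, hv1, hv2⟩ := Act.follow_spec hk rs _ _ h.2
          refine ⟨g :: v, by rw [hv, h.1]; rfl, by rw [List.foldl_cons, he.1, hv1], fun q hq => ?_⟩
          rcases List.mem_cons.1 hq with rfl | hq
          · exact he.2
          · exact hv2 q hq
      · rw [h18] at h
        obtain ⟨v, hv, hv1, hv2⟩ := Act.follow_spec hk rs _ _ h
        have e := he.1
        rw [Nat.eq_of_beq_eq_true h18, S.ident] at e
        exact ⟨v, hv, by rw [e, hv1], hv2⟩
    have hedge := S.ref_spec (hk _ hr)
    unfold Log.ref at h hedge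
    cases hb : Nat.beq (r % 2) 0
    · rw [hb] at h hedge
      exact main _ _ _ h hedge
    · rw [hb] at h hedge
      exact main _ _ _ h hedge

/-- A checked range extends the valid prefix. -/
theorem Act.holds_step {a n : ℕ} (hok : L.okFrom a n = true) (hprev : ∀ k < a, S.Holds k) :
    ∀ k < a + n, S.Holds k := by
  intro k
  induction k using Nat.strong_induction_on with
  | _ k ih =>
    intro hk
    by_cases hka : k < a
    · exact hprev k hka
    have hc := okFrom_all hok (k - a) (by omega)
    rw [show a + (k - a) = k by omega] at hc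
    set w := getT L.fact k with hw
    simp only [Log.checkW, Bool.and_eq_true, Nat.blt_eq] at hc
    obtain ⟨hg, hc⟩ := hc
    refine ⟨?_, hg⟩
    rw [← hw]
    cases h0 : Nat.beq (fK w) 0
    · rw [h0] at hc
      cases h1 : Nat.beq (fK w) 1
      · rw [h1] at hc
        simp only [Bool.and_eq_true, Nat.blt_eq] at hc
        obtain ⟨hn, hc⟩ := hc
        obtain ⟨v, hv, h2, -⟩ := S.follow_spec (fun m hm => ih m hm (by omega)) _ _ _ hc
        have hfix := S.word_fix hn (S.val (fI w))
        rw [hv] at hfix
        cases h18 : Nat.beq (fG w) 18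
        · rw [h18] at hfix
          rw [List.foldl_append, h2, List.foldl_cons, List.foldl_nil] at hfix
          have hbb := bar_bar hg
          have hc' := S.cancel (S.val (fJ w)) _ hbb.1
          rw [hbb.2, hfix] at hc'
          exact hc'
        · rw [h18] at hfix
          rw [List.append_nil, h2] at hfix
          rw [Nat.eq_of_beq_eq_true h18, S.ident, hfix]
      · rw [h1] at hc
        simp only [Bool.and_eq_true, Nat.beq_eq, List.any_eq_true] at hc
        obtain ⟨e1, e2, g, hgs, e3⟩ := hc
        rw [e1, e2, S.val_zero, ← e3]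
        exact S.fixed _ hgs
    · rw [h0] at hc
      simp only [Bool.and_eq_true, Nat.blt_eq, Nat.beq_eq] at hc
      obtain ⟨h1, h2⟩ := hc
      have hd : getT L.par (fJ w) / 32 = fI w ∧ getT L.par (fJ w) % 32 = fG w := by omega
      conv_rhs => rw [Act.val, dif_pos (by rw [hd.1]; exact h1), hd.1, hd.2]

end Cfsg.Agent.Spor.JThree.Unique
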