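import Cfsg.Agent.Lib.Spor.JThree.Unique.Iso
import Cfsg.Agent.Lib.Spor.JThree.Main
import Cfsg.Agent.Lib.Local.FS.JankoThreeAnyField
import Cfsg.Agent.Lib.Local.FS.JankoThreeCentralizer

/-!
# Uniqueness of the third Janko group
-/

set_option autoImplicit false
set_option linter.style.haveILetI false

namespace Cfsg.Agent.Spor.JThree.Unique

open Cfsg.Agent.Spor.JThree Cfsg.Agent.Lie Cfsg.Agent.Lie.HJType

universe u

/-- the coordinates from the hypotheses -/
theorem exists_Hyp {G : Type u} [Group G] [Finite G] [IsSimpleGroup G]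
    (hone : ∀ x y : G, orderOf x = 2 → orderOf y = 2 → IsConj x y) (t : G) (ht : orderOf t = 2)
    (E : Subgroup (Subgroup.centralizer ({t} : Set G))) [E.Normal] (hE : Nat.card E = 32) (hX : Cfsg.IsExtraspecial 2 E)
    (e : (Subgroup.centralizer ({t} : Set G)) ⧸ E ≃* alternatingGroup (Fin 5)) : Nonempty (Hyp t) := by
  classical
  obtain ⟨hS, hc, hq⟩ := J2Unique.setting_of_normal t ht E hX hE (core_self_cent t ht E hE hX e) e
  obtain ⟨F⟩ := exists_frame_of hS hc hq (exists_noncentral_invol hS hc)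
  have hout := exists_outer_invol F fun x hx => hone t x ht hx
  obtain ⟨K⟩ := exists_coord F hout (card_centralizer F)
  exact ⟨⟨ht, K, fun x hx => hone t x ht hx, card_of_one_class hone t ht E hE hX e⟩⟩

theorem exists_field_four : ∃ (F : Type) (_ : Field F) (_ : Fintype F) (ω : F),
    Fintype.card F = 4 ∧ ω ^ 2 + ω + 1 = 0 := by
  haveI : Fact (Nat.Prime 2) := ⟨Nat.prime_two⟩
  let F := GaloisField 2 2
  haveI : Fintype F := Fintype.ofFinite F
  have hF : Fintype.card F = 4 := by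
    rw [← Nat.card_eq_fintype_card, GaloisField.card 2 2 (by norm_num)]
    norm_num
  obtain ⟨ω, h0, h1⟩ : ∃ ω : F, ω ≠ 0 ∧ ω ≠ 1 := by
    classical
    by_contra! h
    have : (Finset.univ : Finset F) ⊆ {0, 1} := fun x _ => by
      by_cases hx : x = 0
      · simp [hx]
      · simp [h x hx]
    have := (Finset.card_le_card this).trans Finset.card_le_two
    rw [Finset.card_univ, hF] at this
    omega
  have h3 : ω ^ 3 = 1 := by
    have := FiniteField.pow_card_sub_one_eq_one ω h0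
    rwa [hF] at this
  refine ⟨F, inferInstance, inferInstance, ω, hF, ?_⟩
  have : (ω - 1) * (ω ^ 2 + ω + 1) = 0 := by
    calc (ω - 1) * (ω ^ 2 + ω + 1) = ω ^ 3 - 1 := by ring
      _ = 0 := by rw [h3, sub_self]
  exact (mul_eq_zero.1 this).resolve_left (sub_ne_zero.2 h1)

/-- uniqueness -/
theorem isoJ3_of_one_class {G : Type u} [Group G] [Finite G] [IsSimpleGroup G]
    (hone : ∀ x y : G, orderOf x = 2 → orderOf y = 2 → IsConj x y) (t : G) (ht : orderOf t = 2)
    (E : Subgroup (Subgroup.centralizer ({t} : Set G))) [E.Normal] (hE : Nat.card E = 32) (hX : Cfsg.IsExtraspecial 2 E)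
    (e : (Subgroup.centralizer ({t} : Set G)) ⧸ E ≃* alternatingGroup (Fin 5)) : Cfsg.Spor.IsoJ3 G := by
  classical
  obtain ⟨S⟩ := exists_Hyp hone t ht E hE hX e
  obtain ⟨D⟩ := exists_Gens S
  obtain ⟨F, iF, iFt, ω, hF, hω⟩ := exists_field_four
  obtain ⟨⟨c⟩, hfin⟩ := Local.FS.JankoThree.exists_coded_any hF ω hω
  haveI := hfin
  haveI : IsSimpleGroup (Spor.J3 F ω) := (J3Cert.J3_facts hF hω).2
  obtain ⟨s, hs, Q, hQn, hQX, hQc, -, -, ⟨e'⟩⟩ := c.centralizer_structure
  obtain ⟨S'⟩ := exists_Hyp c.all_conj s hs Q hQc hQX e'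
  obtain ⟨D'⟩ := exists_Gens S'
  exact ⟨F, iF, iFt, ω, hF, hω, D.nonempty_iso D'⟩

end Cfsg.Agent.Spor.JThree.Unique
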