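import Cfsg.Agent.Lib.Spor.JThree.Unique.Subgroups

/-!
# A subgroup containing the centralizer and the normalizer is everything
-/

set_option autoImplicit false
set_option linter.style.haveILetI false
set_option linter.unusedSectionVars false
set_option maxRecDepth 100000

namespace Cfsg.Agent.Spor.JThree.Unique

open Cfsg.Agent.Spor.JThree

universe u

variable {G : Type u} [Group G] {t : G} {S : Hyp t}

theorem trans_ok : ((List.range 16).all fun m => Nat.beq m 0 ||
    tWords.any fun w => Nat.beq (ap (nWord w).1 1) m) = true := by decide +kernel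

theorem conjCert_ok : (Nat.beq conjCert.length 120 && decide (conjCert.map Prod.fst).Nodup &&
    conjCert.all fun p => Nat.blt p.1 1920 && Nat.beq (mc p.1 p.1) 0 && !(Nat.beq p.1 0)) = true := by decide +kernel

variable [Finite G] (D : Gens S)

/-- the main step -/
theorem Gens.eq_top (L₀ : Subgroup G) (hC : ∀ x < 1920, S.d x ∈ L₀) (hx : D.L.x ∈ L₀) : L₀ = ⊤ := by
  classical
  have hn : D.L.n ∈ L₀ := by
    have hm : D.L.m ∈ L₀ := L₀.mul_mem (hC 92 (by norm_num)) hx
    have h : D.L.n = D.L.m * S.d D.y * D.L.m⁻¹ := by rw [D.ey]; group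
    rw [h]
    exact L₀.mul_mem (L₀.mul_mem hm (hC _ D.y_lt)) (L₀.inv_mem hm)
  have hcent : ∀ g, Commute g t → g ∈ L₀ := fun g hg => by
    obtain ⟨x, hx', rfl⟩ := exists_code S hg
    exact hC x hx'
  -- involutions of the centralizer
  have hA : ∀ m < 16, m ≠ 0 → ∃ w ∈ L₀, w⁻¹ * t * w = S.av m := by
    intro m hm hm0
    have h := List.all_eq_true.1 trans_ok m (List.mem_range.2 hm)
    simp only [Bool.or_eq_true, List.any_eq_true, Nat.beq_eq] at h
    obtain ⟨w, hw, e⟩ := h.resolve_left hm0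
    have hl := pList_ok
    simp only [Bool.and_eq_true, List.all_eq_true, Nat.beq_eq] at hl
    obtain ⟨-, l, hlift, el⟩ := D.nWord_spec (hl.1.1.1.1 w hw).1
    rw [(hl.1.1.1.1 w hw).2, av_zero, mul_one] at el
    refine ⟨D.val w, ?_, ?_⟩
    · refine L₀.list_prod_mem fun g hg => ?_
      obtain ⟨k, hk, rfl⟩ := List.mem_map.1 hg
      rcases tWords_letters w hw k hk with rfl | rfl | rfl
      · exact hC 378 (by norm_num)
      · exact hx
      · exact hn
    · have h := (hlift.2.2 1 (by norm_num)).2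
      rw [e, av_t] at h
      rw [el]
      exact h
  have hinC : ∀ s : G, orderOf s = 2 → Commute s t → ∃ w ∈ L₀, w⁻¹ * t * w = s := by
    intro s hs hst
    obtain ⟨x, hx', rfl⟩ := exists_code S hst
    have h2 : mc x x = 0 := by
      refine d_inj S (S.e.lt _ hx' _ hx') (by norm_num) ?_
      rw [d_mul S hx' hx', d_one, sq_one hs]
    have h0 : x ≠ 0 := fun h => by
      rw [h, d_one, orderOf_one] at hs
      exact absurd hs (by norm_num)
    have h := List.all_eq_true.1 cover_ok x (List.mem_range.2 hx')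
    simp only [h2, Nat.beq_refl, Bool.not_true, Bool.false_or, Bool.or_eq_true, Nat.beq_eq, List.any_eq_true,
      Bool.and_eq_true, Nat.blt_eq, List.contains_iff_mem, Bool.not_eq_true'] at h
    obtain ⟨⟨x', g, a⟩, -, ⟨⟨⟨rfl, hg⟩, ha⟩, ha0⟩, hcj⟩ := h.resolve_left h0
    obtain ⟨m, hm, hma⟩ := vecL_mem ha
    have hm0 : m ≠ 0 := fun h => by
      subst h
      rw [← hma, show vec 0 = 0 from rfl, Nat.beq_refl] at ha0
      exact Bool.noConfusion ha0
    obtain ⟨w, hw, ew⟩ := hA m hm hm0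
    refine ⟨w * (S.d g)⁻¹, L₀.mul_mem hw (L₀.inv_mem (hC g hg)), ?_⟩
    have e : (S.d g)⁻¹ * S.d x' * S.d g = S.av m := by rw [← d_cjc S hx' hg, hcj, Hyp.av, hma]
    calc (w * (S.d g)⁻¹)⁻¹ * t * (w * (S.d g)⁻¹) = S.d g * (w⁻¹ * t * w) * (S.d g)⁻¹ := by group
      _ = S.d x' := by rw [ew, ← e]; group
  have hinL : ∀ s : G, orderOf s = 2 → s ∈ L₀ → ∃ w ∈ L₀, w⁻¹ * t * w = s := by
    intro s hs hsL
    set a := t * s with ha
    have haL : a ∈ L₀ := L₀.mul_mem (hcent t (Commute.refl t)) hsL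
    have ti : t⁻¹ = t := inv_eq_of_mul_eq_one_right (t_sq S)
    have si : s⁻¹ = s := inv_eq_of_mul_eq_one_right (sq_one hs)
    have hta : t * a * t⁻¹ = a⁻¹ := by
      rw [ha, mul_inv_rev, si, ti, ← mul_assoc t t s, t_sq S, one_mul]
    have hpow : ∀ r : ℕ, t * a ^ r * t⁻¹ = (a ^ r)⁻¹ := fun r => by rw [← conj_pow, hta, inv_pow]
    rcases Nat.even_or_odd' (orderOf a) with ⟨r, hr | hr⟩
    · have hr0 : 0 < r := by
        have := orderOf_pos a
        omega
      set ρ := a ^ r with hρ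
      have hρ2 : ρ * ρ = 1 := by rw [hρ, ← pow_add, ← two_mul, ← hr, pow_orderOf_eq_one]
      have hρ1 : ρ ≠ 1 := fun h => by
        have := orderOf_le_of_pow_eq_one hr0 h
        omega
      have hρt : Commute ρ t := by
        have h := hpow r
        rw [← hρ, inv_eq_of_mul_eq_one_right hρ2, mul_inv_eq_iff_eq_mul] at h
        exact h.symm
      have hρs : Commute ρ s := by
        have h : Commute ρ (t⁻¹ * a) := hρt.inv_right.mul_right ((Commute.refl a).pow_left r)
        rwa [ha, inv_mul_cancel_left] at h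
      obtain ⟨w, hw, ew⟩ := hinC ρ (two_of hρ1 hρ2) hρt
      have hs' : Commute (w * s * w⁻¹) t := by
        have h := (Commute.conj_iff w).2 hρs.symm
        rwa [← ew, show w * (w⁻¹ * t * w) * w⁻¹ = t by group] at h
      obtain ⟨v, hv, ev⟩ := hinC (w * s * w⁻¹)
        (by rw [show w * s * w⁻¹ = MulAut.conj w s from rfl, MulEquiv.orderOf_eq]; exact hs) hs'
      refine ⟨v * w, L₀.mul_mem hv hw, ?_⟩
      calc (v * w)⁻¹ * t * (v * w) = w⁻¹ * (v⁻¹ * t * v) * w := by group
        _ = s := by rw [ev]; group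
    · refine ⟨a ^ (r + 1), L₀.pow_mem haL _, ?_⟩
      have h1 : (a ^ (r + 1))⁻¹ * t = t * a ^ (r + 1) := by rw [← hpow (r + 1), inv_mul_cancel_right]
      have h2 : a ^ (r + 1) * a ^ (r + 1) = a := by
        rw [← pow_add, show r + 1 + (r + 1) = orderOf a + 1 by omega, pow_succ, pow_orderOf_eq_one, one_mul]
      rw [h1, mul_assoc, h2, ha, ← mul_assoc, t_sq S, one_mul]
  have hkey : ∀ g ρ : G, orderOf ρ = 2 → ρ ∈ L₀ → g⁻¹ * ρ * g ∈ L₀ → g ∈ L₀ := by
    intro g ρ hρ hρL hgρ
    have hρ' : orderOf (g⁻¹ * ρ * g) = 2 := by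
      rw [show g⁻¹ * ρ * g = MulAut.conj g⁻¹ ρ by rw [MulAut.conj_apply, inv_inv], MulEquiv.orderOf_eq]
      exact hρ
    obtain ⟨w, hw, ew⟩ := hinL ρ hρ hρL
    obtain ⟨w', hw', ew'⟩ := hinL _ hρ' hgρ
    have h : Commute (w * g * w'⁻¹) t := by
      show w * g * w'⁻¹ * t = t * (w * g * w'⁻¹)
      calc w * g * w'⁻¹ * t = w * g * (w'⁻¹ * t * w') * w'⁻¹ := by group
        _ = w * ρ * g * w'⁻¹ := by rw [ew']; group
        _ = _ := by rw [← ew]; group
    have := L₀.mul_mem (L₀.mul_mem (L₀.inv_mem hw) (hcent _ h)) hw'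
    rwa [show w⁻¹ * (w * g * w'⁻¹) * w' = g by group] at this
  -- the index is small
  have hc := conjCert_ok
  simp only [Bool.and_eq_true, Nat.beq_eq, decide_eq_true_eq, List.all_eq_true, Nat.blt_eq, Bool.not_eq_true'] at hc
  obtain ⟨⟨hlen, hnd⟩, hcert⟩ := hc
  have hw : ∀ k : Fin 120, ∃ w ∈ L₀, w⁻¹ * t * w = S.d (conjCert.getD k.val (0, 0)).1 := by
    intro k
    have hk : k.val < conjCert.length := hlen.symm ▸ k.2
    rw [List.getD_eq_getElem _ _ hk]
    obtain ⟨⟨hlt, h2⟩, h0⟩ := hcert _ (List.getElem_mem hk)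
    refine hinC _ (two_of (fun h => ?_) (by rw [← d_mul S hlt hlt, h2, d_one])) (d_commute S hlt)
    rw [d_inj S hlt (by norm_num) (h.trans (d_one S).symm), Nat.beq_refl] at h0
    exact Bool.noConfusion h0
  choose w hwL hw using hw
  let Φ : Fin 1920 × Fin 120 → L₀ := fun p =>
    ⟨S.d p.1.val * w p.2, L₀.mul_mem (hC _ p.1.2) (hwL p.2)⟩
  have hΦ : Function.Injective Φ := by
    rintro ⟨x, k⟩ ⟨x', k'⟩ h
    have h' : S.d x.val * w k = S.d x'.val * w k' := congrArg Subtype.val h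
    have hk : k = k' := by
      have hconj : ∀ (x : Fin 1920) (k : Fin 120), (S.d x.val * w k)⁻¹ * t * (S.d x.val * w k) =
          S.d (conjCert.getD k.val (0, 0)).1 := fun x k => by
        rw [← hw k]
        calc (S.d x.val * w k)⁻¹ * t * (S.d x.val * w k) = (w k)⁻¹ * ((S.d x.val)⁻¹ * (t * S.d x.val)) * w k := by
              group
          _ = _ := by rw [← (d_commute S x.2).eq, inv_mul_cancel_left]
      have e := (hconj x k).symm.trans ((h' ▸ hconj x' k'))
      have hk1 : k.val < conjCert.length := hlen.symm ▸ k.2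
      have hk2 : k'.val < conjCert.length := hlen.symm ▸ k'.2
      rw [List.getD_eq_getElem _ _ hk1, List.getD_eq_getElem _ _ hk2] at e
      have e' := d_inj S (hcert _ (List.getElem_mem hk1)).1.1 (hcert _ (List.getElem_mem hk2)).1.1 e
      exact Fin.ext ((List.Nodup.getElem_inj_iff hnd (hi := by simpa using hk1) (hj := by simpa using hk2)).1
        (by simpa using e'))
    subst hk
    rw [mul_left_inj] at h'
    exact Prod.ext (Fin.ext (d_inj S x.2 x'.2 h')) rfl
  have hbig : 230400 ≤ Nat.card L₀ := by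
    have := Nat.card_le_card_of_injective Φ hΦ
    simpa using this
  -- the index is one modulo 128
  have hsyl := syl_ok
  simp only [Bool.and_eq_true, Nat.beq_eq, decide_eq_true_eq, List.all_eq_true, Nat.blt_eq, List.any_eq_true] at hsyl
  obtain ⟨⟨⟨hl128, hnd'⟩, hzero⟩, hclosed⟩ := hsyl
  let P : Subgroup G :=
    { carrier := {g | ∃ x ∈ sylCodes, S.d x = g}
      one_mem' := ⟨0, hzero, d_one S⟩
      mul_mem' := by
        rintro a b ⟨x, hx, rfl⟩ ⟨y, hy, rfl⟩
        obtain ⟨z, hz, e⟩ := (hclosed x hx).2 y hy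
        exact ⟨z, hz, by rw [← d_mul S (hclosed x hx).1.1 (hclosed y hy).1.1, e]⟩
      inv_mem' := by
        rintro a ⟨x, hx, rfl⟩
        exact ⟨iv x, (hclosed x hx).1.2, d_inv S (hclosed x hx).1.1⟩ }
  have hP : Nat.card P = 128 := by
    have e : Nat.card (Fin sylCodes.length) = Nat.card P := Nat.card_eq_of_bijective
      (fun k => ⟨S.d sylCodes[k], sylCodes[k], List.getElem_mem _, rfl⟩)
      ⟨fun k k' h => Fin.ext ((List.Nodup.getElem_inj_iff hnd').1
        (d_inj S (hclosed _ (List.getElem_mem _)).1.1 (hclosed _ (List.getElem_mem _)).1.1 (by have h' := congrArg Subtype.val h; exact h'))),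
       fun ⟨g, x, hx, e⟩ => by
        obtain ⟨k, hk, ek⟩ := List.mem_iff_getElem.1 hx
        exact ⟨⟨k, hk⟩, Subtype.ext (by show S.d sylCodes[k] = g; rw [ek, e])⟩⟩
    rw [← e, Nat.card_fin, hl128]
  let Ω := {c : G ⧸ L₀ // c ≠ ((1 : G) : G ⧸ L₀)}
  have hfix : ∀ (σ : P) (g : G), (σ : G) • (g : G ⧸ L₀) = g → σ ≠ 1 → g ∈ L₀ := by
    intro σ g hσ h1
    obtain ⟨x, hx, ex⟩ := σ.2
    have hσL : (σ : G) ∈ L₀ := ex ▸ hC x (hclosed x hx).1.1
    rw [MulAction.Quotient.smul_coe, smul_eq_mul, QuotientGroup.eq] at hσ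
    have hconjL : g⁻¹ * (σ : G) * g ∈ L₀ := by
      have h := L₀.inv_mem hσ
      rwa [mul_inv_rev, inv_inv, ← mul_assoc] at h
    have hdvd : orderOf (σ : G) ∣ 2 ^ 7 := by
      rw [Subgroup.orderOf_coe, show (2 : ℕ) ^ 7 = 128 by norm_num, ← hP]
      exact orderOf_dvd_natCard σ
    obtain ⟨k, -, hk⟩ := (Nat.dvd_prime_pow Nat.prime_two).1 hdvd
    have hk0 : k ≠ 0 := fun h => h1 (by
      rw [h, pow_zero] at hk
      exact Subtype.ext (orderOf_eq_one_iff.1 hk))
    have hρ : orderOf ((σ : G) ^ 2 ^ (k - 1)) = 2 := by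
      rw [orderOf_pow' _ (by positivity), hk, Nat.gcd_eq_right (Nat.pow_dvd_pow 2 (by omega)),
        Nat.pow_div (by omega) (by norm_num), show k - (k - 1) = 1 by omega, pow_one]
    refine hkey g _ hρ (L₀.pow_mem hσL _) ?_
    have := L₀.pow_mem hconjL (2 ^ (k - 1))
    rwa [show g⁻¹ * (σ : G) * g = g⁻¹ * (σ : G) * (g⁻¹)⁻¹ by rw [inv_inv], conj_pow, inv_inv] at this
  have hmod : L₀.index % 128 = 1 := by
    letI : MulAction P Ω :=
      { smul := fun σ c => ⟨(σ : G) • c.1, fun h => c.2 (by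
          obtain ⟨x, hx, ex⟩ := σ.2
          have hσL : (σ : G)⁻¹ ∈ L₀ := L₀.inv_mem (ex ▸ hC x (hclosed x hx).1.1)
          rw [← inv_smul_smul (σ : G) c.1, h, MulAction.Quotient.smul_coe, smul_eq_mul, mul_one, QuotientGroup.eq]
          simpa using hσL)⟩
        one_smul := fun c => Subtype.ext (one_smul G c.1)
        mul_smul := fun a b c => Subtype.ext (mul_smul (a : G) (b : G) c.1) }
    have hfree : ∀ c : Ω, MulAction.stabilizer P c = ⊥ := fun c => by
      refine (Subgroup.eq_bot_iff_forall _).2 fun σ hσ => ?_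
      by_contra h1
      obtain ⟨g, hg⟩ := QuotientGroup.mk_surjective c.1
      have h := hfix σ g (by rw [hg]; exact congrArg Subtype.val hσ) h1
      exact c.2 (by rw [← hg, QuotientGroup.eq]; simpa using L₀.inv_mem h)
    haveI : Fintype (MulAction.orbitRel.Quotient P Ω) := Fintype.ofFinite _
    have hΩ : 128 ∣ Nat.card Ω := by
      rw [Nat.card_congr (MulAction.selfEquivSigmaOrbitsQuotientStabilizer P Ω), Nat.card_sigma]
      refine Finset.dvd_sum fun ω _ => ?_
      rw [hfree]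
      show 128 ∣ (⊥ : Subgroup P).index
      rw [Subgroup.index_bot, hP]
    have htot : L₀.index = Nat.card Ω + 1 := by
      haveI : Fintype (G ⧸ L₀) := Fintype.ofFinite _
      rw [Subgroup.index, Nat.card_eq_fintype_card, Nat.card_eq_fintype_card]
      have h := Fintype.card_subtype_compl (fun c : G ⧸ L₀ => c = ((1 : G) : G ⧸ L₀))
      rw [Fintype.card_subtype_eq] at h
      have hpos : 0 < Fintype.card (G ⧸ L₀) := Fintype.card_pos
      show _ = Fintype.card {c // ¬ c = ((1 : G) : G ⧸ L₀)} + 1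
      omega
    obtain ⟨r, hr⟩ := hΩ
    omega
  have hmul : Nat.card L₀ * L₀.index = 50232960 := by rw [Subgroup.card_mul_index, S.hcard]
  have hle : L₀.index ≤ 218 := by
    by_contra h
    have := Nat.mul_le_mul hbig (show 219 ≤ L₀.index by omega)
    omega
  have h129 : L₀.index ≠ 129 := fun h => by
    rw [h] at hmul
    omega
  rw [← Subgroup.index_eq_one]
  omega

end Cfsg.Agent.Spor.JThree.Unique
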