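import Cfsg.Agent.Lib.Spor.JThree.Unique.Invert
import Cfsg.Agent.Lib.Spor.JThree.Unique.Engine

/-!
# Nine generators and the relators they satisfy
-/

set_option autoImplicit false
set_option linter.style.haveILetI false
set_option linter.unusedSectionVars false
set_option maxRecDepth 100000

namespace Cfsg.Agent.Spor.JThree.Unique

open Cfsg.Agent.Spor.JThree

universe u

variable {G : Type u} [Group G] {t : G} {S : Hyp t}

/-- the nine generators -/
structure Gens (S : Hyp t) where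
  L : Lift S
  i : G
  y : ℕ
  I : ℕ
  hy : y = 55 ∨ y = 182
  hI : I ∈ repsI y
  ey : S.d y = L.m⁻¹ * L.n * L.m
  eI : S.d I = L.m⁻¹ * i * L.m
  hi : orderOf i = 2
  hix : Commute i L.x
  hij : Commute i (S.d 378)
  hin : i * L.n * i * L.n = 1

theorem exists_Gens [Finite G] (S : Hyp t) : Nonempty (Gens S) := by
  obtain ⟨L₀⟩ := exists_Lift S
  obtain ⟨L, y, hy, ey⟩ := exists_good L₀
  obtain ⟨i, hi, hix, hij, hin⟩ := exists_i L
  have hy' : y < 1920 := by rcases hy with rfl | rfl <;> norm_num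
  obtain ⟨x, hx, ex⟩ := exists_code S (m_conj L hij)
  have hmi : ∀ a b : G, L.m⁻¹ * a * L.m * (L.m⁻¹ * b * L.m) = L.m⁻¹ * (a * b) * L.m := fun a b => by group
  have hm1 : ∀ a : G, L.m⁻¹ * a * L.m = 1 → a = 1 := fun a h => by
    calc a = L.m * (L.m⁻¹ * a * L.m) * L.m⁻¹ := by group
      _ = 1 := by rw [h]; group
  have c1 : mc x x = 0 := by
    refine d_inj S (S.e.lt _ hx _ hx) (by norm_num) ?_
    rw [d_mul S hx hx, ex, d_one, hmi, sq_one hi]
    group
  have c2 : ¬ x ≤ 1 := by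
    intro h
    interval_cases x
    · rw [d_one] at ex
      have := hm1 i ex.symm
      rw [this, orderOf_one] at hi
      exact absurd hi (by norm_num)
    · rw [d_t] at ex
      have hij' : i = S.d 378 := by
        have e : L.m⁻¹ * i * L.m = L.m⁻¹ * S.d 378 * L.m := ex.symm.trans (m_j L).symm
        exact mul_left_cancel (mul_right_cancel e)
      have h2 : L.x * L.x = 1 := by
        have e := j_inv L
        rw [← hij', hix.eq, mul_assoc L.x i i, sq_one hi, mul_one] at e
        exact e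
      have := x_order L
      have hd : orderOf L.x ∣ 2 := orderOf_dvd_of_pow_eq_one (by rw [pow_two, h2])
      rw [this] at hd
      norm_num at hd
  have c3 : mc (mc x y) x = iv y := by
    refine d_inj S (S.e.lt _ (S.e.lt _ hx _ hy') _ hx) (iv_facts hy').1 ?_
    rw [d_mul S (S.e.lt _ hx _ hy') hx, d_mul S hx hy', d_inv S hy', ex, ey, hmi, hmi]
    refine eq_inv_of_mul_eq_one_left ?_
    rw [hmi, hin]
    group
  have h := List.all_eq_true.1 (List.all_eq_true.1 I_ok y (by rcases hy with rfl | rfl <;> simp)) x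
    (List.mem_range.2 hx)
  have c2' : Nat.ble x 1 = false := Bool.eq_false_iff.2 fun h => c2 (Nat.le_of_ble_eq_true h)
  simp only [c1, c2', c3, Nat.beq_refl, Bool.not_false, Bool.and_self, Bool.not_true, Bool.false_or,
    List.any_eq_true, List.mem_range, List.contains_iff_mem] at h
  obtain ⟨r, -, hr⟩ := h
  have hn3 : L.n⁻¹ * L.n = 1 := inv_mul_cancel _
  refine ⟨⟨L, (L.n ^ r)⁻¹ * i * L.n ^ r, y, cjc x (pw y r), hy, hr, ey, ?_, ?_, ?_, ?_, ?_⟩⟩
  · rw [d_cjc S hx (d_pow S hy' r).1, (d_pow S hy' r).2, ex, ey,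
      show L.m⁻¹ * L.n * L.m = L.m⁻¹ * L.n * (L.m⁻¹)⁻¹ by rw [inv_inv], conj_pow, inv_inv]
    group
  · rw [show (L.n ^ r)⁻¹ * i * L.n ^ r = MulAut.conj (L.n ^ r)⁻¹ i by rw [MulAut.conj_apply, inv_inv],
      MulEquiv.orderOf_eq]
    exact hi
  · have h : Commute (L.n ^ r) L.x := (x_lift L).1.pow_left r
    exact (h.inv_left.mul_left hix).mul_left h
  · have h : Commute (L.n ^ r) (S.d 378) := L.c378.pow_left r
    exact (h.inv_left.mul_left hij).mul_left h
  · have hc : L.n ^ r * L.n = L.n * L.n ^ r := by rw [← pow_succ, ← pow_succ']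
    calc (L.n ^ r)⁻¹ * i * L.n ^ r * L.n * ((L.n ^ r)⁻¹ * i * L.n ^ r) * L.n =
          (L.n ^ r)⁻¹ * i * (L.n ^ r * L.n) * ((L.n ^ r)⁻¹ * i * (L.n ^ r * L.n)) := by group
      _ = (L.n ^ r)⁻¹ * (i * L.n * i * L.n) * L.n ^ r := by rw [hc]; group
      _ = 1 := by rw [hin]; group

variable (D : Gens S)

theorem Gens.y_lt : D.y < 1920 := by rcases D.hy with h | h <;> rw [h] <;> norm_num

theorem Gens.I_lt : D.I < 1920 := by
  have h := D.hI
  rcases D.hy with e | e <;> rw [e] at h <;> simp [repsI] at h <;> omega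

/-- the letters -/
noncomputable def Gens.g : ℕ → G
  | 0 => S.d 96
  | 1 => (S.d 96)⁻¹
  | 2 => S.d 55
  | 3 => (S.d 55)⁻¹
  | 4 => S.d 378
  | 5 => (S.d 378)⁻¹
  | 6 => S.d 92
  | 7 => (S.d 92)⁻¹
  | 8 => S.d D.y
  | 9 => (S.d D.y)⁻¹
  | 10 => S.d D.I
  | 11 => (S.d D.I)⁻¹
  | 12 => D.L.x
  | 13 => D.L.x⁻¹
  | 14 => D.L.n
  | 15 => D.L.n⁻¹
  | 16 => D.i
  | 17 => D.i⁻¹
  | _ => 1

theorem Gens.g_bar {k : ℕ} (hk : k < 19) : D.g (bar k) = (D.g k)⁻¹ := by
  interval_cases k <;> first | rfl | exact (inv_inv _).symm | exact inv_one.symm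

/-- the code of a letter -/
def cLetter (y I k : ℕ) : ℕ :=
  [96, iv 96, 55, iv 55, 378, iv 378, 92, iv 92, y, iv y, I, iv I].getD k 0

theorem Gens.cLetter_spec {k : ℕ} (hk : k < 12) :
    cLetter D.y D.I k < 1920 ∧ S.d (cLetter D.y D.I k) = D.g k := by
  have hy := D.y_lt
  have hI := D.I_lt
  interval_cases k <;> simp only [cLetter, Gens.g, List.getD_cons_zero, List.getD_cons_succ] <;>
    refine ⟨?_, ?_⟩ <;>
    first
      | assumption
      | (norm_num; done)
      | exact (iv_facts hy).1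
      | exact (iv_facts hI).1
      | exact d_inv S hy
      | exact d_inv S hI
      | exact (iv_facts (show 96 < 1920 by norm_num)).1
      | exact d_inv S (show 96 < 1920 by norm_num)
      | exact (iv_facts (show 55 < 1920 by norm_num)).1
      | exact d_inv S (show 55 < 1920 by norm_num)
      | exact (iv_facts (show 378 < 1920 by norm_num)).1
      | exact d_inv S (show 378 < 1920 by norm_num)
      | exact (iv_facts (show 92 < 1920 by norm_num)).1
      | exact d_inv S (show 92 < 1920 by norm_num)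

/-- the pair of a letter: an action and coordinates -/
def nLetter (k : ℕ) : List ℕ × ℕ :=
  [(idP, 2), (idP, 2), (P3, 0), (cmp P3 P3, 0), (Pj, 0), (Pj, 0), (idP, 0), (idP, 0), (idP, 0), (idP, 0),
    (idP, 0), (idP, 0), (Px, 0), (cmp Px (cmp Px (cmp Px Px)), 0), (Pz, 0), (cmp Pz Pz, 0)].getD k (idP, 0)

/-- a letter of the normalizer -/
def isN (k : ℕ) : Bool := Nat.blt k 6 || (Nat.ble 12 k && Nat.blt k 16)

/-- a pair represents an element -/
def Rep (g : G) (p : List ℕ × ℕ) : Prop :=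
  p.2 < 16 ∧ ∃ l, IsLift S D.L.n l p.1 ∧ g = l * S.av p.2

theorem Gens.rep_one : Rep D 1 (idP, 0) :=
  ⟨by norm_num, 1, ⟨Commute.one_right _, acts_one S⟩, by simp [av_zero]⟩

/-- product of pairs -/
def nMul (p q : List ℕ × ℕ) : List ℕ × ℕ := (cmp p.1 q.1, Nat.xor (ap q.1 p.2) q.2)

theorem Gens.rep_mul {g g' : G} {p q : List ℕ × ℕ} (h : Rep D g p) (h' : Rep D g' q) :
    Rep D (g * g') (nMul p q) := by
  obtain ⟨hp, l, hl, rfl⟩ := h
  obtain ⟨hq, l', hl', rfl⟩ := h'
  obtain ⟨h1, h2⟩ := hl'.2.2 _ hp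
  refine ⟨xor_lt16 h1 hq, l * l', hl.mul S hl', ?_⟩
  show _ = _ * S.av (Nat.xor (ap q.1 p.2) q.2)
  rw [← av_mul S h1 hq, ← h2]
  group

theorem Gens.rep_id {g : G} {p : List ℕ × ℕ} (h : Rep D g p) (hp : p.1 = idP) : g = S.av p.2 := by
  obtain ⟨-, l, hl, rfl⟩ := h
  rw [hp] at hl
  rw [hl.unique S D.L.act ⟨Commute.one_right _, acts_one S⟩, one_mul]

theorem pw_facts : (Nat.beq (pw 55 3) 0 && Nat.beq (mc 378 378) 0 && Nat.beq (vec 2) 96 && Nat.beq (mc 96 96) 0) =
    true := by decide +kernel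

theorem Gens.nLetter_spec {k : ℕ} (hk : isN k = true) : Rep D (D.g k) (nLetter k) := by
  have hz : ∀ {g : G} {P : List ℕ}, IsLift S D.L.n g P → Rep D g (P, 0) := fun h =>
    ⟨by norm_num, _, h, by simp [av_zero]⟩
  have hp := pw_facts
  simp only [Bool.and_eq_true, Nat.beq_eq] at hp
  obtain ⟨⟨⟨h55, h378⟩, h2⟩, h96⟩ := hp
  have ha : Rep D (S.d 96) (idP, 2) :=
    ⟨by norm_num, 1, ⟨Commute.one_right _, acts_one S⟩, by rw [one_mul, Hyp.av, h2]⟩
  have la : IsLift S D.L.n (S.d 55) P3 := ⟨D.L.c55, acts55 S⟩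
  have lb : IsLift S D.L.n (S.d 378) Pj := ⟨D.L.c378, acts378 S⟩
  have lx := x_lift D.L
  have ln : IsLift S D.L.n D.L.n Pz := ⟨Commute.refl _, D.L.act⟩
  have i96 : (S.d 96)⁻¹ = S.d 96 :=
    inv_eq_of_mul_eq_one_right (by rw [← d_mul S (by norm_num) (by norm_num), h96, d_one])
  have i55 : (S.d 55)⁻¹ = S.d 55 * S.d 55 := by
    refine inv_eq_of_mul_eq_one_right ?_
    have := (d_pow S (show 55 < 1920 by norm_num) 3).2
    rw [h55, d_one] at this
    rw [this, pow_succ', pow_two]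
  have i378 : (S.d 378)⁻¹ = S.d 378 :=
    inv_eq_of_mul_eq_one_right (by rw [← d_mul S (by norm_num) (by norm_num), h378, d_one])
  have ix : D.L.x⁻¹ = D.L.x * (D.L.x * (D.L.x * D.L.x)) := inv_eq_of_mul_eq_one_right (x_five D.L)
  have in' : D.L.n⁻¹ = D.L.n * D.L.n := inv_eq_of_mul_eq_one_right D.L.cube
  have hlt : k < 16 := by
    simp only [isN, Bool.or_eq_true, Bool.and_eq_true, Nat.blt_eq, Nat.ble_eq] at hk
    omega
  interval_cases k <;> first | exact absurd hk (by decide) | skip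
  · exact ha
  · show Rep D (S.d 96)⁻¹ _
    rw [i96]; exact ha
  · exact hz la
  · show Rep D (S.d 55)⁻¹ _
    rw [i55]; exact hz (la.mul S la)
  · exact hz lb
  · show Rep D (S.d 378)⁻¹ _
    rw [i378]; exact hz lb
  · exact hz lx
  · show Rep D D.L.x⁻¹ _
    rw [ix]; exact hz (lx.mul S (lx.mul S (lx.mul S lx)))
  · exact hz ln
  · show Rep D D.L.n⁻¹ _
    rw [in']; exact hz (ln.mul S ln)

/-- value of a word in the letters -/
noncomputable def Gens.val (w : List ℕ) : G := (w.map D.g).prod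

/-- code of a word -/
def cWord (y I : ℕ) (w : List ℕ) : ℕ := w.foldr (fun k r => mc (cLetter y I k) r) 0

theorem Gens.cWord_spec : ∀ {w : List ℕ}, (∀ k ∈ w, k < 12) →
    cWord D.y D.I w < 1920 ∧ S.d (cWord D.y D.I w) = D.val w
  | [], _ => ⟨by norm_num [cWord], by simp [cWord, Gens.val, d_one]⟩
  | k :: w, h => by
    obtain ⟨h1, h2⟩ := Gens.cWord_spec (w := w) fun x hx => h x (List.mem_cons_of_mem _ hx)
    obtain ⟨h3, h4⟩ := D.cLetter_spec (h k List.mem_cons_self)
    refine ⟨S.e.lt _ h3 _ h1, ?_⟩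
    show S.d (mc (cLetter D.y D.I k) (cWord D.y D.I w)) = _
    rw [d_mul S h3 h1]
    simp only [Gens.val, List.map_cons, List.prod_cons]
    rw [h4]
    exact congrArg _ h2

/-- pair of a word -/
def nWord (w : List ℕ) : List ℕ × ℕ := w.foldr (fun k r => nMul (nLetter k) r) (idP, 0)

theorem Gens.nWord_spec : ∀ {w : List ℕ}, (∀ k ∈ w, isN k = true) → Rep D (D.val w) (nWord w)
  | [], _ => D.rep_one
  | k :: w, h => by
    show Rep D ((List.map D.g (k :: w)).prod) (nMul (nLetter k) (nWord w))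
    rw [List.map_cons, List.prod_cons]
    exact D.rep_mul (D.nLetter_spec (h k List.mem_cons_self))
      (Gens.nWord_spec fun x hx => h x (List.mem_cons_of_mem _ hx))

/-- the six defining words -/
def baseRels : List (List ℕ) :=
  [[13, 7, 16, 6, 12, 11], [16, 16], [16, 4, 16, 5], [13, 7, 14, 6, 12, 9], [16, 14, 16, 14], [16, 12, 16, 13]]

/-- a word recording the image of an element of the normalizer -/
def amOK (y I : ℕ) (w : List ℕ) : Bool :=
  let v := (w.drop 2).takeWhile fun k => !(Nat.beq k 6)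
  let r := w.drop (v.length + 4)
  let m := nWord v
  let k := co (cjc (vec m.2) 92)
  w == [13, 7] ++ v ++ [6, 12] ++ r && v.all isN && r.all (fun k => Nat.blt k 12) && m.1 == idP &&
    Nat.blt k 16 && Nat.beq (cjc (vec m.2) 92) (vec k) && Nat.beq (mc (vec (ap Px k)) (cWord y I r)) 0

/-- a word which holds in every such group -/
def relOK (y I : ℕ) (w : List ℕ) : Bool :=
  (w.all (fun k => Nat.blt k 12) && Nat.beq (cWord y I w) 0) ||
    (w.all isN && (nWord w).1 == idP && Nat.beq (nWord w).2 0) ||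
    baseRels.contains w || amOK y I w ||
    match w with
    | [a, b] => Nat.blt a 19 && Nat.beq b (bar a)
    | _ => false

theorem Gens.rel {w : List ℕ} (h : relOK D.y D.I w = true) : D.val w = 1 := by
  simp only [relOK, Bool.or_eq_true] at h
  rcases h with (((h | h) | h) | h) | h
  · simp only [Bool.and_eq_true, List.all_eq_true, Nat.blt_eq, Nat.beq_eq] at h
    obtain ⟨-, e⟩ := D.cWord_spec h.1
    rw [← e, h.2, d_one]
  · simp only [Bool.and_eq_true, List.all_eq_true, beq_iff_eq, Nat.beq_eq] at h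
    rw [D.rep_id (D.nWord_spec h.1.1) h.1.2, h.2, av_zero]
  · have hi2 := sq_one D.hi
    have hi' : D.i⁻¹ = D.i := inv_eq_of_mul_eq_one_right hi2
    simp only [baseRels, List.contains_iff_mem, List.mem_cons, List.not_mem_nil, or_false] at h
    rcases h with rfl | rfl | rfl | rfl | rfl | rfl <;>
      simp only [Gens.val, List.map_cons, List.map_nil, List.prod_cons, List.prod_nil, Gens.g, mul_one]
    · rw [D.eI]
      simp only [Lift.m, mul_inv_rev, inv_inv, mul_assoc, inv_mul_cancel_left, mul_inv_cancel_left]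
      group
    · exact hi2
    · calc D.i * (S.d 378 * (D.i * (S.d 378)⁻¹)) = D.i * (S.d 378 * D.i) * (S.d 378)⁻¹ := by group
        _ = D.i * D.i := by rw [← D.hij.eq]; group
        _ = 1 := hi2
    · rw [D.ey]
      simp only [Lift.m, mul_inv_rev, inv_inv]
      group
    · rw [← D.hin]; group
    · calc D.i * (D.L.x * (D.i * D.L.x⁻¹)) = D.i * (D.L.x * D.i) * D.L.x⁻¹ := by group
        _ = D.i * D.i := by rw [← D.hix.eq]; group
        _ = 1 := hi2
  · simp only [amOK, Bool.and_eq_true, List.all_eq_true, Nat.blt_eq, Nat.beq_eq, beq_iff_eq] at h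
    obtain ⟨⟨⟨⟨⟨⟨hw, hv⟩, hr⟩, hm⟩, hk⟩, hc⟩, hzero⟩ := h
    set v := (w.drop 2).takeWhile fun k => !(Nat.beq k 6)
    set r := w.drop (v.length + 4)
    have hrep := D.nWord_spec hv
    have e1 : D.val v = S.av (nWord v).2 := D.rep_id hrep hm
    have hlt := vec_lt hrep.1
    have e2 := m_code D.L hlt hk hc
    obtain ⟨h3, e3⟩ := D.cWord_spec hr
    have e4 : S.d (vec (ap Px (co (cjc (vec (nWord v).2) 92)))) * D.val r = 1 := by
      rw [← e3, ← d_mul S (vec_lt ((x_lift D.L).2.2 _ hk).1) h3, hzero, d_one]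
    rw [hw]
    simp only [Gens.val, List.map_append, List.prod_append, List.map_cons, List.map_nil, List.prod_cons,
      List.prod_nil, mul_one, Gens.g] at e1 e4 ⊢
    rw [e1, Hyp.av, ← e4, ← e2, Lift.m]
    group
  · split at h
    · rename_i a b
      simp only [Bool.and_eq_true, Nat.blt_eq, Nat.beq_eq] at h
      simp [Gens.val, h.2, D.g_bar h.1]
    · exact Bool.noConfusion h

/-- all relators of a log hold -/
noncomputable def logOK (L : Log) (y I : ℕ) : Bool := (List.range L.nrel).all fun r => relOK y I (getT L.rels r)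

/-- letters of a log are in range -/
noncomputable def lettersOK (L : Log) : Bool := (List.range L.nrel).all fun r => (getT L.rels r).all fun k => Nat.blt k 19

end Cfsg.Agent.Spor.JThree.Unique
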