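import Cfsg.Agent.Lib.Spor.JThree.Unique.Pick

/-!
# The involution inverting the element of order three and centralizing the element of order five
-/

set_option autoImplicit false
set_option linter.style.haveILetI false
set_option linter.unusedSectionVars false
set_option maxRecDepth 100000

namespace Cfsg.Agent.Spor.JThree.Unique

open Cfsg.Agent.Spor.JThree

universe u

variable {G : Type u} [Group G] {t : G} {S : Hyp t} (L : Lift S)

theorem sq_one {i : G} (hi : orderOf i = 2) : i * i = 1 := by
  rw [← pow_two, ← hi]; exact pow_orderOf_eq_one i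

theorem odd_fix {α : Type*} [Fintype α] [DecidableEq α] (f : α → α) (hf : ∀ a, f (f a) = a)
    (hodd : Odd (Fintype.card α)) : ∃ a, f a = a := by
  by_contra! h
  have hsum : (∑ _a : α, (1 : ZMod 2)) = 0 :=
    Finset.sum_involution (fun a _ => f a) (fun a _ => by decide) (fun a _ _ => h a)
      (fun a _ => Finset.mem_univ _) (fun a _ => hf a)
  simp only [Finset.sum_const, Finset.card_univ, nsmul_eq_mul, mul_one] at hsum
  rw [ZMod.natCast_eq_zero_iff_even] at hsum
  exact (Nat.not_even_iff_odd.2 hodd) hsum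

theorem x_pow_five : L.x ^ 5 = 1 := by rw [← x_order L]; exact pow_orderOf_eq_one _

theorem x_pow_eq_one {k : ℕ} (h : (L.x ^ k) ^ 2 = 1) : L.x ^ k = 1 := by
  have h5 : (L.x ^ k) ^ 5 = 1 := by rw [← pow_mul, mul_comm, pow_mul, x_pow_five L, one_pow]
  calc L.x ^ k = (L.x ^ k) ^ 5 * (((L.x ^ k) ^ 2) ^ 2)⁻¹ := by group
    _ = 1 := by rw [h5, h]; simp

theorem unique_commuting {i s : G} (hi : orderOf i = 2) (hix : Commute i L.x) (hs : orderOf s = 2)
    (hsx : Commute s L.x) (hsi : Commute s i) : s = i := by
  obtain ⟨k, hk⟩ := five_cent L hi hix hsx hsi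
  rcases hk with hk | hk
  · exfalso
    have h1 : s = 1 := by rw [hk]; exact x_pow_eq_one L (by rw [← hk, pow_two, sq_one hs])
    rw [h1, orderOf_one] at hs
    exact absurd hs (by norm_num)
  · have h : (L.x ^ k) ^ 2 = 1 := by
      have e := sq_one hs
      rw [hk, (hix.pow_right k).symm.mul_mul_mul_comm, sq_one hi, one_mul, ← pow_two] at e
      exact e
    rw [hk, x_pow_eq_one L h, mul_one]

/-- two involutions centralizing the element of order five are conjugate there -/
theorem conj_invol [Finite G] {i s : G} (hi : orderOf i = 2) (hix : Commute i L.x) (hs : orderOf s = 2)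
    (hsx : Commute s L.x) : ∃ w, Commute w L.x ∧ w⁻¹ * i * w = s := by
  set a := s * i with ha
  have hax : Commute a L.x := hsx.mul_left hix
  have hia : i * a * i⁻¹ = a⁻¹ := by
    rw [ha, mul_inv_rev, inv_eq_of_mul_eq_one_right (sq_one hi), inv_eq_of_mul_eq_one_right (sq_one hs)]
    rw [mul_assoc, mul_assoc, sq_one hi, mul_one]
  have hpow : ∀ r : ℕ, i * a ^ r * i⁻¹ = (a ^ r)⁻¹ := fun r => by
    rw [← conj_pow, hia, inv_pow]
  rcases Nat.even_or_odd' (orderOf a) with ⟨r, hr | hr⟩
  · exfalso
    have hr0 : 0 < r := by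
      have := orderOf_pos a
      omega
    set ρ := a ^ r with hρ
    have hρ2 : ρ * ρ = 1 := by rw [hρ, ← pow_add, ← two_mul, ← hr, pow_orderOf_eq_one]
    have hρ1 : ρ ≠ 1 := fun h => by
      have := orderOf_le_of_pow_eq_one hr0 h
      omega
    have hρo : orderOf ρ = 2 := two_of hρ1 hρ2
    have hρi : Commute ρ i := by
      have h := hpow r
      rw [← hρ, inv_eq_of_mul_eq_one_right hρ2, mul_inv_eq_iff_eq_mul] at h
      exact h.symm
    have e1 : ρ = i := unique_commuting L hi hix hρo (hax.pow_left r) hρi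
    have hρs : Commute ρ s := by
      have h : Commute ρ (a * i⁻¹) := ((Commute.refl a).pow_left r).mul_right hρi.inv_right
      rwa [ha, mul_inv_cancel_right] at h
    have e2 : ρ = s := unique_commuting L hs hsx hρo (hax.pow_left r) hρs
    have : a = 1 := by rw [ha, ← e1, ← e2, hρ2]
    rw [this, orderOf_one] at hr
    omega
  · refine ⟨a ^ r, hax.pow_left r, ?_⟩
    have h1 : (a ^ r)⁻¹ * i = i * a ^ r := by
      rw [← hpow r, inv_mul_cancel_right]
    have h2 : a ^ r * a ^ r = a⁻¹ := by
      refine eq_inv_of_mul_eq_one_left ?_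
      rw [← pow_add, ← pow_succ, show r + r + 1 = orderOf a by omega, pow_orderOf_eq_one]
    rw [h1, mul_assoc, h2, ha, mul_inv_rev, inv_eq_of_mul_eq_one_right (sq_one hi),
      inv_eq_of_mul_eq_one_right (sq_one hs), ← mul_assoc, sq_one hi, one_mul]

/-- an involution centralizing the element of order five and `378`, inverting the element of order three -/
theorem exists_i [Finite G] : ∃ i : G, orderOf i = 2 ∧ Commute i L.x ∧ Commute i (S.d 378) ∧
    i * L.n * i * L.n = 1 := by
  classical
  haveI : Fintype G := Fintype.ofFinite G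
  let C : Subgroup G := Subgroup.centralizer {L.x}
  have memC : ∀ g : G, g ∈ C ↔ Commute g L.x := fun g => Subgroup.mem_centralizer_singleton_iff
  let I := {g : G // orderOf g = 2 ∧ Commute g L.x}
  obtain ⟨i₀, hi₀, hix₀⟩ := exists_invol L
  have hodd : Odd (Fintype.card I) := by
    by_contra hev
    let J := {g : C // g * g = 1 ∧ g ≠ 1}
    have hJI : Fintype.card J = Fintype.card I := Fintype.card_congr
      { toFun := fun g => ⟨(g.1 : G), two_of (fun h => g.2.2 (Subtype.ext h)) (congrArg Subtype.val g.2.1),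
          (memC _).1 g.1.2⟩
        invFun := fun g => ⟨⟨g.1, (memC _).2 g.2.2⟩, Subtype.ext (sq_one g.2.1), fun h => by
          have h' : g.1 = 1 := congrArg Subtype.val h
          have := g.2.1
          rw [h', orderOf_one] at this
          exact absurd this (by norm_num)⟩
        left_inv := fun g => rfl
        right_inv := fun g => rfl }
    let R := {g : C // g * g ≠ 1}
    have hR : Even (Fintype.card R) := by
      by_contra hR
      obtain ⟨a, ha⟩ := odd_fix (α := R) (fun g => ⟨g.1⁻¹, fun h => g.2 (by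
        rw [← mul_inv_rev, inv_eq_one] at h; exact h)⟩) (fun g => Subtype.ext (inv_inv _))
        (Nat.not_even_iff_odd.1 hR)
      exact a.2 (mul_eq_one_iff_inv_eq.2 (congrArg Subtype.val ha))
    have htot : Fintype.card C = 1 + Fintype.card J + Fintype.card R := by
      have h1 := Fintype.card_subtype_compl (fun g : C => g * g = 1)
      have h2 : Fintype.card {g : C // g * g = 1} = 1 + Fintype.card J := by
        rw [Fintype.card_subtype, Fintype.card_subtype,
          show (Finset.univ.filter fun g : C => g * g = 1) =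
            insert 1 (Finset.univ.filter fun g : C => g * g = 1 ∧ g ≠ 1) by
            ext g
            by_cases hg : g = 1 <;> simp [hg],
          Finset.card_insert_of_notMem (by simp), add_comm]
      have h3 := Fintype.card_subtype_le (fun g : C => g * g = 1)
      have h4 : Fintype.card R = Fintype.card {g : C // ¬ g * g = 1} := rfl
      omega
    have heven : 2 ∣ Fintype.card C := by
      rw [← Nat.card_eq_fintype_card, ← hi₀,
        show orderOf i₀ = orderOf (⟨i₀, (memC _).2 hix₀⟩ : C) from (Subgroup.orderOf_coe ⟨i₀, (memC _).2 hix₀⟩)]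
      exact orderOf_dvd_natCard _
    obtain ⟨r, hr⟩ := Nat.not_odd_iff_even.1 hev
    obtain ⟨r', hr'⟩ := hR
    omega
  set j := S.d 378 with hj
  have hjj : j * j = 1 := by
    rw [hj, ← d_mul S (by norm_num) (by norm_num), show mc 378 378 = 0 by decide +kernel, d_one]
  have hji : j⁻¹ = j := inv_eq_of_mul_eq_one_right hjj
  have hjx : j * L.x * j = L.x⁻¹ := eq_inv_of_mul_eq_one_left (j_inv L)
  obtain ⟨⟨i, hi, hix⟩, hfix⟩ := odd_fix (α := I) (fun g => ⟨j * g.1 * j, by
      rw [show j * g.1 * j = MulAut.conj j g.1 by simp [hji], MulEquiv.orderOf_eq]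
      exact g.2.1, by
      have h := ((Commute.conj_iff j).2 g.2.2.inv_right)
      rw [hji] at h
      have e : j * L.x⁻¹ * j = L.x := by
        calc j * L.x⁻¹ * j = (j * L.x * j)⁻¹ := by rw [mul_inv_rev, mul_inv_rev, hji, mul_assoc]
          _ = L.x := by rw [hjx, inv_inv]
      rwa [e] at h⟩)
    (fun g => Subtype.ext (by
      show j * (j * g.1 * j) * j = g.1
      calc j * (j * g.1 * j) * j = (j * j) * g.1 * (j * j) := by group
        _ = g.1 := by rw [hjj, one_mul, mul_one])) hodd
  have hfix' : j * i * j = i := congrArg Subtype.val hfix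
  refine ⟨i, hi, hix, ?_, ?_⟩
  · show i * j = j * i
    calc i * j = j * i * j * j := by rw [hfix']
      _ = j * i := by rw [mul_assoc (j * i), hjj, mul_one]
  -- the centralizer as a product
  have hcent : ∀ g : G, Commute g L.x → Commute g i →
      ∃ (k : Fin 5) (b : Fin 2), g = L.x ^ k.val * i ^ b.val := fun g h1 h2 => by
    obtain ⟨k, hk⟩ := five_cent L hi hix h1 h2
    have hm : L.x ^ k = L.x ^ (k % 5) := by rw [← x_order L]; exact (pow_mod_orderOf L.x k).symm
    rcases hk with hk | hk
    · exact ⟨⟨k % 5, Nat.mod_lt _ (by norm_num)⟩, 0, by simp [hk, hm]⟩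
    · refine ⟨⟨k % 5, Nat.mod_lt _ (by norm_num)⟩, 1, ?_⟩
      rw [hk, hm, (hix.pow_right _).eq]
      simp
  choose w hwx hw using fun s : I => conj_invol L hi hix s.2.1 s.2.2
  let Φ : I × Fin 5 × Fin 2 → C := fun p =>
    ⟨p.1.1 * L.x ^ p.2.1.val * i ^ p.2.2.val,
      (memC _).2 ((p.1.2.2.mul_left ((Commute.refl L.x).pow_left _)).mul_left (hix.pow_left _))⟩
  have hle : Nat.card C ≤ Nat.card (I × Fin 5 × Fin 2) := by
    have hdec : ∀ g : C, ∃ p : I × Fin 5 × Fin 2, (g : G) = L.x ^ p.2.1.val * i ^ p.2.2.val * w p.1 := by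
      intro g
      have hgx := (memC _).1 g.2
      let s : I := ⟨(g : G)⁻¹ * i * g, by
        rw [show (g : G)⁻¹ * i * g = MulAut.conj (g : G)⁻¹ i by simp, MulEquiv.orderOf_eq]
        exact hi, (hgx.inv_left.mul_left hix).mul_left hgx⟩
      have h2 : Commute ((g : G) * (w s)⁻¹) i := by
        show (g : G) * (w s)⁻¹ * i = i * ((g : G) * (w s)⁻¹)
        have e : (g : G)⁻¹ * i * g = (w s)⁻¹ * i * w s := (hw s).symm
        calc (g : G) * (w s)⁻¹ * i = g * ((w s)⁻¹ * i * w s) * (w s)⁻¹ := by group
          _ = g * ((g : G)⁻¹ * i * g) * (w s)⁻¹ := by rw [e]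
          _ = _ := by group
      obtain ⟨k, b, hkb⟩ := hcent _ (hgx.mul_left (hwx s).inv_left) h2
      exact ⟨(s, k, b), by
        show (g : G) = L.x ^ k.val * i ^ b.val * w s
        rw [← hkb, inv_mul_cancel_right]⟩
    choose p hp using hdec
    exact Nat.card_le_card_of_injective p fun g g' h => Subtype.ext (by rw [hp g, hp g', h])
  have hi2 : i ^ 2 = 1 := by rw [pow_two, sq_one hi]
  have hinj : Function.Injective Φ := by
    intro p q h
    obtain ⟨⟨s, hs, hsx⟩, k, b⟩ := p
    obtain ⟨⟨s', hs', hsx'⟩, k', b'⟩ := q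
    have h' : s * L.x ^ k.val * i ^ b.val = s' * L.x ^ k'.val * i ^ b'.val := congrArg Subtype.val h
    have no : ∀ {s s' : G} {k k' : ℕ}, orderOf s = 2 → Commute s L.x → orderOf s' = 2 → Commute s' L.x →
        s * L.x ^ k ≠ s' * L.x ^ k' * i := by
      intro s s' k k' hs hsx hs' hsx' he
      obtain ⟨w', hw'x, hw'⟩ := conj_invol L hi hix hs' hsx'
      set a := s' * i with ha
      have hai : i * a * i = a⁻¹ := by
        rw [ha, mul_inv_rev, inv_eq_of_mul_eq_one_right (sq_one hi), inv_eq_of_mul_eq_one_right (sq_one hs'),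
          mul_assoc, mul_assoc, sq_one hi, mul_one]
      have hs_eq : s * L.x ^ k = a * L.x ^ k' := by
        rw [he, ha, mul_assoc, mul_assoc, (hix.pow_right k').eq]
      have hax : Commute a L.x := hsx'.mul_left hix
      have e10 : (a * L.x ^ k') ^ 10 = 1 := by
        rw [← hs_eq, ((hsx.pow_right k)).mul_pow, show (10 : ℕ) = 2 * 5 from rfl, pow_mul, pow_two, sq_one hs,
          one_pow, one_mul, ← pow_mul, mul_comm, mul_comm 2 5, mul_assoc, pow_mul, x_pow_five L, one_pow]
      have a10 : a ^ 10 = 1 := by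
        rw [(hax.pow_right k').mul_pow, ← pow_mul, mul_comm k', show (10 : ℕ) * k' = 5 * (2 * k') by ring,
          pow_mul, x_pow_five L, one_pow, mul_one] at e10
        exact e10
      have hs1 : (a ^ 5) = 1 := by
        by_contra h5
        have hρ2 : a ^ 5 * a ^ 5 = 1 := by rw [← pow_add]; exact a10
        have hρo : orderOf (a ^ 5) = 2 := two_of h5 hρ2
        have hρi : Commute (a ^ 5) i := by
          have h : (i * a * i) ^ 5 = (a⁻¹) ^ 5 := by rw [hai]
          rw [show (i * a * i) ^ 5 = i * a ^ 5 * i by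
            have e : i * a * i = i * a * i⁻¹ := by rw [inv_eq_of_mul_eq_one_right (sq_one hi)]
            rw [e, conj_pow, inv_eq_of_mul_eq_one_right (sq_one hi)],
            inv_pow, inv_eq_of_mul_eq_one_right hρ2] at h
          show a ^ 5 * i = i * a ^ 5
          calc a ^ 5 * i = i * a ^ 5 * i * i := by rw [h]
            _ = i * a ^ 5 := by rw [mul_assoc (i * a ^ 5), sq_one hi, mul_one]
        have e1 := unique_commuting L hi hix hρo (hax.pow_left 5) hρi
        have hρs : Commute (a ^ 5) s' := by
          have h : Commute (a ^ 5) (a * i⁻¹) := ((Commute.refl a).pow_left 5).mul_right hρi.inv_right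
          rwa [ha, mul_inv_cancel_right] at h
        have e2 := unique_commuting L hs' hsx' hρo (hax.pow_left 5) hρs
        exact h5 (by rw [show a = 1 by rw [ha, ← e2, e1, sq_one hi], one_pow])
      have e5 : (s * L.x ^ k) ^ 5 = 1 := by
        rw [hs_eq, (hax.pow_right k').mul_pow, hs1, ← pow_mul, mul_comm k', pow_mul, x_pow_five L, one_pow,
          one_mul]
      rw [(hsx.pow_right k).mul_pow, ← pow_mul, mul_comm k, pow_mul, x_pow_five L, one_pow, mul_one,
        show (5 : ℕ) = 2 * 2 + 1 from rfl, pow_succ, pow_mul, show s ^ 2 = 1 by rw [pow_two, sq_one hs], one_pow, one_mul] at e5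
      rw [e5, orderOf_one] at hs
      exact absurd hs (by norm_num)
    have same : ∀ {k k' : Fin 5}, s * L.x ^ k.val = s' * L.x ^ k'.val → s = s' ∧ k = k' := by
      intro k k' he
      have h5 : ∀ {r : G} {n : ℕ}, orderOf r = 2 → Commute r L.x → (r * L.x ^ n) ^ 5 = r := by
        intro r n hr hrx
        rw [(hrx.pow_right n).mul_pow, ← pow_mul, mul_comm n, pow_mul, x_pow_five L, one_pow, mul_one,
          show (5 : ℕ) = 2 * 2 + 1 from rfl, pow_succ, pow_mul, show r ^ 2 = 1 by rw [pow_two, sq_one hr], one_pow, one_mul]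
      have es : s = s' := by rw [← h5 (n := k.val) hs hsx, he, h5 hs' hsx']
      refine ⟨es, Fin.ext ?_⟩
      rw [es, mul_right_inj] at he
      exact pow_injOn_Iio_orderOf (by simp [x_order L, k.isLt]) (by simp [x_order L, k'.isLt]) he
    have key : b = b' := by
      fin_cases b <;> fin_cases b' <;> first | rfl | (exfalso; simp only [pow_zero, pow_one, mul_one] at h')
      · exact no hs hsx hs' hsx' h'
      · exact no hs' hsx' hs hsx h'.symm
    subst key
    rw [mul_left_inj] at h'
    obtain ⟨rfl, rfl⟩ := same h'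
    rfl
  have hbij := hinj.bijective_of_nat_card_le hle
  have hnx : Commute L.n L.x := (x_lift L).1
  obtain ⟨⟨⟨s, hs, hsx⟩, k, b⟩, hp⟩ := hbij.2 ⟨L.n, (memC _).2 hnx⟩
  have hp' : s * L.x ^ k.val * i ^ b.val = L.n := congrArg Subtype.val hp
  have hn3 : L.n ^ 3 = 1 := by rw [← L.cube, pow_succ', pow_two]
  fin_cases b <;> simp only [pow_zero, pow_one, mul_one] at hp'
  · exfalso
    have h15 : L.n ^ 15 = 1 := by rw [show (15 : ℕ) = 3 * 5 from rfl, pow_mul, hn3, one_pow]
    rw [← hp', (hsx.pow_right _).mul_pow, ← pow_mul, mul_comm k.val, show (15 : ℕ) * k.val = 5 * (3 * k.val) by ring,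
      pow_mul L.x, x_pow_five L, one_pow, mul_one, show (15 : ℕ) = 2 * 7 + 1 from rfl, pow_succ, pow_mul,
      show s ^ 2 = 1 by rw [pow_two, sq_one hs], one_pow, one_mul] at h15
    rw [h15, orderOf_one] at hs
    exact absurd hs (by norm_num)
  · set c := L.x ^ k.val with hc
    have hcs : Commute c s := (hsx.pow_right _).symm
    have hci : Commute c i := (hix.pow_right _).symm
    have hzz : i * L.n * i * L.n = c * c := by
      rw [← hp']
      calc i * (s * c * i) * i * (s * c * i) = i * s * c * (i * i) * s * c * i := by group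
        _ = i * (s * (c * s)) * (c * i) := by rw [sq_one hi]; group
        _ = i * (s * s * c) * (i * c) := by rw [hcs.eq, hci.eq]; group
        _ = (i * c) * i * c := by rw [sq_one hs]; group
        _ = (c * i) * i * c := by rw [hci.eq]
        _ = c * c := by rw [mul_assoc c i i, sq_one hi, mul_one]
    rw [hzz]
    have hcc : Commute (c * c) L.n := by
      rw [hc, ← pow_add]; exact hnx.symm.pow_left _
    have h3 : (c * c) ^ 3 = 1 := by
      have e : i * L.n * i = c * c * L.n⁻¹ := by
        rw [← hzz, mul_inv_cancel_right]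
      have e' : (i * L.n * i⁻¹) ^ 3 = 1 := by rw [conj_pow, hn3]; group
      rw [inv_eq_of_mul_eq_one_right (sq_one hi), e, (hcc.inv_right).mul_pow, inv_pow, hn3, inv_one, mul_one] at e'
      exact e'
    have h5 : (c * c) ^ 5 = 1 := by
      rw [hc, ← pow_add, ← pow_mul, mul_comm, pow_mul, x_pow_five L, one_pow]
    calc c * c = ((c * c) ^ 3) ^ 2 * ((c * c) ^ 5)⁻¹ := by group
      _ = 1 := by rw [h3, h5]; simp

/-- the representatives of the second code -/
def repsI (y : ℕ) : List ℕ := if y = 55 then [392, 393, 398, 399] else [1316, 1317, 1334, 1335]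

theorem I_ok : (([55, 182] : List ℕ).all fun y => (List.range 1920).all fun x =>
    !(Nat.beq (mc x x) 0 && !(Nat.ble x 1) && Nat.beq (mc (mc x y) x) (iv y)) ||
      (List.range 3).any fun r => (repsI y).contains (cjc x (pw y r))) = true := by decide +kernel

end Cfsg.Agent.Spor.JThree.Unique
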