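import Cfsg.Agent.Lib.Spor.JThree.Unique.Cases
import Cfsg.Agent.Lib.Spor.JThree.Unique.CheckA
import Mathlib.GroupTheory.GroupAction.Quotient

/-!
# Two such groups are isomorphic

The generators of both groups give a subgroup of the product. If it were the whole product, the closed table
would bound the number of cosets of the product of the two small subgroups by `6156`; so it is a graph.
-/

set_option autoImplicit false
set_option linter.style.haveILetI false
set_option linter.unusedSectionVars false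
set_option maxRecDepth 100000

namespace Cfsg.Agent.Spor.JThree.Unique

open Cfsg.Agent.Spor.JThree

universe u v

variable {G : Type u} [Group G] [Finite G] {t : G} {S : Hyp t}

theorem subA : logA.sub = [0, 4, 12, 14, 16] := rfl

theorem Gens.hSub_letter (D : Gens S) : ∀ k ∈ logA.sub, D.g k ∈ D.hSub := fun k hk => by
  refine Subgroup.subset_closure ?_
  rw [subA] at hk
  simp only [List.mem_cons, List.not_mem_nil, or_false] at hk
  rcases hk with rfl | rfl | rfl | rfl | rfl <;> simp

/-- the four letters of the table generate -/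
theorem Gens.cols_gen (D : Gens S) (hI : D.I = 1334) :
    Subgroup.closure {g | ∃ k < 4, g = D.g (colLetter k)} = ⊤ := by
  set K := Subgroup.closure {g | ∃ k < 4, g = D.g (colLetter k)}
  have hk : ∀ k < 4, D.g (colLetter k) ∈ K := fun k hk => Subgroup.subset_closure ⟨k, hk, rfl⟩
  have h96 : S.d 96 ∈ K := hk 0 (by norm_num)
  have h55 : S.d 55 ∈ K := hk 1 (by norm_num)
  have hII : S.d D.I ∈ K := hk 2 (by norm_num)
  have hx : D.L.x ∈ K := hk 3 (by norm_num)
  have hj : S.d 378 ∈ K := by
    rw [hI] at hII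
    have hi55 : S.d (iv 55) ∈ K := by rw [d_inv S (by norm_num)]; exact K.inv_mem h55
    have : ∀ l : List ℕ, (∀ a ∈ l, a < 1920 ∧ S.d a ∈ K) →
        List.foldr mc 0 l < 1920 ∧ S.d (List.foldr mc 0 l) ∈ K := by
      intro l
      induction l with
      | nil => intro _; exact ⟨by norm_num, by rw [List.foldr_nil, d_one]; exact K.one_mem⟩
      | cons a l ih =>
        intro h
        obtain ⟨h1, h2⟩ := ih fun b hb => h b (List.mem_cons_of_mem _ hb)
        obtain ⟨h3, h4⟩ := h a List.mem_cons_self
        refine ⟨S.e.lt _ h3 _ h1, ?_⟩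
        rw [List.foldr_cons, d_mul S h3 h1]
        exact K.mul_mem h4 h2
    have h := (this [96, 55, 1334, 96, iv 55, 1334, 96, 1334] (by
      intro a ha
      simp only [List.mem_cons, List.not_mem_nil, or_false] at ha
      rcases ha with rfl | rfl | rfl | rfl | rfl | rfl | rfl | rfl
      all_goals first
        | exact ⟨by norm_num, h96⟩
        | exact ⟨by norm_num, h55⟩
        | exact ⟨by norm_num, hII⟩
        | exact ⟨(iv_facts (by norm_num)).1, hi55⟩)).2
    rwa [word378_ok] at h
  exact D.eq_top K (D.cent_le (Or.inr hI) h96 hj hII) hx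

/-- orbit closed under a set of maps -/
theorem closed_of_gens {P α : Type*} [Group P] [MulAction P α] [Finite α] (s : Set P) (O : Set α)
    (h : ∀ g ∈ s, ∀ a ∈ O, g⁻¹ • a ∈ O) : ∀ g ∈ Subgroup.closure s, ∀ a ∈ O, g • a ∈ O := by
  intro g hg
  suffices H : (∀ a ∈ O, g • a ∈ O) ∧ (∀ a ∈ O, g⁻¹ • a ∈ O) from H.1
  induction hg using Subgroup.closure_induction with
  | mem g hg =>
    refine ⟨fun a ha => ?_, h g hg⟩
    haveI : Finite O := inferInstance
    have hinj : Function.Injective fun b : O => (⟨g⁻¹ • b.1, h g hg _ b.2⟩ : O) := fun b c e =>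
      Subtype.ext (MulAction.injective g⁻¹ (congrArg Subtype.val e))
    obtain ⟨b, hb⟩ := (Finite.injective_iff_surjective.1 hinj) ⟨a, ha⟩
    have e : g • a = b.1 := by
      have hb' : g⁻¹ • b.1 = a := congrArg Subtype.val hb
      rw [← hb', smul_inv_smul]
    rw [e]
    exact b.2
  | one => exact ⟨fun a ha => by rwa [one_smul], fun a ha => by rwa [inv_one, one_smul]⟩
  | mul x y _ _ hx hy =>
    exact ⟨fun a ha => by rw [mul_smul]; exact hx.1 _ (hy.1 _ ha),
      fun a ha => by rw [mul_inv_rev, mul_smul]; exact hy.2 _ (hx.2 _ ha)⟩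
  | inv x _ hx => exact ⟨hx.2, fun a ha => by rw [inv_inv]; exact hx.1 _ ha⟩

variable {M : Type v} [Group M] [Finite M] {s : M} {S' : Hyp s}

/-- two such groups are isomorphic -/
theorem Gens.nonempty_iso [IsSimpleGroup G] [IsSimpleGroup M] (D : Gens S) (D' : Gens S') :
    Nonempty (G ≃* M) := by
  classical
  obtain ⟨hy, hI⟩ := D.main_case
  obtain ⟨hy', hI'⟩ := D'.main_case
  obtain ⟨hlet, hr⟩ := D.log_rel relsA_ok hy hI
  obtain ⟨-, hr'⟩ := D'.log_rel relsA_ok hy' hI'
  let g : ℕ → G × M := fun k => (D.g k, D'.g k)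
  have hrel : ∀ r < logA.nrel, ((getT logA.rels r).map g).prod = 1 := fun r hr0 => by
    have e : ∀ w : List ℕ, (w.map g).prod = ((w.map D.g).prod, (w.map D'.g).prod) := by
      intro w
      induction w with
      | nil => rfl
      | cons a w ih => simp only [List.map_cons, List.prod_cons, ih]; rfl
    rw [e, hr r hr0, hr' r hr0]
    rfl
  set K : Subgroup (G × M) := D.hSub.prod D'.hSub
  let A : Act logA ((G × M) ⧸ K) := mkAct logA g
    (fun k hk => Prod.ext (D.g_bar hk) (D'.g_bar hk)) rfl hrel hlet K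
    (fun k hk => ⟨D.hSub_letter k hk, D'.hSub_letter k hk⟩)
  set gens : Set (G × M) := {p | ∃ k < 4, p = g (colLetter k)}
  set Λ := Subgroup.closure gens with hΛ
  let π₁ : Λ →* G := (MonoidHom.fst G M).comp Λ.subtype
  let π₂ : Λ →* M := (MonoidHom.snd G M).comp Λ.subtype
  have hsurj₁ : Function.Surjective π₁ := by
    have hle : Subgroup.closure {x | ∃ k < 4, x = D.g (colLetter k)} ≤ π₁.range :=
      (Subgroup.closure_le _).2 (by
        rintro _ ⟨k, hk, rfl⟩
        exact ⟨⟨g (colLetter k), Subgroup.subset_closure ⟨k, hk, rfl⟩⟩, rfl⟩)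
    rw [D.cols_gen hI] at hle
    exact MonoidHom.range_eq_top.1 (top_le_iff.1 hle)
  have hsurj₂ : Function.Surjective π₂ := by
    have hle : Subgroup.closure {x | ∃ k < 4, x = D'.g (colLetter k)} ≤ π₂.range :=
      (Subgroup.closure_le _).2 (by
        rintro _ ⟨k, hk, rfl⟩
        exact ⟨⟨g (colLetter k), Subgroup.subset_closure ⟨k, hk, rfl⟩⟩, rfl⟩)
    rw [D'.cols_gen hI'] at hle
    exact MonoidHom.range_eq_top.1 (top_le_iff.1 hle)
  -- the kernel of the second projection, seen in the first group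
  have hnot : Λ ≠ ⊤ := by
    intro htop
    have hrows := Bool.and_eq_true_iff.1 rows_ok
    let O : Set ((G × M) ⧸ K) := Set.range fun m : Fin 6156 => A.val (getT liveA m.val)
    have hO : ∀ p ∈ gens, ∀ a ∈ O, p⁻¹ • a ∈ O := by
      rintro _ ⟨k, hk, rfl⟩ _ ⟨m, rfl⟩
      have he := rowsOK_all hrows.1 m.val m.2 k hk
      simp only [edgeOK, Bool.and_eq_true, Nat.blt_eq] at he
      obtain ⟨⟨hf, hl⟩, he⟩ := he
      refine ⟨⟨getT edgeA (4 * m.val + k) % 8192, hl⟩, ?_⟩
      have href := A.ref_spec (holdsA A _ hf)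
      unfold Log.ref at he href
      cases hb : Nat.beq (getT edgeA (4 * m.val + k) / 8192 % 2) 0 <;> rw [hb] at he href <;>
        simp only [Bool.and_eq_true, Nat.beq_eq] at he
      all_goals
        obtain ⟨⟨e1, e2⟩, e3⟩ := he
        obtain ⟨href, -⟩ := href
        rw [e1, e2, e3] at href
        exact href.symm
    have hclosed := closed_of_gens gens O hO
    have hbase : ((1 : G × M) : (G × M) ⧸ K) ∈ O := by
      refine ⟨⟨0, by norm_num⟩, ?_⟩
      show A.val (getT liveA 0) = _
      rw [Nat.eq_of_beq_eq_true hrows.2, A.val_zero]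
      rfl
    have hall : Function.Surjective fun m : Fin 6156 => A.val (getT liveA m.val) := by
      intro c
      obtain ⟨p, rfl⟩ := QuotientGroup.mk_surjective c
      have h := hclosed p (by rw [← hΛ, htop]; trivial) _ hbase
      rwa [MulAction.Quotient.smul_coe, smul_eq_mul, mul_one] at h
    have hle : K.index ≤ 6156 := by
      have := Nat.card_le_card_of_surjective _ hall
      simpa [Subgroup.index] using this
    have hK : Nat.card K ≤ 8160 * 8160 := by
      rw [Nat.card_congr (Subgroup.prodEquiv D.hSub D'.hSub).toEquiv, Nat.card_prod]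
      exact Nat.mul_le_mul (D.card_hSub (Or.inr hI)) (D'.card_hSub (Or.inr hI'))
    have h := K.card_mul_index
    rw [Nat.card_prod, S.hcard, S'.hcard] at h
    have := Nat.mul_le_mul hK hle
    omega
  let N : Subgroup G :=
    { carrier := {a | ((a, 1) : G × M) ∈ Λ}
      one_mem' := Λ.one_mem
      mul_mem' := fun {a b} ha hb => by simpa using Λ.mul_mem ha hb
      inv_mem' := fun {a} ha => by simpa using Λ.inv_mem ha }
  haveI : N.Normal := ⟨fun a ha x => by
    obtain ⟨⟨⟨x', y⟩, hp⟩, rfl⟩ := hsurj₁ x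
    show ((x' * a * x'⁻¹, 1) : G × M) ∈ Λ
    have := Λ.mul_mem (Λ.mul_mem hp ha) (Λ.inv_mem hp)
    simpa using this⟩
  rcases Subgroup.Normal.eq_bot_or_eq_top (H := N) inferInstance with hN | hN
  · have hinj₂ : Function.Injective π₂ := by
      refine (injective_iff_map_eq_one π₂).2 ?_
      rintro ⟨⟨a, b⟩, hp⟩ h
      change b = 1 at h
      subst h
      have : a ∈ N := hp
      rw [hN, Subgroup.mem_bot] at this
      subst this
      exact Subtype.ext rfl
    let e₂ : Λ ≃* M := MulEquiv.ofBijective π₂ ⟨hinj₂, hsurj₂⟩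
    let ψ : M →* G := π₁.comp e₂.symm.toMonoidHom
    have hψ : Function.Surjective ψ := hsurj₁.comp e₂.symm.surjective
    have hbij : Function.Bijective ψ :=
      hψ.bijective_of_nat_card_le (by rw [S.hcard, S'.hcard])
    exact ⟨(MulEquiv.ofBijective ψ hbij).symm⟩
  · refine absurd (eq_top_iff.2 ?_) hnot
    rintro ⟨a, b⟩ -
    obtain ⟨⟨⟨a', b'⟩, hp⟩, hb⟩ := hsurj₂ b
    change b' = b at hb
    subst hb
    have h : a * a'⁻¹ ∈ N := by rw [hN]; trivial
    have := Λ.mul_mem (show ((a * a'⁻¹, 1) : G × M) ∈ Λ from h) hp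
    simpa using this

end Cfsg.Agent.Spor.JThree.Unique
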