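import Mathlib

/-!
# A field with sixteen elements on the coordinates

The multiplication is given by the table of an element of order fifteen; `4` is the unit.
-/

set_option autoImplicit false
set_option maxRecDepth 100000

namespace Cfsg.Agent.Spor.JThree.Unique

/-- product of coordinates -/
def mul16 (a b : ℕ) : ℕ :=
  Nat.land (Nat.shiftRight 0x71428ebdac9f536012a9fc4765de8b304a86975bf13d2ce0296de5a1387cf4b08f9e3425dacb6170ec7546df138ab920b45a2dc387691ef0d7b15f394e28c6a0a6f3d184e2b795c0c518a37e2bf64d909d37c862bf15ea40fedcba9876543210582f6b1c94e3a7d03bc419e65da27f8063eb72fac941d8500000000000000000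
    (4 * (16 * a + b))) 15

/-- inverse of coordinates -/
def inv16 (a : ℕ) : ℕ := [0, 5, 12, 6, 4, 1, 3, 8, 7, 14, 11, 10, 2, 15, 9, 13].getD a 0

theorem mul16_lt (a b : ℕ) : mul16 a b < 16 := Nat.lt_succ_of_le Nat.and_le_right

theorem field_ok : ((List.range 16).all fun a =>
    Nat.beq (mul16 4 a) a && Nat.blt (inv16 a) 16 && (Nat.beq a 0 || Nat.beq (mul16 a (inv16 a)) 4) &&
      (List.range 16).all fun b => Nat.beq (mul16 a b) (mul16 b a) && (List.range 16).all fun c =>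
        Nat.beq (mul16 (mul16 a b) c) (mul16 a (mul16 b c)) &&
          Nat.beq (mul16 a (Nat.xor b c)) (Nat.xor (mul16 a b) (mul16 a c))) = true := by decide +kernel

/-- the field -/
structure K16 : Type where
  v : Fin 16
deriving DecidableEq, Fintype

namespace K16

theorem xor_lt (a b : K16) : Nat.xor a.v.val b.v.val < 16 := Nat.xor_lt_two_pow (n := 4) a.v.2 b.v.2

instance : Zero K16 := ⟨⟨0⟩⟩
instance : One K16 := ⟨⟨4⟩⟩
instance : Neg K16 := ⟨fun a => a⟩
instance : Add K16 := ⟨fun a b => ⟨⟨Nat.xor a.v.val b.v.val, xor_lt a b⟩⟩⟩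
instance : Mul K16 := ⟨fun a b => ⟨⟨mul16 a.v.val b.v.val, mul16_lt _ _⟩⟩⟩
instance : Inv K16 := ⟨fun a => ⟨⟨inv16 a.v.val % 16, Nat.mod_lt _ (by norm_num)⟩⟩⟩

theorem ext' {a b : K16} (h : a.v.val = b.v.val) : a = b := by
  cases a; cases b; simp only [mk.injEq]; exact Fin.ext h

theorem facts (a : K16) : mul16 4 a.v.val = a.v.val ∧ inv16 a.v.val < 16 ∧
    (a.v.val = 0 ∨ mul16 a.v.val (inv16 a.v.val) = 4) ∧ ∀ b c : K16, mul16 a.v.val b.v.val = mul16 b.v.val a.v.val ∧
      mul16 (mul16 a.v.val b.v.val) c.v.val = mul16 a.v.val (mul16 b.v.val c.v.val) ∧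
      mul16 a.v.val (Nat.xor b.v.val c.v.val) = Nat.xor (mul16 a.v.val b.v.val) (mul16 a.v.val c.v.val) := by
  have h := List.all_eq_true.1 field_ok a.v.val (List.mem_range.2 a.v.2)
  simp only [Bool.and_eq_true, Bool.or_eq_true, List.all_eq_true, List.mem_range, Nat.beq_eq, Nat.blt_eq] at h
  obtain ⟨⟨⟨h1, h2⟩, h3⟩, h4⟩ := h
  exact ⟨h1, h2, h3, fun b c => ⟨(h4 b.v.val b.v.2).1, ((h4 b.v.val b.v.2).2 c.v.val c.v.2).1,
    ((h4 b.v.val b.v.2).2 c.v.val c.v.2).2⟩⟩

instance instField : Field K16 :=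
  Field.ofMinimalAxioms K16
    (fun a b c => ext' (Nat.xor_assoc _ _ _))
    (fun a => ext' (Nat.zero_xor _))
    (fun a => ext' (Nat.xor_self _))
    (fun a b c => ext' ((facts a).2.2.2 b c).2.1)
    (fun a b => ext' ((facts a).2.2.2 b b).1)
    (fun a => ext' (facts a).1)
    (fun a ha => ext' (by
      show mul16 a.v.val (inv16 a.v.val % 16) = 4
      rw [Nat.mod_eq_of_lt (facts a).2.1]
      exact (facts a).2.2.1.resolve_left fun h => ha (ext' h)))
    (ext' rfl)
    (fun a b c => ext' ((facts a).2.2.2 b c).2.2)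
    ⟨0, 1, fun h => absurd (congrArg (fun x : K16 => x.v.val) h) (by decide)⟩

theorem card : Fintype.card K16 = 16 := by
  rw [Fintype.card_congr (⟨fun a => a.v, fun v => ⟨v⟩, fun _ => rfl, fun _ => rfl⟩ : K16 ≃ Fin 16), Fintype.card_fin]

theorem neg_eq (a : K16) : -a = a := rfl

end K16

end Cfsg.Agent.Spor.JThree.Unique
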