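import Cfsg.Agent.Lib.Spor.JThree.Unique.Setup

/-!
# The action of the normalizer of the coordinates and commuting lifts
-/

set_option autoImplicit false
set_option linter.style.haveILetI false
set_option linter.unusedSectionVars false
set_option maxRecDepth 100000

namespace Cfsg.Agent.Spor.JThree.Unique

open Cfsg.Agent.Spor.JThree

universe u

variable {G : Type u} [Group G] {t : G} (S : Hyp t)

theorem acts_word {n : G} {P : List ℕ} (h : Acts S n P) : ∀ (w : List ℕ) (n₀ : G) (Q : List ℕ),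
    (∀ x ∈ w, x < 3) → Acts S n₀ Q → ∃ n', Acts S n' (w.foldl (fun Q x => cmp Q ([P3, Pj, P].getD x idP)) Q)
  | [], n₀, Q, _, h₀ => ⟨n₀, h₀⟩
  | x :: w, n₀, Q, hw, h₀ => by
    have hx := hw x List.mem_cons_self
    refine acts_word h w (n₀ * [S.d 55, S.d 378, n].getD x 1) _ (fun y hy => hw y (List.mem_cons_of_mem _ hy)) (h₀.mul S ?_)
    interval_cases x
    · exact acts55 S
    · exact acts378 S
    · exact h

/-- an element fixing the central involution acts as an element of the complement -/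
theorem stab_mem {n : G} {Q : List ℕ} (h : Acts S n Q) (h1 : ap Q 1 = 1) : Q ∈ dList := by
  have hnt : Commute n t := by
    have := (h.2 1 (by norm_num)).2
    rw [h1, av_t, mul_assoc, inv_mul_eq_iff_eq_mul] at this
    exact this.symm
  obtain ⟨x, hx, rfl⟩ := exists_code S hnt
  have himg : ∀ m < 16, cjc (vec m) x = vec (ap Q m) := fun m hm => by
    refine d_inj S (cjc_lt S (vec_lt hm) hx) (vec_lt (h.2 m hm).1) ?_
    rw [d_cjc S (vec_lt hm) hx]
    exact (h.2 m hm).2
  have hmem : ∀ m < 16, vec (ap Q m) ∈ vecL := fun m hm => by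
    have hlt : ap Q m < vecL.length := (h.2 m hm).1
    rw [vec, List.getD_eq_getElem _ _ hlt]
    exact List.getElem_mem hlt
  have hs := List.all_eq_true.1 stab_ok x (List.mem_range.2 hx)
  simp only [Bool.or_eq_true, Bool.not_eq_true', List.contains_iff_mem] at hs
  rcases hs with hs | hs
  · rw [← Bool.not_eq_true, List.all_eq_true] at hs
    refine absurd (fun m hm => List.contains_iff_mem.2 ?_) hs
    have hm16 : m < 16 := by
      simp only [List.mem_cons, List.not_mem_nil, or_false] at hm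
      omega
    rw [himg m hm16]
    exact hmem m hm16
  · have e : ((List.range 16).map fun m => co (cjc (vec m) x)) = Q := by
      refine List.ext_getElem (by simp [h.1]) fun i h1 h2 => ?_
      have hi : i < 16 := h.1 ▸ h2
      simp only [List.getElem_map, List.getElem_range]
      rw [himg i hi]
      have key : ∀ k < 16, co (vec k) = k := by decide +kernel
      rw [key _ (h.2 i hi).1, ap, List.getD_eq_getElem _ _ h2]
    rwa [e] at hs

theorem coprime_fourteen : Nat.Coprime 7 50232960 := by norm_num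

/-- a bad action is impossible -/
theorem not_bad [Finite G] {n : G} {Q : List ℕ} (h : Acts S n Q) : badAct Q = false := by
  rw [← Bool.not_eq_true]
  intro hb
  simp only [badAct, Bool.or_eq_true, Bool.and_eq_true, Bool.not_eq_true', beq_iff_eq, bne_iff_ne] at hb
  rcases hb with ⟨h1, h2⟩ | ⟨h7, h2⟩
  · rw [List.contains_iff_mem.2 (stab_mem S h h1)] at h2
    exact Bool.noConfusion h2
  · have hp : Acts S (n * (n * (n * (n * (n * (n * n)))))) idP :=
      h7 ▸ h.mul S (h.mul S (h.mul S (h.mul S (h.mul S (h.mul S h)))))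
    obtain ⟨m, hm, e⟩ := acts_id_coords S hp
    have h14 : n ^ 14 = 1 := by
      have e7 : n ^ 7 = S.av m := by rw [e]; simp only [pow_succ', pow_zero, mul_one]
      rw [show (14 : ℕ) = 7 + 7 from rfl, pow_add, e7, av_sq S hm]
    have hdvd : orderOf n ∣ 2 :=
      (Nat.Coprime.coprime_dvd_left (orderOf_dvd_natCard n)
        (S.hcard.symm ▸ (by norm_num : Nat.Coprime 50232960 7))).dvd_of_dvd_mul_right
          (show orderOf n ∣ 2 * 7 from orderOf_dvd_of_pow_eq_one h14)
    refine h2 (Acts.eq S (h.mul S h) ?_)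
    rw [← pow_two, orderOf_dvd_iff_pow_eq_one.1 hdvd]
    exact acts_one S

theorem linP_facts : ∀ m < 16, m % 2 < 2 ∧
    Nat.xor (Nat.xor (if m % 2 = 1 then 1 else 0) (if m / 2 % 2 = 1 then 2 else 0))
      (Nat.xor (if m / 4 % 2 = 1 then 4 else 0) (if m / 8 % 2 = 1 then 8 else 0)) = m := by decide +kernel

theorem badWords_lt : ∀ w ∈ badWords, ∀ x ∈ w, x < 3 := by decide +kernel

/-- an element inducing the exchange -/
theorem exists_ph0 [Finite G] : ∃ f : G, Acts S f ph0 := by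
  obtain ⟨h, ht', ha'⟩ := exists_swap S
  have hact : ∀ m : ℕ, ∃ k, m < 16 → k < 16 ∧ h⁻¹ * S.av m * h = S.av k := by
    intro m
    by_cases hm : m < 16
    · obtain ⟨k, hk, e⟩ := exists_coords S (g := h⁻¹ * S.av m * h) (by
        have := (Commute.conj_iff h⁻¹).2 (av_comm S hm (show 2 < 16 by norm_num))
        rwa [inv_inv, ha'] at this) (by
        have := (Commute.conj_iff h⁻¹).2 (av_comm S hm (show 1 < 16 by norm_num))
        rwa [inv_inv, av_t, ht'] at this)
      exact ⟨k, fun _ => ⟨hk, e.symm⟩⟩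
    · exact ⟨0, fun h => absurd h hm⟩
  choose F hF using hact
  have hA : Acts S h ((List.range 16).map F) :=
    ⟨by simp, fun m hm => by rw [ap_map hm]; exact hF m hm⟩
  have hF1 : F 1 = 2 := av_inj S (hF 1 (by norm_num)).1 (by norm_num)
    ((hF 1 (by norm_num)).2.symm.trans (by rw [av_t]; exact ht'))
  have hF2 : F 2 = 1 := av_inj S (hF 2 (by norm_num)).1 (by norm_num)
    ((hF 2 (by norm_num)).2.symm.trans (by rw [ha', av_t]))
  have hF0 : F 0 = 0 := av_inj S (hF 0 (by norm_num)).1 (by norm_num)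
    ((hF 0 (by norm_num)).2.symm.trans (by rw [av_zero]; group))
  have hxor : ∀ a < 16, ∀ b < 16, F (Nat.xor a b) = Nat.xor (F a) (F b) := fun a ha b hb => by
    refine av_inj S (hF _ (xor_lt16 ha hb)).1 (xor_lt16 (hF a ha).1 (hF b hb).1) ?_
    rw [← (hF _ (xor_lt16 ha hb)).2, ← av_mul S (hF a ha).1 (hF b hb).1, ← (hF a ha).2, ← (hF b hb).2,
      ← av_mul S ha hb]
    group
  have hlin : (List.range 16).map F = linP (F 4) (F 8) := by
    refine List.map_congr_left fun m hm => ?_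
    have hm := List.mem_range.1 hm
    conv_lhs => rw [← (linP_facts m hm).2]
    rw [hxor _ (xor_lt16 (by split_ifs <;> norm_num) (by split_ifs <;> norm_num)) _
        (xor_lt16 (by split_ifs <;> norm_num) (by split_ifs <;> norm_num)),
      hxor _ (by split_ifs <;> norm_num) _ (by split_ifs <;> norm_num),
      hxor _ (by split_ifs <;> norm_num) _ (by split_ifs <;> norm_num)]
    split_ifs <;> simp only [hF0, hF1, hF2]
  rw [hlin] at hA
  have hp := List.all_eq_true.1 (List.all_eq_true.1 phi_ok (F 4) (List.mem_range.2 (hF 4 (by norm_num)).1))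
    (F 8) (List.mem_range.2 (hF 8 (by norm_num)).1)
  simp only [Bool.or_eq_true, Bool.not_eq_true', decide_eq_false_iff_not, List.any_eq_true, beq_iff_eq] at hp
  rcases hp with (hp | hp) | ⟨w, hw, hp⟩
  · exact ⟨h, hp ▸ hA⟩
  · refine absurd (List.nodup_iff_injective_getElem.2 fun i j e => ?_) hp
    have hi : i.1 < 16 := hA.1 ▸ i.2
    have hj : j.1 < 16 := hA.1 ▸ j.2
    refine Fin.ext (av_inj S hi hj ?_)
    have e' : ap (linP (F 4) (F 8)) i.1 = ap (linP (F 4) (F 8)) j.1 := by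
      rw [ap, ap, List.getD_eq_getElem _ _ i.2, List.getD_eq_getElem _ _ j.2]; exact e
    have h1 := (hA.2 i.1 hi).2
    rw [e', ← (hA.2 j.1 hj).2] at h1
    simpa using h1
  · obtain ⟨n', hn'⟩ := acts_word S hA w 1 idP (badWords_lt w hw) (acts_one S)
    rw [show w.foldl (fun Q x => cmp Q ([P3, Pj, linP (F 4) (F 8)].getD x idP)) idP =
      wordAct (linP (F 4) (F 8)) w from rfl] at hn'
    rw [not_bad S hn'] at hp
    exact Bool.noConfusion hp

theorem act_checks :
    (cmp P3 Pz == cmp Pz P3 && cmp Pj Pz == cmp Pz Pj && cmp ph0 Pz == cmp Pz ph0 &&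
      cmp Pz (cmp Pz Pz) == idP && cmp P3 (cmp P3 P3) == idP && cmp Pj Pj == idP &&
      wordAct ph0 [0, 1, 0, 2, 0, 1, 0, 2] == Pz && wordAct ph0 [2, 1] == Px &&
      cmp (cmp P3 Pj) (cmp (cmp P3 Pj) (cmp P3 Pj)) == idP &&
      (List.range 16).all (fun m => (Nat.beq m 0 || !(Nat.beq (ap Pz m) m)) &&
        (List.range 16).any fun b => Nat.beq (Nat.xor (Nat.xor (ap Pz b) b) m) 0)) = true := by decide +kernel

/-- the complement is rigid -/
theorem comp_ok : ((List.range 16).all fun i => (List.range 16).all fun k =>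
    !((Nat.beq (pw (mc 55 (vec i)) 3) 0 && Nat.beq (pw (mc 378 (vec k)) 2) 0) &&
      Nat.beq (pw (mc (mc 55 (vec i)) (mc 378 (vec k))) 3) 0) ||
    (List.range 16).any fun b => Nat.beq (cjc (mc 55 (vec i)) (vec b)) 55 &&
      Nat.beq (cjc (mc 378 (vec k)) (vec b)) 378) = true := by decide +kernel

/-- a lift commutes with the given one and induces the action -/
def IsLift (n₀ n : G) (P : List ℕ) : Prop := Commute n₀ n ∧ Acts S n P

theorem IsLift.mul {n₀ n n' : G} {P Q : List ℕ} (h : IsLift S n₀ n P) (h' : IsLift S n₀ n' Q) :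
    IsLift S n₀ (n * n') (cmp P Q) :=
  ⟨h.1.mul_right h'.1, h.2.mul S h'.2⟩

theorem fix_coord {n₀ : G} (h₀ : Acts S n₀ Pz) {m : ℕ} (hm : m < 16) (hc : Commute n₀ (S.av m)) : m = 0 := by
  have h := act_checks
  simp only [Bool.and_eq_true, List.all_eq_true, List.mem_range, Bool.or_eq_true, Bool.not_eq_true'] at h
  rcases (h.2 m hm).1 with h' | h'
  · exact Nat.eq_of_beq_eq_true h'
  · exfalso
    have e : ap Pz m = m := av_inj S (h₀.2 m hm).1 hm (by
      rw [← (h₀.2 m hm).2, mul_assoc, ← hc.eq, inv_mul_cancel_left])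
    rw [e, Nat.beq_refl] at h'
    exact Bool.noConfusion h'

theorem IsLift.unique {n₀ n n' : G} {P : List ℕ} (h₀ : Acts S n₀ Pz) (h : IsLift S n₀ n P)
    (h' : IsLift S n₀ n' P) : n = n' := by
  have hid : Acts S (n⁻¹ * n') idP := by
    refine ⟨by simp [idP], fun m hm => ⟨by rw [ap_id hm]; exact hm, ?_⟩⟩
    -- pull back through the first lift
    obtain ⟨Q, hQ, hQ'⟩ : ∃ k, k < 16 ∧ n⁻¹ * S.av k * n = S.av m := by
      have hinj : Set.InjOn (ap P) (Finset.range 16) := fun a ha b hb e => by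
        simp only [Finset.coe_range, Set.mem_Iio] at ha hb
        refine av_inj S ha hb ?_
        have := (h.2.2 a ha).2
        rw [e, ← (h.2.2 b hb).2] at this
        simpa using this
      obtain ⟨k, hk, ek⟩ := Finset.surj_on_of_inj_on_of_card_le (fun a _ => ap P a)
        (s := Finset.range 16) (t := Finset.range 16)
        (fun a ha => Finset.mem_range.2 (h.2.2 a (Finset.mem_range.1 ha)).1)
        (fun a b ha hb e => hinj ha hb e) le_rfl m (Finset.mem_range.2 hm)
      exact ⟨k, Finset.mem_range.1 hk, by rw [(h.2.2 k (Finset.mem_range.1 hk)).2, ek]⟩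
    have hQ'' : n'⁻¹ * S.av Q * n' = S.av m := by
      rw [(h'.2.2 Q hQ).2, ← (h.2.2 Q hQ).2, hQ']
    rw [ap_id hm]
    calc (n⁻¹ * n')⁻¹ * S.av m * (n⁻¹ * n') = n'⁻¹ * (n * S.av m * n⁻¹) * n' := by group
      _ = S.av m := by rw [show n * S.av m * n⁻¹ = S.av Q by rw [← hQ']; group, hQ'']
  obtain ⟨m, hm, e⟩ := acts_id_coords S hid
  have := fix_coord S h₀ hm (e ▸ h.1.inv_right.mul_right h'.1)
  rw [this, av_zero] at e
  exact inv_mul_eq_one.1 e.symm

theorem exists_lift {n₀ n : G} {P : List ℕ} (h₀ : Acts S n₀ Pz) (h : Acts S n P) (hc : cmp P Pz = cmp Pz P) :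
    ∃ b < 16, IsLift S n₀ (n * S.av b) P := by
  obtain ⟨m, hm, e⟩ : ∃ m < 16, n⁻¹ * n₀ * n = n₀ * S.av m := by
    have h1 := h₀.mul S h
    rw [← hc] at h1
    have h3 : Acts S ((n * n₀)⁻¹ * (n₀ * n)) idP := by
      refine ⟨by simp [idP], fun k hk => ⟨by rw [ap_id hk]; exact hk, ?_⟩⟩
      have hpre : ∃ q < 16, ap (cmp P Pz) q = k := by
        have hinj : Set.InjOn (ap (cmp P Pz)) (Finset.range 16) := fun a ha b hb e => by
          simp only [Finset.coe_range, Set.mem_Iio] at ha hb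
          refine av_inj S ha hb ?_
          have := (h1.2 a ha).2
          rw [e, ← (h1.2 b hb).2] at this
          simpa using this
        obtain ⟨q, hq, eq⟩ := Finset.surj_on_of_inj_on_of_card_le (fun a _ => ap (cmp P Pz) a)
          (s := Finset.range 16) (t := Finset.range 16)
          (fun a ha => Finset.mem_range.2 (h1.2 a (Finset.mem_range.1 ha)).1)
          (fun a b ha hb e => hinj ha hb e) le_rfl k (Finset.mem_range.2 hk)
        exact ⟨q, Finset.mem_range.1 hq, eq.symm⟩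
      obtain ⟨q, hq, eq⟩ := hpre
      have e2 := ((h.mul S h₀).2 q hq).2
      have e3 := (h1.2 q hq).2
      rw [eq] at e2 e3
      rw [ap_id hk]
      calc ((n * n₀)⁻¹ * (n₀ * n))⁻¹ * S.av k * ((n * n₀)⁻¹ * (n₀ * n)) =
          (n₀ * n)⁻¹ * ((n * n₀) * S.av k * (n * n₀)⁻¹) * (n₀ * n) := by group
        _ = S.av k := by rw [show (n * n₀) * S.av k * (n * n₀)⁻¹ = S.av q by rw [← e2]; group, e3]
    obtain ⟨m, hm, em⟩ := acts_id_coords S h3
    exact ⟨m, hm, by rw [em]; group⟩
  have hk := act_checks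
  simp only [Bool.and_eq_true, List.all_eq_true, List.mem_range, List.any_eq_true, Nat.beq_eq] at hk
  obtain ⟨b, hb, eb⟩ := (hk.2 m hm).2
  have hzb := h₀.2 b hb
  refine ⟨b, hb, ?_, h.conj S (acts_av S hb)⟩
  show n₀ * (n * S.av b) = n * S.av b * n₀
  have e1 : n₀ * n = n * (n₀ * S.av m) := by rw [← e]; group
  have e2 : S.av b * n₀ = n₀ * S.av (ap Pz b) := by rw [← hzb.2]; group
  rw [← mul_assoc, e1, mul_assoc n (S.av b) n₀, e2]
  simp only [mul_assoc]
  rw [av_mul S hm hb]
  have : Nat.xor m b = ap Pz b := by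
    have h0 : Nat.xor (Nat.xor (ap Pz b) b) m = 0 := eb
    have key : ∀ x y z : ℕ, (x ^^^ y) ^^^ z = 0 → z ^^^ y = x := fun x y z h => by
      have h1 : x ^^^ y = z := by simpa using h
      rw [← h1, Nat.xor_assoc, Nat.xor_self, Nat.xor_zero]
    exact key _ _ _ h0
  rw [this]

/-- an element of order three with commuting lifts, normalized on the complement -/
structure Lift where
  n : G
  f : G
  act : Acts S n Pz
  cube : n * (n * n) = 1
  c55 : Commute n (S.d 55)
  c378 : Commute n (S.d 378)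
  actf : Acts S f ph0
  cf : Commute n f

theorem exists_Lift [Finite G] : Nonempty (Lift S) := by
  obtain ⟨f, hf⟩ := exists_ph0 S
  have hk := act_checks
  simp only [Bool.and_eq_true, beq_iff_eq] at hk
  obtain ⟨⟨⟨⟨⟨⟨⟨⟨⟨k1, k2⟩, k3⟩, k4⟩, k5⟩, k6⟩, k7⟩, -⟩, k9⟩, -⟩ := hk
  obtain ⟨n₀, h₀⟩ := acts_word S hf [0, 1, 0, 2, 0, 1, 0, 2] 1 idP (by decide) (acts_one S)
  rw [show ([0, 1, 0, 2, 0, 1, 0, 2] : List ℕ).foldl (fun Q x => cmp Q ([P3, Pj, ph0].getD x idP)) idP = Pz
    from k7] at h₀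
  obtain ⟨i, hi, hx⟩ := exists_lift S h₀ (acts55 S) k1
  obtain ⟨k, hk, hy⟩ := exists_lift S h₀ (acts378 S) k2
  obtain ⟨b₀, hb₀, hf'⟩ := exists_lift S h₀ hf k3
  have hone : ∀ {n' : G}, IsLift S n₀ n' idP → n' = 1 := fun h =>
    h.unique S h₀ ⟨Commute.one_right _, acts_one S⟩
  have hcube : n₀ * (n₀ * n₀) = 1 := hone
    ⟨(Commute.refl n₀).mul_right ((Commute.refl n₀).mul_right (Commute.refl n₀)),
      k4 ▸ h₀.mul S (h₀.mul S h₀)⟩
  set X := S.d 55 * S.av i
  set Y := S.d 378 * S.av k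
  have hX3 : X * (X * X) = 1 := hone (k5 ▸ hx.mul S (hx.mul S hx))
  have hY2 : Y * Y = 1 := hone (k6 ▸ hy.mul S hy)
  have hXY : X * Y * (X * Y * (X * Y)) = 1 := hone (k9 ▸ (hx.mul S hy).mul S ((hx.mul S hy).mul S (hx.mul S hy)))
  have lX : S.d (mc 55 (vec i)) = X := d_mul S (by norm_num) (vec_lt hi)
  have lY : S.d (mc 378 (vec k)) = Y := d_mul S (by norm_num) (vec_lt hk)
  have ltX : mc 55 (vec i) < 1920 := S.e.lt _ (by norm_num) _ (vec_lt hi)
  have ltY : mc 378 (vec k) < 1920 := S.e.lt _ (by norm_num) _ (vec_lt hk)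
  have ltXY := S.e.lt _ ltX _ ltY
  have c1 : pw (mc 55 (vec i)) 3 = 0 := d_inj S (d_pow S ltX 3).1 (by norm_num) (by
    rw [(d_pow S ltX 3).2, lX, d_one, pow_succ', pow_two, hX3])
  have c2 : pw (mc 378 (vec k)) 2 = 0 := d_inj S (d_pow S ltY 2).1 (by norm_num) (by
    rw [(d_pow S ltY 2).2, lY, d_one, pow_two, hY2])
  have c3 : pw (mc (mc 55 (vec i)) (mc 378 (vec k))) 3 = 0 := d_inj S (d_pow S ltXY 3).1 (by norm_num) (by
    rw [(d_pow S ltXY 3).2, d_mul S ltX ltY, lX, lY, d_one, pow_succ', pow_two, hXY])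
  have hc := List.all_eq_true.1 (List.all_eq_true.1 comp_ok i (List.mem_range.2 hi)) k (List.mem_range.2 hk)
  simp only [c1, c2, c3, Nat.beq_refl, Bool.and_self, Bool.not_true, Bool.false_or, List.any_eq_true,
    List.mem_range, Bool.and_eq_true, Nat.beq_eq] at hc
  obtain ⟨b, hb, e1, e2⟩ := hc
  have E1 : (S.av b)⁻¹ * X * S.av b = S.d 55 := by
    rw [← lX, Hyp.av, ← d_cjc S ltX (vec_lt hb), e1]
  have E2 : (S.av b)⁻¹ * Y * S.av b = S.d 378 := by
    rw [← lY, Hyp.av, ← d_cjc S ltY (vec_lt hb), e2]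
  have hinv : (S.av b)⁻¹ = S.av b := inv_eq_of_mul_eq_one_right (av_sq S hb)
  have hact : ∀ {n' : G} {P : List ℕ}, Acts S n' P → Acts S ((S.av b)⁻¹ * n' * S.av b) P := by
    intro n' P h
    refine ⟨h.1, fun m hm => ⟨(h.2 m hm).1, ?_⟩⟩
    rw [hinv]
    have ecomm : S.av b * S.av m * (S.av b)⁻¹ = S.av m := by
      rw [(av_comm S hb hm).eq, mul_inv_cancel_right]
    calc (S.av b * n' * S.av b)⁻¹ * S.av m * (S.av b * n' * S.av b) =
        (S.av b)⁻¹ * (n'⁻¹ * ((S.av b)⁻¹ * S.av m * S.av b) * n') * S.av b := by group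
      _ = (S.av b)⁻¹ * S.av (ap P m) * S.av b := by
          rw [show (S.av b)⁻¹ * S.av m * S.av b = S.av m by
            rw [mul_assoc, (av_comm S hm hb).eq, inv_mul_cancel_left], (h.2 m hm).2]
      _ = _ := by rw [mul_assoc, (av_comm S (h.2 m hm).1 hb).eq, inv_mul_cancel_left]
  have hconj : ∀ {a c : G}, Commute a c → Commute ((S.av b)⁻¹ * a * S.av b) ((S.av b)⁻¹ * c * S.av b) :=
    fun h => by simpa using (Commute.conj_iff (S.av b)⁻¹).2 h
  exact ⟨{
    n := (S.av b)⁻¹ * n₀ * S.av b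
    f := (S.av b)⁻¹ * (f * S.av b₀) * S.av b
    act := hact h₀
    cube := by
      calc _ = (S.av b)⁻¹ * (n₀ * (n₀ * n₀)) * S.av b := by group
        _ = 1 := by rw [hcube]; group
    c55 := E1 ▸ hconj hx.1
    c378 := E2 ▸ hconj hy.1
    actf := hact hf'.2
    cf := hconj hf'.1 }⟩

end Cfsg.Agent.Spor.JThree.Unique
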