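import Cfsg.Agent.Lib.Spor.JThree.Unique.Lifts

/-!
# The elements of order three and two beyond the two local subgroups
-/

set_option autoImplicit false
set_option linter.style.haveILetI false
set_option linter.unusedSectionVars false
set_option maxRecDepth 100000

namespace Cfsg.Agent.Spor.JThree.Unique

open Cfsg.Agent.Spor.JThree

universe u

variable {G : Type u} [Group G] {t : G} {S : Hyp t} (L : Lift S)

/-- the element of order five -/
noncomputable def Lift.x : G := L.f * S.d 378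

/-- the element carrying the involution of the complement to the central one -/
noncomputable def Lift.m : G := S.d 92 * L.x

theorem px_facts : (cmp ph0 Pj == Px && cmp Px (cmp Px (cmp Px (cmp Px Px))) == idP &&
    cmp (cmp (cmp Pj Px) Pj) Px == idP && cmp idP Pz == Pz && cmp Pz idP == Pz && cmp idP ph0 == ph0 &&
    cmp ph0 idP == ph0 && cmp Pj idP == Pj && Pz != idP && Px != idP) = true := by decide +kernel

theorem x_lift : IsLift S L.n L.x Px := by
  have h := px_facts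
  simp only [Bool.and_eq_true, beq_iff_eq] at h
  obtain ⟨⟨⟨⟨⟨⟨⟨⟨⟨h1, -⟩, -⟩, -⟩, -⟩, -⟩, -⟩, -⟩, -⟩, -⟩ := h
  exact h1 ▸ IsLift.mul S ⟨L.cf, L.actf⟩ ⟨L.c378, acts378 S⟩

theorem x_five : L.x * (L.x * (L.x * (L.x * L.x))) = 1 := by
  have h := px_facts
  simp only [Bool.and_eq_true, beq_iff_eq] at h
  obtain ⟨⟨⟨⟨⟨⟨⟨⟨⟨-, h2⟩, -⟩, -⟩, -⟩, -⟩, -⟩, -⟩, -⟩, -⟩ := h
  have hx := x_lift L
  exact ((h2 ▸ hx.mul S (hx.mul S (hx.mul S (hx.mul S hx)))) : IsLift S L.n _ idP).unique S L.act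
    ⟨Commute.one_right _, acts_one S⟩

theorem x_order : orderOf L.x = 5 := by
  haveI : Fact (Nat.Prime 5) := ⟨by norm_num⟩
  refine orderOf_eq_prime (by rw [← x_five L]; simp only [pow_succ', pow_zero, mul_one]) fun h => ?_
  have hid : Acts S L.x idP := h.symm ▸ acts_one S
  have h' := px_facts
  simp only [Bool.and_eq_true, bne_iff_ne] at h'
  exact h'.2 (Acts.eq S (x_lift L).2 hid)

theorem j_inv : S.d 378 * L.x * S.d 378 * L.x = 1 := by
  have h := px_facts
  simp only [Bool.and_eq_true, beq_iff_eq] at h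
  obtain ⟨⟨⟨⟨⟨⟨⟨⟨⟨-, -⟩, h3⟩, -⟩, -⟩, -⟩, -⟩, -⟩, -⟩, -⟩ := h
  have hx := x_lift L
  have hj : IsLift S L.n (S.d 378) Pj := ⟨L.c378, acts378 S⟩
  exact ((h3 ▸ ((hj.mul S hx).mul S hj).mul S hx) : IsLift S L.n _ idP).unique S L.act
    ⟨Commute.one_right _, acts_one S⟩

theorem n_ne : L.n ≠ 1 := fun h => by
  have hid : Acts S L.n idP := h.symm ▸ acts_one S
  have h' := px_facts
  simp only [Bool.and_eq_true, bne_iff_ne] at h'
  exact h'.1.2 (Acts.eq S L.act hid)

theorem codes_ok : (Nat.beq (cjc 378 92) 96 && Nat.beq (cjc 110 92) (vec 8) && Nat.beq (cjc 279 92) (vec 10) &&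
    Nat.beq (cjc 1 92) (vec 1) && Nat.beq (cjc 2 92) (vec 5) && Nat.beq (cjc 3 92) (vec 4) &&
    Nat.beq (ap Px 2) 1 && Nat.beq (vec (ap Px 8)) 3 && Nat.beq (vec (ap Px 10)) 2 &&
    Nat.beq (vec (ap Px 1)) 99 && Nat.beq (vec (ap Px 5)) 258 && Nat.beq (vec (ap Px 4)) 353 &&
    Nat.beq (mc (mc (mc 55 378) 55) 55) 110 && Nat.beq (mc (mc (mc 55 55) 378) 55) 279 &&
    Nat.beq (mc 2 55) (mc 55 2) && Nat.beq (mc 2 378) (mc 378 2) && Nat.beq (vec 4) 2 &&
    Nat.beq (mc 258 (vec (Nat.xor (ap Px 4) 4))) 97 && Nat.beq (vec (ap Pz 1)) 3 &&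
    Nat.beq (vec (ap Pz 4)) 1 && Nat.beq (ap Pz 4) 1) = true := by decide +kernel

theorem m_code {q k : ℕ} (hq : q < 1920) (hk : k < 16) (h : cjc q 92 = vec k) :
    L.m⁻¹ * S.d q * L.m = S.d (vec (ap Px k)) := by
  have h1 := ((x_lift L).2.2 k hk).2
  rw [Hyp.av, Hyp.av, ← h, d_cjc S hq (by norm_num)] at h1
  rw [← h1, Lift.m]
  group

theorem m_j : L.m⁻¹ * S.d 378 * L.m = t := by
  have h := codes_ok
  simp only [Bool.and_eq_true, Nat.beq_eq] at h
  have e := m_code L (show 378 < 1920 by norm_num) (show 2 < 16 by norm_num) (h.1.1.1.1.1.1.1.1.1.1.1.1.1.1.1.1.1.1.1.1)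
  rw [e, h.1.1.1.1.1.1.1.1.1.1.1.1.1.1.2]
  exact d_t S

theorem m_conj {g : G} (h : Commute g (S.d 378)) : Commute (L.m⁻¹ * g * L.m) t := by
  have := (Commute.conj_iff L.m⁻¹).2 h
  rwa [inv_inv, m_j] at this

/-- conditions on the code of the element of order three -/
def condY (y : ℕ) : Bool :=
  Nat.beq (pw y 3) 0 && !(Nat.beq y 0) && Nat.beq (mc y 3) (mc 3 y) && Nat.beq (mc y 2) (mc 2 y) &&
    Nat.beq (cjc 99 y) 353 && Nat.beq (cjc 258 y) 99

theorem Y_ok : ((List.range 1920).all fun y =>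
    !(condY y) || Nat.beq y 55 || Nat.beq y 182 || ((Nat.beq y 212 || Nat.beq y 341) &&
      (Nat.beq (cjc y 97) 55 || Nat.beq (cjc y 97) 182))) = true := by decide +kernel

theorem exists_Y : ∃ y < 1920, S.d y = L.m⁻¹ * L.n * L.m ∧ condY y = true := by
  obtain ⟨y, hy, ey⟩ := exists_code S (m_conj L L.c378)
  refine ⟨y, hy, ey, ?_⟩
  have hc := codes_ok
  simp only [Bool.and_eq_true, Nat.beq_eq] at hc
  obtain ⟨⟨⟨⟨⟨⟨⟨⟨⟨⟨⟨⟨⟨⟨⟨⟨⟨⟨⟨⟨-, c110⟩, c279⟩, c1⟩, c2⟩, c3⟩, -⟩, p8⟩, p10⟩, p1⟩, p5⟩, p4⟩, w110⟩, w279⟩, -⟩, -⟩, v4⟩, -⟩, z1⟩, z4⟩, -⟩ := hc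
  have hcomm : ∀ q k, q < 1920 → k < 16 → Commute L.n (S.d q) → cjc q 92 = vec k →
      mc y (vec (ap Px k)) = mc (vec (ap Px k)) y := fun q k hq hk hn h => by
    refine (d_comm_iff S hy (vec_lt ((x_lift L).2.2 k hk).1)).1 ?_
    rw [ey, ← m_code L hq hk h]
    simpa using (Commute.conj_iff L.m⁻¹).2 hn
  have h110 : Commute L.n (S.d 110) := by
    rw [← w110, d_mul S (by decide +kernel) (by norm_num), d_mul S (by decide +kernel) (by norm_num),
      d_mul S (by norm_num) (by norm_num)]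
    exact ((L.c55.mul_right L.c378).mul_right L.c55).mul_right L.c55
  have h279 : Commute L.n (S.d 279) := by
    rw [← w279, d_mul S (by decide +kernel) (by norm_num), d_mul S (by decide +kernel) (by norm_num),
      d_mul S (by norm_num) (by norm_num)]
    exact ((L.c55.mul_right L.c55).mul_right L.c378).mul_right L.c55
  have hact : ∀ q k q' k', q < 1920 → k < 16 → q' < 1920 → k' < 16 → cjc q 92 = vec k → cjc q' 92 = vec k' →
      (L.n)⁻¹ * S.d q * L.n = S.d q' → cjc (vec (ap Px k)) y = vec (ap Px k') := by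
    intro q k q' k' hq hk hq' hk' h h' hn
    have hlk := vec_lt ((x_lift L).2.2 k hk).1
    refine d_inj S (cjc_lt S hlk hy) (vec_lt ((x_lift L).2.2 k' hk').1) ?_
    rw [d_cjc S hlk hy, ey, ← m_code L hq hk h, ← m_code L hq' hk' h', ← hn]
    group
  have e3 := hcomm 110 8 (by norm_num) (by norm_num) h110 c110
  have e2 := hcomm 279 10 (by norm_num) (by norm_num) h279 c279
  have a1 := hact 1 1 3 4 (by norm_num) (by norm_num) (by norm_num) (by norm_num) c1 c3 (by
    have h := (L.act.2 1 (by norm_num)).2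
    rwa [Hyp.av, Hyp.av, z1, show vec 1 = 1 from rfl] at h)
  have a2 := hact 2 5 1 1 (by norm_num) (by norm_num) (by norm_num) (by norm_num) c2 c1 (by
    have h := (L.act.2 4 (by norm_num)).2
    rwa [Hyp.av, Hyp.av, z4, v4] at h)
  rw [p8] at e3
  rw [p10] at e2
  rw [p1, p4] at a1
  rw [p5, p1] at a2
  have c3' : pw y 3 = 0 := by
    refine d_inj S (d_pow S hy 3).1 (by norm_num) ?_
    rw [(d_pow S hy 3).2, ey, d_one]
    calc (L.m⁻¹ * L.n * L.m) ^ 3 = L.m⁻¹ * (L.n * (L.n * L.n)) * L.m := by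
          rw [pow_succ', pow_two]; group
      _ = 1 := by rw [L.cube]; group
  have cne : y ≠ 0 := fun h => by
    rw [h, d_one] at ey
    exact n_ne L (by calc L.n = L.m * (L.m⁻¹ * L.n * L.m) * L.m⁻¹ := by group
                          _ = 1 := by rw [← ey]; group)
  have cne' : Nat.beq y 0 = false := Bool.eq_false_iff.2 fun h => cne (Nat.eq_of_beq_eq_true h)
  simp only [condY, c3', cne', e3, e2, a1, a2, Nat.beq_refl, Bool.not_false, Bool.and_self]

/-- one can assume that the code is `55` or `182` -/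
theorem exists_good (L : Lift S) : ∃ L : Lift S, ∃ y, (y = 55 ∨ y = 182) ∧ S.d y = L.m⁻¹ * L.n * L.m := by
  obtain ⟨y, hy, ey, hc⟩ := exists_Y L
  have h := List.all_eq_true.1 Y_ok y (List.mem_range.2 hy)
  simp only [hc, Bool.not_true, Bool.false_or, Bool.or_eq_true, Bool.and_eq_true, Nat.beq_eq] at h
  rcases h with (h | h) | ⟨-, h⟩
  · exact ⟨L, y, Or.inl h, ey⟩
  · exact ⟨L, y, Or.inr h, ey⟩
  have hcd := codes_ok
  simp only [Bool.and_eq_true, Nat.beq_eq] at hcd
  obtain ⟨⟨⟨⟨⟨⟨⟨⟨⟨⟨⟨⟨⟨⟨⟨⟨⟨⟨⟨⟨-, -⟩, -⟩, -⟩, c2⟩, -⟩, -⟩, -⟩, -⟩, -⟩, p5⟩, -⟩, -⟩, -⟩, v55⟩, v378⟩, v4⟩, hu⟩, -⟩, -⟩, -⟩ := hcd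
  have hp := px_facts
  simp only [Bool.and_eq_true, beq_iff_eq] at hp
  obtain ⟨⟨⟨⟨⟨⟨⟨⟨⟨-, -⟩, -⟩, i1⟩, i2⟩, i3⟩, i4⟩, -⟩, -⟩, -⟩ := hp
  set v := S.av 4 with hv
  have hvv : v * v = 1 := av_sq S (by norm_num)
  have hvi : v⁻¹ = v := inv_eq_of_mul_eq_one_right hvv
  have hvd : v = S.d 2 := by rw [hv, Hyp.av, v4]
  have h55 : Commute v (S.d 55) := by rw [hvd]; exact (d_comm_iff S (by norm_num) (by norm_num)).2 v55
  have h378 : Commute v (S.d 378) := by rw [hvd]; exact (d_comm_iff S (by norm_num) (by norm_num)).2 v378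
  have hact : ∀ {n' : G} {P : List ℕ}, Acts S n' P → cmp idP P = P → cmp P idP = P → Acts S (v * n' * v) P :=
    fun {n' P} h e1 e2 => by
      have h' := ((acts_av S (show 4 < 16 by norm_num)).mul S h).mul S (acts_av S (show 4 < 16 by norm_num))
      rwa [e1, e2] at h'
  let L' : Lift S := {
    n := v * L.n * v
    f := v * L.f * v
    act := hact L.act i1 i2
    cube := by
      calc v * L.n * v * (v * L.n * v * (v * L.n * v)) = v * L.n * (v * v) * L.n * (v * v) * L.n * v := by group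
        _ = v * (L.n * (L.n * L.n)) * v := by rw [hvv]; group
        _ = 1 := by rw [L.cube, mul_one, hvv]
    c55 := (h55.mul_left L.c55).mul_left h55
    c378 := (h378.mul_left L.c378).mul_left h378
    actf := hact L.actf i3 i4
    cf := by
      show v * L.n * v * (v * L.f * v) = v * L.f * v * (v * L.n * v)
      calc v * L.n * v * (v * L.f * v) = v * L.n * (v * v) * L.f * v := by group
        _ = v * (L.n * L.f) * v := by rw [hvv]; group
        _ = v * L.f * (v * v) * L.n * v := by rw [L.cf.eq, hvv]; group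
        _ = _ := by group }
  refine ⟨L', cjc y 97, h, ?_⟩
  have hm' : L'.m = L.m * S.d (vec (Nat.xor (ap Px 4) 4)) := by
    have e1 : L'.x = v * L.x * v := by
      show v * L.f * v * S.d 378 = v * (L.f * S.d 378) * v
      rw [mul_assoc (v * L.f), h378.eq]
      group
    have e2 : v * L.x = L.x * S.av (ap Px 4) := by
      rw [← ((x_lift L).2.2 4 (by norm_num)).2, ← hv]
      group
    show S.d 92 * L'.x = S.d 92 * L.x * _
    rw [e1, e2, mul_assoc L.x, hv, av_mul S ((x_lift L).2.2 4 (by norm_num)).1 (by norm_num), mul_assoc]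
    rfl
  have hv2 : L.m⁻¹ * v * L.m = S.d 258 := by
    rw [hvd, m_code L (by norm_num) (show 5 < 16 by norm_num) c2, p5]
  have hu' : vec (Nat.xor (ap Px 4) 4) < 1920 := vec_lt (xor_lt16 ((x_lift L).2.2 4 (by norm_num)).1 (by norm_num))
  have h258 : S.d 258 * S.d 258 = 1 := by
    rw [← hv2]
    calc L.m⁻¹ * v * L.m * (L.m⁻¹ * v * L.m) = L.m⁻¹ * (v * v) * L.m := by group
      _ = 1 := by rw [hvv]; group
  rw [d_cjc S hy (by norm_num), ← hu, d_mul S (by norm_num) hu', ey, hm']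
  set u := S.d (vec (Nat.xor (ap Px 4) 4))
  calc (S.d 258 * u)⁻¹ * (L.m⁻¹ * L.n * L.m) * (S.d 258 * u) =
      u⁻¹ * ((S.d 258)⁻¹ * (L.m⁻¹ * L.n * L.m) * S.d 258) * u := by group
    _ = u⁻¹ * (L.m⁻¹ * v * L.m * (L.m⁻¹ * L.n * L.m) * (L.m⁻¹ * v * L.m)) * u := by
        rw [inv_eq_of_mul_eq_one_right h258, hv2]
    _ = (L.m * u)⁻¹ * (v * L.n * v) * (L.m * u) := by group

theorem code_order_five : (Nat.beq (pw 512 5) 0) = true := by decide +kernel

/-- involutions commuting with an element of order five -/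
theorem exists_invol [Finite G] : ∃ i : G, orderOf i = 2 ∧ Commute i L.x := by
  haveI : Fact (Nat.Prime 5) := ⟨by norm_num⟩
  have hR : orderOf (S.d 512) = 5 := by
    refine orderOf_eq_prime (by rw [← (d_pow S (by norm_num) 5).2, Nat.eq_of_beq_eq_true code_order_five, d_one]) ?_
    intro h
    exact absurd (d_inj S (by norm_num) (by norm_num) (h.trans (d_one S).symm)) (by norm_num)
  have hsyl : ∀ g : G, orderOf g = 5 → Nat.card (Subgroup.zpowers g) = 5 ^ (Nat.card G).factorization 5 := by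
    intro g hg
    rw [Nat.card_zpowers, hg, S.hcard,
      show (50232960 : ℕ) = 5 * 10046592 from rfl, Nat.factorization_mul (by norm_num) (by norm_num)]
    simp [Nat.Prime.factorization_self (by norm_num : Nat.Prime 5),
      Nat.factorization_eq_zero_of_not_dvd (by norm_num : ¬ 5 ∣ 10046592)]
  let P : Sylow 5 G := Sylow.ofCard _ (hsyl _ hR)
  let Q : Sylow 5 G := Sylow.ofCard _ (hsyl _ (x_order L))
  obtain ⟨g, hg⟩ := MulAction.exists_smul_eq G P Q
  have hxmem : L.x ∈ ((g • P : Sylow 5 G) : Subgroup G) := by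
    rw [hg]
    exact Subgroup.mem_zpowers L.x
  rw [Sylow.coe_subgroup_smul, Subgroup.mem_pointwise_smul_iff_inv_smul_mem, ← map_inv, MulAut.smul_def,
    MulAut.conj_apply] at hxmem
  obtain ⟨k, hk⟩ := Subgroup.mem_zpowers_iff.1 hxmem
  refine ⟨g * t * g⁻¹, ?_, ?_⟩
  · rw [← S.ht]
    exact (MulEquiv.orderOf_eq (MulAut.conj g) t)
  · have h : Commute t (S.d 512 ^ k) := ((d_commute S (by norm_num)).symm).zpow_right k
    rw [hk] at h
    have h' := (Commute.conj_iff g).2 h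
    simpa [mul_assoc] using h'

theorem five_cent {i y : G} (hi : orderOf i = 2) (hix : Commute i L.x) (hy : Commute y L.x)
    (hyi : Commute y i) : ∃ k : ℕ, y = L.x ^ k ∨ y = i * L.x ^ k := by
  obtain ⟨c, hc⟩ := isConj_iff.1 (S.hconj i hi)
  have back : ∀ {a : G}, Commute a i → Commute (c⁻¹ * a * c) t := fun h => by
    have h' := (Commute.conj_iff c⁻¹).2 h
    rwa [inv_inv, ← hc, show c⁻¹ * (c * t * c⁻¹) * c = t by group] at h'
  set X : ↥(Subgroup.centralizer ({t} : Set G)) :=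
    ⟨c⁻¹ * L.x * c, Subgroup.mem_centralizer_singleton_iff.2 (back hix.symm).eq⟩ with hX
  set Y : ↥(Subgroup.centralizer ({t} : Set G)) :=
    ⟨c⁻¹ * y * c, Subgroup.mem_centralizer_singleton_iff.2 (back hyi).eq⟩ with hY
  obtain ⟨w, hw⟩ := cls_spec S.e X
  have hx5 : X ^ 5 = 1 := Subtype.ext (by
    rw [Subgroup.coe_pow, hX]
    show (c⁻¹ * L.x * c) ^ 5 = 1
    rw [show c⁻¹ * L.x * c = MulAut.conj c⁻¹ L.x by simp, ← map_pow, ← x_order L, pow_orderOf_eq_one, map_one])
  set j := cls S.e X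
  have hj : j < 16 ∧ rep j < 1920 := ⟨cls_lt S.e X, (rep_facts (cls_lt S.e X)).1⟩
  have hR5 : pw (rep j) 5 = 0 := by
    refine d_inj S (d_pow S hj.2 5).1 (by norm_num) ?_
    rw [(d_pow S hj.2 5).2, d_one]
    show ((S.e.dec (rep j) : G)) ^ 5 = 1
    rw [← Subgroup.coe_pow]
    have : (S.e.dec (rep j)) ^ 5 = 1 := by
      have h := hx5
      rw [hw, conj_pow] at h
      calc S.e.dec (rep j) ^ 5 = w⁻¹ * (w * S.e.dec (rep j) ^ 5 * w⁻¹) * w := by group
        _ = 1 := by rw [h]; group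
    rw [this]
    rfl
  have hne : rep j ≠ 0 := fun h => by
    rw [h, S.e.zero, mul_one, mul_inv_cancel] at hw
    have h' : c⁻¹ * L.x * c = 1 := congrArg Subtype.val hw
    have : L.x = 1 := by calc L.x = c * (c⁻¹ * L.x * c) * c⁻¹ := by group
                              _ = 1 := by rw [h']; group
    have e := x_order L
    rw [this, orderOf_one] at e
    exact absurd e (by norm_num)
  have hYX : Commute Y X := Subtype.ext (by
    have h := (Commute.conj_iff c⁻¹).2 hy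
    simpa [hX, hY] using h.eq)
  set Z := w⁻¹ * Y * w with hZ
  have hZR : Commute Z (S.e.dec (rep j)) := by
    have h := (Commute.conj_iff w⁻¹).2 hYX
    rwa [inv_inv, hw, show w⁻¹ * (w * S.e.dec (rep j) * w⁻¹) * w = S.e.dec (rep j) by group, ← hZ] at h
  have hcode : mc (rep j) (cod S.e Z) = mc (cod S.e Z) (rep j) := by
    calc mc (rep j) (cod S.e Z) = cod S.e (S.e.dec (rep j) * Z) := by rw [cod_mul S.e (S.e.dec (rep j)) Z, cod_dec S.e hj.2]
      _ = cod S.e (Z * S.e.dec (rep j)) := by rw [hZR.symm.eq]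
      _ = mc (cod S.e Z) (rep j) := by rw [cod_mul S.e Z (S.e.dec (rep j)), cod_dec S.e hj.2]
  have h := List.all_eq_true.1 five_ok j (List.mem_range.2 hj.1)
  simp only [hR5, Nat.beq_refl, Bool.not_true, Bool.false_or, Bool.or_eq_true, Nat.beq_eq,
    List.all_eq_true, List.mem_range] at h
  rcases h with h | h
  · exact absurd h hne
  have h := h (cod S.e Z) (cod_lt S.e Z)
  rcases h with h | h
  · rw [hcode, Nat.beq_refl] at h
    exact Bool.noConfusion h
  simp only [List.any_eq_true, List.mem_range, Bool.or_eq_true, Nat.beq_eq] at h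
  obtain ⟨k, -, h⟩ := h
  refine ⟨k, h.imp (fun h => ?_) (fun h => ?_)⟩
  · have e1 : (Z : G) = ((S.e.dec (rep j) ^ k : ↥(Subgroup.centralizer ({t} : Set G))) : G) := by
      rw [← dec_cod S.e Z, h, Subgroup.coe_pow]
      exact (d_pow S hj.2 k).2
    have e2 : Z = S.e.dec (rep j) ^ k := Subtype.ext e1
    have e3 : Y = X ^ k := by
      rw [hw, conj_pow, ← e2, hZ]; group
    have e4 : c⁻¹ * y * c = c⁻¹ * L.x ^ k * c := by
      have := congrArg Subtype.val e3
      simp only [hX, hY, Subgroup.coe_pow] at this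
      rw [this, show c⁻¹ * L.x * c = MulAut.conj c⁻¹ L.x by simp, ← map_pow]
      simp
    calc y = c * (c⁻¹ * y * c) * c⁻¹ := by group
      _ = _ := by rw [e4]; group
  · set T : ↥(Subgroup.centralizer ({t} : Set G)) := S.e.dec 1 with hT
    have hTc : Commute T w := Subtype.ext (by
      show (T : G) * (w : G) = (w : G) * (T : G)
      rw [hT, S.e.one]
      exact (Subgroup.mem_centralizer_singleton_iff.1 w.2).symm)
    have e2 : Z = T * S.e.dec (rep j) ^ k := by
      refine Subtype.ext ?_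
      rw [← dec_cod S.e Z, h, Subgroup.coe_mul, Subgroup.coe_pow]
      exact (d_mul S (by norm_num) (d_pow S hj.2 k).1).trans (congrArg _ (d_pow S hj.2 k).2)
    have e3 : Y = T * X ^ k := by
      calc Y = w * Z * w⁻¹ := by rw [hZ]; group
        _ = (w * T * w⁻¹) * (w * S.e.dec (rep j) ^ k * w⁻¹) := by rw [e2]; group
        _ = T * X ^ k := by rw [← hTc.eq, mul_inv_cancel_right, hw, conj_pow]
    have e4 : c⁻¹ * y * c = t * (c⁻¹ * L.x ^ k * c) := by
      have := congrArg Subtype.val e3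
      simp only [hX, hY, Subgroup.coe_pow, Subgroup.coe_mul, hT, S.e.one] at this
      rw [this, show c⁻¹ * L.x * c = MulAut.conj c⁻¹ L.x by simp, ← map_pow]
      simp
    calc y = c * (c⁻¹ * y * c) * c⁻¹ := by group
      _ = c * t * c⁻¹ * L.x ^ k := by rw [e4]; group
      _ = _ := by rw [hc]

end Cfsg.Agent.Spor.JThree.Unique
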