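import Cfsg.Agent.Lib.Spor.JThree.Unique.Cases
import Cfsg.Agent.Lib.Spor.JThree.Unique.K16
import Cfsg.Agent.Lib.Lie.SL2Hom

/-!
# The subgroup `SL(2,16):2`
-/

set_option autoImplicit false
set_option linter.style.haveILetI false
set_option linter.unusedSectionVars false
set_option maxRecDepth 100000

namespace Cfsg.Agent.Spor.JThree.Unique

open Cfsg.Agent.Spor.JThree Cfsg.Agent.Lie

universe u

/-- the action of the element of order fifteen -/
def Ptau : List ℕ := cmp Px Pz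

/-- its powers -/
def powP : ℕ → List ℕ
  | 0 => idP
  | k + 1 => cmp (powP k) Ptau

/-- logarithm of coordinates -/
def log16 (a : ℕ) : ℕ := [0, 10, 4, 12, 0, 5, 3, 1, 14, 13, 9, 6, 11, 7, 2, 8].getD a 0

/-- exponent of the diagonal element -/
def tExp (a : ℕ) : ℕ := 13 * log16 a % 15

theorem tau_ok : ((powP 15 == idP) && (powP 6 == Px) && (powP 10 == Pz) &&
    (List.range 15).all (fun e => (List.range 16).all fun m =>
      Nat.beq (ap (powP e) m) (mul16 (ap (powP e) 4) m)) &&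
    (List.range 15).all (fun e => powP e != Pj && (Nat.beq e 0 || powP e != idP)) &&
    (List.range 16).all (fun a => Nat.beq a 0 ||
      Nat.beq (ap (powP ((15 - tExp a) % 15)) 4) (mul16 a a) && (List.range 16).all fun b =>
        Nat.beq b 0 || Nat.beq ((tExp a + tExp b) % 15) (tExp (mul16 a b))) &&
    (List.range 16).all (fun a => (List.range 16).any fun b => Nat.beq (mul16 b b) a) &&
    (cmp Pj Px != cmp Px Pj) && Nat.beq (tExp 4) 0) = true := by decide +kernel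

variable {G : Type u} [Group G] {t : G} {S : Hyp t} (D : Gens S)

/-- the element of order fifteen -/
noncomputable def Gens.tau : G := D.L.x * D.L.n

theorem Gens.tau_lift : IsLift S D.L.n D.tau Ptau :=
  (x_lift D.L).mul S ⟨Commute.refl _, D.L.act⟩

theorem Gens.tau_pow : ∀ k, IsLift S D.L.n (D.tau ^ k) (powP k)
  | 0 => by rw [pow_zero]; exact ⟨Commute.one_right _, acts_one S⟩
  | k + 1 => by rw [pow_succ]; exact (Gens.tau_pow k).mul S D.tau_lift

theorem Gens.tau_facts : D.tau ^ 15 = 1 ∧ D.tau ^ 6 = D.L.x ∧ D.tau ^ 10 = D.L.n := by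
  have h := tau_ok
  simp only [Bool.and_eq_true, beq_iff_eq] at h
  obtain ⟨⟨⟨⟨⟨⟨⟨⟨h1, h2⟩, h3⟩, -⟩, -⟩, -⟩, -⟩, -⟩, -⟩ := h
  refine ⟨?_, ?_, ?_⟩
  · exact (h1 ▸ D.tau_pow 15 : IsLift S D.L.n (D.tau ^ 15) idP).unique S D.L.act ⟨Commute.one_right _, acts_one S⟩
  · exact (h2 ▸ D.tau_pow 6 : IsLift S D.L.n (D.tau ^ 6) Px).unique S D.L.act (x_lift D.L)
  · exact (h3 ▸ D.tau_pow 10 : IsLift S D.L.n (D.tau ^ 10) Pz).unique S D.L.act ⟨Commute.refl _, D.L.act⟩

theorem Gens.tau_mod (k : ℕ) : D.tau ^ (k % 15) = D.tau ^ k := (pow_eq_pow_mod k D.tau_facts.1).symm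

/-- the element exchanging the two root groups -/
noncomputable def Gens.ww : G := D.i * S.d 378

theorem j_sq (S : Hyp t) : S.d 378 * S.d 378 = 1 := by
  rw [← d_mul S (by norm_num) (by norm_num), show mc 378 378 = 0 by decide +kernel, d_one]

theorem Gens.ww_tau : D.ww * D.tau * D.ww⁻¹ = D.tau⁻¹ := by
  have hw : D.ww⁻¹ = D.ww := inv_eq_of_mul_eq_one_right D.ij_sq
  rw [hw]
  set j := S.d 378 with hj
  have hjx : j * D.L.x * j = D.L.x⁻¹ := eq_inv_of_mul_eq_one_left (j_inv D.L)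
  have hjn : j * D.L.n * j = D.L.n := by rw [← D.L.c378.eq, mul_assoc, j_sq, mul_one]
  have hjj : j⁻¹ = j := inv_eq_of_mul_eq_one_right (j_sq S)
  have hii : D.i⁻¹ = D.i := inv_eq_of_mul_eq_one_right (sq_one D.hi)
  show D.i * j * (D.L.x * D.L.n) * (D.i * j) = (D.L.x * D.L.n)⁻¹
  calc D.i * j * (D.L.x * D.L.n) * (D.i * j) = D.i * j * (D.L.x * D.L.n) * (j⁻¹ * D.i) := by rw [hjj, D.hij.eq]
    _ = D.i * (j * D.L.x * j⁻¹) * (j * D.L.n * j⁻¹) * D.i := by group
    _ = (D.i * D.L.x⁻¹ * D.i⁻¹) * (D.i * D.L.n * D.i) := by rw [hjj, hjx, hjn]; group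
    _ = D.L.x⁻¹ * D.L.n⁻¹ := by
        rw [(D.hix.inv_right).eq, mul_inv_cancel_right, eq_inv_of_mul_eq_one_left D.hin]
    _ = _ := by rw [← mul_inv_rev, (x_lift D.L).1.eq]

/-- the diagonal element -/
noncomputable def Gens.tT (a : K16) : G := D.tau ^ tExp a.v.val

/-- the upper root group -/
noncomputable def Gens.uu (_D : Gens S) (a : K16) : G := S.av a.v.val

/-- the lower root group -/
noncomputable def Gens.vv (a : K16) : G := D.ww * S.av a.v.val * D.ww⁻¹

theorem Gens.uu_add (a b : K16) : D.uu (a + b) = D.uu a * D.uu b := (av_mul S a.v.2 b.v.2).symm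

theorem K16.ne_zero {a : K16} (h : a ≠ 0) : a.v.val ≠ 0 := fun e => h (K16.ext' e)

theorem Gens.tT_mul {a b : K16} (ha : a ≠ 0) (hb : b ≠ 0) : D.tT a * D.tT b = D.tT (a * b) := by
  have h := tau_ok
  simp only [Bool.and_eq_true, List.all_eq_true, List.mem_range, Bool.or_eq_true, Nat.beq_eq] at h
  have e := ((h.1.1.1.2 a.v.val a.v.2).resolve_left (K16.ne_zero ha)).2 b.v.val b.v.2
  show D.tau ^ tExp a.v.val * D.tau ^ tExp b.v.val = D.tau ^ tExp (mul16 a.v.val b.v.val)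
  rw [← e.resolve_left (K16.ne_zero hb), ← pow_add, D.tau_mod]

theorem Gens.tT_conj {a : K16} (ha : a ≠ 0) (x : K16) :
    D.tT a * D.uu x * (D.tT a)⁻¹ = D.uu (a * a * x) := by
  have h := tau_ok
  simp only [Bool.and_eq_true, List.all_eq_true, List.mem_range, Bool.or_eq_true, Nat.beq_eq] at h
  set e := tExp a.v.val with he
  set k := (15 - e) % 15 with hk
  have h1 := ((h.1.1.1.2 a.v.val a.v.2).resolve_left (K16.ne_zero ha)).1
  have h2 := h.1.1.1.1.1.2 k (Nat.mod_lt _ (by norm_num)) x.v.val x.v.2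
  have hinv : D.tau ^ k = (D.tT a)⁻¹ := by
    refine eq_inv_of_mul_eq_one_left ?_
    have : e < 15 := Nat.mod_lt _ (by norm_num)
    rw [Gens.tT, ← he, ← pow_add, ← D.tau_mod, show (k + e) % 15 = 0 by omega, pow_zero]
  have h3 := ((D.tau_pow k).2.2 x.v.val x.v.2).2
  rw [hinv, inv_inv, h2, h1] at h3
  exact h3

theorem Gens.tT_one : D.tT 1 = 1 := by
  have h := tau_ok
  simp only [Bool.and_eq_true, Nat.beq_eq] at h
  show D.tau ^ tExp 4 = 1
  rw [h.2, pow_zero]

theorem Gens.tT_inv {a : K16} (ha : a ≠ 0) : D.tT a⁻¹ = (D.tT a)⁻¹ :=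
  eq_inv_of_mul_eq_one_left (by rw [D.tT_mul (inv_ne_zero ha) ha, inv_mul_cancel₀ ha, D.tT_one])

theorem Gens.ww_tT (a : K16) : D.ww * D.tT a * D.ww⁻¹ = (D.tT a)⁻¹ := by
  rw [Gens.tT, ← conj_pow, D.ww_tau, inv_pow]

theorem K16.exists_sqrt (a : K16) : ∃ b : K16, b * b = a := by
  have h := tau_ok
  simp only [Bool.and_eq_true, List.all_eq_true, List.mem_range, List.any_eq_true, Nat.beq_eq] at h
  obtain ⟨b, hb, e⟩ := h.1.1.2 a.v.val a.v.2
  exact ⟨⟨⟨b, hb⟩⟩, K16.ext' e⟩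

theorem Gens.key (hI : D.I = 1334) {a : K16} (ha : a ≠ 0) :
    D.uu a * D.vv a⁻¹ * D.uu a = D.tT a * D.ww := by
  obtain ⟨b, rfl⟩ := K16.exists_sqrt a
  have hb : b ≠ 0 := fun h => ha (by rw [h, mul_zero])
  set τ := D.tT b with hτ
  set U := D.uu (1 : K16) with hU
  have hUU : U * U = 1 := av_sq S (by norm_num)
  have hww : D.ww * D.ww = 1 := D.ij_sq
  have hwi : D.ww⁻¹ = D.ww := inv_eq_of_mul_eq_one_right hww
  have e1 : τ * U * τ⁻¹ = D.uu (b * b) := by rw [hU, D.tT_conj hb, mul_one]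
  have e2 : τ⁻¹ * U * τ = D.uu (b * b)⁻¹ := by
    have := D.tT_conj (inv_ne_zero hb) 1
    rwa [D.tT_inv hb, inv_inv, mul_one, ← mul_inv] at this
  have hbraid : D.ww * U * D.ww = U * D.ww * U := D.braid (Or.inr hI)
  have hn : U * (D.ww * U * D.ww) * U = D.ww := by
    rw [hbraid]
    calc U * (U * D.ww * U) * U = (U * U) * D.ww * (U * U) := by group
      _ = D.ww := by rw [hUU, one_mul, mul_one]
  have hwt : D.ww * τ⁻¹ = τ * D.ww := by
    have h := congrArg (·⁻¹) (D.ww_tT b)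
    simp only [mul_inv_rev, inv_inv] at h
    rw [← hτ] at h
    calc D.ww * τ⁻¹ = D.ww * (τ⁻¹ * D.ww⁻¹) * D.ww := by group
      _ = τ * D.ww := by rw [h]
  show D.uu (b * b) * (D.ww * D.uu (b * b)⁻¹ * D.ww⁻¹) * D.uu (b * b) = D.tT (b * b) * D.ww
  rw [← e1, ← e2, ← D.tT_mul hb hb, ← hτ, hwi]
  have hwt' : τ * D.ww = D.ww * τ⁻¹ := hwt.symm
  calc τ * U * τ⁻¹ * (D.ww * (τ⁻¹ * U * τ) * D.ww) * (τ * U * τ⁻¹) =
        τ * U * τ⁻¹ * (D.ww * τ⁻¹) * U * (τ * D.ww) * τ * U * τ⁻¹ := by group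
    _ = τ * U * τ⁻¹ * (τ * D.ww) * U * (D.ww * τ⁻¹) * τ * U * τ⁻¹ := by rw [hwt]
    _ = τ * (U * (D.ww * U * D.ww) * U) * τ⁻¹ := by group
    _ = τ * (D.ww * τ⁻¹) := by rw [hn, mul_assoc]
    _ = τ * τ * D.ww := by rw [hwt, mul_assoc]

theorem Gens.rankOne (hI : D.I = 1334) : RankOneRel D.uu D.vv where
  u_add := D.uu_add
  v_add := fun a b => by
    show D.ww * D.uu (a + b) * D.ww⁻¹ = _
    rw [D.uu_add]
    simp [Gens.vv, Gens.uu, mul_assoc]
  flip := fun z => by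
    have h1 : D.uu (1 : K16) * D.vv (-1) * D.uu 1 = D.ww := by
      have h := D.key hI (one_ne_zero (α := K16))
      rwa [inv_one, D.tT_one, one_mul] at h
    rw [h1, K16.neg_eq]
    show D.ww * (D.ww * D.uu z * D.ww⁻¹) * D.ww⁻¹ = D.uu z
    have hww : D.ww * D.ww = 1 := D.ij_sq
    calc D.ww * (D.ww * D.uu z * D.ww⁻¹) * D.ww⁻¹ = D.ww * D.ww * D.uu z * (D.ww * D.ww)⁻¹ := by group
      _ = D.uu z := by rw [hww]; group
  h_mul := fun a b ha hb => by
    have hab : a * b ≠ 0 := mul_ne_zero ha hb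
    have h1 : D.uu (1 : K16) * D.vv 1 * D.uu 1 = D.ww := by
      have h := D.key hI (one_ne_zero (α := K16))
      rwa [inv_one, D.tT_one, one_mul] at h
    simp only [h1, K16.neg_eq, D.key hI ha, D.key hI hb, D.key hI hab]
    have hww : D.ww * D.ww = 1 := D.ij_sq
    rw [mul_assoc (D.tT a), hww, mul_one, mul_assoc (D.tT b), hww, mul_one, mul_assoc (D.tT (a * b)), hww,
      mul_one, D.tT_mul ha hb]
  h_conj := fun a s ha => by
    have h1 : D.uu (1 : K16) * D.vv 1 * D.uu 1 = D.ww := by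
      have h := D.key hI (one_ne_zero (α := K16))
      rwa [inv_one, D.tT_one, one_mul] at h
    have hww : D.ww * D.ww = 1 := D.ij_sq
    simp only [h1, K16.neg_eq, D.key hI ha]
    rw [mul_assoc (D.tT a), hww, mul_one, D.tT_conj ha, pow_two]

theorem Gens.u_mem (a : K16) : D.uu a ∈ nSub S :=
  ⟨⟨_, acts_av S a.v.2⟩, ⟨idP, by rw [Gens.uu, inv_eq_of_mul_eq_one_right (av_sq S a.v.2)]; exact acts_av S a.v.2⟩⟩

theorem Gens.tau_mem : D.tau ∈ nSub S :=
  (nSub S).mul_mem (D.n_mem (k := 12) (by decide)) (D.n_mem (k := 14) (by decide))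

theorem Gens.tT_mem (a : K16) : D.tT a ∈ nSub S := (nSub S).pow_mem D.tau_mem _

theorem Gens.ww_notMem (hI : D.I = 1334) : D.ww ∉ nSub S := by
  rintro ⟨⟨P, hP⟩, -⟩
  have hbraid := D.braid (Or.inr hI)
  have hwi : D.ww⁻¹ = D.ww := inv_eq_of_mul_eq_one_right D.ij_sq
  obtain ⟨hk, he⟩ := hP.2 4 (by norm_num)
  rw [hwi] at he
  change D.ww * S.av 4 * D.ww = S.av 4 * D.ww * S.av 4 at hbraid
  rw [he] at hbraid
  have hw : D.ww = S.av (Nat.xor 4 (Nat.xor (ap P 4) 4)) := by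
    have h4 := av_sq S (show 4 < 16 by norm_num)
    rw [← av_mul S (by norm_num) (xor_lt16 hk (by norm_num)), ← av_mul S hk (by norm_num), hbraid]
    calc D.ww = (S.av 4 * S.av 4) * D.ww * (S.av 4 * S.av 4) := by rw [h4, one_mul, mul_one]
      _ = _ := by group
  set m := Nat.xor 4 (Nat.xor (ap P 4) 4)
  have hm : m < 16 := xor_lt16 (by norm_num) (xor_lt16 hk (by norm_num))
  have hi : D.i = S.av m * S.d 378 := by
    rw [← hw]
    show D.i = D.i * S.d 378 * S.d 378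
    rw [mul_assoc, j_sq, mul_one]
  have hPi : Acts S D.i Pj := by
    rw [hi]
    have h := (acts_av S hm).mul S (acts378 S)
    rwa [show cmp idP Pj = Pj by decide +kernel] at h
  have hx := (x_lift D.L).2
  have h1 := hPi.mul S hx
  have h2 := hx.mul S hPi
  rw [D.hix.eq] at h1
  have h := tau_ok
  simp only [Bool.and_eq_true, bne_iff_ne] at h
  exact h.1.2 (Acts.eq S h1 h2)

theorem Gens.hom_ant (hI : D.I = 1334) : (D.rankOne hI).hom antS = D.ww := by
  show RankOneRel.toFun D.uu D.vv antS = _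
  have hk := D.key hI (one_ne_zero (α := K16))
  rw [inv_one, D.tT_one, one_mul] at hk
  have h0 : D.uu (0 : K16) = 1 := av_zero S
  simp [RankOneRel.toFun, antS, RankOneRel.nn, K16.neg_eq, h0, hk]

theorem Gens.hom_cases (hI : D.I = 1334) (g : Matrix.SpecialLinearGroup (Fin 2) K16) :
    (g.1 1 0 = 0 ∧ (D.rankOne hI).hom g = D.tT (g.1 0 0) * D.uu (g.1 0 1 / g.1 0 0)) ∨
      ∃ p ∈ nSub S, ∃ q ∈ nSub S, (D.rankOne hI).hom g = p * D.ww * q := by
  classical
  have hk : ∀ {a : K16}, a ≠ 0 → RankOneRel.nn D.uu D.vv a = D.tT a * D.ww := fun {a} ha => by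
    rw [RankOneRel.nn, K16.neg_eq, D.key hI ha]
  show _ ∨ ∃ p ∈ nSub S, ∃ q ∈ nSub S, RankOneRel.toFun D.uu D.vv g = p * D.ww * q
  by_cases hc : g.1 1 0 = 0
  · refine Or.inl ⟨hc, ?_⟩
    have ha : g.1 0 0 ≠ 0 := fun h => by have := RankOneRel.det_eq g; simp [h, hc] at this
    show RankOneRel.toFun D.uu D.vv g = _
    unfold RankOneRel.toFun
    rw [if_pos hc, RankOneRel.hh, hk ha, hk (neg_ne_zero.2 one_ne_zero), K16.neg_eq, D.tT_one, one_mul,
      mul_assoc (D.tT _), show D.ww * D.ww = 1 from D.ij_sq, mul_one]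
  · refine Or.inr ⟨D.uu (g.1 0 0 / g.1 1 0) * D.tT (-(g.1 1 0)⁻¹), (nSub S).mul_mem (D.u_mem _) (D.tT_mem _),
      D.uu (g.1 1 1 / g.1 1 0), D.u_mem _, ?_⟩
    unfold RankOneRel.toFun
    rw [if_neg hc, hk (neg_ne_zero.2 (inv_ne_zero hc))]
    group

theorem Gens.tau_act_ne {e : ℕ} (he : e < 15) : powP e ≠ Pj ∧ (powP e = idP → e = 0) := by
  have h := tau_ok
  simp only [Bool.and_eq_true, List.all_eq_true, List.mem_range, Bool.or_eq_true, Nat.beq_eq, bne_iff_ne] at h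
  obtain ⟨h1, h2⟩ := h.1.1.1.1.2 e he
  exact ⟨h1, fun e' => h2.resolve_right fun h => h e'⟩

theorem Gens.hom_injective (hI : D.I = 1334) : Function.Injective (D.rankOne hI).hom := by
  refine (injective_iff_map_eq_one _).2 fun g hg => ?_
  rcases D.hom_cases hI g with ⟨hc, e⟩ | ⟨p, hp, q, hq, e⟩
  · rw [hg] at e
    set a := g.1 0 0
    set x := g.1 0 1 / a
    have hx : D.tau ^ tExp a.v.val = D.uu x := by
      refine eq_of_mul_inv_eq_one ?_
      rw [Gens.uu, inv_eq_of_mul_eq_one_right (av_sq S x.v.2)]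
      exact e.symm
    have hid : powP (tExp a.v.val) = idP :=
      Acts.eq S (D.tau_pow _).2 (hx ▸ acts_av S x.v.2)
    have h0 : tExp a.v.val = 0 := (Gens.tau_act_ne (Nat.mod_lt _ (by norm_num))).2 hid
    have ha1 : a = 1 := by
      have ha : a ≠ 0 := fun h => by have := RankOneRel.det_eq g; simp [a] at h; simp [h, hc] at this
      have key : ∀ m < 16, m ≠ 0 → tExp m = 0 → m = 4 := by decide +kernel
      exact K16.ext' (key _ a.v.2 (K16.ne_zero ha) h0)
    rw [h0, pow_zero] at hx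
    have hx0 : x = 0 := K16.ext' (av_inj S x.v.2 (by norm_num) (hx.symm.trans (av_zero S).symm))
    have hb : g.1 0 1 = 0 := by
      have : g.1 0 1 = x * a := by rw [div_mul_cancel₀]; rw [ha1]; exact one_ne_zero
      rw [this, hx0, zero_mul]
    have hd : g.1 1 1 = 1 := by
      have := RankOneRel.det_eq g
      rw [show g.1 0 0 = a from rfl, ha1, hb] at this
      simpa using this
    ext i j
    fin_cases i <;> fin_cases j <;> simp [hc, hb, hd, show g.1 0 0 = 1 from ha1]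
  · exfalso
    rw [hg] at e
    refine D.ww_notMem hI ?_
    rw [show D.ww = p⁻¹ * 1 * q⁻¹ by rw [e]; group]
    exact (nSub S).mul_mem ((nSub S).mul_mem ((nSub S).inv_mem hp) (one_mem _)) ((nSub S).inv_mem hq)

include D in
/-- the subgroup `SL(2,16):2` -/
theorem Gens.exists_sl16 [Finite G] : ∃ (H : Subgroup G) (N : Subgroup H) (K : Type) (_ : Field K) (_ : Fintype K),
    N.Normal ∧ N.index = 2 ∧ Fintype.card K = 16 ∧ Nonempty (N ≃* Matrix.SpecialLinearGroup (Fin 2) K) := by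
  classical
  have hI := D.main_case.2
  set φ := (D.rankOne hI).hom
  set N₀ := φ.range
  set j := S.d 378 with hj
  have hu : ∀ a, D.uu a ∈ N₀ := fun a => ⟨upS a, (D.rankOne hI).hom_up a⟩
  have hw : D.ww ∈ N₀ := ⟨antS, D.hom_ant hI⟩
  have ht : ∀ a : K16, a ≠ 0 → D.tT a ∈ N₀ := fun a ha => by
    have h : D.tT a = D.uu a * D.vv a⁻¹ * D.uu a * D.ww⁻¹ := by rw [D.key hI ha]; group
    rw [h]
    exact N₀.mul_mem (N₀.mul_mem (N₀.mul_mem (hu a) (N₀.mul_mem (N₀.mul_mem hw (hu _)) (N₀.inv_mem hw))) (hu a))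
      (N₀.inv_mem hw)
  have htau : D.tau ∈ N₀ := by
    have hex : ((List.range 16).any fun a => !(Nat.beq a 0) && Nat.beq (tExp a) 1) = true := by decide +kernel
    obtain ⟨a, ha, h⟩ := List.any_eq_true.1 hex
    simp only [Bool.and_eq_true, Bool.not_eq_true', Nat.beq_eq] at h
    have := ht ⟨⟨a, List.mem_range.1 ha⟩⟩ (fun e => by
      have : a = 0 := congrArg (fun x : K16 => x.v.val) e
      rw [this, Nat.beq_refl] at h
      exact Bool.noConfusion h.1)
    change D.tau ^ tExp a ∈ N₀ at this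
    rwa [h.2, pow_one] at this
  have hjj : j⁻¹ = j := inv_eq_of_mul_eq_one_right (j_sq S)
  -- conjugation by the involution
  have hup : ∀ a, j * D.uu a * j⁻¹ ∈ N₀ := fun a => by
    have h := (acts378 S).2 a.v.val a.v.2
    rw [← hj, hjj] at h
    rw [hjj, Gens.uu, h.2]
    exact hu ⟨⟨_, h.1⟩⟩
  have hjw : j * D.ww * j⁻¹ = D.ww := by
    show j * (D.i * j) * j⁻¹ = D.i * j
    rw [mul_assoc, mul_inv_cancel_right]
    exact D.hij.eq.symm
  have hnorm : ∀ g ∈ N₀, j * g * j⁻¹ ∈ N₀ := by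
    have hle : Subgroup.closure (Set.range (upS (F := K16)) ∪ {antS}) ≤
        N₀.comap ((MulAut.conj j).toMonoidHom.comp φ) := by
      refine (Subgroup.closure_le _).2 ?_
      rintro _ (⟨a, rfl⟩ | h)
      · show j * φ (upS a) * j⁻¹ ∈ N₀
        rw [(D.rankOne hI).hom_up]
        exact hup a
      · rw [Set.mem_singleton_iff.1 h]
        show j * φ antS * j⁻¹ ∈ N₀
        rw [D.hom_ant hI, hjw]
        exact hw
    rw [RankOneRel.closure_up_ant] at hle
    rintro _ ⟨s, rfl⟩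
    exact hle (Subgroup.mem_top s)
  have hjN : j ∉ N₀ := by
    rintro ⟨g, hg⟩
    rcases D.hom_cases hI g with ⟨-, e⟩ | ⟨p, hp, q, hq, e⟩
    · rw [show (D.rankOne hI).hom g = j from hg] at e
      set a := g.1 0 0
      set x := g.1 0 1 / a
      have hA : Acts S j (powP (tExp a.v.val)) := by
        rw [e]
        exact (D.tau_pow _).2.conj S (acts_av S x.v.2)
      exact (Gens.tau_act_ne (Nat.mod_lt _ (by norm_num))).1 (Acts.eq S hA (acts378 S))
    · rw [show (D.rankOne hI).hom g = j from hg] at e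
      refine D.ww_notMem hI ?_
      rw [show D.ww = p⁻¹ * j * q⁻¹ by rw [e]; group]
      exact (nSub S).mul_mem ((nSub S).mul_mem ((nSub S).inv_mem hp) (D.n_mem (k := 4) (by decide))) ((nSub S).inv_mem hq)
  have hnorm' : ∀ g ∈ N₀, j⁻¹ * g * j ∈ N₀ := fun g hg => by
    have := hnorm g hg
    rwa [hjj] at this ⊢
  let H : Subgroup G :=
    { carrier := {g | g ∈ N₀ ∨ g * j ∈ N₀}
      one_mem' := Or.inl N₀.one_mem
      mul_mem' := by
        rintro a b (ha | ha) (hb | hb)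
        · exact Or.inl (N₀.mul_mem ha hb)
        · exact Or.inr (by rw [mul_assoc]; exact N₀.mul_mem ha hb)
        · refine Or.inr ?_
          have := N₀.mul_mem ha (hnorm' b hb)
          rwa [show a * j * (j⁻¹ * b * j) = a * b * j by group] at this
        · refine Or.inl ?_
          have := N₀.mul_mem ha (hnorm' _ hb)
          rwa [show a * j * (j⁻¹ * (b * j) * j) = a * b * (j * j) by group, j_sq, mul_one] at this
      inv_mem' := by
        rintro a (ha | ha)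
        · exact Or.inl (N₀.inv_mem ha)
        · refine Or.inr ?_
          have := hnorm _ (N₀.inv_mem ha)
          rwa [show j * (a * j)⁻¹ * j⁻¹ = j * j⁻¹ * a⁻¹ * j⁻¹ by group, mul_inv_cancel, one_mul, hjj] at this }
  have hle : N₀ ≤ H := fun g hg => Or.inl hg
  have hjH : j ∈ H := Or.inr (by rw [j_sq]; exact N₀.one_mem)
  have hindex : (N₀.subgroupOf H).index = 2 := by
    rw [Subgroup.index_eq_two_iff]
    refine ⟨⟨j, hjH⟩, fun b => ?_⟩
    simp only [Subgroup.mem_subgroupOf, Subgroup.coe_mul]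
    rcases b.2 with hb | hb
    · exact Or.inr ⟨hb, fun h => hjN (by simpa using N₀.mul_mem (N₀.inv_mem hb) h)⟩
    · exact Or.inl ⟨hb, fun h => hjN (by simpa using N₀.mul_mem (N₀.inv_mem h) hb)⟩
  refine ⟨H, N₀.subgroupOf H, K16, inferInstance, inferInstance, Subgroup.normal_of_index_eq_two hindex, hindex,
    K16.card, ⟨(Subgroup.subgroupOfEquivOfLe hle).trans
      (MonoidHom.ofInjective (D.hom_injective hI)).symm⟩⟩

end Cfsg.Agent.Spor.JThree.Unique
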