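import Cfsg.Agent.Lib.Spor.JThree.Checks

/-!
# Tables for the uniqueness of the third Janko group

Sixteen coordinates for the centralizer of an outer involution, actions on it and certificates.
-/

set_option autoImplicit false
set_option maxRecDepth 100000

namespace Cfsg.Agent.Spor.JThree.Unique

open Cfsg.Agent.Spor.JThree

/-- the sixteen codes -/
def vecL : List ℕ := [0, 1, 96, 97, 2, 3, 98, 99, 256, 257, 352, 353, 258, 259, 354, 355]

/-- the code with given coordinates -/
def vec (m : ℕ) : ℕ := vecL.getD m 0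

/-- image under an action -/
def ap (P : List ℕ) (m : ℕ) : ℕ := P.getD m 0

/-- composition, the left factor first -/
def cmp (P Q : List ℕ) : List ℕ := (List.range 16).map fun m => ap Q (ap P m)

/-- the trivial action -/
def idP : List ℕ := List.range 16

/-- the linear action with given images of the third and fourth basis vectors, exchanging the first two -/
def linP (p q : ℕ) : List ℕ :=
  (List.range 16).map fun m => Nat.xor (Nat.xor (if m % 2 = 1 then 2 else 0) (if m / 2 % 2 = 1 then 1 else 0))
    (Nat.xor (if m / 4 % 2 = 1 then p else 0) (if m / 8 % 2 = 1 then q else 0))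

def P3 : List ℕ := [0, 1, 14, 15, 4, 5, 10, 11, 3, 2, 13, 12, 7, 6, 9, 8]

def Pj : List ℕ := [0, 1, 7, 6, 4, 5, 3, 2, 12, 13, 11, 10, 8, 9, 15, 14]

def ph0 : List ℕ := [0, 2, 1, 3, 10, 8, 11, 9, 5, 7, 4, 6, 15, 13, 14, 12]

def Pz : List ℕ := [0, 5, 8, 13, 1, 4, 9, 12, 10, 15, 2, 7, 11, 14, 3, 6]

def Px : List ℕ := [0, 7, 1, 6, 11, 12, 10, 13, 5, 2, 4, 3, 14, 9, 15, 8]

/-- the action of the twelve elements of the complement -/
def dList : List (List ℕ) :=
  [[0, 1, 2, 3, 4, 5, 6, 7, 8, 9, 10, 11, 12, 13, 14, 15], [0, 1, 14, 15, 4, 5, 10, 11, 3, 2, 13, 12, 7, 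
    6, 9, 8], [0, 1, 9, 8, 4, 5, 13, 12, 15, 14, 6, 7, 11, 10, 2, 3], [0, 1, 3, 2, 4, 5, 7, 6, 13, 12, 14, 
    15, 9, 8, 10, 11], [0, 1, 8, 9, 4, 5, 12, 13, 10, 11, 2, 3, 14, 15, 6, 7], [0, 1, 15, 14, 4, 5, 11, 10, 
    6, 7, 9, 8, 2, 3, 13, 12], [0, 1, 10, 11, 4, 5, 14, 15, 2, 3, 8, 9, 6, 7, 12, 13], [0, 1, 13, 12, 4, 
    5, 9, 8, 14, 15, 3, 2, 10, 11, 7, 6], [0, 1, 6, 7, 4, 5, 2, 3, 9, 8, 15, 14, 13, 12, 11, 10], [0, 1, 
    12, 13, 4, 5, 8, 9, 11, 10, 7, 6, 15, 14, 3, 2], [0, 1, 11, 10, 4, 5, 15, 14, 7, 6, 12, 13, 3, 2, 8, 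
    9], [0, 1, 7, 6, 4, 5, 3, 2, 12, 13, 11, 10, 8, 9, 15, 14]]

/-- the action of a word in two elements of the complement and a third element -/
def wordAct (P : List ℕ) (w : List ℕ) : List ℕ := w.foldl (fun Q x => cmp Q ([P3, Pj, P].getD x idP)) idP

/-- seven short words -/
def badWords : List (List ℕ) := [[1, 2], [0, 2], [2, 2], [0, 2, 1], [0, 1, 2], [0, 2, 1, 2], [2, 0, 2, 1, 0, 2]]

/-- an action showing that a candidate is impossible -/
def badAct (Q : List ℕ) : Bool :=
  (ap Q 1 == 1 && !(dList.contains Q)) ||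
    (cmp Q (cmp Q (cmp Q (cmp Q (cmp Q (cmp Q Q))))) == idP && cmp Q Q != idP)

theorem phi_ok : ((List.range 16).all fun p => (List.range 16).all fun q =>
    linP p q == ph0 || !decide (linP p q).Nodup || badWords.any fun w => badAct (wordAct (linP p q) w)) = true := by
  decide +kernel

/-- conjugation of codes -/
def cjc (x g : ℕ) : ℕ := mc (iv g) (mc x g)

/-- coordinates of a code -/
def co (x : ℕ) : ℕ := vecL.idxOf x

theorem stab_ok : ((List.range 1920).all fun x =>
    !(([2, 4, 8] : List ℕ).all fun m => vecL.contains (cjc (vec m) x)) ||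
      dList.contains ((List.range 16).map fun m => co (cjc (vec m) x))) = true := by decide +kernel

theorem vec_ok : ((List.range 16).all fun m => Nat.blt (vec m) 1920 && (List.range 16).all fun n =>
    Nat.beq (mc (vec m) (vec n)) (vec (Nat.xor m n)) && (!(Nat.beq (vec m) (vec n)) || Nat.beq m n)) = true := by
  decide +kernel

theorem centA_ok : ((List.range 1920).all fun x =>
    !(Nat.beq (mc x 96) (mc 96 x)) || vecL.contains x) = true := by decide +kernel

/-- the outer involutions conjugate to the standard one, with conjugating elements -/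
def conjCert : List (ℕ × ℕ) :=
  [(96, 0), (97, 12), (98, 20), (99, 24), (108, 4), (109, 8), (110, 28), (111, 16), (256, 32), (257, 52), 
    (258, 56), (259, 44), (276, 36), (277, 48), (278, 40), (279, 60), (352, 64), (353, 88), (354, 76), (355, 
    84), (376, 72), (377, 80), (378, 92), (379, 68), (384, 768), (385, 774), (390, 770), (391, 772), (392, 
    786), (393, 788), (398, 790), (399, 784), (416, 1536), (417, 1542), (422, 1538), (423, 1540), (440, 1544), 
    (441, 1550), (446, 1546), (447, 1548), (448, 1152), (449, 1158), (454, 1154), (455, 1156), (464, 1164), 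
    (465, 1162), (470, 1160), (471, 1166), (864, 384), (865, 394), (868, 408), (869, 402), (874, 386), (875, 
    392), (878, 410), (879, 400), (960, 1568), (961, 1578), (970, 1570), (971, 1576), (980, 1572), (981, 
    1582), (990, 1580), (991, 1574), (1056, 1184), (1057, 1194), (1066, 1186), (1067, 1192), (1072, 1190), 
    (1073, 1196), (1082, 1198), (1083, 1188), (1312, 416), (1313, 434), (1316, 426), (1317, 440), (1330, 
    418), (1331, 432), (1334, 424), (1335, 442), (1376, 1600), (1377, 1612), (1388, 1604), (1389, 1608), 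
    (1394, 1602), (1395, 1614), (1406, 1606), (1407, 1610), (1504, 800), (1505, 818), (1512, 820), (1513, 
    806), (1522, 802), (1523, 816), (1530, 822), (1531, 804), (1696, 448), (1697, 472), (1700, 466), (1701, 
    458), (1720, 456), (1721, 464), (1724, 450), (1725, 474), (1760, 1216), (1761, 1228), (1772, 1220), (1773, 
    1224), (1776, 1226), (1777, 1222), (1788, 1218), (1789, 1230), (1888, 832), (1889, 852), (1896, 838), 
    (1897, 850), (1908, 836), (1909, 848), (1916, 834), (1917, 854)]

/-- other involutions, with two elements in the centralizer which do not commute -/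
def witCert : List (ℕ × ℕ × ℕ) :=
  [(2, 12, 20), (3, 12, 20), (4, 10, 18), (5, 10, 18), (8, 6, 18), (9, 6, 18), (16, 6, 10), (17, 6, 10), 
    (30, 6, 10), (31, 6, 10)]

/-- the involution certificate -/
def involCheck (x : ℕ) : Bool :=
  !(Nat.beq (mc x x) 0) || Nat.ble x 1 ||
    conjCert.any (fun p => Nat.beq p.1 x && Nat.blt p.2 1920 && Nat.beq (cjc x p.2) 96) ||
    witCert.any (fun p => Nat.beq p.1 x && Nat.blt p.2.1 1920 && Nat.blt p.2.2 1920 &&
      Nat.beq (mc x p.2.1) (mc p.2.1 x) && Nat.beq (mc x p.2.2) (mc p.2.2 x) &&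
      !(Nat.beq (mc p.2.1 p.2.2) (mc p.2.2 p.2.1)))

theorem invol_ok : ((List.range 1920).all involCheck) = true := by decide +kernel

/-- every involution is conjugate into the sixteen codes -/
def coverCert : List (ℕ × ℕ × ℕ) :=
  [(2, 0, 2), (3, 4, 2), (4, 384, 2), (5, 386, 2), (8, 768, 2), (9, 770, 2), (16, 1152, 2), (17, 1154, 
    2), (30, 1536, 2), (31, 1538, 2), (96, 0, 96), (97, 12, 96), (98, 20, 96), (99, 24, 96), (108, 4, 96), 
    (109, 8, 96), (110, 28, 96), (111, 16, 96), (256, 32, 96), (257, 52, 96), (258, 56, 96), (259, 44, 96), 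
    (276, 36, 96), (277, 48, 96), (278, 40, 96), (279, 60, 96), (352, 64, 96), (353, 88, 96), (354, 76, 96), 
    (355, 84, 96), (376, 72, 96), (377, 80, 96), (378, 92, 96), (379, 68, 96), (384, 768, 96), (385, 774, 
    96), (390, 770, 96), (391, 772, 96), (392, 786, 96), (393, 788, 96), (398, 790, 96), (399, 784, 96), 
    (416, 1536, 96), (417, 1542, 96), (422, 1538, 96), (423, 1540, 96), (440, 1544, 96), (441, 1550, 96), 
    (446, 1546, 96), (447, 1548, 96), (448, 1152, 96), (449, 1158, 96), (454, 1154, 96), (455, 1156, 96), 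
    (464, 1164, 96), (465, 1162, 96), (470, 1160, 96), (471, 1166, 96), (864, 384, 96), (865, 394, 96), (868, 
    408, 96), (869, 402, 96), (874, 386, 96), (875, 392, 96), (878, 410, 96), (879, 400, 96), (960, 1568, 
    96), (961, 1578, 96), (970, 1570, 96), (971, 1576, 96), (980, 1572, 96), (981, 1582, 96), (990, 1580, 
    96), (991, 1574, 96), (1056, 1184, 96), (1057, 1194, 96), (1066, 1186, 96), (1067, 1192, 96), (1072, 
    1190, 96), (1073, 1196, 96), (1082, 1198, 96), (1083, 1188, 96), (1312, 416, 96), (1313, 434, 96), (1316, 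
    426, 96), (1317, 440, 96), (1330, 418, 96), (1331, 432, 96), (1334, 424, 96), (1335, 442, 96), (1376, 
    1600, 96), (1377, 1612, 96), (1388, 1604, 96), (1389, 1608, 96), (1394, 1602, 96), (1395, 1614, 96), 
    (1406, 1606, 96), (1407, 1610, 96), (1504, 800, 96), (1505, 818, 96), (1512, 820, 96), (1513, 806, 96), 
    (1522, 802, 96), (1523, 816, 96), (1530, 822, 96), (1531, 804, 96), (1696, 448, 96), (1697, 472, 96), 
    (1700, 466, 96), (1701, 458, 96), (1720, 456, 96), (1721, 464, 96), (1724, 450, 96), (1725, 474, 96), 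
    (1760, 1216, 96), (1761, 1228, 96), (1772, 1220, 96), (1773, 1224, 96), (1776, 1226, 96), (1777, 1222, 
    96), (1788, 1218, 96), (1789, 1230, 96), (1888, 832, 96), (1889, 852, 96), (1896, 838, 96), (1897, 850, 
    96), (1908, 836, 96), (1909, 848, 96), (1916, 834, 96), (1917, 854, 96), (1, 0, 1)]

theorem cover_ok : ((List.range 1920).all fun x => !(Nat.beq (mc x x) 0) || Nat.beq x 0 ||
    coverCert.any (fun p => Nat.beq p.1 x && Nat.blt p.2.1 1920 && vecL.contains p.2.2 &&
      !(Nat.beq p.2.2 0) && Nat.beq (cjc x p.2.1) p.2.2)) = true := by decide +kernel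

/-- representatives of order five are self-centralizing up to the centre -/
theorem five_ok : ((List.range 16).all fun j => !(Nat.beq (pw (rep j) 5) 0) || Nat.beq (rep j) 0 ||
    (List.range 1920).all fun y => !(Nat.beq (mc (rep j) y) (mc y (rep j))) ||
      (List.range 5).any fun k => Nat.beq y (pw (rep j) k) || Nat.beq y (mc 1 (pw (rep j) k))) = true := by
  decide +kernel

end Cfsg.Agent.Spor.JThree.Unique
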