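import Cfsg.Agent.Lib.Spor.JThree.Local
import Cfsg.Agent.Lib.Spor.JThree.Unique.Tables

/-!
# An element exchanging the central and an outer involution, and its action
-/

set_option autoImplicit false
set_option linter.style.haveILetI false
set_option linter.unusedSectionVars false

namespace Cfsg.Agent.Spor.JThree.Unique

open Cfsg.Agent.Spor.JThree

universe u

/-- the hypotheses, with coordinates -/
structure Hyp {G : Type u} [Group G] (t : G) where
  ht : orderOf t = 2
  e : Coord t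
  hconj : ∀ u : G, orderOf u = 2 → IsConj t u
  hcard : Nat.card G = 50232960

variable {G : Type u} [Group G] {t : G} (S : Hyp t)

/-- the element with a given code -/
noncomputable def Hyp.d (x : ℕ) : G := (S.e.dec x : G)

/-- the element with given coordinates -/
noncomputable def Hyp.av (m : ℕ) : G := S.d (vec m)

theorem d_one : S.d 0 = 1 := by simp [Hyp.d, S.e.zero]

theorem d_t : S.d 1 = t := S.e.one

theorem d_mul {x y : ℕ} (hx : x < 1920) (hy : y < 1920) : S.d (mc x y) = S.d x * S.d y := by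
  simp [Hyp.d, S.e.mul x hx y hy]

theorem d_inj {x y : ℕ} (hx : x < 1920) (hy : y < 1920) (h : S.d x = S.d y) : x = y :=
  S.e.inj x hx y hy (Subtype.ext h)

theorem iv_facts {x : ℕ} (hx : x < 1920) : iv x < 1920 ∧ mc x (iv x) = 0 := (wit_facts hx).2.2

theorem d_inv {x : ℕ} (hx : x < 1920) : S.d (iv x) = (S.d x)⁻¹ := by
  refine eq_inv_of_mul_eq_one_right ?_
  rw [← d_mul S hx (iv_facts hx).1, (iv_facts hx).2, d_one]

include S in
theorem cjc_lt {x g : ℕ} (hx : x < 1920) (hg : g < 1920) : cjc x g < 1920 := by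
  rw [cjc]
  exact S.e.lt _ (iv_facts hg).1 _ (S.e.lt _ hx _ hg)

theorem d_cjc {x g : ℕ} (hx : x < 1920) (hg : g < 1920) : S.d (cjc x g) = (S.d g)⁻¹ * S.d x * S.d g := by
  rw [cjc, d_mul S (iv_facts hg).1 (S.e.lt _ hx _ hg), d_inv S hg, d_mul S hx hg, mul_assoc]

theorem d_pow {x : ℕ} (hx : x < 1920) : ∀ k, pw x k < 1920 ∧ S.d (pw x k) = S.d x ^ k
  | 0 => ⟨by norm_num [pw], by rw [pow_zero]; exact d_one S⟩
  | k + 1 => ⟨S.e.lt _ hx _ (d_pow hx k).1, by
      rw [pw, d_mul S hx (d_pow hx k).1, (d_pow hx k).2, pow_succ']⟩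

theorem exists_code {g : G} (h : Commute g t) : ∃ x < 1920, S.d x = g := by
  obtain ⟨x, hx, e⟩ := S.e.surj ⟨g, Subgroup.mem_centralizer_singleton_iff.2 h.eq⟩
  exact ⟨x, hx, congrArg Subtype.val e⟩

theorem d_commute {x : ℕ} (_hx : x < 1920) : Commute (S.d x) t :=
  Subgroup.mem_centralizer_singleton_iff.1 (S.e.dec x).2

theorem d_comm_iff {x y : ℕ} (hx : x < 1920) (hy : y < 1920) :
    Commute (S.d x) (S.d y) ↔ mc x y = mc y x := by
  constructor
  · intro h
    refine d_inj S (S.e.lt _ hx _ hy) (S.e.lt _ hy _ hx) ?_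
    rw [d_mul S hx hy, d_mul S hy hx, h.eq]
  · intro h
    show _ = _
    rw [← d_mul S hx hy, ← d_mul S hy hx, h]

theorem vec_facts {m n : ℕ} (hm : m < 16) (hn : n < 16) :
    vec m < 1920 ∧ mc (vec m) (vec n) = vec (Nat.xor m n) ∧ (vec m = vec n → m = n) := by
  have h := List.all_eq_true.1 vec_ok m (List.mem_range.2 hm)
  simp only [Bool.and_eq_true, Nat.blt_eq, List.all_eq_true, List.mem_range] at h
  obtain ⟨h1, h2⟩ := h
  obtain ⟨h3, h4⟩ := h2 n hn
  refine ⟨h1, Nat.eq_of_beq_eq_true h3, fun e => ?_⟩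
  simp only [Bool.or_eq_true, Bool.not_eq_true'] at h4
  rcases h4 with h4 | h4
  · rw [e] at h4
    simp [Nat.beq_refl] at h4
  · exact Nat.eq_of_beq_eq_true h4

theorem vec_lt {m : ℕ} (hm : m < 16) : vec m < 1920 := (vec_facts hm hm).1

theorem xor_lt16 {m n : ℕ} (hm : m < 16) (hn : n < 16) : Nat.xor m n < 16 :=
  Nat.xor_lt_two_pow (n := 4) hm hn

theorem av_mul {m n : ℕ} (hm : m < 16) (hn : n < 16) : S.av m * S.av n = S.av (Nat.xor m n) := by
  rw [Hyp.av, Hyp.av, Hyp.av, ← d_mul S (vec_lt hm) (vec_lt hn), (vec_facts hm hn).2.1]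

theorem av_inj {m n : ℕ} (hm : m < 16) (hn : n < 16) (h : S.av m = S.av n) : m = n :=
  (vec_facts hm hn).2.2 (d_inj S (vec_lt hm) (vec_lt hn) h)

theorem av_zero : S.av 0 = 1 := d_one S

theorem av_t : S.av 1 = t := d_t S

theorem av_sq {m : ℕ} (hm : m < 16) : S.av m * S.av m = 1 := by
  rw [av_mul S hm hm, show Nat.xor m m = 0 from Nat.xor_self m, av_zero]

theorem av_comm {m n : ℕ} (hm : m < 16) (hn : n < 16) : Commute (S.av m) (S.av n) := by
  show _ = _
  rw [av_mul S hm hn, av_mul S hn hm, show Nat.xor m n = Nat.xor n m from Nat.xor_comm m n]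

theorem vecL_mem {x : ℕ} (h : x ∈ vecL) : ∃ m < 16, vec m = x := by
  obtain ⟨m, hm, e⟩ := List.mem_iff_getElem.1 h
  exact ⟨m, hm, by rw [vec, List.getD_eq_getElem _ _ hm, e]⟩

/-- an element commuting with both involutions has coordinates -/
theorem exists_coords {g : G} (h1 : Commute g t) (h2 : Commute g (S.av 2)) : ∃ m < 16, S.av m = g := by
  obtain ⟨x, hx, rfl⟩ := exists_code S h1
  have h := List.all_eq_true.1 centA_ok x (List.mem_range.2 hx)
  simp only [Bool.or_eq_true, Bool.not_eq_true'] at h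
  rcases h with h | h
  · have := (d_comm_iff S hx (vec_lt (m := 2) (by norm_num))).1 h2
    rw [show vec 2 = 96 from rfl] at this
    rw [this, Nat.beq_refl] at h
    exact Bool.noConfusion h
  · obtain ⟨m, hm, e⟩ := vecL_mem (List.contains_iff_mem.1 h)
    exact ⟨m, hm, by rw [Hyp.av, e]⟩

/-- the element acts on the coordinates by the given list -/
def Acts (n : G) (P : List ℕ) : Prop :=
  P.length = 16 ∧ ∀ m < 16, ap P m < 16 ∧ n⁻¹ * S.av m * n = S.av (ap P m)

theorem ap_map {f : ℕ → ℕ} {m : ℕ} (hm : m < 16) : ap ((List.range 16).map f) m = f m := by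
  rw [ap, List.getD_eq_getElem _ _ (by simpa using hm)]
  simp

theorem ap_cmp {P Q : List ℕ} {m : ℕ} (hm : m < 16) : ap (cmp P Q) m = ap Q (ap P m) := ap_map hm

theorem ap_id {m : ℕ} (hm : m < 16) : ap idP m = m := by
  rw [ap, idP, List.getD_eq_getElem _ _ (by simpa using hm), List.getElem_range]

theorem Acts.mul {n n' : G} {P Q : List ℕ} (h : Acts S n P) (h' : Acts S n' Q) : Acts S (n * n') (cmp P Q) := by
  refine ⟨by simp [cmp], fun m hm => ?_⟩
  obtain ⟨h1, h2⟩ := h.2 m hm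
  obtain ⟨h3, h4⟩ := h'.2 _ h1
  rw [ap_cmp hm]
  refine ⟨h3, ?_⟩
  rw [← h4, ← h2]
  group

theorem acts_one : Acts S 1 idP :=
  ⟨by simp [idP], fun m hm => ⟨by rw [ap_id hm]; exact hm, by rw [ap_id hm]; group⟩⟩

theorem Acts.inv {n : G} {P Q : List ℕ} (h : Acts S n P) (hQ : Q.length = 16)
    (hPQ : ∀ m < 16, ap Q m < 16 ∧ ap P (ap Q m) = m) : Acts S n⁻¹ Q := by
  refine ⟨hQ, fun m hm => ⟨(hPQ m hm).1, ?_⟩⟩
  have := (h.2 _ (hPQ m hm).1).2
  rw [(hPQ m hm).2] at this
  rw [← this]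
  group

theorem Acts.eq {n : G} {P Q : List ℕ} (h : Acts S n P) (h' : Acts S n Q) : P = Q := by
  refine List.ext_getElem (h.1.trans h'.1.symm) fun i h1 h2 => ?_
  have hi : i < 16 := h.1 ▸ h1
  have e := av_inj S (h.2 i hi).1 (h'.2 i hi).1 ((h.2 i hi).2.symm.trans (h'.2 i hi).2)
  rwa [ap, ap, List.getD_eq_getElem _ _ h1, List.getD_eq_getElem _ _ h2] at e

theorem Acts.conj {n n' : G} {P : List ℕ} (h : Acts S n P) (h' : Acts S n' idP) : Acts S (n * n') P := by
  refine ⟨h.1, fun m hm => ⟨(h.2 m hm).1, ?_⟩⟩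
  have := (h'.2 _ (h.2 m hm).1).2
  rw [ap_id (h.2 m hm).1] at this
  calc (n * n')⁻¹ * S.av m * (n * n') = n'⁻¹ * (n⁻¹ * S.av m * n) * n' := by group
    _ = _ := by rw [(h.2 m hm).2, this]

theorem acts_av {b : ℕ} (hb : b < 16) : Acts S (S.av b) idP := by
  refine ⟨by simp [idP], fun m hm => ⟨by rw [ap_id hm]; exact hm, ?_⟩⟩
  rw [ap_id hm, mul_assoc, (av_comm S hm hb).eq, inv_mul_cancel_left]

theorem acts_id_coords {n : G} (h : Acts S n idP) : ∃ m < 16, S.av m = n := by
  refine exists_coords S ?_ ?_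
  · have := (h.2 1 (by norm_num)).2
    rw [ap_id (by norm_num), av_t, mul_assoc, inv_mul_eq_iff_eq_mul] at this
    exact this.symm
  · have := (h.2 2 (by norm_num)).2
    rw [ap_id (by norm_num), mul_assoc, inv_mul_eq_iff_eq_mul] at this
    exact this.symm

theorem acts_code {x : ℕ} (hx : x < 1920) {P : List ℕ} (hP : P.length = 16)
    (h : ∀ m < 16, ap P m < 16 ∧ cjc (vec m) x = vec (ap P m)) : Acts S (S.d x) P :=
  ⟨hP, fun m hm => ⟨(h m hm).1, by rw [Hyp.av, Hyp.av, ← d_cjc S (vec_lt hm) hx, (h m hm).2]⟩⟩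

theorem code_act_ok : ((List.range 16).all fun m => Nat.blt (ap P3 m) 16 && Nat.beq (cjc (vec m) 55) (vec (ap P3 m)) &&
    Nat.blt (ap Pj m) 16 && Nat.beq (cjc (vec m) 378) (vec (ap Pj m))) = true := by decide +kernel

theorem acts55 : Acts S (S.d 55) P3 := acts_code S (by norm_num) rfl fun m hm => by
  have h := List.all_eq_true.1 code_act_ok m (List.mem_range.2 hm)
  simp only [Bool.and_eq_true, Nat.blt_eq] at h
  exact ⟨h.1.1.1, Nat.eq_of_beq_eq_true h.1.1.2⟩

theorem acts378 : Acts S (S.d 378) Pj := acts_code S (by norm_num) rfl fun m hm => by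
  have h := List.all_eq_true.1 code_act_ok m (List.mem_range.2 hm)
  simp only [Bool.and_eq_true, Nat.blt_eq] at h
  exact ⟨h.1.2, Nat.eq_of_beq_eq_true h.2⟩

theorem two_of {x : G} (h : x ≠ 1) (h2 : x * x = 1) : orderOf x = 2 := by
  haveI : Fact (Nat.Prime 2) := ⟨Nat.prime_two⟩
  exact orderOf_eq_prime (by rw [pow_two, h2]) h

include S in
theorem t_sq : t * t = 1 := by
  rw [← pow_two, ← S.ht]
  exact pow_orderOf_eq_one t

include S in
theorem t_ne : t ≠ 1 := fun h => by
  have := S.ht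
  rw [h, orderOf_one] at this
  exact absurd this (by norm_num)

/-- some element exchanges the two involutions -/
theorem exists_swap : ∃ h : G, h⁻¹ * t * h = S.av 2 ∧ h⁻¹ * S.av 2 * h = t := by
  obtain ⟨c, hc⟩ := isConj_iff.1 (S.hconj (S.av 2) (two_of (fun h =>
    absurd (av_inj S (by norm_num) (by norm_num) (h.trans (av_zero S).symm)) (by norm_num))
    (av_sq S (by norm_num))))
  set s := c⁻¹ * t * c with hs
  have hst : Commute s t := by
    have h : Commute (S.av 2) t := d_commute S (vec_lt (by norm_num))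
    have h' := (Commute.conj_iff c⁻¹).2 h
    rw [inv_inv, ← hc, show c⁻¹ * (c * t * c⁻¹) * c = t by group] at h'
    exact h'.symm
  obtain ⟨x, hx, hxs⟩ := exists_code S hst
  have hx2 : mc x x = 0 := by
    refine d_inj S (S.e.lt _ hx _ hx) (by norm_num) ?_
    rw [d_mul S hx hx, hxs, hs, d_one]
    calc c⁻¹ * t * c * (c⁻¹ * t * c) = c⁻¹ * (t * t) * c := by group
      _ = 1 := by rw [t_sq S]; group
  have h := List.all_eq_true.1 invol_ok x (List.mem_range.2 hx)
  simp only [involCheck, Bool.or_eq_true, Bool.and_eq_true, Bool.not_eq_true', List.any_eq_true,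
    Nat.blt_eq, Nat.beq_eq, Nat.ble_eq] at h
  rcases h with ((h | h) | h) | h
  · rw [hx2, Nat.beq_refl] at h
    exact Bool.noConfusion h
  · exfalso
    interval_cases x
    · rw [d_one, hs] at hxs
      exact t_ne S (by calc t = c * (c⁻¹ * t * c) * c⁻¹ := by group
                         _ = 1 := by rw [← hxs]; group)
    · rw [d_t, hs] at hxs
      have : S.av 2 = t := by rw [← hc]; conv_lhs => rw [show c * t = c * (c⁻¹ * t * c) by rw [← hxs]]
                              group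
      exact absurd (av_inj S (by norm_num) (by norm_num) (this.trans (av_t S).symm)) (by norm_num)
  · obtain ⟨⟨x', g⟩, -, ⟨rfl, hg⟩, hcj⟩ := h
    refine ⟨c * S.d g, ?_, ?_⟩
    · have h96 := d_cjc S hx hg
      rw [hcj, hxs, hs] at h96
      rw [show S.av 2 = S.d 96 from rfl, h96]
      group
    · have hgt : (S.d g)⁻¹ * t * S.d g = t := by
        rw [mul_assoc, ← (d_commute S hg).eq, inv_mul_cancel_left]
      calc (c * S.d g)⁻¹ * S.av 2 * (c * S.d g) = (S.d g)⁻¹ * (c⁻¹ * S.av 2 * c) * S.d g := by group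
        _ = t := by rw [← hc, show c⁻¹ * (c * t * c⁻¹) * c = t by group, hgt]
  · exfalso
    obtain ⟨⟨x', y, z⟩, -, ⟨⟨⟨⟨rfl, hy⟩, hz⟩, hxy⟩, hxz⟩, hyz⟩ := h
    have key : ∀ w < 1920, mc x' w = mc w x' → ∃ m < 16, S.av m = c * S.d w * c⁻¹ := fun w hw hcomm => by
      have h1 : Commute (S.d w) t := d_commute S hw
      have h2 : Commute (S.d w) (c⁻¹ * t * c) := by
        rw [← hs, ← hxs]
        exact ((d_comm_iff S hx hw).2 hcomm).symm
      refine exists_coords S ?_ ?_
      · have h := (Commute.conj_iff c).2 h2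
        rwa [show c * (c⁻¹ * t * c) * c⁻¹ = t by group] at h
      · rw [← hc]
        exact (Commute.conj_iff c).2 h1
    obtain ⟨m, hm, em⟩ := key y hy hxy
    obtain ⟨n, hn, en⟩ := key z hz hxz
    have hmn := av_comm S hm hn
    rw [em, en] at hmn
    rw [(d_comm_iff S hy hz).1 ((Commute.conj_iff c).1 hmn), Nat.beq_refl] at hyz
    exact Bool.noConfusion hyz

end Cfsg.Agent.Spor.JThree.Unique
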