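import Cfsg.Agent.Lib.Spor.JThree.Unique.Gens

/-!
# The two proper subgroups used as base points

The normalizer of the sixteen coordinates, and a subgroup of order at most `8160`.
-/

set_option autoImplicit false
set_option linter.style.haveILetI false
set_option linter.unusedSectionVars false
set_option maxRecDepth 100000

namespace Cfsg.Agent.Spor.JThree.Unique

open Cfsg.Agent.Spor.JThree

universe u

variable {G : Type u} [Group G] {t : G} {S : Hyp t}

/-- the elements normalizing the coordinates -/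
def nSub (S : Hyp t) : Subgroup G where
  carrier := {g | (∃ P, Acts S g P) ∧ ∃ P, Acts S g⁻¹ P}
  one_mem' := ⟨⟨_, acts_one S⟩, ⟨idP, by rw [inv_one]; exact acts_one S⟩⟩
  mul_mem' := fun {a b} ⟨⟨P, hP⟩, ⟨P', hP'⟩⟩ ⟨⟨Q, hQ⟩, ⟨Q', hQ'⟩⟩ =>
    ⟨⟨_, hP.mul S hQ⟩, ⟨cmp Q' P', by rw [mul_inv_rev]; exact hQ'.mul S hP'⟩⟩
  inv_mem' := fun {a} ⟨h, h'⟩ => ⟨h', by rw [inv_inv]; exact h⟩

theorem n92_ok : ((List.range 16).any fun m => !(vecL.contains (cjc (vec m) 92))) = true := by decide +kernel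

variable (D : Gens S)

theorem Gens.n_mem {k : ℕ} (hk : isN k = true) : D.g k ∈ nSub S := by
  have key : ∀ {k : ℕ}, isN k = true → ∃ P, Acts S (D.g k) P := fun hk => by
    obtain ⟨hm, l, hl, e⟩ := D.nLetter_spec hk
    exact ⟨_, by rw [e]; exact hl.2.conj S (acts_av S hm)⟩
  refine ⟨key hk, ?_⟩
  have hk' : k < 19 ∧ isN (bar k) = true := by
    have : ∀ k < 16, isN k = true → isN (bar k) = true := by decide
    have hlt : k < 16 := by
      simp only [isN, Bool.or_eq_true, Bool.and_eq_true, Nat.blt_eq, Nat.ble_eq] at hk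
      omega
    exact ⟨by omega, this k hlt hk⟩
  rw [← D.g_bar hk'.1]
  exact key hk'.2

theorem Gens.c_notMem : D.g 6 ∉ nSub S := by
  rintro ⟨⟨P, hP⟩, -⟩
  obtain ⟨m, hm, h⟩ := List.any_eq_true.1 n92_ok
  have hm := List.mem_range.1 hm
  have e : cjc (vec m) 92 = vec (ap P m) := by
    refine d_inj S (cjc_lt S (vec_lt hm) (by norm_num)) (vec_lt (hP.2 m hm).1) ?_
    rw [d_cjc S (vec_lt hm) (by norm_num)]
    exact (hP.2 m hm).2
  have hlt : ap P m < vecL.length := (hP.2 m hm).1
  have : cjc (vec m) 92 ∈ vecL := by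
    rw [e, vec, List.getD_eq_getElem _ _ hlt]
    exact List.getElem_mem hlt
  rw [List.contains_iff_mem.2 this] at h
  exact Bool.noConfusion h

/-- thirty words in the element of order five, the element of order three and the involution -/
def tWords : List (List ℕ) :=
  (List.range 5).flatMap fun a => (List.range 3).flatMap fun b => (List.range 2).map fun e =>
    List.replicate a 12 ++ List.replicate b 14 ++ List.replicate e 4

/-- the thirty actions -/
def pList : List (List ℕ) := tWords.map fun w => (nWord w).1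

theorem pList_ok : (tWords.all (fun w => w.all isN && Nat.beq (nWord w).2 0) && pList.contains idP &&
    pList.all (fun P => decide (P.length = 16) && pList.all fun Q => pList.contains (cmp P Q)) &&
    ([4, 5, 12, 13, 14, 15] : List ℕ).all (fun k => pList.contains (nLetter k).1 && Nat.beq (nLetter k).2 0) &&
    (List.range 16).all (fun m => Nat.beq m 0 ||
      tWords.any fun w => Nat.beq (ap (nWord w).1 4) m)) = true := by decide +kernel

theorem tWords_letters : ∀ w ∈ tWords, ∀ k ∈ w, k = 4 ∨ k = 12 ∨ k = 14 := by decide +kernel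

/-- the pairs with action in the list -/
def inB (g : G) : Prop := ∃ P ∈ pList, ∃ m, Rep D g (P, m)

/-- the coset representatives `w a` and the subgroup -/
def inS (g : G) : Prop :=
  inB D g ∨ ∃ b, inB D b ∧ ∃ m < 16, g = b * (D.i * S.d 378) * S.av m

theorem Gens.inB_one : inB D 1 := by
  have h := pList_ok
  simp only [Bool.and_eq_true, List.contains_iff_mem] at h
  exact ⟨idP, h.1.1.1.2, 0, D.rep_one⟩

theorem Gens.inB_mul {g g' : G} (h : inB D g) (h' : inB D g') : inB D (g * g') := by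
  obtain ⟨P, hP, m, hm⟩ := h
  obtain ⟨Q, hQ, k, hk⟩ := h'
  have hl := pList_ok
  simp only [Bool.and_eq_true, List.all_eq_true, List.contains_iff_mem] at hl
  exact ⟨cmp P Q, (hl.1.1.2 P hP).2 Q hQ, _, D.rep_mul hm hk⟩

theorem Gens.inB_av {m : ℕ} (hm : m < 16) : inB D (S.av m) := by
  have h := pList_ok
  simp only [Bool.and_eq_true, List.contains_iff_mem] at h
  exact ⟨idP, h.1.1.1.2, m, hm, 1, ⟨Commute.one_right _, acts_one S⟩, (one_mul _).symm⟩

theorem Gens.inB_letter {k : ℕ} (hk : k ∈ ([4, 5, 12, 13, 14, 15] : List ℕ)) : inB D (D.g k) := by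
  have h := pList_ok
  simp only [Bool.and_eq_true, List.all_eq_true, List.contains_iff_mem, Nat.beq_eq] at h
  have hN : isN k = true := by
    have : ∀ k ∈ ([4, 5, 12, 13, 14, 15] : List ℕ), isN k = true := by decide
    exact this k hk
  have hr := D.nLetter_spec hN
  exact ⟨_, (h.1.2 k hk).1, _, hr⟩

theorem Gens.ij_sq : (D.i * S.d 378) * (D.i * S.d 378) = 1 := by
  have h : mc 378 378 = 0 := by decide +kernel
  rw [D.hij.symm.mul_mul_mul_comm, sq_one D.hi, ← d_mul S (by norm_num) (by norm_num), h, d_one, mul_one]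

theorem Gens.flip_letter {k : ℕ} (hk : k = 4 ∨ k = 12 ∨ k = 14) :
    inB D ((D.i * S.d 378) * D.g k * (D.i * S.d 378)) := by
  set j := S.d 378 with hj
  have hjj : j * j = 1 := by
    rw [hj, ← d_mul S (by norm_num) (by norm_num), show mc 378 378 = 0 by decide +kernel, d_one]
  have hii := sq_one D.hi
  rcases hk with rfl | rfl | rfl
  · have e : (D.i * j) * D.g 4 * (D.i * j) = D.g 4 := by
      show (D.i * j) * j * (D.i * j) = j
      rw [mul_assoc D.i j j, hjj, mul_one, ← mul_assoc, hii, one_mul]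
    rw [e]; exact D.inB_letter (by simp)
  · have e : (D.i * j) * D.g 12 * (D.i * j) = D.g 13 := by
      show (D.i * j) * D.L.x * (D.i * j) = D.L.x⁻¹
      have hjx : j * D.L.x * j = D.L.x⁻¹ := eq_inv_of_mul_eq_one_left (j_inv D.L)
      calc (D.i * j) * D.L.x * (D.i * j) = D.i * j * D.L.x * (j * D.i) := by rw [D.hij.eq]
        _ = D.i * (j * D.L.x * j) * D.i := by group
        _ = D.L.x⁻¹ := by rw [hjx, (D.hix.inv_right).eq, mul_assoc, hii, mul_one]
    rw [e]; exact D.inB_letter (by simp)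
  · have e : (D.i * j) * D.g 14 * (D.i * j) = D.g 15 := by
      show (D.i * j) * D.L.n * (D.i * j) = D.L.n⁻¹
      calc (D.i * j) * D.L.n * (D.i * j) = D.i * (j * D.L.n * j) * D.i := by
            conv_lhs => rw [show D.i * j * D.L.n * (D.i * j) = D.i * j * D.L.n * (j * D.i) by rw [D.hij.eq]]
            group
        _ = D.i * D.L.n * D.i := by rw [← D.L.c378.eq, mul_assoc D.L.n, hjj, mul_one]
        _ = D.L.n⁻¹ := eq_inv_of_mul_eq_one_left D.hin
    rw [e]; exact D.inB_letter (by simp)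

theorem Gens.flip_word : ∀ (w : List ℕ), (∀ k ∈ w, k = 4 ∨ k = 12 ∨ k = 14) →
    inB D ((D.i * S.d 378) * D.val w * (D.i * S.d 378))
  | [], _ => by
    simp only [Gens.val, List.map_nil, List.prod_nil, mul_one]
    rw [D.ij_sq]; exact D.inB_one
  | k :: w, h => by
    have h1 := D.flip_letter (h k List.mem_cons_self)
    have h2 := Gens.flip_word w fun x hx => h x (List.mem_cons_of_mem _ hx)
    have := D.inB_mul h1 h2
    set s := D.i * S.d 378
    have e : s * D.g k * s * (s * D.val w * s) = s * D.val (k :: w) * s := by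
      simp only [Gens.val, List.map_cons, List.prod_cons]
      calc s * D.g k * s * (s * (w.map D.g).prod * s) = s * D.g k * (s * s) * (w.map D.g).prod * s := by group
        _ = _ := by rw [D.ij_sq, mul_one]; group
    rwa [e] at this

/-- a pure element of the small group is the value of one of the words -/
theorem Gens.exists_word {g : G} {P : List ℕ} (hP : P ∈ pList) (h : IsLift S D.L.n g P) :
    ∃ w ∈ tWords, g = D.val w := by
  obtain ⟨w, hw, rfl⟩ := List.mem_map.1 hP
  have hl := pList_ok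
  simp only [Bool.and_eq_true, List.all_eq_true, Nat.beq_eq] at hl
  obtain ⟨hm, l, hl', e⟩ := D.nWord_spec (hl.1.1.1.1 w hw).1
  refine ⟨w, hw, ?_⟩
  rw [e, (hl.1.1.1.1 w hw).2, av_zero, mul_one]
  exact h.unique S D.L.act hl'

theorem av4_ok : ((Nat.beq (pw (mc 258 (mc 1316 1)) 3) 0 && Nat.beq (pw (mc 258 (mc 1334 1)) 3) 0) &&
    Nat.beq (cjc (vec 4) 92) (vec 5) && Nat.beq (vec (ap Px 5)) 258) = true := by decide +kernel

theorem Gens.braid (hI : D.I = 1316 ∨ D.I = 1334) :
    (D.i * S.d 378) * S.av 4 * (D.i * S.d 378) = S.av 4 * (D.i * S.d 378) * S.av 4 := by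
  have h := av4_ok
  simp only [Bool.and_eq_true, Nat.beq_eq] at h
  obtain ⟨⟨⟨h1, h2⟩, h3⟩, h4⟩ := h
  have e4 : D.L.m⁻¹ * S.av 4 * D.L.m = S.d 258 := by
    rw [← h4]; exact m_code D.L (vec_lt (by norm_num)) (by norm_num) h3
  have ew : D.L.m⁻¹ * (D.i * S.d 378) * D.L.m = S.d (mc D.I 1) := by
    calc D.L.m⁻¹ * (D.i * S.d 378) * D.L.m = (D.L.m⁻¹ * D.i * D.L.m) * (D.L.m⁻¹ * S.d 378 * D.L.m) := by group
      _ = _ := by rw [m_j, ← D.eI, d_mul S D.I_lt (by norm_num), d_t]
  set s := D.i * S.d 378 with hs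
  have hlt : mc D.I 1 < 1920 := S.e.lt _ D.I_lt _ (by norm_num)
  have hlt2 : mc 258 (mc D.I 1) < 1920 := S.e.lt _ (by norm_num) _ hlt
  have h0 : pw (mc 258 (mc D.I 1)) 3 = 0 := by rcases hI with e | e <;> rw [e] <;> assumption
  have h3' : S.av 4 * s * (S.av 4 * s) * (S.av 4 * s) = 1 := by
    have e := (d_pow S hlt2 3).2
    rw [h0, d_one, d_mul S (by norm_num) hlt, ← e4, ← ew, pow_succ, pow_two] at e
    calc S.av 4 * s * (S.av 4 * s) * (S.av 4 * s) =
          D.L.m * (D.L.m⁻¹ * S.av 4 * D.L.m * (D.L.m⁻¹ * s * D.L.m) *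
            (D.L.m⁻¹ * S.av 4 * D.L.m * (D.L.m⁻¹ * s * D.L.m)) *
            (D.L.m⁻¹ * S.av 4 * D.L.m * (D.L.m⁻¹ * s * D.L.m))) * D.L.m⁻¹ := by group
      _ = 1 := by rw [← e]; group
  have ha : (S.av 4)⁻¹ = S.av 4 := inv_eq_of_mul_eq_one_right (av_sq S (by norm_num))
  have hsi : s⁻¹ = s := inv_eq_of_mul_eq_one_right D.ij_sq
  calc s * S.av 4 * s = (S.av 4)⁻¹ * (S.av 4 * s * (S.av 4 * s) * (S.av 4 * s)) * (s⁻¹ * (S.av 4)⁻¹ * 1) *
        1 := by group
    _ = S.av 4 * s * S.av 4 := by rw [h3', ha, hsi]; group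

theorem Gens.inS_w {g : G} (hI : D.I = 1316 ∨ D.I = 1334) (h : inS D g) : inS D (g * (D.i * S.d 378)) := by
  set s := D.i * S.d 378 with hs
  rcases h with h | ⟨b, hb, m, hm, rfl⟩
  · exact Or.inr ⟨g, h, 0, by norm_num, by rw [av_zero, mul_one]⟩
  rcases Nat.eq_zero_or_pos m with rfl | hm0
  · refine Or.inl ?_
    rwa [av_zero, mul_one, mul_assoc, D.ij_sq, mul_one]
  have hl := pList_ok
  simp only [Bool.and_eq_true, List.all_eq_true, List.mem_range, Bool.or_eq_true, List.any_eq_true,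
    Nat.beq_eq, decide_eq_true_eq] at hl
  obtain ⟨w, hw, hwm⟩ := ((hl.2 m hm).resolve_left (by omega))
  obtain ⟨hm2, l, hlift, el⟩ := D.nWord_spec (hl.1.1.1.1 w hw).1
  rw [(hl.1.1.1.1 w hw).2, av_zero, mul_one] at el
  have hav : S.av m = l⁻¹ * S.av 4 * l := by rw [(hlift.2.2 4 (by norm_num)).2, hwm]
  have hb2 : inB D (s * l * s) := by rw [← el]; exact D.flip_word w (tWords_letters w hw)
  -- the inverse is a value as well
  have hinv : inB D (s * l⁻¹ * s) := by
    obtain ⟨w', hw', e'⟩ : ∃ w' ∈ tWords, l⁻¹ = D.val w' := by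
      have hP : (nWord w).1 ∈ pList := List.mem_map_of_mem hw
      have hex : ∃ Q ∈ pList, cmp (nWord w).1 Q = idP := by
        have : (pList.all fun P => pList.any fun Q => cmp P Q == idP) = true := by decide +kernel
        obtain ⟨Q, hQ, e⟩ := List.any_eq_true.1 (List.all_eq_true.1 this _ hP)
        exact ⟨Q, hQ, eq_of_beq e⟩
      obtain ⟨Q, hQ, eQ⟩ := hex
      obtain ⟨w₁, hw₁, e₁⟩ := List.mem_map.1 hQ
      obtain ⟨-, l₁, hl₁, el₁⟩ := D.nWord_spec (hl.1.1.1.1 w₁ hw₁).1
      rw [(hl.1.1.1.1 w₁ hw₁).2, av_zero, mul_one] at el₁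
      rw [e₁] at hl₁
      have : l * l₁ = 1 := (show IsLift S D.L.n (l * l₁) idP from eQ ▸ hlift.mul S hl₁).unique S D.L.act
        ⟨Commute.one_right _, acts_one S⟩
      exact ⟨w₁, hw₁, by rw [el₁, inv_eq_of_mul_eq_one_right this]⟩
    rw [e']; exact D.flip_word w' (tWords_letters w' hw')
  have hbr := D.braid hI
  rw [← hs] at hbr
  set B1 := s * l⁻¹ * s
  set B2 := s * l * s with hB2
  have eB2 : S.av 4 * B2 = B2 * (B2⁻¹ * S.av 4 * B2) := by group
  obtain ⟨P2, hP2, m2, hm2', l2, hl2, e2⟩ := hb2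
  obtain ⟨w2, hw2, ew2⟩ := D.exists_word hP2 hl2
  have hB3 : inB D (s * l2 * s) := by rw [ew2]; exact D.flip_word w2 (tWords_letters w2 hw2)
  obtain ⟨hk, hk'⟩ := hl2.2.2 4 (by norm_num)
  refine Or.inr ⟨b * B1 * S.av 4 * (s * l2 * s),
    D.inB_mul (D.inB_mul (D.inB_mul hb hinv) (D.inB_av (by norm_num))) hB3, Nat.xor (ap P2 4) m2,
    xor_lt16 hk hm2', ?_⟩
  rw [← av_mul S hk hm2']
  calc b * s * S.av m * s = b * s * (l⁻¹ * S.av 4 * l) * s := by rw [hav]
    _ = b * (s * l⁻¹ * s) * (s * S.av 4 * s) * (s * l * s) := by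
        have e : s⁻¹ = s := inv_eq_of_mul_eq_one_right D.ij_sq
        conv_lhs => rw [show b * s * (l⁻¹ * S.av 4 * l) * s =
          b * (s * l⁻¹ * s⁻¹) * (s * S.av 4 * s⁻¹) * (s * l * s) by group, e]
    _ = b * B1 * (S.av 4 * s * S.av 4) * B2 := by rw [hbr]
    _ = b * B1 * S.av 4 * s * (S.av 4 * (l2 * S.av m2)) := by rw [e2]; group
    _ = b * B1 * S.av 4 * s * l2 * (S.av (ap P2 4) * S.av m2) := by rw [← hk']; group
    _ = b * B1 * S.av 4 * (s * l2 * s) * s * (S.av (ap P2 4) * S.av m2) := by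
        simp only [mul_assoc]
        rw [← mul_assoc s s, D.ij_sq, one_mul]

theorem Gens.inS_B {g h : G} (hg : inS D g) (hh : inB D h) : inS D (g * h) := by
  rcases hg with hg | ⟨b, hb, m, hm, rfl⟩
  · exact Or.inl (D.inB_mul hg hh)
  obtain ⟨P, hP, k, hk, l, hl, rfl⟩ := hh
  obtain ⟨w, hw, ew⟩ := D.exists_word hP hl
  have hflip := D.flip_word w (tWords_letters w hw)
  rw [← ew] at hflip
  set s := D.i * S.d 378
  obtain ⟨hk1, hk2⟩ := hl.2.2 m hm
  refine Or.inr ⟨b * (s * l * s), D.inB_mul hb hflip, Nat.xor (ap P m) k, xor_lt16 hk1 hk, ?_⟩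
  rw [← av_mul S hk1 hk, ← hk2]
  calc b * s * S.av m * (l * S.av k) = b * s * l * (1 * (l⁻¹ * S.av m * l * S.av k)) := by group
    _ = b * s * l * (s * s * (l⁻¹ * S.av m * l * S.av k)) := by rw [D.ij_sq]
    _ = b * (s * l * s) * s * (l⁻¹ * S.av m * l * S.av k) := by simp only [mul_assoc]
    _ = _ := rfl

/-- the subgroup generated by five of the letters -/
noncomputable def Gens.hSub : Subgroup G :=
  Subgroup.closure {D.g 0, D.g 4, D.g 12, D.g 14, D.g 16}

theorem Gens.card_hSub [Finite G] (hI : D.I = 1316 ∨ D.I = 1334) : Nat.card D.hSub ≤ 8160 := by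
  classical
  have hmem : ∀ g ∈ D.hSub, ∀ x, inS D x → inS D (x * g) := by
    intro g hg
    induction hg using Subgroup.closure_induction with
    | mem g hg =>
      intro x hx
      rcases hg with rfl | rfl | rfl | rfl | rfl
      · exact D.inS_B hx (by
          have h := D.inB_av (show 2 < 16 by norm_num)
          rwa [Hyp.av, show vec 2 = 96 from rfl] at h)
      · exact D.inS_B hx (D.inB_letter (by simp))
      · exact D.inS_B hx (D.inB_letter (by simp))
      · exact D.inS_B hx (D.inB_letter (by simp))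
      · have h := D.inS_B (D.inS_w hI hx) (D.inB_letter (k := 4) (by simp))
        have e : x * (D.i * S.d 378) * D.g 4 = x * D.g 16 := by
          show x * (D.i * S.d 378) * S.d 378 = x * D.i
          rw [mul_assoc x, mul_assoc D.i, ← d_mul S (by norm_num) (by norm_num),
            show mc 378 378 = 0 by decide +kernel, d_one, mul_one]
        rwa [e] at h
    | one => intro x hx; rwa [mul_one]
    | mul a b _ _ ha hb => intro x hx; rw [← mul_assoc]; exact hb _ (ha _ hx)
    | inv a _ ha =>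
      intro x hx
      have hpow : ∀ (n : ℕ) (x : G), inS D x → inS D (x * a ^ n) := by
        intro n
        induction n with
        | zero => intro x hx; simpa using hx
        | succ n ih => intro x hx; rw [pow_succ, ← mul_assoc]; exact ha _ (ih _ hx)
      have e : a⁻¹ = a ^ (orderOf a - 1) := by
        refine inv_eq_of_mul_eq_one_right ?_
        rw [← pow_succ', Nat.sub_add_cancel (orderOf_pos a), pow_orderOf_eq_one]
      rw [e]; exact hpow _ x hx
  have hS : ∀ g : D.hSub, inS D g := fun g => by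
    have := hmem g g.2 1 (Or.inl D.inB_one)
    rwa [one_mul] at this
  have hlen : pList.length = 30 := by decide +kernel
  have hlift : ∀ q : Fin 30, ∃ l, IsLift S D.L.n l (pList.getD q.val idP) := by
    intro q
    have hq : q.val < pList.length := hlen.symm ▸ q.2
    obtain ⟨w, hw, ew⟩ := List.mem_map.1 (List.getElem_mem hq)
    have hl := pList_ok
    simp only [Bool.and_eq_true, List.all_eq_true, Nat.beq_eq] at hl
    obtain ⟨-, l, h, -⟩ := D.nWord_spec (hl.1.1.1.1 w hw).1
    exact ⟨l, by rw [List.getD_eq_getElem _ _ hq, ← ew]; exact h⟩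
  choose lift hlift using hlift
  have hidx : ∀ {b : G}, inB D b → ∃ p : Fin 30 × Fin 16, lift p.1 * S.av p.2.val = b := by
    rintro b ⟨P, hP, m, hm, l, hl, rfl⟩
    obtain ⟨q, hq, eq⟩ := List.mem_iff_getElem.1 hP
    refine ⟨(⟨q, hlen ▸ hq⟩, ⟨m, hm⟩), ?_⟩
    have h := hlift ⟨q, hlen ▸ hq⟩
    rw [List.getD_eq_getElem _ _ hq, eq] at h
    show lift _ * S.av m = _
    rw [h.unique S D.L.act hl]
  have hsurj : ∀ g : D.hSub, ∃ p : (Fin 30 × Fin 16) × Option (Fin 16),
      lift p.1.1 * S.av p.1.2.val * p.2.elim 1 (fun m => (D.i * S.d 378) * S.av m.val) = g := by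
    intro g
    rcases hS g with h | ⟨b, hb, m, hm, e⟩
    · obtain ⟨p, hp⟩ := hidx h
      exact ⟨(p, none), by rw [hp]; exact mul_one _⟩
    · obtain ⟨p, hp⟩ := hidx hb
      exact ⟨(p, some ⟨m, hm⟩), by rw [hp, e, mul_assoc]; rfl⟩
  choose code hcode using hsurj
  have := Nat.card_le_card_of_injective code fun g g' h => Subtype.ext (by rw [← hcode g, h, hcode g'])
  simpa using this

end Cfsg.Agent.Spor.JThree.Unique
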